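import Mathlib
import Cfsg.Agent.Helper1.HKK.Basic

/-!
# (B2) of helper1's WANTED #6245 for S3779: the Kostrikin `p - 1` step (helper38)

`lcf_add_le`: if `lcf M m ≤ lcf (der M) j` then `lcf M (m + (p - 1)) ≤ lcf (der M) (j + 1)`.
Self-contained (the subset-sum fact (B1) is proved here in list form by Cauchy-Davenport).
-/

set_option autoImplicit false
open Cfsg.Agent.Helper1.HKK
open scoped Pointwise

namespace Cfsg.Agent.Helper38.HKKB2

universe u
variable {L : Type*} [LieRing L] {n : ℕ}

/-- total degree of a list of (degree, element) pairs -/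
def deg (l : List (ZMod n × L)) : ZMod n := (l.map Prod.fst).sum

/-- the elements of a list of (degree, element) pairs -/
def elts (l : List (ZMod n × L)) : List L := l.map Prod.snd

/-- every element lies in the component of its degree -/
def Good (M : ZMod n → AddSubgroup L) (l : List (ZMod n × L)) : Prop := ∀ e ∈ l, e.2 ∈ M e.1

omit [LieRing L] in
theorem deg_cons (e : ZMod n × L) (l : List (ZMod n × L)) : deg (e :: l) = e.1 + deg l := by
  simp [deg]

omit [LieRing L] in
theorem deg_append (l1 l2 : List (ZMod n × L)) : deg (l1 ++ l2) = deg l1 + deg l2 := by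
  simp [deg]

omit [LieRing L] in
theorem elts_append (l1 l2 : List (ZMod n × L)) : elts (l1 ++ l2) = elts l1 ++ elts l2 := by
  simp [elts]

omit [LieRing L] in
theorem deg_perm {l1 l2 : List (ZMod n × L)} (h : l1.Perm l2) : deg l1 = deg l2 :=
  (h.map Prod.fst).sum_eq

theorem Good.perm {M : ZMod n → AddSubgroup L} {l1 l2 : List (ZMod n × L)} (h : l1.Perm l2)
    (hg : Good M l1) : Good M l2 := fun e he => hg e (h.mem_iff.mpr he)

theorem lnb_zero' (l : List L) : lnb (0 : L) l = 0 := by
  induction l with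
  | nil => rfl
  | cons y ys ih => rw [lnb_cons, zero_lie, ih]

theorem lnb_sub' (a b : L) (l : List L) : lnb (a - b) l = lnb a l - lnb b l := by
  induction l generalizing a b with
  | nil => rfl
  | cons y ys ih => rw [lnb_cons, lnb_cons, lnb_cons, sub_lie, ih]

theorem lnb_eq_zero_of_mem (x : L) (l : List L) (h : (0 : L) ∈ l) : lnb x l = 0 := by
  induction l generalizing x with
  | nil => simp at h
  | cons y ys ih =>
    rw [lnb_cons]
    rcases List.mem_cons.mp h with h | h
    · rw [← h, lie_zero, lnb_zero']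
    · exact ih _ h

/-- `x ↦ ⁅x, y⁆` as an additive map -/
def adR (y : L) : L →+ L where
  toFun := fun x => ⁅x, y⁆
  map_zero' := zero_lie y
  map_add' := fun x x' => add_lie x x' y

/-- (i) the terms of the lower central family of `der M` are `M`-ideals. -/
theorem lie_mem_lcf_der (M : ZMod n → AddSubgroup L) (hM : IsGradedFam M) (j : ℕ) :
    ∀ {a b : ZMod n} {x y : L}, x ∈ lcf (der M) j a → y ∈ M b →
      ⁅x, y⁆ ∈ lcf (der M) j (a + b) := by
  induction j with
  | zero =>
    intro a b x y hx hy
    exact mem_der_of_mem (der_le M hM a hx) hy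
  | succ j ih =>
    intro a b x y hx hy
    have hle : lcfStep (der M) (lcf (der M) j) a ≤ (lcf (der M) (j + 1) (a + b)).comap (adR y) := by
      rw [lcfStep_le_iff]
      intro i k u z hik hu hz
      show ⁅⁅u, z⁆, y⁆ ∈ lcf (der M) (j + 1) (a + b)
      have e1 : ⁅⁅u, z⁆, y⁆ = ⁅u, ⁅z, y⁆⁆ + ⁅⁅u, y⁆, z⁆ := by
        have h1 := leibniz_lie u z y
        have h2 := lie_skew ⁅u, y⁆ z
        rw [h1, ← h2]; abel
      rw [e1]
      refine (lcf (der M) (j + 1) (a + b)).add_mem ?_ ?_
      · have hzy : ⁅z, y⁆ ∈ der M (k + b) := mem_der_of_mem (der_le M hM k hz) hy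
        have h3 := mem_lcfStep_of_mem (M := der M) hu hzy
        have e : i + (k + b) = a + b := by rw [← hik]; ring
        rw [e] at h3; exact h3
      · have huy := ih hu hy
        have h3 := mem_lcfStep_of_mem (M := der M) huy hz
        have e : i + b + k = a + b := by rw [← hik]; ring
        rw [e] at h3; exact h3
    exact hle hx

/-- (i) for lists. -/
theorem lnb_mem_lcf_der (M : ZMod n → AddSubgroup L) (hM : IsGradedFam M) (j : ℕ)
    (l : List (ZMod n × L)) :
    ∀ {a : ZMod n} {u : L}, u ∈ lcf (der M) j a → Good M l →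
      lnb u (elts l) ∈ lcf (der M) j (a + deg l) := by
  induction l with
  | nil =>
    intro a u hu _
    have e : a + deg ([] : List (ZMod n × L)) = a := by simp [deg]
    rw [e]; exact hu
  | cons e l ih =>
    intro a u hu hg
    have he : e.2 ∈ M e.1 := hg e List.mem_cons_self
    have hg' : Good M l := fun e' he' => hg e' (List.mem_cons_of_mem _ he')
    have h3 := ih (lie_mem_lcf_der M hM j hu he) hg'
    rw [deg_cons, ← add_assoc]
    exact h3

/-- (ii)+(iii) permuting the entries changes a left-normed bracket only by an element of the next term. -/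
theorem lnb_perm_sub_mem (M : ZMod n → AddSubgroup L) (hM : IsGradedFam M) (j : ℕ)
    {l1 l2 : List (ZMod n × L)} (hp : l1.Perm l2) :
    ∀ {a : ZMod n} {u : L}, u ∈ lcf (der M) j a → Good M l1 →
      lnb u (elts l1) - lnb u (elts l2) ∈ lcf (der M) (j + 1) (a + deg l1) := by
  induction hp with
  | nil =>
    intro a u _ _
    rw [sub_self]; exact zero_mem _
  | cons x _ ih =>
    intro a u hu hg
    have hx : x.2 ∈ M x.1 := hg x List.mem_cons_self
    have hg' : Good M _ := fun e' he' => hg e' (List.mem_cons_of_mem _ he')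
    have h3 := ih (lie_mem_lcf_der M hM j hu hx) hg'
    rw [deg_cons, ← add_assoc]
    exact h3
  | swap x y l =>
    intro a u hu hg
    have hy : y.2 ∈ M y.1 := hg y List.mem_cons_self
    have hx : x.2 ∈ M x.1 := hg x (List.mem_cons_of_mem _ List.mem_cons_self)
    have hg' : Good M l := fun e he =>
      hg e (List.mem_cons_of_mem _ (List.mem_cons_of_mem _ he))
    show lnb ⁅⁅u, y.2⁆, x.2⁆ (elts l) - lnb ⁅⁅u, x.2⁆, y.2⁆ (elts l) ∈ _
    rw [← lnb_sub']
    have e1 : ⁅⁅u, y.2⁆, x.2⁆ - ⁅⁅u, x.2⁆, y.2⁆ = ⁅u, ⁅y.2, x.2⁆⁆ := by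
      have h1 := leibniz_lie u y.2 x.2
      have h2 := lie_skew ⁅u, x.2⁆ y.2
      rw [h1, ← h2]; abel
    rw [e1]
    have hw : ⁅u, ⁅y.2, x.2⁆⁆ ∈ lcf (der M) (j + 1) (a + (y.1 + x.1)) :=
      mem_lcfStep_of_mem (M := der M) hu (mem_der_of_mem hy hx)
    have h3 := lnb_mem_lcf_der M hM (j + 1) l hw hg'
    have e : a + deg (y :: x :: l) = a + (y.1 + x.1) + deg l := by
      rw [deg_cons, deg_cons]; ring
    rw [e]; exact h3
  | trans h1 _ ih1 ih2 =>
    intro a u hu hg
    have h3 := ih1 hu hg
    have h4 := ih2 hu (hg.perm h1)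
    rw [← deg_perm h1] at h4
    have h5 := (lcf (der M) (j + 1) _).add_mem h3 h4
    rw [sub_add_sub_cancel] at h5
    exact h5

/-! ### subset sums of nonzero residues -/

open Classical in
/-- the set of sums of sub-multisets of `l` -/
noncomputable def subSums {p : ℕ} [NeZero p] {α : Type*} (δ : α → ZMod p) (l : List α) :
    Finset (ZMod p) :=
  Finset.univ.filter (fun t => ∃ l1 l2 : List α, l.Perm (l1 ++ l2) ∧ (l1.map δ).sum = t)

theorem mem_subSums {p : ℕ} [NeZero p] {α : Type*} (δ : α → ZMod p) (l : List α) (t : ZMod p) :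
    t ∈ subSums δ l ↔ ∃ l1 l2 : List α, l.Perm (l1 ++ l2) ∧ (l1.map δ).sum = t := by
  classical
  simp [subSums]

theorem card_subSums {p : ℕ} [Fact p.Prime] {α : Type*} (δ : α → ZMod p) (l : List α)
    (hl : ∀ e ∈ l, δ e ≠ 0) : min p (l.length + 1) ≤ (subSums δ l).card := by
  classical
  induction l with
  | nil =>
    have h0 : (0 : ZMod p) ∈ subSums δ ([] : List α) := by
      rw [mem_subSums]; exact ⟨[], [], by simp, by simp⟩
    have : 1 ≤ (subSums δ ([] : List α)).card := Finset.card_pos.mpr ⟨0, h0⟩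
    simp only [List.length_nil, zero_add]
    exact (min_le_right _ _).trans this
  | cons x l ih =>
    have ih' := ih (fun e he => hl e (List.mem_cons_of_mem _ he))
    have hx : δ x ≠ 0 := hl x List.mem_cons_self
    have hne : (subSums δ l).Nonempty := by
      refine ⟨0, ?_⟩
      rw [mem_subSums]; exact ⟨[], l, by simp, by simp⟩
    have hsub : subSums δ l + ({0, δ x} : Finset (ZMod p)) ⊆ subSums δ (x :: l) := by
      intro t ht
      obtain ⟨a, ha, b, hb, rfl⟩ := Finset.mem_add.mp ht
      rw [mem_subSums] at ha ⊢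
      obtain ⟨l1, l2, hperm, hsum⟩ := ha
      rcases Finset.mem_insert.mp hb with hb | hb
      · refine ⟨l1, x :: l2, ?_, by rw [hsum, hb, add_zero]⟩
        exact (List.Perm.cons x hperm).trans List.perm_middle.symm
      · rw [Finset.mem_singleton] at hb
        refine ⟨x :: l1, l2, ?_, ?_⟩
        · exact List.Perm.cons x hperm
        · rw [List.map_cons, List.sum_cons, hsum, hb, add_comm]
    have hcd := ZMod.cauchy_davenport (Fact.out : p.Prime) hne
      (Finset.insert_nonempty (0 : ZMod p) {δ x})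
    have h2 : ({0, δ x} : Finset (ZMod p)).card = 2 := Finset.card_pair (Ne.symm hx)
    rw [h2] at hcd
    have h3 := Finset.card_le_card hsub
    simp only [List.length_cons]
    omega

theorem exists_perm_split {p : ℕ} [Fact p.Prime] {α : Type*} (δ : α → ZMod p) (l : List α)
    (hl : ∀ e ∈ l, δ e ≠ 0) (hlen : p - 1 ≤ l.length) (t : ZMod p) :
    ∃ l1 l2 : List α, l.Perm (l1 ++ l2) ∧ (l1.map δ).sum = t := by
  have h1 := card_subSums δ l hl
  have hp1 : 1 ≤ p := (Fact.out : p.Prime).one_lt.le
  have h2 : p ≤ (subSums δ l).card := by omega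
  have h3 : (subSums δ l).card ≤ p := by
    have := Finset.card_le_univ (subSums δ l)
    rwa [ZMod.card] at this
  have h4 : subSums δ l = Finset.univ := by
    apply Finset.eq_univ_of_card
    rw [ZMod.card]; omega
  have : t ∈ subSums δ l := by rw [h4]; exact Finset.mem_univ t
  exact (mem_subSums δ l t).mp this

/-! ### the step -/

/-- (iii) a left-normed bracket of an element of `lcf M m` with `p - 1` elements lies in the next
term of the lower central family of `der M`. -/
theorem lnb_mem_W {p : ℕ} [Fact p.Prime] (M : ZMod p → AddSubgroup L) (hM : IsGradedFam M) (j m : ℕ)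
    (h : ∀ d, lcf M m d ≤ lcf (der M) j d) {d0 : ZMod p} {v : L} (hv : v ∈ lcf M m d0)
    (l : List (ZMod p × L)) (hlen : l.length = p - 1) (hg : Good M l) :
    lnb v (elts l) ∈ lcf (der M) (j + 1) (d0 + deg l) := by
  by_cases hd0 : d0 = 0
  · have h1 := lcf_le M hM m d0 hv
    rw [hd0, hM.zero_eq] at h1
    rw [AddSubgroup.mem_bot.mp h1, lnb_zero']
    exact zero_mem _
  by_cases hz : ∃ e ∈ l, e.1 = 0
  · obtain ⟨e, he, he0⟩ := hz
    have h1 : e.2 ∈ M e.1 := hg e he
    rw [he0, hM.zero_eq] at h1
    have h2 : (0 : L) ∈ elts l := List.mem_map.mpr ⟨e, he, AddSubgroup.mem_bot.mp h1⟩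
    rw [lnb_eq_zero_of_mem v _ h2]
    exact zero_mem _
  simp only [not_exists, not_and] at hz
  obtain ⟨l1, l2, hperm, hsum⟩ := exists_perm_split (Prod.fst : ZMod p × L → ZMod p) l hz
    (le_of_eq hlen.symm) (-d0)
  have hvU : v ∈ lcf (der M) j d0 := h d0 hv
  have hA := lnb_perm_sub_mem M hM j hperm hvU hg
  have hg12 : Good M (l1 ++ l2) := hg.perm hperm
  have hg1 : Good M l1 := fun e he => hg12 e (List.mem_append_left _ he)
  have h0 : lnb v (elts (l1 ++ l2)) = 0 := by
    rw [elts_append, lnb_append]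
    have h1 := lnb_mem_lcf_der M hM j l1 hvU hg1
    have e : d0 + deg l1 = 0 := by
      show d0 + (l1.map Prod.fst).sum = 0
      rw [hsum]; ring
    rw [e] at h1
    have h2 := lcf_le (der M) (isGradedFam_der M hM) j 0 h1
    rw [(isGradedFam_der M hM).zero_eq] at h2
    rw [AddSubgroup.mem_bot.mp h2, lnb_zero']
  rw [h0, sub_zero] at hA
  exact hA

/-- (iv) `lcf M (m + t) d` is generated by the left-normed brackets of elements of `lcf M m` with
`t` homogeneous elements. -/
theorem lcf_add_le_of_lnb (M : ZMod n → AddSubgroup L) (m : ℕ) :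
    ∀ (t : ℕ) (d : ZMod n) (K : AddSubgroup L),
      (∀ (d0 : ZMod n) (v : L) (l : List (ZMod n × L)), l.length = t → Good M l →
        v ∈ lcf M m d0 → d0 + deg l = d → lnb v (elts l) ∈ K) → lcf M (m + t) d ≤ K := by
  intro t
  induction t with
  | zero =>
    intro d K H x hx
    exact H d x [] rfl (fun e he => by simp at he) hx (by simp [deg])
  | succ t ih =>
    intro d K H
    show lcfStep M (lcf M (m + t)) d ≤ K
    rw [lcfStep_le_iff]
    intro i k x y hik hx hy
    have h1 : lcf M (m + t) i ≤ K.comap (adR y) := by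
      apply ih i
      intro d0 v l hl hg hv hd
      show ⁅lnb v (elts l), y⁆ ∈ K
      have hg' : Good M (l ++ [(k, y)]) := by
        intro e he
        rcases List.mem_append.mp he with he | he
        · exact hg e he
        · rw [List.mem_singleton] at he
          rw [he]; exact hy
      have h2 := H d0 v (l ++ [(k, y)]) (by simp [hl]) hg' hv
        (by rw [deg_append, ← add_assoc, hd]; simpa [deg] using hik)
      rw [elts_append, lnb_append] at h2
      exact h2
    exact h1 hx

/-- **(B2)** the `p - 1` step. -/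
theorem lcf_add_le {p : ℕ} [Fact p.Prime] (M : ZMod p → AddSubgroup L) (hM : IsGradedFam M) (j m : ℕ)
    (h : ∀ d, lcf M m d ≤ lcf (der M) j d) :
    ∀ d, lcf M (m + (p - 1)) d ≤ lcf (der M) (j + 1) d := by
  intro d
  apply lcf_add_le_of_lnb M m (p - 1) d
  intro d0 v l hl hg hv hd
  rw [← hd]
  exact lnb_mem_W M hM j m h hv l hl hg

end Cfsg.Agent.Helper38.HKKB2
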