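import Mathlib
import Cfsg.Agent.Helper96.StC.Generic
import Cfsg.Agent.Helper96.StC.Roots
import Cfsg.Agent.Helper97.StCGenComm

/-!
# Piece (U) of S2092 (helper96's WANTED #7279): `φ` is upper unitriangular and injective on the
positive unipotent subgroup `UposC X` of type `C` (helper38)

The positive positions `(a, b)` (`rk a < rk b`) are filtered by the distance `rk b - rk a`
(decreasing) and, inside one distance, by `min (rk a) (rk (bar b))`; `V X d r` is the subgroup
generated by the root elements of the positions of distance `> d`, or of distance `d` and index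
`< r`.  The root elements are peeled off one root at a time, as in type `A`
(`Cfsg.Agent.Helper82.StNU`).  The commutator lemma (GC) enters as the hypothesis `GCStmt X`.
-/

set_option autoImplicit false
set_option linter.unusedSectionVars false
set_option linter.unusedVariables false

namespace Cfsg.Agent.Helper38.StCU

open Matrix Cfsg.Agent.Helper96.StN Cfsg.Agent.Helper96.StC

universe u v

variable {K : Type u} [Field K] {D : Type v} [Group D]

/-! ### matrices `1 + A'` with `A'` supported on a set of positions -/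

section supp

variable {I : Type*} [Fintype I] [DecidableEq I]

/-- matrices of the form `1 + A'` with `A'` supported on the positions in `Z` -/
def Supp (Z : I → I → Prop) (A : Matrix I I K) : Prop :=
  (∀ a, A a a = 1) ∧ ∀ a b, a ≠ b → ¬ Z a b → A a b = 0

theorem Supp.one (Z : I → I → Prop) : Supp Z (1 : Matrix I I K) :=
  ⟨fun a => Matrix.one_apply_eq a, fun a b hab _ => Matrix.one_apply_ne hab⟩

theorem Supp.mul {Z : I → I → Prop} (hirr : ∀ a, ¬ Z a a)
    (htr : ∀ a b c, Z a b → Z b c → Z a c) {A B : Matrix I I K}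
    (hA : Supp Z A) (hB : Supp Z B) : Supp Z (A * B) := by
  constructor
  · intro a
    rw [Matrix.mul_apply, Finset.sum_eq_single a]
    · rw [hA.1, hB.1, one_mul]
    · intro c _ hca
      by_cases h1 : Z a c
      · have h2 : ¬ Z c a := fun h2 => hirr a (htr a c a h1 h2)
        rw [hB.2 c a hca h2, mul_zero]
      · rw [hA.2 a c (Ne.symm hca) h1, zero_mul]
    · intro h; exact absurd (Finset.mem_univ a) h
  · intro a b hab hZ
    rw [Matrix.mul_apply]
    apply Finset.sum_eq_zero
    intro c _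
    by_cases hca : c = a
    · subst hca; rw [hB.2 c b hab hZ, mul_zero]
    by_cases hcb : c = b
    · subst hcb; rw [hA.2 a c hab hZ, zero_mul]
    by_cases h1 : Z a c
    · have h2 : ¬ Z c b := fun h2 => hZ (htr a c b h1 h2)
      rw [hB.2 c b hcb h2, mul_zero]
    · rw [hA.2 a c (Ne.symm hca) h1, zero_mul]

theorem one_add_mul_one_add {N N' : Matrix I I K} (h1 : N + N' = 0) (h2 : N * N' = 0) :
    (1 + N) * (1 + N') = 1 := by
  have : (1 + N) * (1 + N') = 1 + (N + N') + N * N' := by noncomm_ring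
  rw [this, h1, h2, add_zero, add_zero]

end supp

/-! ### the matrices `spM p q t` -/

section spm

variable {ι : Type*} [DecidableEq ι] [Fintype ι]

theorem single_add_single_neg (a b : ι ⊕ ι) (t : K) :
    Matrix.single a b t + Matrix.single a b (-t) = 0 := by
  rw [← Matrix.single_add, add_neg_cancel, Matrix.single_zero]

theorem spM_mul_spM_neg {p q : ι ⊕ ι} (hpq : p ≠ q) (t : K) :
    (spM p q t : Matrix (ι ⊕ ι) (ι ⊕ ι) K) * spM p q (-t) = 1 := by
  have hqp : q ≠ p := Ne.symm hpq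
  unfold spM
  by_cases hq : q = bar p
  · rw [if_pos hq, if_pos hq]
    apply one_add_mul_one_add
    · exact single_add_single_neg p q t
    · exact Matrix.single_mul_single_of_ne t p q p hqp (-t)
  · rw [if_neg hq, if_neg hq, add_sub_assoc, add_sub_assoc]
    have hb1 : q ≠ bar q := (bar_ne q).symm
    have hb2 : bar p ≠ p := bar_ne p
    have hb3 : bar p ≠ bar q := fun h => hpq (bar_injective h)
    apply one_add_mul_one_add
    · have e1 := single_add_single_neg p q t
      have e2 := single_add_single_neg (bar q) (bar p) (eps K p q * t)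
      rw [mul_neg]
      calc Matrix.single p q t - Matrix.single (bar q) (bar p) (eps K p q * t) +
            (Matrix.single p q (-t) - Matrix.single (bar q) (bar p) (-(eps K p q * t)))
          = (Matrix.single p q t + Matrix.single p q (-t)) -
            (Matrix.single (bar q) (bar p) (eps K p q * t) +
              Matrix.single (bar q) (bar p) (-(eps K p q * t))) := by abel
        _ = 0 := by rw [e1, e2, sub_zero]
    · rw [Matrix.sub_mul, Matrix.mul_sub, Matrix.mul_sub,
        Matrix.single_mul_single_of_ne t p q p hqp (-t),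
        Matrix.single_mul_single_of_ne t p q (bar q) hb1 (eps K p q * -t),
        Matrix.single_mul_single_of_ne (eps K p q * t) (bar q) (bar p) p hb2 (-t),
        Matrix.single_mul_single_of_ne (eps K p q * t) (bar q) (bar p) (bar q) hb3
          (eps K p q * -t)]
      simp

theorem supp_spM {Z : ι ⊕ ι → ι ⊕ ι → Prop} {p q : ι ⊕ ι} (hpq : p ≠ q) (hZ : Z p q)
    (hZ' : Z (bar q) (bar p)) (t : K) : Supp Z (spM p q t : Matrix (ι ⊕ ι) (ι ⊕ ι) K) := by
  have hbar : bar q ≠ bar p := fun h => hpq (bar_injective h).symm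
  unfold spM
  by_cases hq : q = bar p
  · rw [if_pos hq]
    constructor
    · intro a
      have h1 : ¬ (p = a ∧ q = a) := fun h => hpq (h.1.trans h.2.symm)
      rw [Matrix.add_apply, Matrix.one_apply_eq, Matrix.single_apply, if_neg h1, add_zero]
    · intro a b hab hnZ
      have h1 : ¬ (p = a ∧ q = b) := fun h => hnZ (h.1 ▸ h.2 ▸ hZ)
      rw [Matrix.add_apply, Matrix.one_apply_ne hab, Matrix.single_apply, if_neg h1, add_zero]
  · rw [if_neg hq]
    constructor
    · intro a
      have h1 : ¬ (p = a ∧ q = a) := fun h => hpq (h.1.trans h.2.symm)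
      have h2 : ¬ (bar q = a ∧ bar p = a) := fun h => hbar (h.1.trans h.2.symm)
      rw [Matrix.sub_apply, Matrix.add_apply, Matrix.one_apply_eq, Matrix.single_apply,
        Matrix.single_apply, if_neg h1, if_neg h2, add_zero, sub_zero]
    · intro a b hab hnZ
      have h1 : ¬ (p = a ∧ q = b) := fun h => hnZ (h.1 ▸ h.2 ▸ hZ)
      have h2 : ¬ (bar q = a ∧ bar p = b) := fun h => hnZ (h.1 ▸ h.2 ▸ hZ')
      rw [Matrix.sub_apply, Matrix.add_apply, Matrix.one_apply_ne hab, Matrix.single_apply,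
        Matrix.single_apply, if_neg h1, if_neg h2, add_zero, sub_zero]

/-- the entry `(p, q)` of `spM p q t * B` for `B` with `B q q = 1`, `B p q = 0` -/
theorem spM_mul_apply {p q : ι ⊕ ι} (hpq : p ≠ q) (t : K) (B : Matrix (ι ⊕ ι) (ι ⊕ ι) K)
    (h1 : B q q = 1) (h2 : B p q = 0) : ((spM p q t : Matrix (ι ⊕ ι) (ι ⊕ ι) K) * B) p q = t := by
  unfold spM
  by_cases hq : q = bar p
  · rw [if_pos hq, Matrix.add_mul, Matrix.one_mul, Matrix.add_apply,
      Matrix.single_mul_apply_same, h1, h2, zero_add, mul_one]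
  · have hp : p ≠ bar q := fun h => hq (by rw [h, bar_bar])
    rw [if_neg hq, Matrix.sub_mul, Matrix.add_mul, Matrix.one_mul, Matrix.sub_apply,
      Matrix.add_apply, Matrix.single_mul_apply_same,
      Matrix.single_mul_apply_of_ne _ _ _ _ _ hp, h1, h2, zero_add, mul_one, sub_zero]

end spm

/-! ### the filtration of the positive positions -/

section filt

variable {m : ℕ}

/-- the index of rank `k` -/
def ofRk (m k : ℕ) (hk : k < 2 * m) : Fin m ⊕ Fin m :=
  if h : k < m then Sum.inl ⟨k, h⟩ else Sum.inr ⟨2 * m - 1 - k, by omega⟩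

theorem rk_ofRk (k : ℕ) (hk : k < 2 * m) : rk (ofRk m k hk) = k := by
  unfold ofRk
  by_cases h : k < m
  · rw [dif_pos h]; rfl
  · rw [dif_neg h]
    show 2 * m - 1 - (2 * m - 1 - k) = k
    omega

/-- the positions of distance `> d`, or of distance `d` and index `< r` -/
def Z (m d r : ℕ) (a b : Fin m ⊕ Fin m) : Prop :=
  rk a < rk b ∧ (rk a + d < rk b ∨ (rk a + d = rk b ∧ (rk a < r ∨ rk (bar b) < r)))

theorem Z_irrefl (d r : ℕ) (a : Fin m ⊕ Fin m) : ¬ Z m d r a a := fun h => lt_irrefl _ h.1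

theorem Z_trans {d : ℕ} (hd : 1 ≤ d) (r : ℕ) (a b c : Fin m ⊕ Fin m) (h1 : Z m d r a b)
    (h2 : Z m d r b c) : Z m d r a c := by
  obtain ⟨h1, h1'⟩ := h1
  obtain ⟨h2, h2'⟩ := h2
  refine ⟨h1.trans h2, Or.inl ?_⟩
  omega

theorem Z_bar {d r : ℕ} {a b : Fin m ⊕ Fin m} (h : Z m d r a b) : Z m d r (bar b) (bar a) := by
  obtain ⟨h1, h2⟩ := h
  have ha := rk_lt a
  have hb := rk_lt b
  unfold Z
  rw [bar_bar, rk_bar a, rk_bar b]
  rw [rk_bar b] at h2
  omega

/-- the subgroup generated by the root elements of the positions in `Z m d r` -/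
def V (X : Fin m ⊕ Fin m → Fin m ⊕ Fin m → K → D) (d r : ℕ) : Subgroup D :=
  Subgroup.closure {g | ∃ p q, Z m d r p q ∧ ∃ t, g = X p q t}

theorem V_le_of (X : Fin m ⊕ Fin m → Fin m ⊕ Fin m → K → D) {d r d' r' : ℕ}
    (h : ∀ a b, Z m d r a b → Z m d' r' a b) : V X d r ≤ V X d' r' := by
  apply Subgroup.closure_mono
  rintro _ ⟨a, b, hZ, t, rfl⟩
  exact ⟨a, b, h a b hZ, t, rfl⟩

end filt

/-! ### the image of `V` -/

section phi

variable {m : ℕ} {X : Fin m ⊕ Fin m → Fin m ⊕ Fin m → K → D}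

theorem phi_inv_gen (φ : D →* Matrix.symplecticGroup (Fin m) K)
    (hφ : ∀ p q, p ≠ q → ∀ t, (φ (X p q t)).1 = spM p q t) {p q : Fin m ⊕ Fin m} (hpq : p ≠ q)
    (t : K) : (φ (X p q t)⁻¹).1 = spM p q (-t) := by
  have h1 : (φ (X p q t)⁻¹).1 * (φ (X p q t)).1 = 1 := by
    rw [map_inv]
    exact congrArg Subtype.val (inv_mul_cancel (φ (X p q t)))
  rw [hφ p q hpq] at h1
  calc (φ (X p q t)⁻¹).1 = (φ (X p q t)⁻¹).1 * (spM p q t * spM p q (-t)) := by
        rw [spM_mul_spM_neg hpq, mul_one]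
    _ = ((φ (X p q t)⁻¹).1 * spM p q t) * spM p q (-t) := by rw [mul_assoc]
    _ = spM p q (-t) := by rw [h1, one_mul]

theorem phi_mem (φ : D →* Matrix.symplecticGroup (Fin m) K)
    (hφ : ∀ p q, p ≠ q → ∀ t, (φ (X p q t)).1 = spM p q t) {d : ℕ} (hd : 1 ≤ d) (r : ℕ) :
    ∀ v ∈ V X d r, Supp (Z m d r) (φ v).1 := by
  intro v hv
  induction hv using Subgroup.closure_induction'' with
  | mem x hx =>
    obtain ⟨p, q, hZ, t, rfl⟩ := hx
    have hpq : p ≠ q := fun h => Z_irrefl d r p (h ▸ hZ)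
    rw [hφ p q hpq t]
    exact supp_spM hpq hZ (Z_bar hZ) t
  | inv_mem x hx =>
    obtain ⟨p, q, hZ, t, rfl⟩ := hx
    have hpq : p ≠ q := fun h => Z_irrefl d r p (h ▸ hZ)
    rw [phi_inv_gen φ hφ hpq t]
    exact supp_spM hpq hZ (Z_bar hZ) (-t)
  | one =>
    rw [map_one]
    exact Supp.one _
  | mul x y _ _ hx hy =>
    rw [map_mul]
    exact Supp.mul (Z_irrefl d r) (Z_trans hd r) hx hy

end phi

/-! ### peeling off one root -/

section peel

variable {m : ℕ} {X : Fin m ⊕ Fin m → Fin m ⊕ Fin m → K → D}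

/-- the statement of the commutator lemma (GC) `gen_comm_pairs` -/
def GCStmt (X : Fin m ⊕ Fin m → Fin m ⊕ Fin m → K → D) : Prop :=
  ∀ {p q r s : Fin m ⊕ Fin m}, p ≠ q → r ≠ s → ¬ (r = p ∧ s = q) → ¬ (r = bar q ∧ s = bar p) →
    ¬ (r = q ∧ s = p) → ¬ (r = bar p ∧ s = bar q) → ∀ a b : K,
    X p q a * X r s b * (X p q a)⁻¹ * (X r s b)⁻¹ ∈
      Subgroup.closure {g | ∃ i j, i ≠ j ∧
        (∃ c d : ℕ, 1 ≤ c ∧ 1 ≤ d ∧ rootVec i j = c • rootVec p q + d • rootVec r s) ∧
        ∃ t, g = X i j t}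

/-- the hypotheses on the root `(p, q)` that is peeled off at the stage `(d, r)` -/
structure Stage (m d r : ℕ) (p q : Fin m ⊕ Fin m) : Prop where
  hd : 1 ≤ d
  hp : rk p = r
  hq : rk q = r + d
  hr : 2 * r + d ≤ 2 * m - 1

theorem Stage.ne {d r : ℕ} {p q : Fin m ⊕ Fin m} (h : Stage m d r p q) : p ≠ q := by
  intro e
  have h1 := h.hp
  have h2 := h.hq
  have h3 := h.hd
  rw [e] at h1
  omega

theorem Stage.not_Z {d r : ℕ} {p q : Fin m ⊕ Fin m} (h : Stage m d r p q) : ¬ Z m d r p q := by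
  rintro ⟨_, h2⟩
  have h1 := h.hp
  have h3 := h.hq
  have h4 := h.hr
  have h5 := rk_lt q
  rw [rk_bar q] at h2
  omega

theorem conj_gen_mem_V (hX : SpRel X) (hGC : GCStmt X) {d r : ℕ} {p q : Fin m ⊕ Fin m}
    (h : Stage m d r p q) (s : K) {a b : Fin m ⊕ Fin m} (hZ : Z m d r a b) (u : K) :
    X p q s * X a b u * (X p q s)⁻¹ ∈ V X d r := by
  have hpq := h.ne
  have hab : a ≠ b := fun e => Z_irrefl d r a (e ▸ hZ)
  have hp := h.hp
  have hq := h.hq
  have hr := h.hr
  have hd := h.hd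
  have hpl := rk_lt p
  have hql := rk_lt q
  have hbp := rk_bar p
  have hbq := rk_bar q
  have hbb := rk_bar b
  obtain ⟨hZ1, hZ2⟩ := hZ
  have hne1 : ¬ (a = p ∧ b = q) := by
    rintro ⟨rfl, rfl⟩
    omega
  have hne2 : ¬ (a = bar q ∧ b = bar p) := by
    rintro ⟨rfl, rfl⟩
    rw [bar_bar] at hZ2
    omega
  have hne3 : ¬ (a = q ∧ b = p) := by
    rintro ⟨rfl, rfl⟩
    omega
  have hne4 : ¬ (a = bar p ∧ b = bar q) := by
    rintro ⟨rfl, rfl⟩
    omega
  have hc := hGC hpq hab hne1 hne2 hne3 hne4 s u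
  have hS : Subgroup.closure {g | ∃ i j, i ≠ j ∧
        (∃ c e : ℕ, 1 ≤ c ∧ 1 ≤ e ∧ rootVec i j = c • rootVec p q + e • rootVec a b) ∧
        ∃ t, g = X i j t} ≤ V X d r := by
    rw [Subgroup.closure_le]
    rintro _ ⟨i, j, _, ⟨c, e, hc1, he1, hroot⟩, t, rfl⟩
    apply Subgroup.subset_closure
    refine ⟨i, j, ?_, t, rfl⟩
    have h1 : (2 : ℤ) * ((rk i : ℤ) - rk j) =
        c * (2 * ((rk p : ℤ) - rk q)) + e * (2 * ((rk a : ℤ) - rk b)) := by
      rw [← Lf_rootVec_eq, hroot, Lf_add, Lf_nsmul, Lf_nsmul, Lf_rootVec_eq, Lf_rootVec_eq]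
    have hc' : (1 : ℤ) ≤ c := by exact_mod_cast hc1
    have he' : (1 : ℤ) ≤ e := by exact_mod_cast he1
    have hd' : (1 : ℤ) ≤ d := by exact_mod_cast hd
    have hq' : (rk q : ℤ) = rk p + d := by rw [hq, hp]; push_cast; ring
    have hab' : (rk a : ℤ) + d ≤ rk b := by
      have : rk a + d ≤ rk b := by omega
      exact_mod_cast this
    have hcd : (d : ℤ) ≤ c * d := by nlinarith
    have hex : ((rk b : ℤ) - rk a) ≤ e * ((rk b : ℤ) - rk a) := by nlinarith
    have hfin : (rk i : ℤ) + d < rk j := by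
      rw [hq'] at h1
      nlinarith
    have hfin' : rk i + d < rk j := by exact_mod_cast hfin
    exact ⟨by omega, Or.inl hfin'⟩
  have e : X p q s * X a b u * (X p q s)⁻¹ =
      (X p q s * X a b u * (X p q s)⁻¹ * (X a b u)⁻¹) * X a b u := by group
  rw [e]
  exact Subgroup.mul_mem _ (hS hc) (Subgroup.subset_closure ⟨a, b, ⟨hZ1, hZ2⟩, u, rfl⟩)

theorem conj_mem_V (hX : SpRel X) (hGC : GCStmt X) {d r : ℕ} {p q : Fin m ⊕ Fin m}
    (h : Stage m d r p q) (s : K) :
    ∀ v ∈ V X d r, X p q s * v * (X p q s)⁻¹ ∈ V X d r := by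
  intro v hv
  induction hv using Subgroup.closure_induction with
  | mem x hx =>
    obtain ⟨a, b, hZ, u, rfl⟩ := hx
    exact conj_gen_mem_V hX hGC h s hZ u
  | one => simp
  | mul x y _ _ hx hy =>
    have : X p q s * (x * y) * (X p q s)⁻¹ =
        (X p q s * x * (X p q s)⁻¹) * (X p q s * y * (X p q s)⁻¹) := by group
    rw [this]; exact Subgroup.mul_mem _ hx hy
  | inv x _ hx =>
    have : X p q s * x⁻¹ * (X p q s)⁻¹ = (X p q s * x * (X p q s)⁻¹)⁻¹ := by group
    rw [this]; exact Subgroup.inv_mem _ hx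

theorem exists_decomp (hX : SpRel X) (hGC : GCStmt X) {d r : ℕ} {p q : Fin m ⊕ Fin m}
    (h : Stage m d r p q) :
    ∀ v ∈ V X d (r + 1), ∃ t, ∃ v' ∈ V X d r, v = X p q t * v' := by
  intro v hv
  have hpq := h.ne
  have hp := h.hp
  have hq := h.hq
  have hr := h.hr
  have hql := rk_lt q
  have hbq := rk_bar q
  have hbp := rk_bar p
  have key : ∀ a b, Z m d (r + 1) a b → ∀ u,
      ∃ t, ∃ v' ∈ V X d r, X a b u = X p q t * v' := by
    intro a b hZ u
    by_cases hZ' : Z m d r a b
    · exact ⟨0, X a b u, Subgroup.subset_closure ⟨a, b, hZ', u, rfl⟩, by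
        rw [X_zero hX hpq, one_mul]⟩
    · obtain ⟨h1, h2⟩ := hZ
      have h3 : ¬ (rk a + d < rk b ∨ (rk a + d = rk b ∧ (rk a < r ∨ rk (bar b) < r))) :=
        fun hh => hZ' ⟨h1, hh⟩
      have hbb := rk_bar b
      have hbl := rk_lt b
      have hcase : rk a = r ∨ rk (bar b) = r := by omega
      have hdist : rk a + d = rk b := by omega
      rcases hcase with hc | hc
      · have ha : a = p := rk_injective (by rw [hc, hp])
        have hb : b = q := rk_injective (by rw [hq]; omega)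
        subst ha; subst hb
        exact ⟨u, 1, Subgroup.one_mem _, by rw [mul_one]⟩
      · have hb : b = bar p := by
          have : bar b = p := rk_injective (by rw [hc, hp])
          rw [← this, bar_bar]
        have ha : a = bar q := by
          apply rk_injective
          rw [hbq]
          omega
        subst ha; subst hb
        by_cases hlong : q = bar p
        · refine ⟨u, 1, Subgroup.one_mem _, ?_⟩
          rw [mul_one]
          have e1 : bar q = p := by rw [hlong, bar_bar]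
          rw [e1, ← hlong]
        · exact ⟨-(eps K p q * u), 1, Subgroup.one_mem _, by
            rw [mul_one, sym' hX hpq hlong u]⟩
  induction hv using Subgroup.closure_induction'' with
  | mem x hx =>
    obtain ⟨a, b, hZ, u, rfl⟩ := hx
    exact key a b hZ u
  | inv_mem x hx =>
    obtain ⟨a, b, hZ, u, rfl⟩ := hx
    have hab : a ≠ b := fun e => Z_irrefl d (r + 1) a (e ▸ hZ)
    rw [X_neg hX hab]
    exact key a b hZ (-u)
  | one => exact ⟨0, 1, Subgroup.one_mem _, by rw [X_zero hX hpq, one_mul]⟩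
  | mul x y _ _ hx hy =>
    obtain ⟨t1, v1, hv1, rfl⟩ := hx
    obtain ⟨t2, v2, hv2, rfl⟩ := hy
    refine ⟨t1 + t2, (X p q t2)⁻¹ * v1 * X p q t2 * v2, ?_, ?_⟩
    · refine Subgroup.mul_mem _ ?_ hv2
      have := conj_mem_V hX hGC h (-t2) v1 hv1
      rwa [← X_neg hX hpq, inv_inv] at this
    · rw [hX.add p q hpq]; group

/-- the predicate "`φ` is injective on `V X d r`" -/
def InjOn (φ : D →* Matrix.symplecticGroup (Fin m) K)
    (X : Fin m ⊕ Fin m → Fin m ⊕ Fin m → K → D) (d r : ℕ) : Prop :=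
  ∀ v ∈ V X d r, φ v = 1 → v = 1

theorem step_r (hX : SpRel X) (hGC : GCStmt X) (φ : D →* Matrix.symplecticGroup (Fin m) K)
    (hφ : ∀ p q, p ≠ q → ∀ t, (φ (X p q t)).1 = spM p q t) {d : ℕ} (hd : 1 ≤ d) (r : ℕ)
    (ih : InjOn φ X d r) : InjOn φ X d (r + 1) := by
  by_cases hcond : 2 * r + d ≤ 2 * m - 1
  · have hr2 : r < 2 * m := by omega
    have hrd2 : r + d < 2 * m := by omega
    have hst : Stage m d r (ofRk m r hr2) (ofRk m (r + d) hrd2) :=
      ⟨hd, rk_ofRk r hr2, rk_ofRk (r + d) hrd2, hcond⟩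
    set p := ofRk m r hr2
    set q := ofRk m (r + d) hrd2
    have hpq := hst.ne
    intro v hv hφv
    obtain ⟨t, v', hv', rfl⟩ := exists_decomp hX hGC hst v hv
    have hsupp := phi_mem φ hφ hd r v' hv'
    have h1 : (φ (X p q t * v')).1 p q = t := by
      rw [map_mul]
      show ((φ (X p q t)).1 * (φ v').1) p q = t
      rw [hφ p q hpq t]
      exact spM_mul_apply hpq t _ (hsupp.1 q) (hsupp.2 p q hpq hst.not_Z)
    rw [hφv] at h1
    have h2 : ((1 : Matrix.symplecticGroup (Fin m) K).1) p q = 0 := Matrix.one_apply_ne hpq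
    rw [h2] at h1
    rw [← h1, X_zero hX hpq, one_mul]
    apply ih v' hv'
    rw [← h1, X_zero hX hpq, one_mul] at hφv
    exact hφv
  · intro v hv
    refine ih v (V_le_of X ?_ hv)
    rintro a b ⟨h1, h2⟩
    refine ⟨h1, ?_⟩
    have hbb := rk_bar b
    have hbl := rk_lt b
    omega

theorem injOn_all (hX : SpRel X) (hGC : GCStmt X) (φ : D →* Matrix.symplecticGroup (Fin m) K)
    (hφ : ∀ p q, p ≠ q → ∀ t, (φ (X p q t)).1 = spM p q t) :
    ∀ k d : ℕ, d + k = 2 * m → 1 ≤ d → ∀ r, InjOn φ X d r := by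
  intro k
  induction k with
  | zero =>
    intro d hdk _ r v hv _
    have hle : V X d r ≤ ⊥ := by
      unfold V
      rw [Subgroup.closure_le]
      rintro _ ⟨a, b, ⟨_, h⟩, _, rfl⟩
      have := rk_lt b
      omega
    exact Subgroup.mem_bot.mp (hle hv)
  | succ k ih =>
    intro d hdk hd r
    have h0 : InjOn φ X d 0 := by
      intro v hv
      refine ih (d + 1) (by omega) (by omega) (2 * m) v (V_le_of X ?_ hv)
      rintro a b ⟨h1, h2⟩
      refine ⟨h1, ?_⟩
      have := rk_lt a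
      omega
    induction r with
    | zero => exact h0
    | succ r ihr => exact step_r hX hGC φ hφ hd r ihr

theorem UposC_le_V (X : Fin m ⊕ Fin m → Fin m ⊕ Fin m → K → D) : UposC X ≤ V X 1 (2 * m) := by
  apply Subgroup.closure_mono
  rintro _ ⟨p, q, hpq, t, rfl⟩
  refine ⟨p, q, ⟨hpq, ?_⟩, t, rfl⟩
  have := rk_lt p
  omega

end peel

/-! ### the two statements of piece (U) -/

section main

variable {m : ℕ} {X : Fin m ⊕ Fin m → Fin m ⊕ Fin m → K → D}

/-- **(U), first part**: `φ` is upper unitriangular on `UposC X`. -/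
theorem phi_UC_unitri (φ : D →* Matrix.symplecticGroup (Fin m) K)
    (hφ : ∀ p q, p ≠ q → ∀ t, (φ (X p q t)).1 = spM p q t) :
    ∀ x ∈ UposC X, (∀ r k, rk k < rk r → (φ x).1 r k = 0) ∧ ∀ k, (φ x).1 k k = 1 := by
  intro x hx
  have h := phi_mem φ hφ (le_refl 1) (2 * m) x (UposC_le_V X hx)
  refine ⟨fun r k hkr => h.2 r k ?_ ?_, h.1⟩
  · intro e
    rw [e] at hkr
    exact lt_irrefl _ hkr
  · rintro ⟨h1, _⟩
    exact lt_asymm h1 hkr

/-- **(U), second part**, with the commutator lemma (GC) as a hypothesis: `φ` is injective on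
`UposC X`. -/
theorem phi_injOn_UC_of (hX : SpRel X) (hGC : GCStmt X)
    (φ : D →* Matrix.symplecticGroup (Fin m) K)
    (hφ : ∀ p q, p ≠ q → ∀ t, (φ (X p q t)).1 = spM p q t) :
    ∀ x ∈ UposC X, φ x = 1 → x = 1 := by
  intro x hx
  rcases Nat.eq_zero_or_pos m with hm | hm
  · subst hm
    intro _
    have hle : UposC X ≤ ⊥ := by
      unfold UposC
      rw [Subgroup.closure_le]
      rintro _ ⟨p, _, _, _, _⟩
      rcases p with i | i <;> exact i.elim0
    exact Subgroup.mem_bot.mp (hle hx)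
  · exact injOn_all hX hGC φ hφ (2 * m - 1) 1 (by omega) (le_refl 1) (2 * m) x (UposC_le_V X hx)

/-- two pairs with the same root vector are equal or mirror images of one another -/
theorem rootVec_eq_cases {ι : Type*} [DecidableEq ι] {p q r s : ι ⊕ ι} (hpq : p ≠ q)
    (hrs : r ≠ s) (h : rootVec r s = rootVec p q) :
    (r = p ∧ s = q) ∨ (r = bar q ∧ s = bar p) := by
  rcases p with i | i <;> rcases q with j | j <;> rcases r with k | k <;> rcases s with l | l <;>
  · have h1 := congrFun h i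
    have h2 := congrFun h j
    have h3 := congrFun h k
    have h4 := congrFun h l
    simp only [rootVec, epsV, Pi.sub_apply, Pi.neg_apply, Pi.single_apply] at h1 h2 h3 h4
    simp only [bar, Sum.swap_inl, Sum.swap_inr, Sum.inl.injEq, Sum.inr.injEq, reduceCtorEq,
      ne_eq, and_false, false_and, or_false, false_or, not_false_eq_true] at hpq hrs ⊢
    clear h
    grind

/-- the commutator lemma (GC) of helper97, in the form used here -/
theorem gcStmt_of_spRel (hX : SpRel X) : GCStmt X := by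
  intro p q r s hpq hrs h1 h1b h2 h2b a b
  refine Cfsg.Agent.Helper97.StC.gen_comm hX hpq hrs ?_ ?_ a b
  · intro e
    rcases rootVec_eq_cases hpq hrs e with h | h
    · exact h1 h
    · exact h1b h
  · intro e
    rw [← rootVec_swap] at e
    rcases rootVec_eq_cases (Ne.symm hpq) hrs e with h | h
    · exact h2 h
    · exact h2b h

/-- **(U), second part**: `φ` is injective on `UposC X`. -/
theorem phi_injOn_UC (hX : SpRel X)
    (φ : D →* Matrix.symplecticGroup (Fin m) K)
    (hφ : ∀ p q, p ≠ q → ∀ t, (φ (X p q t)).1 = spM p q t) :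
    ∀ x ∈ UposC X, φ x = 1 → x = 1 :=
  phi_injOn_UC_of hX (gcStmt_of_spRel hX) φ hφ

end main

end Cfsg.Agent.Helper38.StCU
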