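import Mathlib
import Cfsg.Agent.Helper99.QSpDefs

/-!
# (QH1b) of WANTED #5836 (helper99, S5974)

`y` an isometry of the quadratic space `(V, Q)` (odd characteristic) with `y² = -1`, and `-1` a
square in `F`: inside every invariant nondegenerate subspace `X` there are invariant hyperbolic
subspaces of every even dimension `2e ≤ dim X`.

The eigenspaces of `y` for `±ι₀` are totally singular; an invariant nondegenerate `X ≠ 0` contains
a hyperbolic pair of eigenvectors (for opposite eigenvalues); split it off and recurse.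
-/

set_option autoImplicit false
set_option linter.unusedSectionVars false

namespace Cfsg.Agent.Helper38.QSp

open Module Polynomial
open Cfsg.Agent.Helper59.InvChain Cfsg.Agent.Helper59.Elusive
open Cfsg.Agent.Helper99.SpStruct Cfsg.Agent.Helper99.RDecomp
open Cfsg.Agent.Helper44 Cfsg.Agent.Helper44.QType
open Cfsg.Agent.Helper99.QSp

universe u v

variable {F : Type u} [Field F] [Fintype F]
variable {V : Type v} [AddCommGroup V] [Module F V] [FiniteDimensional F V]

section eig

variable (Q : QuadraticForm F V) (h2 : (2 : F) ≠ 0) (y : Module.End F V)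
  (hiso : ∀ v, Q (y v) = Q v) (hy : y * y = -1)

include hy in
theorem yy_apply (w : V) : y (y w) = -w := by
  have := congrArg (fun f : Module.End F V => f w) hy
  simpa using this

/-- the projection onto the `c`-eigenspace (`c² = -1`) -/
noncomputable def eproj (c : F) (w : V) : V := (2 : F)⁻¹ • (w - c • y w)

include hy in
theorem y_eproj {c : F} (hc : c * c = -1) (w : V) : y (eproj y c w) = c • eproj y c w := by
  unfold eproj
  rw [map_smul, map_sub, map_smul, yy_apply y hy]
  have h1 : c • (2 : F)⁻¹ • (w - c • y w) = (2 : F)⁻¹ • (c • w - (c * c) • y w) := by module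
  rw [h1, hc]
  module

include h2 in
theorem eproj_add (c : F) (w : V) : eproj y c w + eproj y (-c) w = w := by
  unfold eproj
  rw [← smul_add, neg_smul, sub_neg_eq_add, sub_add_add_cancel, ← two_smul F w, smul_smul,
    inv_mul_cancel₀ h2, one_smul]

theorem eproj_mem {X : Submodule F V} (hX : Inv y X) (c : F) {w : V} (hw : w ∈ X) :
    eproj y c w ∈ X :=
  X.smul_mem _ (X.sub_mem hw (X.smul_mem _ (hX.apply_mem hw)))

include h2 hiso in
/-- eigenvectors for `c` with `c² = -1` are singular -/
theorem eig_sing {c : F} (hc : c * c = -1) {u : V} (hu : y u = c • u) : Q u = 0 := by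
  have h1 : Q (y u) = (c * c) * Q u := by
    rw [hu, QuadraticMap.map_smul, smul_eq_mul]
  rw [hiso, hc] at h1
  have h3 : (2 : F) * Q u = 0 := by linear_combination h1
  rcases mul_eq_zero.mp h3 with h | h
  · exact absurd h h2
  · exact h

include h2 hiso in
/-- eigenvectors for the same `c` with `c² = -1` are orthogonal -/
theorem eig_orth {c : F} (hc : c * c = -1) {u u' : V} (hu : y u = c • u) (hu' : y u' = c • u') :
    pB Q u u' = 0 := by
  have h1 := isom_pB hiso u u'
  rw [hu, hu', LinearMap.BilinForm.smul_left, LinearMap.BilinForm.smul_right, ← mul_assoc, hc] at h1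
  have h3 : (2 : F) * pB Q u u' = 0 := by linear_combination -h1
  rcases mul_eq_zero.mp h3 with h | h
  · exact absurd h h2
  · exact h

include h2 hiso hy in
/-- a hyperbolic pair of eigenvectors in an invariant nondegenerate subspace `X ≠ 0` -/
theorem exists_eig_pair {ι₀ : F} (hι : ι₀ * ι₀ = -1) {X : Submodule F V} (hXinv : Inv y X)
    (hXnd : Nd (pB Q) X) (hX0 : X ≠ ⊥) :
    ∃ (c : F) (u v : V), c * c = -1 ∧ u ∈ X ∧ v ∈ X ∧ y u = c • u ∧ y v = (-c) • v ∧
      pB Q u v = 1 := by
  obtain ⟨x, hxX, hx0⟩ := Submodule.exists_mem_ne_zero_of_ne_bot hX0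
  have hι' : (-ι₀) * (-ι₀) = -1 := by rw [neg_mul_neg]; exact hι
  -- an eigenvector `u ≠ 0` in `X`
  have hex : ∃ c : F, c * c = -1 ∧ eproj y c x ≠ 0 := by
    by_cases h : eproj y ι₀ x = 0
    · refine ⟨-ι₀, hι', ?_⟩
      intro h'
      apply hx0
      rw [← eproj_add h2 y ι₀ x, h, h', add_zero]
    · exact ⟨ι₀, hι, h⟩
  obtain ⟨c, hc, hu0⟩ := hex
  have hc' : (-c) * (-c) = -1 := by rw [neg_mul_neg]; exact hc
  set u := eproj y c x with hudef
  have huX : u ∈ X := eproj_mem y hXinv c hxX
  have hyu : y u = c • u := y_eproj y hy hc x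
  -- a vector `w ∈ X` not orthogonal to `u`
  have hw : ∃ w ∈ X, pB Q w u ≠ 0 := by
    by_contra hcon
    push Not at hcon
    exact hu0 (nd_iff.mp hXnd u huX hcon)
  obtain ⟨w, hwX, hwu⟩ := hw
  set v' := eproj y (-c) w with hv'def
  have hv'X : v' ∈ X := eproj_mem y hXinv (-c) hwX
  have hyv' : y v' = (-c) • v' := y_eproj y hy hc' w
  have h0 : pB Q (eproj y c w) u = 0 := eig_orth Q h2 y hiso hc (y_eproj y hy hc w) hyu
  have hv'u : pB Q v' u = pB Q w u := by
    have h1 : pB Q w u = pB Q (eproj y c w + v') u := by rw [hv'def, eproj_add h2 y c w]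
    rw [h1, map_add, LinearMap.add_apply, h0, zero_add]
  have ha : pB Q u v' ≠ 0 := by
    rw [(pB_symm Q).eq v' u |>.symm] at *
    simpa [hv'u] using hwu
  refine ⟨c, u, (pB Q u v')⁻¹ • v', hc, huX, X.smul_mem _ hv'X, hyu, ?_, ?_⟩
  · rw [map_smul, hyv', smul_comm]
  · rw [map_smul, smul_eq_mul, inv_mul_cancel₀ ha]

end eig

/-- the hyperbolic plane spanned by a hyperbolic pair of eigenvectors -/
theorem plane_props (Q : QuadraticForm F V) (h2 : (2 : F) ≠ 0) (y : Module.End F V)
    (hiso : ∀ v, Q (y v) = Q v) {c : F} (hc : c * c = -1) {u v : V} (hyu : y u = c • u)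
    (hyv : y v = (-c) • v) (huv : pB Q u v = 1) :
    Inv y (Submodule.span F {u, v}) ∧ Nd (pB Q) (Submodule.span F {u, v}) ∧
      finrank F ↥(Submodule.span F {u, v}) = 2 ∧ Q u = 0 ∧ finrank F ↥(Submodule.span F {u}) = 1 := by
  have hc' : (-c) * (-c) = -1 := by rw [neg_mul_neg]; exact hc
  have hQu : Q u = 0 := eig_sing Q h2 y hiso hc hyu
  have hQv : Q v = 0 := eig_sing Q h2 y hiso hc' hyv
  have huu : pB Q u u = 0 := by rw [pB_self, hQu, mul_zero]
  have hvv : pB Q v v = 0 := by rw [pB_self, hQv, mul_zero]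
  have hvu : pB Q v u = 1 := by rw [(pB_symm Q).eq v u |>.symm] at *; simpa using huv
  have hu0 : u ≠ 0 := by
    intro h
    rw [h] at huv
    simp at huv
  refine ⟨?_, ?_, ?_, hQu, finrank_span_singleton hu0⟩
  · rw [inv_iff]
    intro z hz
    obtain ⟨a, b, rfl⟩ := Submodule.mem_span_pair.mp hz
    rw [map_add, map_smul, map_smul, hyu, hyv]
    exact Submodule.mem_span_pair.mpr ⟨a * c, b * (-c), by rw [mul_smul, mul_smul]⟩
  · rw [nd_iff]
    intro z hz hzo
    obtain ⟨a, b, rfl⟩ := Submodule.mem_span_pair.mp hz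
    have h1 := hzo u (Submodule.subset_span (by simp))
    have h2' := hzo v (Submodule.subset_span (by simp))
    rw [map_add, map_smul, map_smul, smul_eq_mul, smul_eq_mul, huu, huv, mul_zero, zero_add,
      mul_one] at h1
    rw [map_add, map_smul, map_smul, smul_eq_mul, smul_eq_mul, hvu, hvv, mul_zero, add_zero,
      mul_one] at h2'
    rw [h1, h2', zero_smul, zero_smul, add_zero]
  · have hli : LinearIndependent F ![u, v] := by
      rw [LinearIndependent.pair_iff]
      intro s t hst
      have h1 : pB Q u (s • u + t • v) = 0 := by rw [hst, map_zero]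
      have h2' : pB Q v (s • u + t • v) = 0 := by rw [hst, map_zero]
      rw [map_add, map_smul, map_smul, smul_eq_mul, smul_eq_mul, huu, huv, mul_zero, zero_add,
        mul_one] at h1
      rw [map_add, map_smul, map_smul, smul_eq_mul, smul_eq_mul, hvu, hvv, mul_zero, add_zero,
        mul_one] at h2'
      exact ⟨h2', h1⟩
    have := finrank_span_eq_card hli
    rw [Matrix.range_cons_cons_empty] at this
    simpa using this

/-- (QH1b) `x² = -1`, `-1` a square: hyperbolic invariant subspaces of every even dimension -/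
theorem exists_inv_hyp_of_sq_neg_one_split (Q : QuadraticForm F V) (hnd : (pB Q).Nondegenerate)
    (h2 : (2 : F) ≠ 0) (y : Module.End F V) (hiso : ∀ v, Q (y v) = Q v) (hy : y * y = -1)
    {ι₀ : F} (hι : ι₀ * ι₀ = -1) :
    ∀ e : ℕ, ∀ X : Submodule F V, Inv y X → Nd (pB Q) X → 2 * e ≤ finrank F ↥X →
      ∃ W : Submodule F V, W ≤ X ∧ Inv y W ∧ Nd (pB Q) W ∧ finrank F ↥W = 2 * e ∧ Hyp Q W := by
  intro e
  induction e with
  | zero =>
    intro X _ _ _
    refine ⟨⊥, bot_le, inv_bot y, nd_bot, by simp, ⟨⊥, le_refl _, ?_, by simp⟩⟩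
    intro u hu
    rw [(Submodule.mem_bot F).mp hu, map_zero]
  | succ e ih =>
    intro X hXinv hXnd hdim
    have hX0 : X ≠ ⊥ := by
      intro h
      rw [h, finrank_bot] at hdim
      omega
    obtain ⟨c, u, v, hc, huX, hvX, hyu, hyv, huv⟩ :=
      exists_eig_pair Q h2 y hiso hy hι hXinv hXnd hX0
    obtain ⟨hPinv, hPnd, hPdim, hQu, hu1⟩ := plane_props Q h2 y hiso hc hyu hyv huv
    set P := Submodule.span F {u, v} with hPdef
    have hPX : P ≤ X := by
      rw [hPdef, Submodule.span_le]
      intro z hz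
      rcases hz with rfl | rfl
      · exact huX
      · exact hvX
    have hB : (pB Q).IsRefl := pB_refl Q
    -- the orthogonal complement of `P` in `X`
    have hX'nd : Nd (pB Q) (X ⊓ (pB Q).orthogonal P) := Nd.inf_orth hB hPX hPnd hXnd
    have hX'inv : Inv y (X ⊓ (pB Q).orthogonal P) := by
      rw [inv_iff]
      intro z hz
      rw [Submodule.mem_inf] at hz
      refine Submodule.mem_inf.mpr ⟨hXinv.apply_mem hz.1, ?_⟩
      rw [LinearMap.BilinForm.mem_orthogonal_iff]
      intro p hp
      have hp' : p = y (-(y p)) := by rw [map_neg, yy_apply y hy, neg_neg]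
      have hmem : -(y p) ∈ P := P.neg_mem (hPinv.apply_mem hp)
      rw [hp', isom_pB hiso]
      have := hz.2
      rw [LinearMap.BilinForm.mem_orthogonal_iff] at this
      exact this _ hmem
    have hX'dim : 2 * e ≤ finrank F ↥(X ⊓ (pB Q).orthogonal P) := by
      have := Nd.finrank_inf_orth hB hPX hPnd
      rw [hPdim] at this
      omega
    obtain ⟨W', hW'X', hW'inv, hW'nd, hW'dim, U', hU'W', hU'ts, hU'dim⟩ :=
      ih _ hX'inv hX'nd hX'dim
    have hOrth : Orth (pB Q) P W' := orth_iff_le.mpr (hW'X'.trans inf_le_right)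
    have hdisj : Disjoint P W' := hOrth.disjoint hPnd
    refine ⟨P ⊔ W', sup_le hPX (hW'X'.trans inf_le_left), inv_sup hPinv hW'inv,
      Nd.sup hB hPnd hW'nd hOrth, ?_, ?_⟩
    · rw [finrank_sup_of_disjoint hdisj, hPdim, hW'dim]; ring
    · have huP : Submodule.span F {u} ≤ P := by
        rw [hPdef]
        exact Submodule.span_mono (by simp)
      have hdisj' : Disjoint (Submodule.span F {u}) U' := hdisj.mono huP hU'W'
      refine ⟨Submodule.span F {u} ⊔ U', sup_le_sup huP hU'W', ?_, ?_⟩
      · intro z hz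
        obtain ⟨a, ha, b, hb, rfl⟩ := Submodule.mem_sup.mp hz
        obtain ⟨s, rfl⟩ := Submodule.mem_span_singleton.mp ha
        have h0 : pB Q (s • u) b = 0 :=
          hOrth (s • u) (huP (Submodule.mem_span_singleton.mpr ⟨s, rfl⟩)) b (hU'W' hb)
        have h1 : Q (s • u) = 0 := by rw [QuadraticMap.map_smul, hQu, smul_zero]
        have h3 : Q (s • u + b) = Q (s • u) + Q b + pB Q (s • u) b := by
          rw [pB_apply]; unfold QuadraticMap.polar; ring
        rw [h3, h1, hU'ts b hb, h0]; simp
      · rw [finrank_sup_of_disjoint hdisj', finrank_sup_of_disjoint hdisj, hu1, hPdim, ← hU'dim]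
        ring

end Cfsg.Agent.Helper38.QSp
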