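import Mathlib

/-!
# Semisimple elements of prime order commuting with a square-zero endomorphism

`V` a finite vector space over the finite field `F` with `q` elements, `g N : End V` with
`N * N = 0`, `N ≠ 0`, `g * N = N * g`, `g ^ r = 1`, `g ≠ 1`, `r` a prime not dividing `q`,
`dim V = n ≥ 4`.  Then `r ∣ q ^ e - 1` for some `1 ≤ e ≤ n - 2`.
-/

set_option autoImplicit false

namespace Cfsg.Agent.Helper38

open Module

section counting
variable {F V : Type*} [Field F] [AddCommGroup V] [Module F V]

/-- the fixed space of `g` inside `W` -/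
def fixIn (g : Module.End F V) (W : Submodule F V) : Submodule F V :=
  W ⊓ LinearMap.ker (g - 1)

theorem mem_fixIn (g : Module.End F V) (W : Submodule F V) (v : V) :
    v ∈ fixIn g W ↔ v ∈ W ∧ g v = v := by
  unfold fixIn
  rw [Submodule.mem_inf, LinearMap.mem_ker, LinearMap.sub_apply, Module.End.one_apply, sub_eq_zero]

theorem fixIn_le (g : Module.End F V) (W : Submodule F V) : fixIn g W ≤ W := inf_le_left

theorem pow_apply_mem (g : Module.End F V) (W : Submodule F V) (hW : ∀ w ∈ W, g w ∈ W) (k : ℕ)
    (w : V) (hw : w ∈ W) : (g ^ k) w ∈ W := by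
  induction k with
  | zero => simpa using hw
  | succ k ih =>
    rw [pow_succ', Module.End.mul_apply]
    exact hW _ ih

/-- fixed point congruence on an invariant subspace -/
theorem card_modEq_card_fixIn [Finite V] (g : Module.End F V) (r : ℕ) [Fact r.Prime]
    (hg : g ^ r = 1) (W : Submodule F V) (hW : ∀ w ∈ W, g w ∈ W) :
    Nat.card W ≡ Nat.card (fixIn g W) [MOD r] := by
  classical
  have : Fintype W := Fintype.ofFinite _
  let f : Function.End W := fun w => ⟨g w.1, hW w.1 w.2⟩
  have hfk : ∀ k : ℕ, ∀ w : W, ((f ^ k) w : V) = (g ^ k) w.1 := by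
    intro k
    induction k with
    | zero =>
      intro w
      rw [pow_zero, pow_zero]
      rfl
    | succ k ih =>
      intro w
      rw [pow_succ', pow_succ', Module.End.mul_apply]
      change g ((f ^ k) w).1 = _
      rw [ih w]
  have hf : f ^ r ^ 1 = 1 := by
    rw [pow_one]
    funext w
    apply Subtype.ext
    rw [hfk r w, hg]
    rfl
  have h := Equiv.Perm.card_fixedPoints_modEq (p := r) (n := 1) hf
  rw [← Nat.card_eq_fintype_card, ← Nat.card_eq_fintype_card] at h
  have e : Nat.card (Function.fixedPoints f) = Nat.card (fixIn g W) := by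
    apply Nat.card_congr
    exact ⟨fun w => ⟨w.1.1, (mem_fixIn g W _).mpr ⟨w.1.2, congrArg Subtype.val w.2⟩⟩,
      fun v => ⟨⟨v.1, ((mem_fixIn g W _).mp v.2).1⟩, Subtype.ext ((mem_fixIn g W _).mp v.2).2⟩,
      fun w => rfl, fun v => rfl⟩
  rw [← e]
  exact h

end counting

section main
variable {F V : Type*} [Field F] [Fintype F] [AddCommGroup V] [Module F V] [Finite V]

theorem natCard_submodule (W : Submodule F V) :
    Nat.card W = Fintype.card F ^ finrank F W := by
  classical
  have : Fintype W := Fintype.ofFinite _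
  rw [Nat.card_eq_fintype_card, Module.card_eq_pow_finrank (K := F)]

/-- dimension form of the fixed point congruence -/
theorem dvd_pow_sub_one_of_invariant (g : Module.End F V) (r : ℕ) [Fact r.Prime]
    (hg : g ^ r = 1) (hrq : ¬ r ∣ Fintype.card F) (W : Submodule F V)
    (hW : ∀ w ∈ W, g w ∈ W) :
    r ∣ Fintype.card F ^ (finrank F W - finrank F (fixIn g W)) - 1 := by
  have h := card_modEq_card_fixIn g r hg W hW
  rw [natCard_submodule, natCard_submodule] at h
  have hle : finrank F (fixIn g W) ≤ finrank F W := Submodule.finrank_mono (fixIn_le g W)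
  have hq : 0 < Fintype.card F := Fintype.card_pos
  generalize finrank F W = d at h hle ⊢
  generalize finrank F (fixIn g W) = f at h hle ⊢
  generalize Fintype.card F = q at h hrq hq ⊢
  have h1 : r ∣ q ^ d - q ^ f :=
    (Nat.modEq_iff_dvd' (Nat.pow_le_pow_right hq hle)).mp h.symm
  have h2 : q ^ d - q ^ f = q ^ f * (q ^ (d - f) - 1) := by
    rw [Nat.mul_sub, mul_one, ← pow_add]
    congr 2
    omega
  rw [h2] at h1
  have hr : r.Prime := Fact.out
  have hcop : Nat.Coprime r (q ^ f) :=
    Nat.Coprime.pow_right _ ((Nat.Prime.coprime_iff_not_dvd hr).mpr hrq)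
  exact hcop.dvd_of_dvd_mul_left h1

omit [Fintype F] [Finite V] in
theorem one_add_pow_of_sq_zero (M : Module.End F V) (hM : M * M = 0) (k : ℕ) :
    (1 + M) ^ k = 1 + (k : F) • M := by
  induction k with
  | zero => simp
  | succ k ih =>
    rw [pow_succ, ih, mul_add, mul_one, add_mul, one_mul, smul_mul_assoc, hM, smul_zero,
      add_zero, Nat.cast_succ, add_smul, one_smul, add_assoc]

/-- the main statement -/
theorem exists_dvd_of_commute_sq_zero (g N : Module.End F V) (hN2 : N * N = 0) (hN : N ≠ 0)
    (hcomm : g * N = N * g) (r : ℕ) [Fact r.Prime] (hg : g ^ r = 1) (hg1 : g ≠ 1)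
    (hrq : ¬ r ∣ Fintype.card F) (hr0 : (r : F) ≠ 0) (hn : 4 ≤ finrank F V) :
    ∃ e, 1 ≤ e ∧ e ≤ finrank F V - 2 ∧ r ∣ Fintype.card F ^ e - 1 := by
  by_contra hcon
  push Not at hcon
  have hIK : LinearMap.range N ≤ LinearMap.ker N := by
    rintro v ⟨w, rfl⟩
    rw [LinearMap.mem_ker, ← Module.End.mul_apply, hN2]
    rfl
  have hrank := LinearMap.finrank_range_add_finrank_ker N
  have hI1 : 1 ≤ finrank F (LinearMap.range N) := by
    rw [Nat.one_le_iff_ne_zero, Ne, Submodule.finrank_eq_zero, LinearMap.range_eq_bot]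
    exact hN
  have hIle : finrank F (LinearMap.range N) ≤ finrank F (LinearMap.ker N) :=
    Submodule.finrank_mono hIK
  have hIinv : ∀ w ∈ LinearMap.range N, g w ∈ LinearMap.range N := by
    rintro w ⟨v, rfl⟩
    refine ⟨g v, ?_⟩
    rw [← Module.End.mul_apply, ← hcomm, Module.End.mul_apply]
  have hKinv : ∀ w ∈ LinearMap.ker N, g w ∈ LinearMap.ker N := by
    intro w hw
    rw [LinearMap.mem_ker] at hw ⊢
    rw [← Module.End.mul_apply, ← hcomm, Module.End.mul_apply, hw, map_zero]
  -- step 1
  have hIfix : ∀ w ∈ LinearMap.range N, g w = w := by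
    have h1 := dvd_pow_sub_one_of_invariant g r hg hrq _ hIinv
    have h2 : fixIn g (LinearMap.range N) = LinearMap.range N := by
      apply Submodule.eq_of_le_of_finrank_le (fixIn_le _ _)
      by_contra hlt
      push Not at hlt
      exact hcon _ (by omega) (by omega) h1
    intro w hw
    rw [← h2] at hw
    exact ((mem_fixIn g _ w).mp hw).2
  -- step 2
  have hKfix : ∀ w ∈ LinearMap.ker N, g w = w := by
    have h1 := dvd_pow_sub_one_of_invariant g r hg hrq _ hKinv
    have h3 : finrank F (LinearMap.range N) ≤ finrank F (fixIn g (LinearMap.ker N)) := by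
      apply Submodule.finrank_mono
      intro w hw
      exact (mem_fixIn g _ w).mpr ⟨hIK hw, hIfix w hw⟩
    have h2 : fixIn g (LinearMap.ker N) = LinearMap.ker N := by
      apply Submodule.eq_of_le_of_finrank_le (fixIn_le _ _)
      by_contra hlt
      push Not at hlt
      exact hcon _ (by omega) (by omega) h1
    intro w hw
    rw [← h2] at hw
    exact ((mem_fixIn g _ w).mp hw).2
  -- step 3
  have hM : (g - 1) * (g - 1) = 0 := by
    apply LinearMap.ext
    intro v
    rw [Module.End.mul_apply, LinearMap.zero_apply]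
    have hk : (g - 1) v ∈ LinearMap.ker N := by
      rw [LinearMap.mem_ker, LinearMap.sub_apply, Module.End.one_apply, map_sub,
        ← Module.End.mul_apply, ← hcomm, Module.End.mul_apply, hIfix _ ⟨v, rfl⟩, sub_self]
    rw [LinearMap.sub_apply, Module.End.one_apply, hKfix _ hk, sub_self]
  have hpow := one_add_pow_of_sq_zero (g - 1) hM r
  rw [add_sub_cancel, hg] at hpow
  have h0 : (r : F) • (g - 1) = 0 := by
    have := hpow
    rwa [left_eq_add] at this
  rcases smul_eq_zero.mp h0 with h | h
  · exact hr0 h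
  · exact hg1 (sub_eq_zero.mp h)

end main

end Cfsg.Agent.Helper38
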