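import Mathlib
import Cfsg.Agent.S2364
import Cfsg.Agent.Helper40.SylowGL

/-!
# Lifting elements of `PSL_n(q)` to matrices, and block diagonal elements of prescribed order
-/

set_option autoImplicit false

namespace Cfsg.Agent.Helper38

open Matrix

section lift
variable {F : Type*} [Field F] [Fintype F] {n : ℕ}

/-- elements of `SL_n(q)` of order prime to `q - 1` keep their order in `PSL_n(q)` -/
theorem orderOf_mk_of_coprime (hn : 1 ≤ n) (X : SpecialLinearGroup (Fin n) F)
    (hcop : Nat.Coprime (orderOf X) (Fintype.card F - 1)) :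
    orderOf (QuotientGroup.mk X : Matrix.ProjectiveSpecialLinearGroup (Fin n) F) = orderOf X := by
  apply Nat.dvd_antisymm
  · exact orderOf_map_dvd (QuotientGroup.mk' (Subgroup.center (SpecialLinearGroup (Fin n) F))) X
  · have h1 : X ^ orderOf (QuotientGroup.mk X : Matrix.ProjectiveSpecialLinearGroup (Fin n) F) ∈
        Subgroup.center (SpecialLinearGroup (Fin n) F) := by
      rw [← QuotientGroup.eq_one_iff, QuotientGroup.mk_pow]
      exact pow_orderOf_eq_one _
    have h2 := Cfsg.Agent.S2364.center_pow hn _ h1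
    rw [← pow_mul] at h2
    exact hcop.dvd_of_dvd_mul_right (orderOf_dvd_of_pow_eq_one h2)

/-- commuting lifts of the `r`- and `s`-parts of an element of order `r s` -/
theorem exists_commuting_lifts (hn : 1 ≤ n) (x : Matrix.ProjectiveSpecialLinearGroup (Fin n) F)
    (r s : ℕ) (hr : r.Prime) (hs : s.Prime) (hx : orderOf x = r * s)
    (hrq : ¬ r ∣ Fintype.card F - 1) (hsq : ¬ s ∣ Fintype.card F - 1) :
    ∃ g h : Matrix (Fin n) (Fin n) F, g * h = h * g ∧ g ^ r = 1 ∧ h ^ s = 1 ∧ g ≠ 1 ∧ h ≠ 1 := by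
  obtain ⟨X, rfl⟩ := QuotientGroup.mk_surjective x
  have hXZ : X ^ (r * s) ∈ Subgroup.center (SpecialLinearGroup (Fin n) F) := by
    rw [← QuotientGroup.eq_one_iff, QuotientGroup.mk_pow, ← hx]
    exact pow_orderOf_eq_one _
  have hX1 : X ^ (r * s * (Fintype.card F - 1)) = 1 := by
    rw [pow_mul]
    exact Cfsg.Agent.S2364.center_pow hn _ hXZ
  have key : ∀ t u : ℕ, t.Prime → t * u = r * s → ¬ t ∣ Fintype.card F - 1 →
      X ^ (u * (Fintype.card F - 1)) ≠ 1 := by
    intro t u ht htu htq h1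
    have h2 : (QuotientGroup.mk X : Matrix.ProjectiveSpecialLinearGroup (Fin n) F) ^
        (u * (Fintype.card F - 1)) = 1 := by
      rw [← QuotientGroup.mk_pow, h1, QuotientGroup.mk_one]
    have h3 := orderOf_dvd_of_pow_eq_one h2
    rw [hx, ← htu] at h3
    have hu0 : 0 < u := by
      rcases Nat.eq_zero_or_pos u with h | h
      · rw [h, mul_zero] at htu
        have := Nat.mul_pos hr.pos hs.pos
        omega
      · exact h
    rw [mul_comm t u] at h3
    exact htq (Nat.dvd_of_mul_dvd_mul_left hu0 h3)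
  refine ⟨(X ^ (s * (Fintype.card F - 1)) : SpecialLinearGroup (Fin n) F).1,
    (X ^ (r * (Fintype.card F - 1)) : SpecialLinearGroup (Fin n) F).1, ?_, ?_, ?_, ?_, ?_⟩
  · rw [← Matrix.SpecialLinearGroup.coe_mul, ← Matrix.SpecialLinearGroup.coe_mul, ← pow_add, ← pow_add,
      add_comm]
  · rw [← Matrix.SpecialLinearGroup.coe_pow, ← pow_mul]
    have : s * (Fintype.card F - 1) * r = r * s * (Fintype.card F - 1) := by ring
    rw [this, hX1, Matrix.SpecialLinearGroup.coe_one]
  · rw [← Matrix.SpecialLinearGroup.coe_pow, ← pow_mul]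
    have : r * (Fintype.card F - 1) * s = r * s * (Fintype.card F - 1) := by ring
    rw [this, hX1, Matrix.SpecialLinearGroup.coe_one]
  · intro h
    apply key r s hr rfl hrq
    exact Subtype.ext (by rw [h, Matrix.SpecialLinearGroup.coe_one])
  · intro h
    apply key s r hs (mul_comm s r) hsq
    exact Subtype.ext (by rw [h, Matrix.SpecialLinearGroup.coe_one])

end lift

section blocks
variable {F : Type*} [Field F]

/-- block diagonal embedding `(A, B) ↦ diag(A, B)` -/
noncomputable def twoBlock {a b n : ℕ} (e : Fin a ⊕ Fin b ≃ Fin n) :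
    Matrix (Fin a) (Fin a) F × Matrix (Fin b) (Fin b) F →* Matrix (Fin n) (Fin n) F where
  toFun AB := Matrix.reindex e e (Matrix.fromBlocks AB.1 0 0 AB.2)
  map_one' := by
    simp [Matrix.fromBlocks_one]
  map_mul' A B := by
    simp [Matrix.fromBlocks_multiply, Matrix.reindex_apply, Matrix.submatrix_mul_equiv]

theorem twoBlock_injective {a b n : ℕ} (e : Fin a ⊕ Fin b ≃ Fin n) :
    Function.Injective (twoBlock (F := F) e) := by
  intro A B h
  have h1 := (Matrix.reindex e e).injective h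
  rw [Matrix.fromBlocks_inj] at h1
  exact Prod.ext h1.1 h1.2.2.2

/-- the standard splitting `Fin a ⊕ Fin b ≃ Fin n` for `a + b = n` -/
def splitEquiv {a b n : ℕ} (h : a + b = n) : Fin a ⊕ Fin b ≃ Fin n :=
  finSumFinEquiv.trans (finCongr h)

theorem orderOf_twoBlock {a b n : ℕ} (e : Fin a ⊕ Fin b ≃ Fin n)
    (A : Matrix (Fin a) (Fin a) F) (B : Matrix (Fin b) (Fin b) F) :
    orderOf (twoBlock e (A, B)) = Nat.lcm (orderOf A) (orderOf B) := by
  exact (orderOf_injective (twoBlock e) (twoBlock_injective e) (A, B)).trans Prod.orderOf_mk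

variable [Fintype F]

/-- a matrix of order `m` in `M_d(F)` whenever `m ∣ q^d - 1` -/
theorem exists_matrix_orderOf (d : ℕ) (hd : 0 < d) (m : ℕ)
    (hm : m ∣ Fintype.card F ^ d - 1) :
    ∃ A : Matrix (Fin d) (Fin d) F, orderOf A = m := by
  obtain ⟨ψ, hψ⟩ := Cfsg.Agent.Helper40.exists_injective_hom_matrix (F := F) d hd m hm
  refine ⟨ψ (Multiplicative.ofAdd (1 : ZMod m)), ?_⟩
  rw [orderOf_injective ψ hψ, orderOf_ofAdd_eq_addOrderOf, ZMod.addOrderOf_one]

/-- a matrix of finite order prime to `q - 1` has determinant `1` -/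
theorem det_eq_one_of_coprime {n : ℕ} (X : Matrix (Fin n) (Fin n) F) (h0 : 0 < orderOf X)
    (hcop : Nat.Coprime (orderOf X) (Fintype.card F - 1)) : X.det = 1 := by
  have h1 : X.det ^ orderOf X = 1 := by
    rw [← Matrix.det_pow, pow_orderOf_eq_one, Matrix.det_one]
  have hne : X.det ≠ 0 := by
    intro h
    rw [h, zero_pow h0.ne'] at h1
    exact zero_ne_one h1
  have h2 : X.det ^ (Fintype.card F - 1) = 1 := FiniteField.pow_card_sub_one_eq_one _ hne
  have h3 := (pow_gcd_eq_one (a := X.det)).mpr ⟨h1, h2⟩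
  rwa [hcop.gcd_eq_one, pow_one] at h3

/-- passing to `SL_n` -/
theorem exists_SL_orderOf {n : ℕ} (X : Matrix (Fin n) (Fin n) F) (h0 : 0 < orderOf X)
    (hcop : Nat.Coprime (orderOf X) (Fintype.card F - 1)) :
    ∃ Y : SpecialLinearGroup (Fin n) F, orderOf Y = orderOf X := by
  let Y : SpecialLinearGroup (Fin n) F := ⟨X, det_eq_one_of_coprime X h0 hcop⟩
  refine ⟨Y, ?_⟩
  rw [orderOf_eq_orderOf_iff]
  intro j
  have h1 : (Y ^ j = 1) ↔ ((Y ^ j : SpecialLinearGroup (Fin n) F) : Matrix (Fin n) (Fin n) F) =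
      ((1 : SpecialLinearGroup (Fin n) F) : Matrix (Fin n) (Fin n) F) :=
    ⟨fun h => by rw [h], fun h => Subtype.ext h⟩
  rw [h1, Matrix.SpecialLinearGroup.coe_pow, Matrix.SpecialLinearGroup.coe_one]

end blocks

end Cfsg.Agent.Helper38
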