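import Mathlib
import Cfsg.Agent.Helper38.PSLLift

/-!
# Block diagonal embedding `Sp_{2a} × Sp_{2b} → Sp_{2(a+b)}`
-/

set_option autoImplicit false

namespace Cfsg.Agent.Helper38

open Matrix

section blocks
variable {F : Type*} [Field F]

/-- block diagonal embedding for general index types -/
noncomputable def blockSum {α β γ : Type*} [Fintype α] [Fintype β] [Fintype γ] [DecidableEq α]
    [DecidableEq β] [DecidableEq γ] (E : α ⊕ β ≃ γ) :
    Matrix α α F × Matrix β β F →* Matrix γ γ F where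
  toFun AB := Matrix.reindex E E (Matrix.fromBlocks AB.1 0 0 AB.2)
  map_one' := by
    simp [Matrix.fromBlocks_one]
  map_mul' A B := by
    simp [Matrix.fromBlocks_multiply, Matrix.reindex_apply, Matrix.submatrix_mul_equiv]

theorem blockSum_injective {α β γ : Type*} [Fintype α] [Fintype β] [Fintype γ] [DecidableEq α]
    [DecidableEq β] [DecidableEq γ] (E : α ⊕ β ≃ γ) :
    Function.Injective (blockSum (F := F) E) := by
  intro A B h
  have h1 := (Matrix.reindex E E).injective h
  rw [Matrix.fromBlocks_inj] at h1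
  exact Prod.ext h1.1 h1.2.2.2

theorem blockSum_transpose {α β γ : Type*} [Fintype α] [Fintype β] [Fintype γ] [DecidableEq α]
    [DecidableEq β] [DecidableEq γ] (E : α ⊕ β ≃ γ) (A : Matrix α α F) (B : Matrix β β F) :
    (blockSum E (A, B))ᵀ = blockSum E (Aᵀ, Bᵀ) := by
  show (Matrix.reindex E E (Matrix.fromBlocks A 0 0 B))ᵀ = Matrix.reindex E E (Matrix.fromBlocks Aᵀ 0 0 Bᵀ)
  rw [Matrix.reindex_apply, Matrix.reindex_apply, Matrix.transpose_submatrix, Matrix.fromBlocks_transpose,
    Matrix.transpose_zero, Matrix.transpose_zero]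

/-- the shuffle `(a ⊕ a) ⊕ (b ⊕ b) ≃ n ⊕ n` -/
def spEquiv {a b n : ℕ} (h : a + b = n) : (Fin a ⊕ Fin a) ⊕ (Fin b ⊕ Fin b) ≃ Fin n ⊕ Fin n :=
  (Equiv.sumSumSumComm (Fin a) (Fin a) (Fin b) (Fin b)).trans
    (Equiv.sumCongr (splitEquiv h) (splitEquiv h))

theorem blockSum_J {a b n : ℕ} (h : a + b = n) :
    blockSum (F := F) (spEquiv h) (Matrix.J (Fin a) F, Matrix.J (Fin b) F) = Matrix.J (Fin n) F := by
  show Matrix.reindex (spEquiv h) (spEquiv h) (Matrix.fromBlocks (Matrix.J (Fin a) F) 0 0 (Matrix.J (Fin b) F)) = _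
  ext i j
  obtain ⟨i, rfl⟩ := (spEquiv h).surjective i
  obtain ⟨j, rfl⟩ := (spEquiv h).surjective j
  rw [Matrix.reindex_apply, Matrix.submatrix_apply, Equiv.symm_apply_apply, Equiv.symm_apply_apply]
  rcases i with (i | i) | (i | i) <;> rcases j with (j | j) | (j | j) <;>
    simp [spEquiv, Matrix.J, Matrix.one_apply, (splitEquiv h).injective.eq_iff]

/-- the block diagonal embedding of symplectic groups -/
noncomputable def spBlock {a b n : ℕ} (h : a + b = n) :
    Matrix.symplecticGroup (Fin a) F × Matrix.symplecticGroup (Fin b) F →*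
      Matrix.symplecticGroup (Fin n) F where
  toFun AB := ⟨blockSum (spEquiv h) ((AB.1 : Matrix (Fin a ⊕ Fin a) (Fin a ⊕ Fin a) F),
      (AB.2 : Matrix (Fin b ⊕ Fin b) (Fin b ⊕ Fin b) F)), by
    rw [SymplecticGroup.mem_iff, blockSum_transpose, ← blockSum_J h, ← map_mul, ← map_mul,
      Prod.mk_mul_mk, Prod.mk_mul_mk, SymplecticGroup.mem_iff.mp AB.1.2,
      SymplecticGroup.mem_iff.mp AB.2.2]⟩
  map_one' := by
    apply Subtype.ext
    show blockSum (spEquiv h) ((1 : Matrix (Fin a ⊕ Fin a) (Fin a ⊕ Fin a) F),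
      (1 : Matrix (Fin b ⊕ Fin b) (Fin b ⊕ Fin b) F)) = 1
    exact map_one _
  map_mul' A B := by
    apply Subtype.ext
    show blockSum (spEquiv h) (((A.1 * B.1 : Matrix.symplecticGroup (Fin a) F) : Matrix _ _ F),
      ((A.2 * B.2 : Matrix.symplecticGroup (Fin b) F) : Matrix _ _ F)) =
      blockSum (spEquiv h) ((A.1 : Matrix _ _ F), (A.2 : Matrix _ _ F)) *
        blockSum (spEquiv h) ((B.1 : Matrix _ _ F), (B.2 : Matrix _ _ F))
    rw [← map_mul]
    rfl

theorem spBlock_injective {a b n : ℕ} (h : a + b = n) :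
    Function.Injective (spBlock (F := F) h) := by
  intro A B hAB
  have h1 := congrArg Subtype.val hAB
  have h2 := blockSum_injective (F := F) (spEquiv h) h1
  rw [Prod.mk.injEq] at h2
  exact Prod.ext (Subtype.ext h2.1) (Subtype.ext h2.2)

end blocks

end Cfsg.Agent.Helper38
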