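import Mathlib

/-!
# Symplectic bases (Darboux)

A nondegenerate alternating form on a space of dimension `2 m` has a symplectic family
`e, f : Fin m → V`.
-/

set_option autoImplicit false

namespace Cfsg.Agent.Helper38

open Module Matrix

/-- **Darboux**: existence of a symplectic family. -/
theorem exists_symplectic_family {K : Type*} [Field K] :
    ∀ (m : ℕ) {V : Type*} [AddCommGroup V] [Module K V] [FiniteDimensional K V]
      (B : LinearMap.BilinForm K V), B.IsAlt → B.Nondegenerate → finrank K V = 2 * m →
      ∃ e f : Fin m → V, (∀ i j, B (e i) (e j) = 0) ∧ (∀ i j, B (f i) (f j) = 0) ∧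
        (∀ i j, B (e i) (f j) = if i = j then 1 else 0) := by
  intro m
  induction m with
  | zero =>
    intro V _ _ _ B _ _ _
    exact ⟨Fin.elim0, Fin.elim0, fun i => i.elim0, fun i => i.elim0, fun i => i.elim0⟩
  | succ m ih =>
    intro V _ _ _ B halt hnd hfr
    have hpos : 0 < finrank K V := by omega
    obtain ⟨v, hv⟩ := (finrank_pos_iff_exists_ne_zero (R := K) (M := V)).mp hpos
    have hw : ∃ w, B v w ≠ 0 := by
      by_contra hcon
      push Not at hcon
      exact hv (hnd.1 v hcon)
    obtain ⟨w₀, hw₀⟩ := hw
    -- normalise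
    set w : V := (B v w₀)⁻¹ • w₀ with hwdef
    have hvw : B v w = 1 := by
      rw [hwdef, map_smul, smul_eq_mul, inv_mul_cancel₀ hw₀]
    have hwv : B w v = -1 := by
      rw [← halt.neg_eq v w, hvw]
    have hrefl : B.IsRefl := halt.isRefl
    have hli : LinearIndependent K ![v, w] := by
      rw [LinearIndependent.pair_iff]
      intro s t hst
      have e1 : B (s • v + t • w) w = 0 := by rw [hst]; simp
      have e2 : B (s • v + t • w) v = 0 := by rw [hst]; simp
      simp only [map_add, map_smul, LinearMap.add_apply, LinearMap.smul_apply, smul_eq_mul,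
        halt w, halt v, mul_zero, add_zero, zero_add, hvw, hwv, mul_one, mul_neg, neg_eq_zero]
        at e1 e2
      exact ⟨e1, e2⟩
    set W : Submodule K V := Submodule.span K (Set.range ![v, w]) with hW
    have hWfr : finrank K W = 2 := by
      rw [hW, finrank_span_eq_card hli]
      simp
    have hvW : v ∈ W := Submodule.subset_span ⟨0, rfl⟩
    have hwW : w ∈ W := Submodule.subset_span ⟨1, rfl⟩
    have hdisj : Disjoint W (B.orthogonal W) := by
      rw [Submodule.disjoint_def]
      intro x hxW hxO
      rw [LinearMap.BilinForm.mem_orthogonal_iff] at hxO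
      have hx1 : B v x = 0 := hxO v hvW
      have hx2 : B w x = 0 := hxO w hwW
      rw [hW, Submodule.mem_span_range_iff_exists_fun] at hxW
      obtain ⟨c, hc⟩ := hxW
      rw [Fin.sum_univ_two] at hc
      simp only [Matrix.cons_val_zero, Matrix.cons_val_one] at hc
      rw [← hc] at hx1 hx2
      simp only [map_add, map_smul, smul_eq_mul, halt w, halt v, mul_zero, add_zero, zero_add,
        hvw, hwv, mul_one, mul_neg, neg_eq_zero] at hx1 hx2
      rw [← hc, hx1, hx2]
      simp
    have hdisj' : Disjoint (B.orthogonal W) (B.orthogonal (B.orthogonal W)) := by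
      rw [LinearMap.BilinForm.orthogonal_orthogonal hnd hrefl W]
      exact hdisj.symm
    have hnd' : (B.restrict (B.orthogonal W)).Nondegenerate :=
      LinearMap.BilinForm.nondegenerate_restrict_of_disjoint_orthogonal B hrefl hdisj'
    have halt' : (B.restrict (B.orthogonal W)).IsAlt := fun x => halt x
    have hfr' : finrank K (B.orthogonal W) = 2 * m := by
      rw [LinearMap.BilinForm.finrank_orthogonal hnd W, hWfr, hfr]
      omega
    obtain ⟨e', f', hee, hff, hef⟩ := ih (B.restrict (B.orthogonal W)) halt' hnd' hfr'
    have horth : ∀ z : B.orthogonal W, B v z = 0 ∧ B w z = 0 ∧ B z v = 0 ∧ B z w = 0 := by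
      intro z
      have hz := z.2
      rw [LinearMap.BilinForm.mem_orthogonal_iff] at hz
      have h1 : B v z = 0 := hz v hvW
      have h2 : B w z = 0 := hz w hwW
      exact ⟨h1, h2, hrefl _ _ h1, hrefl _ _ h2⟩
    refine ⟨Fin.cons v (fun i => (e' i : V)), Fin.cons w (fun i => (f' i : V)), ?_, ?_, ?_⟩
    · intro i j
      refine Fin.cases ?_ (fun i' => ?_) i <;> refine Fin.cases ?_ (fun j' => ?_) j
      · simp [halt v]
      · simp [(horth (e' j')).1]
      · simp [(horth (e' i')).2.2.1]
      · simpa using hee i' j'
    · intro i j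
      refine Fin.cases ?_ (fun i' => ?_) i <;> refine Fin.cases ?_ (fun j' => ?_) j
      · simp [halt w]
      · simp [(horth (f' j')).2.1]
      · simp [(horth (f' i')).2.2.2]
      · simpa using hff i' j'
    · intro i j
      refine Fin.cases ?_ (fun i' => ?_) i <;> refine Fin.cases ?_ (fun j' => ?_) j
      · simp [hvw]
      · simp [(horth (f' j')).1, (Fin.succ_ne_zero j').symm]
      · simp [(horth (e' i')).2.2.2, Fin.succ_ne_zero]
      · simpa [Fin.succ_inj] using hef i' j'

/-- **Symplectic basis**: a basis in which every isometry has a symplectic matrix. -/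
theorem exists_symplectic_basis {K : Type*} [Field K] (m : ℕ) {V : Type*} [AddCommGroup V]
    [Module K V] [FiniteDimensional K V] (B : LinearMap.BilinForm K V) (halt : B.IsAlt)
    (hnd : B.Nondegenerate) (hfr : finrank K V = 2 * m) :
    ∃ b : Basis (Fin m ⊕ Fin m) K V, ∀ u : Module.End K V, (∀ x y, B (u x) (u y) = B x y) →
      LinearMap.toMatrix b b u ∈ Matrix.symplecticGroup (Fin m) K := by
  classical
  obtain ⟨e, f, hee, hff, hef⟩ := exists_symplectic_family m B halt hnd hfr
  have hfe : ∀ i j, B (f i) (e j) = if i = j then -1 else 0 := by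
    intro i j
    rw [← halt.neg_eq, hef j i]
    by_cases h : i = j
    · simp [h]
    · simp [h, Ne.symm h]
  set φ : Fin m ⊕ Fin m → V := Sum.elim e f with hφ
  have hli : LinearIndependent K φ := by
    rw [Fintype.linearIndependent_iff]
    intro c hc a
    rw [Fintype.sum_sum_type] at hc
    simp only [hφ, Sum.elim_inl, Sum.elim_inr] at hc
    rcases a with i | i
    · have h1 := congrArg (fun z => B z (f i)) hc
      simp only [map_add, map_sum, map_smul, LinearMap.add_apply, LinearMap.sum_apply,
        LinearMap.smul_apply, smul_eq_mul, hef, hff, mul_zero, Finset.sum_const_zero, add_zero,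
        map_zero, LinearMap.zero_apply, mul_ite, mul_one, Finset.sum_ite_eq', Finset.mem_univ,
        if_true] at h1
      exact h1
    · have h1 := congrArg (fun z => B z (e i)) hc
      simp only [map_add, map_sum, map_smul, LinearMap.add_apply, LinearMap.sum_apply,
        LinearMap.smul_apply, smul_eq_mul, hee, hfe, mul_zero, Finset.sum_const_zero, zero_add,
        map_zero, LinearMap.zero_apply, mul_ite, mul_neg, mul_one, Finset.sum_ite_eq',
        Finset.mem_univ, if_true, neg_eq_zero] at h1
      exact h1
  have hcard : Fintype.card (Fin m ⊕ Fin m) = finrank K V := by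
    rw [Fintype.card_sum, Fintype.card_fin, hfr, two_mul]
  set b : Basis (Fin m ⊕ Fin m) K V := basisOfLinearIndependentOfCardEqFinrank' φ hli hcard with hb
  have hbφ : ∀ a, b a = φ a := fun a => by rw [hb, coe_basisOfLinearIndependentOfCardEqFinrank']
  have hG : LinearMap.BilinForm.toMatrix b B = - Matrix.J (Fin m) K := by
    ext a a'
    rw [LinearMap.BilinForm.toMatrix_apply, hbφ, hbφ]
    rcases a with i | i <;> rcases a' with j | j
    · simp [hφ, hee, Matrix.J]
    · simp [hφ, hef, Matrix.J, Matrix.one_apply]
    · by_cases h : i = j <;> simp [hφ, hfe, Matrix.J, Matrix.one_apply, h]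
    · simp [hφ, hff, Matrix.J]
  refine ⟨b, fun u hu => ?_⟩
  have hcomp : B.comp u u = B := by
    ext x y
    exact hu x y
  have h1 := LinearMap.BilinForm.toMatrix_comp b b B u u
  rw [hcomp, hG] at h1
  rw [_root_.SymplecticGroup.mem_iff']
  have h2 : (LinearMap.toMatrix b b u)ᵀ * (-J (Fin m) K) * LinearMap.toMatrix b b u =
      - ((LinearMap.toMatrix b b u)ᵀ * J (Fin m) K * LinearMap.toMatrix b b u) := by
    rw [Matrix.mul_neg, Matrix.neg_mul]
  rw [h2] at h1
  exact (neg_injective h1).symm


end Cfsg.Agent.Helper38
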