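import Mathlib
import Cfsg.Agent.Helper38.Darboux

/-!
# The cyclic torus of order `q ^ m + 1` in `Sp_{2m}(q)`

`K = F_{q^{2m}}` with the form `B(x, y) = Tr(c x σ(y))`, `σ = Frob ^ m`, `σ(c) = -c`.
Multiplication by `u` with `u σ(u) = 1` is an isometry.
-/

set_option autoImplicit false

namespace Cfsg.Agent.Helper38

open Module

section
variable {F : Type*} [Field F] [Fintype F]

/-- elements of every order dividing `q ^ m + 1` in `Sp_{2m}(q)` -/
theorem exists_sp_orderOf_of_dvd_pow_add_one (m : ℕ) (hm : 0 < m) (N : ℕ)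
    (hN : N ∣ Fintype.card F ^ m + 1) :
    ∃ y : Matrix.symplecticGroup (Fin m) F, orderOf y = N := by
  classical
  obtain ⟨p, hp⟩ := CharP.exists F
  have : Fact p.Prime := ⟨CharP.char_is_prime F p⟩
  have : NeZero (2 * m) := ⟨by omega⟩
  let K := FiniteField.Extension F p (2 * m)
  have : Fintype K := Fintype.ofFinite K
  set q := Fintype.card F with hq
  have hq2 : 2 ≤ q := Fintype.one_lt_card
  have hcardK : Fintype.card K = q ^ (2 * m) := by
    rw [← Nat.card_eq_fintype_card, FiniteField.natCard_extension, Nat.card_eq_fintype_card]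
  have hfr : finrank F K = 2 * m := FiniteField.finrank_extension F p (2 * m)
  -- the involution
  let σ : K ≃ₐ[F] K := (FiniteField.frobeniusAlgEquivOfAlgebraic F K) ^ m
  have hσ : ∀ y : K, σ y = y ^ (q ^ m) := by
    intro y
    change ((FiniteField.frobeniusAlgEquivOfAlgebraic F K) ^ m) y = _
    rw [AlgEquiv.coe_pow, FiniteField.coe_frobeniusAlgEquivOfAlgebraic_iterate]
  have hσσ : ∀ y : K, σ (σ y) = y := by
    intro y
    rw [hσ, hσ, ← pow_mul, ← pow_add, ← two_mul, ← hcardK, FiniteField.pow_card]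
  have htr : ∀ y : K, Algebra.trace F K (σ y) = Algebra.trace F K y :=
    fun y => Algebra.trace_eq_of_algEquiv σ y
  -- a generator
  obtain ⟨ζ, hζ⟩ := IsCyclic.exists_ofOrder_eq_natCard (α := Kˣ)
  have hcardU : Nat.card Kˣ = q ^ (2 * m) - 1 := by
    rw [Nat.card_units, Nat.card_eq_fintype_card, hcardK]
  have hqm : 2 ≤ q ^ m := by
    calc 2 ≤ q := hq2
      _ = q ^ 1 := (pow_one q).symm
      _ ≤ q ^ m := Nat.pow_le_pow_right (by omega) hm
  have hq2m : q ^ (2 * m) = q ^ m * q ^ m := by rw [two_mul, pow_add]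
  have hfac : q ^ (2 * m) - 1 = (q ^ m + 1) * (q ^ m - 1) := by
    rw [hq2m]
    generalize q ^ m = a at hqm
    obtain ⟨b, rfl⟩ : ∃ b, a = b + 1 := ⟨a - 1, by omega⟩
    have : (b + 1) * (b + 1) = (b + 1 + 1) * b + 1 := by ring
    rw [this]
    simp
  set a : K := (ζ : K) with ha
  have hσa : σ a ≠ a := by
    intro h
    rw [hσ] at h
    have h1 : ζ ^ (q ^ m - 1) = 1 := by
      apply Units.ext
      rw [Units.val_pow_eq_pow_val, Units.val_one]
      have h2 : a ^ (q ^ m - 1) * a = 1 * a := by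
        rw [← pow_succ, Nat.sub_add_cancel (by omega), h, one_mul]
      exact mul_right_cancel₀ (Units.ne_zero ζ) h2
    have h3 := orderOf_dvd_of_pow_eq_one h1
    rw [hζ, hcardU, hfac] at h3
    have h4 := Nat.le_of_dvd (by omega) h3
    have h5 : 1 * (q ^ m - 1) < (q ^ m + 1) * (q ^ m - 1) :=
      Nat.mul_lt_mul_of_pos_right (by omega) (by omega)
    omega
  set c : K := a - σ a with hc
  have hc0 : c ≠ 0 := fun h => hσa (sub_eq_zero.mp h).symm
  have hσc : σ c = - c := by
    rw [hc, map_sub, hσσ]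
    ring
  -- the form
  let B : LinearMap.BilinForm F K :=
    (Algebra.traceForm F K).comp (LinearMap.mulLeft F c) σ.toLinearMap
  have hBdef : ∀ x y : K, B x y = Algebra.trace F K (c * x * σ y) := by
    intro x y
    rfl
  have halt : B.IsAlt := by
    intro x
    change B x x = 0
    rw [hBdef, hc, sub_mul, sub_mul, map_sub, sub_eq_zero]
    have e : σ (a * x * σ x) = σ a * x * σ x := by
      rw [map_mul, map_mul, hσσ]
      ring
    rw [← htr (a * x * σ x), e]
  have hnd : B.Nondegenerate := by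
    apply LinearMap.BilinForm.Nondegenerate.ofSeparatingLeft
    intro x hx
    have h1 : ∀ z : K, Algebra.traceForm F K (c * x) z = 0 := by
      intro z
      have := hx (σ z)
      rw [hBdef, hσσ] at this
      rw [Algebra.traceForm_apply]
      exact this
    have h2 := (traceForm_nondegenerate F K).1 (c * x) h1
    rcases mul_eq_zero.mp h2 with h | h
    · exact absurd h hc0
    · exact h
  obtain ⟨b, hb⟩ := exists_symplectic_basis m B halt hnd hfr
  -- the element
  have hNpos : 0 < N := Nat.pos_of_dvd_of_pos hN (by omega)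
  obtain ⟨t, ht⟩ : N ∣ q ^ (2 * m) - 1 := by
    rw [hfac]
    exact Dvd.dvd.mul_right hN _
  have ht0 : t ≠ 0 := by
    rintro rfl
    rw [mul_zero] at ht
    have : 2 ≤ q ^ (2 * m) := by rw [hq2m]; nlinarith
    omega
  set u : Kˣ := ζ ^ t with hu
  have hordu : orderOf u = N := by
    rw [hu, orderOf_pow_of_dvd ht0 (by rw [hζ, hcardU, ht]; exact dvd_mul_left _ _), hζ, hcardU, ht]
    exact Nat.mul_div_cancel _ (Nat.pos_of_ne_zero ht0)
  have huN : u ^ (q ^ m + 1) = 1 := by
    obtain ⟨e, he⟩ := hN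
    rw [he, pow_mul, ← hordu, pow_orderOf_eq_one, one_pow]
  have huσ : (u : K) * σ (u : K) = 1 := by
    rw [hσ, ← pow_succ', ← Units.val_pow_eq_pow_val, huN, Units.val_one]
  -- the matrix
  let ψ : Kˣ →* Matrix (Fin m ⊕ Fin m) (Fin m ⊕ Fin m) F :=
    ((Algebra.leftMulMatrix b : K →ₐ[F] Matrix (Fin m ⊕ Fin m) (Fin m ⊕ Fin m) F) :
      K →* Matrix (Fin m ⊕ Fin m) (Fin m ⊕ Fin m) F).comp (Units.coeHom K)
  have hψinj : Function.Injective ψ := by
    intro v w hvw
    apply Units.ext
    exact Algebra.leftMulMatrix_injective b hvw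
  have hmem : ψ u ∈ Matrix.symplecticGroup (Fin m) F := by
    have h1 : ψ u = LinearMap.toMatrix b b (Algebra.lmul F K (u : K)) :=
      Algebra.leftMulMatrix_apply b (u : K)
    rw [h1]
    apply hb
    intro x y
    have hl : ∀ z : K, (Algebra.lmul F K (u : K)) z = (u : K) * z := fun z => rfl
    rw [hBdef, hBdef, hl, hl]
    have hσm : σ ((u : K) * y) = σ (u : K) * σ y := map_mul σ _ _
    rw [hσm]
    have : c * ((u : K) * x) * (σ (u : K) * σ y) = c * x * σ y * ((u : K) * σ (u : K)) := by ring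
    rw [this, huσ, mul_one]
  refine ⟨⟨ψ u, hmem⟩, ?_⟩
  rw [← hordu, ← orderOf_injective ψ hψinj u]
  exact (orderOf_injective (Matrix.symplecticGroup (Fin m) F).subtype Subtype.val_injective
    ⟨ψ u, hmem⟩).symm

end

end Cfsg.Agent.Helper38
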