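import Mathlib
import Cfsg.Prelude.Def_GeometricClasses

/-!
# Membership in the subfield group `GL_n(F₀) · Z` (standard position)
-/

set_option autoImplicit false

namespace Cfsg.Agent.Helper38.SubF

open Matrix Cfsg Cfsg.Geo

variable {F : Type*} [Field F] {n : ℕ}

theorem map_GL_val (F₀ : Subfield F) (A₀ : GL (Fin n) F₀) :
    ((Matrix.GeneralLinearGroup.map (F₀.subtype : F₀ →+* F) A₀ : GL (Fin n) F) :
      Matrix (Fin n) (Fin n) F) = (F₀.subtype).mapMatrix (A₀ : Matrix (Fin n) (Fin n) F₀) := rfl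

/-- matrices whose entries, divided by a non-zero scalar, lie in the subfield give elements of the
subfield group -/
theorem mem_of_entries (F₀ : Subfield F) (g : GL (Fin n) F) (lam : F) (hlam : lam ≠ 0)
    (h : ∀ i j, (g : Matrix (Fin n) (Fin n) F) i j / lam ∈ F₀) :
    g ∈ Cfsg.Geo.subfieldSubgroup F₀ (1 : GL (Fin n) F) := by
  obtain ⟨M₀, hM₀⟩ : ∃ M₀ : Matrix (Fin n) (Fin n) F₀,
      M₀ = Matrix.of fun i j => (⟨(g : Matrix (Fin n) (Fin n) F) i j / lam, h i j⟩ : F₀) := ⟨_, rfl⟩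
  have hmap : (F₀.subtype).mapMatrix M₀ = lam⁻¹ • (g : Matrix (Fin n) (Fin n) F) := by
    ext i j
    rw [hM₀]
    simp [div_eq_inv_mul]
  have hdet : M₀.det ≠ 0 := by
    intro h0
    have h1 : ((F₀.subtype).mapMatrix M₀).det = 0 := by
      rw [← RingHom.map_det, h0, map_zero]
    rw [hmap, Matrix.det_smul] at h1
    have h2 : (g : Matrix (Fin n) (Fin n) F).det ≠ 0 := by
      have := (Matrix.GeneralLinearGroup.det g).ne_zero
      simpa using this
    rcases mul_eq_zero.mp h1 with h3 | h3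
    · exact pow_ne_zero _ (inv_ne_zero hlam) h3
    · exact h2 h3
  obtain ⟨A₀, hA₀⟩ : ∃ A₀ : GL (Fin n) F₀, (A₀ : Matrix (Fin n) (Fin n) F₀) = M₀ :=
    ⟨Matrix.GeneralLinearGroup.mkOfDetNeZero M₀ hdet, rfl⟩
  obtain ⟨sc, hsc⟩ : ∃ sc : GL (Fin n) F, sc ∈ Cfsg.Geo.scalars (Fin n) F ∧
      (sc : Matrix (Fin n) (Fin n) F) = lam • (1 : Matrix (Fin n) (Fin n) F) := by
    refine ⟨Units.map (Matrix.scalar (Fin n) : F →+* Matrix (Fin n) (Fin n) F).toMonoidHom
      (Units.mk0 lam hlam), ⟨_, rfl⟩, ?_⟩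
    simp [Matrix.smul_one_eq_diagonal]
  have hx : Matrix.GeneralLinearGroup.map (F₀.subtype : F₀ →+* F) A₀ * sc = g := by
    apply Units.ext
    rw [Units.val_mul, hsc.2, map_GL_val, hA₀, hmap]
    rw [Matrix.smul_mul, Matrix.mul_smul, Matrix.mul_one, smul_smul, inv_mul_cancel₀ hlam,
      one_smul]
  unfold Cfsg.Geo.subfieldSubgroup
  rw [Subgroup.mem_map]
  refine ⟨g, ?_, ?_⟩
  · rw [← hx]
    exact Subgroup.mul_mem_sup ⟨A₀, rfl⟩ hsc.1
  · show 1 * g * 1⁻¹ = g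
    group

/-- elements of the subfield group have entries in the subfield up to a common scalar -/
theorem entries_of_mem (F₀ : Subfield F) (g : GL (Fin n) F)
    (hg : g ∈ Cfsg.Geo.subfieldSubgroup F₀ (1 : GL (Fin n) F)) :
    ∃ lam : F, lam ≠ 0 ∧ ∀ i j, (g : Matrix (Fin n) (Fin n) F) i j / lam ∈ F₀ := by
  unfold Cfsg.Geo.subfieldSubgroup at hg
  rw [Subgroup.mem_map] at hg
  obtain ⟨x, hx, hxg⟩ := hg
  have hxg' : x = g := by
    have : (1 : GL (Fin n) F) * x * 1⁻¹ = g := hxg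
    rw [one_mul, inv_one, mul_one] at this
    exact this
  subst hxg'
  rw [Subgroup.mem_sup_of_normal_right] at hx
  obtain ⟨y, ⟨A₀, rfl⟩, z, hz, rfl⟩ := hx
  rw [Cfsg.Geo.mem_scalars_iff] at hz
  obtain ⟨c, hc⟩ := hz
  refine ⟨(c : F), c.ne_zero, ?_⟩
  intro i j
  rw [Units.val_mul, hc, map_GL_val, Matrix.mul_smul, Matrix.mul_one, Matrix.smul_apply,
    smul_eq_mul, mul_div_cancel_left₀ _ c.ne_zero]
  simp

end Cfsg.Agent.Helper38.SubF
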