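import Cfsg.Agent.Helper43.JordanMat

/-!
# Jordan chain bases for nilpotent matrices, with rescaling of a chain

From helper43's structure theorem `AEval' N ≃ ∏ F[X]/(X^a)` we extract, for a nilpotent matrix `N`,
invertible matrices `P` with `P⁻¹ N P` having all entries in `{0, 1}`, and for every part `a` of the
Jordan type and every unit `μ` another such `P` whose determinant is multiplied by `μ ^ a`.
-/

set_option autoImplicit false
set_option linter.unusedSectionVars false

namespace Cfsg.Agent.Helper38.Chain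

open Polynomial Module Matrix Cfsg.Agent.Helper43.SS

universe u

variable {F : Type u} [Field F] {n : ℕ}

/-- all entries are `0` or `1` -/
def Is01 (M : Matrix (Fin n) (Fin n) F) : Prop := ∀ i j, M i j = 0 ∨ M i j = 1

/-- a basis in which `N` maps basis vectors to basis vectors or zero -/
def Adapted {ι : Type*} (N : Matrix (Fin n) (Fin n) F) (b : Basis ι F (Fin n → F)) : Prop :=
  ∀ i, N *ᵥ b i = 0 ∨ ∃ i', N *ᵥ b i = b i'

section mat

variable {ι : Type*} [Fintype ι] [DecidableEq ι]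

/-- matrix with columns the basis vectors -/
noncomputable def colMat (b : Basis ι F (Fin n → F)) (e : ι ≃ Fin n) :
    Matrix (Fin n) (Fin n) F :=
  Matrix.of fun r k => b (e.symm k) r

theorem colMat_mulVec_single (b : Basis ι F (Fin n → F)) (e : ι ≃ Fin n) (k : Fin n) :
    colMat b e *ᵥ Pi.single k 1 = b (e.symm k) := by
  ext r
  rw [Matrix.mulVec_single_one]
  rfl

theorem colMat_eq_toMatrix (b : Basis ι F (Fin n → F)) (e : ι ≃ Fin n) :
    colMat b e = (Pi.basisFun F (Fin n)).toMatrix (b.reindex e) := by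
  ext r k
  rw [Basis.toMatrix_apply, Pi.basisFun_repr, Basis.reindex_apply]
  rfl

theorem isUnit_det_colMat (b : Basis ι F (Fin n → F)) (e : ι ≃ Fin n) :
    IsUnit (colMat b e).det := by
  rw [colMat_eq_toMatrix]
  have := Basis.invertibleToMatrix (Pi.basisFun F (Fin n)) (b.reindex e)
  exact Matrix.isUnit_det_of_invertible _

theorem colMat_unitsSMul (b : Basis ι F (Fin n → F)) (e : ι ≃ Fin n) (c : ι → Fˣ) :
    colMat (b.unitsSMul c) e
      = colMat b e * Matrix.diagonal (fun k => ((c (e.symm k) : Fˣ) : F)) := by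
  ext r k
  rw [Matrix.mul_diagonal]
  simp only [colMat, Matrix.of_apply, Basis.unitsSMul_apply, Pi.smul_apply, Units.smul_def,
    smul_eq_mul]
  ring

theorem det_colMat_unitsSMul (b : Basis ι F (Fin n → F)) (e : ι ≃ Fin n) (c : ι → Fˣ) :
    (colMat (b.unitsSMul c) e).det = (∏ i, ((c i : Fˣ) : F)) * (colMat b e).det := by
  rw [colMat_unitsSMul, Matrix.det_mul, Matrix.det_diagonal, mul_comm]
  congr 1
  exact Equiv.prod_comp e.symm (fun i => ((c i : Fˣ) : F))

theorem is01_of_adapted (N : Matrix (Fin n) (Fin n) F) (b : Basis ι F (Fin n → F))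
    (e : ι ≃ Fin n) (hb : Adapted N b) (Pi' : Matrix (Fin n) (Fin n) F)
    (hP : Pi' * colMat b e = 1) : Is01 (Pi' * N * colMat b e) := by
  intro r k
  have h1 : (Pi' * N * colMat b e) r k = (Pi' *ᵥ (N *ᵥ b (e.symm k))) r := by
    rw [← colMat_mulVec_single b e k, Matrix.mulVec_mulVec, Matrix.mulVec_mulVec,
      Matrix.mulVec_single_one]
    rfl
  rw [h1]
  rcases hb (e.symm k) with h0 | ⟨i', hi'⟩
  · left
    rw [h0, Matrix.mulVec_zero]
    rfl
  · rw [hi']
    have : b i' = colMat b e *ᵥ Pi.single (e i') 1 := by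
      rw [colMat_mulVec_single, Equiv.symm_apply_apply]
    rw [this, Matrix.mulVec_mulVec, hP, Matrix.one_mulVec]
    by_cases h : r = e i'
    · right
      rw [h, Pi.single_eq_same]
    · left
      rw [Pi.single_eq_of_ne h]

end mat


theorem ar_smul (r : F[X]) (c : F) (p : F[X]) :
    (c • AdjoinRoot.mk r p : AdjoinRoot r) = AdjoinRoot.mk r (c • p) := by
  rw [Algebra.smul_def, AdjoinRoot.algebraMap_eq, Polynomial.smul_eq_C_mul, map_mul]
  rfl

/-- identification of `AdjoinRoot` with the quotient module (different module instances) -/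
noncomputable def arEquiv (r : F[X]) : AdjoinRoot r ≃ₗ[F] Qr r where
  toFun x := x
  invFun x := x
  left_inv _ := rfl
  right_inv _ := rfl
  map_add' _ _ := rfl
  map_smul' c x := by
    obtain ⟨p, rfl⟩ := AdjoinRoot.mk_surjective x
    rw [ar_smul]
    rfl

/-- the power basis of `F[X]/(X^a)` -/
noncomputable def qrBasis (a : ℕ) : Basis (Fin a) F (Qr ((X : F[X]) ^ a)) :=
  (((AdjoinRoot.powerBasis' (monic_X_pow (R := F) a)).basis).reindex
    (finCongr (by rw [AdjoinRoot.powerBasis'_dim, natDegree_X_pow]))).map (arEquiv _)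

theorem qrBasis_apply (a : ℕ) (i : Fin a) :
    qrBasis (F := F) a i = Submodule.Quotient.mk ((X : F[X]) ^ (i : ℕ)) := by
  unfold qrBasis
  rw [Basis.map_apply, Basis.reindex_apply, PowerBasis.coe_basis, AdjoinRoot.powerBasis'_gen]
  simp only [finCongr_symm, finCongr_apply, Fin.val_cast]
  rw [← AdjoinRoot.mk_X, ← map_pow]
  rfl

theorem X_smul_qrBasis (a : ℕ) (i : Fin a) :
    (X : F[X]) • qrBasis (F := F) a i
      = if h : (i : ℕ) + 1 < a then qrBasis a ⟨(i : ℕ) + 1, h⟩ else 0 := by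
  rw [qrBasis_apply, ← Submodule.Quotient.mk_smul, smul_eq_mul, ← pow_succ']
  split_ifs with h
  · rw [qrBasis_apply]
  · have : (i : ℕ) + 1 = a := by have := i.2; omega
    rw [this, Submodule.Quotient.mk_eq_zero]
    exact Ideal.mem_span_singleton_self _

theorem exists_chain_basis (N : Matrix (Fin n) (Fin n) F) {l : List ℕ} (h : IsJType l N) :
    ∃ b : Basis (Σ j : Fin l.length, Fin (l.get j)) F (Fin n → F),
      ∀ (j : Fin l.length) (i : Fin (l.get j)), N *ᵥ b ⟨j, i⟩
        = if h : (i : ℕ) + 1 < l.get j then b ⟨j, ⟨(i : ℕ) + 1, h⟩⟩ else 0 := by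
  classical
  obtain ⟨_, _, ⟨E⟩⟩ := h
  let φ : (Fin n → F) ≃ₗ[F] PiQ F l := (AEval'.of (Matrix.toLin' N)).trans (E.restrictScalars F)
  have hφ : ∀ v, φ (N *ᵥ v) = (X : F[X]) • φ v := by
    intro v
    show E (AEval'.of _ (N *ᵥ v)) = X • E (AEval'.of _ v)
    rw [← map_smul, AEval'.X_smul_of, Matrix.toLin'_apply]
  let B := (Pi.basis (fun j : Fin l.length => qrBasis (F := F) (l.get j)))
  refine ⟨B.map φ.symm, ?_⟩
  intro j i
  apply φ.injective
  rw [Basis.map_apply, hφ, LinearEquiv.apply_symm_apply]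
  have hB : ∀ (j : Fin l.length) (i : Fin (l.get j)), B ⟨j, i⟩ = Pi.single j (qrBasis (l.get j) i) :=
    fun j i => Pi.basis_apply _ _
  rw [hB]
  have hs : (X : F[X]) • (Pi.single j (qrBasis (F := F) (l.get j) i) : PiQ F l)
      = Pi.single j ((X : F[X]) • qrBasis (F := F) (l.get j) i) := by
    funext k
    by_cases hk : k = j
    · subst hk
      rw [Pi.smul_apply, Pi.single_eq_same, Pi.single_eq_same]
    · rw [Pi.smul_apply, Pi.single_eq_of_ne hk, Pi.single_eq_of_ne hk, smul_zero]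
  rw [hs, X_smul_qrBasis]
  split_ifs with h
  · rw [Basis.map_apply, LinearEquiv.apply_symm_apply, hB]
  · rw [Pi.single_zero, map_zero]

theorem adapted_of_chain {l : List ℕ} (N : Matrix (Fin n) (Fin n) F)
    (b : Basis (Σ j : Fin l.length, Fin (l.get j)) F (Fin n → F))
    (hb : ∀ (j : Fin l.length) (i : Fin (l.get j)), N *ᵥ b ⟨j, i⟩
        = if h : (i : ℕ) + 1 < l.get j then b ⟨j, ⟨(i : ℕ) + 1, h⟩⟩ else 0) :
    Adapted N b := by
  rintro ⟨j, i⟩
  rw [hb]
  split_ifs with h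
  · exact Or.inr ⟨_, rfl⟩
  · exact Or.inl rfl

theorem adapted_unitsSMul_of_chain {l : List ℕ} (N : Matrix (Fin n) (Fin n) F)
    (b : Basis (Σ j : Fin l.length, Fin (l.get j)) F (Fin n → F))
    (hb : ∀ (j : Fin l.length) (i : Fin (l.get j)), N *ᵥ b ⟨j, i⟩
        = if h : (i : ℕ) + 1 < l.get j then b ⟨j, ⟨(i : ℕ) + 1, h⟩⟩ else 0)
    (c : Fin l.length → Fˣ) :
    Adapted N (b.unitsSMul fun x => c x.1) := by
  rintro ⟨j, i⟩
  rw [Basis.unitsSMul_apply, Matrix.mulVec_smul, hb]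
  split_ifs with h
  · refine Or.inr ⟨⟨j, ⟨(i : ℕ) + 1, h⟩⟩, ?_⟩
    rw [Basis.unitsSMul_apply]
  · exact Or.inl (smul_zero _)

theorem prod_chain_scalar {l : List ℕ} (j₀ : Fin l.length) (μ : Fˣ) :
    (∏ x : (Σ j : Fin l.length, Fin (l.get j)), (((if x.1 = j₀ then μ else 1 : Fˣ)) : F))
      = (μ : F) ^ l.get j₀ := by
  classical
  rw [Fintype.prod_sigma]
  have : ∀ j : Fin l.length, (∏ _i : Fin (l.get j), (((if j = j₀ then μ else 1 : Fˣ)) : F))
      = if j = j₀ then (μ : F) ^ l.get j₀ else 1 := by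
    intro j
    rw [Finset.prod_const, Finset.card_univ, Fintype.card_fin]
    split_ifs with h
    · rw [h]
    · rw [Units.val_one, one_pow]
  rw [Finset.prod_congr rfl (fun j _ => this j), Finset.prod_ite_eq' Finset.univ j₀]
  simp

/-- Jordan chain bases as invertible matrices, with rescaling of one chain. -/
theorem exists_adapted_GL (N : Matrix (Fin n) (Fin n) F) (t : ℕ) (hN : N ^ t = 0) :
    ∃ l : List ℕ, (∀ a ∈ l, 0 < a) ∧ (∀ a ∈ l, a ≤ t) ∧ l.sum = n ∧
      ∃ P₁ : GL (Fin n) F, Is01 ((P₁⁻¹ : GL (Fin n) F).val * N * P₁.val) ∧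
        ∀ a ∈ l, ∀ μ : Fˣ, ∃ P : GL (Fin n) F, Is01 ((P⁻¹ : GL (Fin n) F).val * N * P.val) ∧
          P.val.det = (μ : F) ^ a * P₁.val.det := by
  classical
  obtain ⟨l, hl⟩ := exists_isJType N t hN
  refine ⟨l, hl.2.1, (hl.pow_eq_zero_iff t).mp hN, hl.sum_eq, ?_⟩
  obtain ⟨b, hb⟩ := exists_chain_basis N hl
  have hcard : Fintype.card (Σ j : Fin l.length, Fin (l.get j)) = n := by
    rw [← Module.finrank_eq_card_basis b, Module.finrank_fin_fun]
  let e : (Σ j : Fin l.length, Fin (l.get j)) ≃ Fin n := Fintype.equivFinOfCardEq hcard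
  have mkGL : ∀ b' : Basis (Σ j : Fin l.length, Fin (l.get j)) F (Fin n → F), Adapted N b' →
      ∃ P : GL (Fin n) F, P.val = colMat b' e ∧ Is01 ((P⁻¹ : GL (Fin n) F).val * N * P.val) := by
    intro b' hb'
    have hu := isUnit_det_colMat b' e
    refine ⟨Matrix.GeneralLinearGroup.mk'' (colMat b' e) hu, rfl, ?_⟩
    rw [Matrix.coe_units_inv]
    exact is01_of_adapted N b' e hb' _ (Matrix.nonsing_inv_mul _ hu)
  obtain ⟨P₁, hP₁, h01⟩ := mkGL b (adapted_of_chain N b hb)
  refine ⟨P₁, h01, ?_⟩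
  intro a ha μ
  obtain ⟨j₀, rfl⟩ := List.mem_iff_get.mp ha
  obtain ⟨P, hP, hP01⟩ := mkGL (b.unitsSMul fun x => (if x.1 = j₀ then μ else 1 : Fˣ))
    (adapted_unitsSMul_of_chain N b hb (fun j => if j = j₀ then μ else 1))
  refine ⟨P, hP01, ?_⟩
  rw [hP, hP₁, det_colMat_unitsSMul, prod_chain_scalar]

end Cfsg.Agent.Helper38.Chain
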