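import Mathlib
import Cfsg.Agent.S0751
import Cfsg.Agent.S0755
import Cfsg.Agent.S2569
import Cfsg.Agent.Helper43.SSConj
import Cfsg.Agent.S2587
import Cfsg.Agent.Helper45.GUBasic

/-!
# The determinant on the unitary centraliser of a semisimple isometry

For a nondegenerate Hermitian space `(V, B)` over a finite field and a semisimple isometry `f`
(of order prime to the characteristic) there is, for every `z ≠ 0`, an isometry `y` commuting with
`f` with `det y = z * (σ z)⁻¹`.  The proof chooses a minimal `f`-invariant subspace `W` on which `B`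
does not vanish: it is nondegenerate and cyclic, so that the centraliser of `f` on `W` is commutative.
-/

set_option autoImplicit false
set_option linter.unusedSectionVars false

namespace Cfsg.Agent.Helper38

open Module Polynomial

section decomp
variable {K V : Type*} [Field K] [Finite K] [AddCommGroup V] [Module K V] [FiniteDimensional K V]
  {σ : K →+* K} (B : V →ₛₗ[σ] V →ₗ[K] K)

/-- the cyclic subspace generated by `v` -/
noncomputable def cyclicSub (f : Module.End K V) (v : V) : Submodule K V :=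
  LinearMap.range ((LinearMap.applyₗ v).comp (aeval f : K[X] →ₐ[K] Module.End K V).toLinearMap)

theorem mem_cyclicSub (f : Module.End K V) (v w : V) :
    w ∈ cyclicSub f v ↔ ∃ P : K[X], aeval f P v = w := by
  rw [cyclicSub, LinearMap.mem_range]
  rfl

theorem self_mem_cyclicSub (f : Module.End K V) (v : V) : v ∈ cyclicSub f v :=
  (mem_cyclicSub f v v).2 ⟨1, by rw [map_one]; rfl⟩

theorem cyclicSub_invt (f : Module.End K V) (v : V) : ∀ w ∈ cyclicSub f v, f w ∈ cyclicSub f v := by
  intro w hw
  obtain ⟨P, rfl⟩ := (mem_cyclicSub f v w).1 hw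
  refine (mem_cyclicSub f v _).2 ⟨X * P, ?_⟩
  rw [map_mul, aeval_X]
  rfl

theorem pow_apply_mem_invt (f : Module.End K V) (W : Submodule K V) (hW : ∀ w ∈ W, f w ∈ W) (w : V)
    (hw : w ∈ W) (j : ℕ) : (f ^ j) w ∈ W := by
  induction j with
  | zero => rw [pow_zero]; exact hw
  | succ j ih => rw [pow_succ', Module.End.mul_apply]; exact hW _ ih

theorem aeval_apply_mem (f : Module.End K V) (W : Submodule K V) (hW : ∀ w ∈ W, f w ∈ W) (w : V)
    (hw : w ∈ W) (P : K[X]) : aeval f P w ∈ W := by
  induction P using Polynomial.induction_on' with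
  | add p q hp hq =>
    rw [map_add, LinearMap.add_apply]
    exact W.add_mem hp hq
  | monomial k c =>
    rw [aeval_monomial, ← Algebra.smul_def, LinearMap.smul_apply]
    exact W.smul_mem _ (pow_apply_mem_invt f W hW w hw k)

theorem cyclicSub_le (f : Module.End K V) (v : V) (W : Submodule K V) (hW : ∀ w ∈ W, f w ∈ W)
    (hv : v ∈ W) : cyclicSub f v ≤ W := by
  intro w hw
  obtain ⟨P, rfl⟩ := (mem_cyclicSub f v w).1 hw
  exact aeval_apply_mem f W hW v hv P

/-- the orthogonal complement of an invariant subspace of an isometry of finite order is invariant -/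
theorem orth_invt (f : Module.End K V) (hf : ∀ u v, B (f u) (f v) = B u v) (k : ℕ) (hk : 0 < k)
    (hfk : f ^ k = 1) (W : Submodule K V) (hW : ∀ w ∈ W, f w ∈ W) :
    ∀ u ∈ W.orthogonalBilin B, f u ∈ W.orthogonalBilin B := by
  intro u hu
  rw [Submodule.mem_orthogonalBilin_iff] at hu ⊢
  intro w hw
  have hpow : ∀ j : ℕ, (f ^ j) w ∈ W := pow_apply_mem_invt f W hW w hw
  have h1 : f ((f ^ (k - 1)) w) = w := by
    rw [← Module.End.mul_apply, ← pow_succ', Nat.sub_add_cancel hk, hfk]
    rfl
  rw [← h1, hf]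
  exact hu _ (hpow _)

/-- **A nondegenerate cyclic invariant subspace.** -/
theorem exists_nondeg_cyclic (hσ : σ ≠ RingHom.id K) (hσ2 : ∀ a, σ (σ a) = a) (hS : B.IsSymm)
    (hB : B.Nondegenerate) [Nontrivial V] (f : Module.End K V)
    (hf : ∀ u v, B (f u) (f v) = B u v) (k : ℕ) (hk : 0 < k) (hfk : f ^ k = 1)
    (hss : f.IsSemisimple) :
    ∃ (W : Submodule K V) (v : V), v ∈ W ∧ B v v ≠ 0 ∧ (∀ w ∈ W, f w ∈ W) ∧ W = cyclicSub f v ∧
      IsCompl W (W.orthogonalBilin B) := by
  classical
  have hex : ∃ d : ℕ, ∃ W : Submodule K V, ((∀ w ∈ W, f w ∈ W) ∧ ¬ W ≤ W.orthogonalBilin B) ∧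
      finrank K W = d := by
    refine ⟨_, ⊤, ⟨fun w _ => Submodule.mem_top, ?_⟩, rfl⟩
    intro htop
    obtain ⟨v, hv⟩ := exists_ne (0 : V)
    apply hv
    apply hB.1
    intro y
    have hy : y ∈ (⊤ : Submodule K V).orthogonalBilin B := htop Submodule.mem_top
    rw [Submodule.mem_orthogonalBilin_iff] at hy
    exact hy v Submodule.mem_top
  obtain ⟨W, ⟨hWf, hWB⟩, hd⟩ := Nat.find_spec hex
  have hmin : ∀ W' : Submodule K V, (∀ w ∈ W', f w ∈ W') → ¬ W' ≤ W'.orthogonalBilin B →
      W' ≤ W → W' = W := by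
    intro W' h1 h2 h3
    apply Submodule.eq_of_le_of_finrank_le h3
    rw [hd]
    exact Nat.find_min' hex ⟨W', ⟨h1, h2⟩, rfl⟩
  obtain ⟨v, hvW, hvv⟩ := Cfsg.Agent.S0751.exists_nonisotropic B hσ hσ2 hS W hWB
  have hcyc : cyclicSub f v = W := by
    apply hmin _ (cyclicSub_invt f v) _ (cyclicSub_le f v W hWf hvW)
    intro hle
    have h1 := hle (self_mem_cyclicSub f v)
    rw [Submodule.mem_orthogonalBilin_iff] at h1
    exact hvv (h1 v (self_mem_cyclicSub f v))
  -- the radical is trivial
  have hWo := orth_invt B f hf k hk hfk W hWf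
  have hR : W ⊓ W.orthogonalBilin B = ⊥ := by
    set R := W ⊓ W.orthogonalBilin B with hRdef
    have hRinv : R ∈ f.invtSubmodule := by
      rw [Module.End.mem_invtSubmodule]
      intro r hr
      exact ⟨hWf _ hr.1, hWo _ hr.2⟩
    obtain ⟨Q, hQinv, hRQ⟩ := (Module.End.isSemisimple_iff.1 hss) R hRinv
    rw [Module.End.mem_invtSubmodule] at hQinv
    have hW'' : W ⊓ Q = W := by
      apply hmin _ _ _ inf_le_left
      · intro w hw
        exact ⟨hWf _ hw.1, hQinv hw.2⟩
      · intro hle
        apply hWB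
        intro w₁ hw₁
        rw [Submodule.mem_orthogonalBilin_iff]
        intro w₂ hw₂
        -- decompose
        have hdec : ∀ w ∈ W, ∃ r ∈ R, ∃ t ∈ W ⊓ Q, w = r + t := by
          intro w hw
          have : w ∈ R ⊔ Q := by rw [hRQ.sup_eq_top]; exact Submodule.mem_top
          obtain ⟨r, hr, t, ht, rfl⟩ := Submodule.mem_sup.1 this
          refine ⟨r, hr, t, ⟨?_, ht⟩, rfl⟩
          have := W.sub_mem hw hr.1
          rwa [add_sub_cancel_left] at this
        obtain ⟨r₁, hr₁, t₁, ht₁, rfl⟩ := hdec w₁ hw₁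
        obtain ⟨r₂, hr₂, t₂, ht₂, rfl⟩ := hdec w₂ hw₂
        have hr₁' := (Submodule.mem_orthogonalBilin_iff.1 hr₁.2)
        have hr₂' := (Submodule.mem_orthogonalBilin_iff.1 hr₂.2)
        have e1 : B r₂ r₁ = 0 := hr₁' r₂ hr₂.1
        have e2 : B r₂ t₁ = 0 := Cfsg.Agent.S0751.sym_zero B hS (hr₂' t₁ ht₁.1)
        have e3 : B t₂ r₁ = 0 := hr₁' t₂ ht₂.1
        have e4 : B t₂ t₁ = 0 := (Submodule.mem_orthogonalBilin_iff.1 (hle ht₁)) t₂ ht₂
        simp only [map_add, LinearMap.add_apply, e1, e2, e3, e4, add_zero]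
    have hWQ : W ≤ Q := by rw [← hW'']; exact inf_le_right
    have hRle : R ≤ R ⊓ Q := le_inf le_rfl (inf_le_left.trans hWQ)
    rw [hRQ.inf_eq_bot] at hRle
    exact le_bot_iff.1 hRle
  refine ⟨W, v, hvW, hvv, hWf, hcyc.symm, ?_⟩
  refine ⟨disjoint_iff.2 hR, codisjoint_iff.2 ?_⟩
  apply Submodule.eq_top_of_finrank_eq
  have h1 := Submodule.finrank_sup_add_finrank_inf_eq W (W.orthogonalBilin B)
  have h2 := Cfsg.Agent.S0751.finrank_orth B hS hB.1 W
  rw [hR, finrank_bot] at h1
  omega

end decomp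

section ortho
variable {K U : Type*} [Field K] [AddCommGroup U] [Module K U] {σ : K →+* K}
  (B : U →ₛₗ[σ] U →ₗ[K] K) {d : ℕ} (b : Basis (Fin d) K U)
  (hb : ∀ i j, B (b i) (b j) = if i = j then 1 else 0)

open Cfsg.Agent.S2587 Cfsg.Agent.Helper45.GU Matrix

include hb in
/-- expansion of the form in an orthonormal basis -/
theorem form_expand (u u' : U) : B u u' = herm σ (b.repr u') (b.repr u) := by
  conv_lhs => rw [← b.sum_repr u, ← b.sum_repr u']
  simp only [map_sum, LinearMap.sum_apply, LinearMap.map_smulₛₗ, LinearMap.smul_apply, map_smul,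
    smul_eq_mul, hb]
  rw [herm]
  apply Finset.sum_congr rfl
  intro l _
  rw [Finset.sum_eq_single l]
  · rw [if_pos rfl]; ring
  · intro l' _ hne
    rw [if_neg hne]; ring
  · intro h; exact absurd (Finset.mem_univ l) h

include hb in
/-- Gram entries of two endomorphisms in an orthonormal basis -/
theorem gram_entry (c c' : Module.End K U) (i j : Fin d) :
    B (c (b i)) (c' (b j)) =
      (st σ (LinearMap.toMatrixAlgEquiv b c) * LinearMap.toMatrixAlgEquiv b c') i j := by
  rw [form_expand B b hb, herm, Matrix.mul_apply]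
  apply Finset.sum_congr rfl
  intro l _
  rw [st_apply, LinearMap.toMatrixAlgEquiv_apply, LinearMap.toMatrixAlgEquiv_apply, mul_comm]

include hb in
theorem unitary_of_isometry (c : Module.End K U) (hc : ∀ u u', B (c u) (c u') = B u u') :
    st σ (LinearMap.toMatrixAlgEquiv b c) * LinearMap.toMatrixAlgEquiv b c = 1 := by
  ext i j
  rw [← gram_entry B b hb, hc, hb, Matrix.one_apply]

include hb in
theorem isometry_of_unitary (Y : Matrix (Fin d) (Fin d) K) (hY : st σ Y * Y = 1) (u u' : U) :
    B ((LinearMap.toMatrixAlgEquiv b).symm Y u) ((LinearMap.toMatrixAlgEquiv b).symm Y u') =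
      B u u' := by
  set y := (LinearMap.toMatrixAlgEquiv b).symm Y with hy
  have hTy : LinearMap.toMatrix b b y = Y := (LinearMap.toMatrixAlgEquiv b).apply_symm_apply Y
  have h1 : ∀ w : U, (b.repr (y w) : Fin d → K) = Y.mulVec (b.repr w) := by
    intro w
    rw [← hTy, LinearMap.toMatrix_mulVec_repr]
  have hY' : Yᵀ * Y.map σ = 1 := by
    have := congrArg Matrix.transpose hY
    rw [Matrix.transpose_mul, Matrix.transpose_one] at this
    rw [← this]
    rfl
  rw [form_expand B b hb, form_expand B b hb, h1, h1, herm_mulVec, hY', Matrix.one_mulVec]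
  rfl

end ortho

section cyclic
variable {K U : Type*} [Field K] [Fintype K] [AddCommGroup U] [Module K U] [FiniteDimensional K U]
  {σ : K →+* K} (B : U →ₛₗ[σ] U →ₗ[K] K)

open Cfsg.Agent.S2587 Matrix

/-- **The cyclic case.**  On a nondegenerate Hermitian space with a cyclic vector for the semisimple
isometry `f` there is an isometry commuting with `f` of determinant `z * (σ z)⁻¹`. -/
theorem exists_isometry_of_cyclic (p : ℕ) [Fact p.Prime] [CharP K p] (hσ : σ ≠ RingHom.id K)
    (hσ2 : ∀ a, σ (σ a) = a) (hS : B.IsSymm) (hB : B.Nondegenerate) [Nontrivial U]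
    (f : Module.End K U) (hf : ∀ u v, B (f u) (f v) = B u v) (k : ℕ) (hkp : k.Coprime p)
    (hfk : f ^ k = 1) (v : U) (hcyc : ∀ u : U, ∃ P : K[X], aeval f P v = u) (z : K) (hz : z ≠ 0) :
    ∃ y : Module.End K U, (∀ u u', B (y u) (y u') = B u u') ∧ y * f = f * y ∧
      LinearMap.det y = z * (σ z)⁻¹ := by
  classical
  obtain ⟨b, hb⟩ := Cfsg.Agent.S0755.result σ hσ hσ2 B hS hB
  have hdpos : 0 < finrank K U := finrank_pos
  set T := LinearMap.toMatrixAlgEquiv b with hT
  set M := T f with hM
  have hMu : st σ M * M = 1 := unitary_of_isometry B b hb f hf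
  have hMk : M ^ k = 1 := by rw [hM, ← map_pow, hfk, map_one]
  have hkpos : 0 < k := by
    rcases Nat.eq_zero_or_pos k with rfl | h
    · rw [Nat.coprime_zero_left] at hkp
      exact absurd hkp (Fact.out : p.Prime).one_lt.ne'
    · exact h
  have hMdet : M.det ≠ 0 := by
    intro h0
    have := congrArg Matrix.det hMk
    rw [det_pow, h0, zero_pow hkpos.ne', det_one] at this
    exact zero_ne_one this
  let x : GL (Fin (finrank K U)) K := Matrix.GeneralLinearGroup.mkOfDetNeZero M hMdet
  have hxval : (x : Matrix (Fin (finrank K U)) (Fin (finrank K U)) K) = M := rfl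
  have hxk : x ^ k = 1 := by
    apply Units.ext
    rw [Units.val_pow_eq_pow_val]
    exact hMk
  have hxord : (orderOf x).Coprime p :=
    Nat.Coprime.coprime_dvd_left (orderOf_dvd_of_pow_eq_one hxk) hkp
  -- an element of determinant `z⁻¹`
  let i₀ : Fin (finrank K U) := ⟨0, hdpos⟩
  have hgdet : (Matrix.diagonal (Function.update (fun _ : Fin (finrank K U) => (1 : K)) i₀ z⁻¹)).det
      = z⁻¹ := by
    rw [det_diagonal, Finset.prod_update_of_mem (Finset.mem_univ _)]
    simp
  let g : GL (Fin (finrank K U)) K := Matrix.GeneralLinearGroup.mkOfDetNeZero _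
    (by rw [hgdet]; exact inv_ne_zero hz)
  have hgval : (g : Matrix (Fin (finrank K U)) (Fin (finrank K U)) K).det = z⁻¹ := hgdet
  obtain ⟨h, hhdet, hh⟩ := Cfsg.Agent.S2569.result (p := p) x g hxord
  set c₀ : GL (Fin (finrank K U)) K := g⁻¹ * h with hc₀
  have hc₀x : c₀ * x = x * c₀ := by
    have h1 : h * x = g * x * g⁻¹ * h := by rw [← hh]; group
    rw [hc₀, mul_assoc, h1]; group
  set C : Matrix (Fin (finrank K U)) (Fin (finrank K U)) K := c₀.val with hC
  have hCdet : C.det = z := by
    have h1 : g * c₀ = h := by rw [hc₀]; group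
    have h2 := congrArg (fun w : GL (Fin (finrank K U)) K => w.val.det) h1
    simp only [Units.val_mul, det_mul] at h2
    rw [hhdet, hgval] at h2
    rw [hC]
    field_simp at h2
    exact h2
  have hCM : C * M = M * C := by
    have := congrArg (fun w : GL (Fin (finrank K U)) K => w.val) hc₀x
    simpa only [Units.val_mul, hxval] using this
  -- `C` is a polynomial in `M`
  set c := T.symm C with hc
  have hcf : c * f = f * c := by
    apply T.injective
    rw [map_mul, map_mul, hc, T.apply_symm_apply]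
    exact hCM
  obtain ⟨P, hP⟩ := hcyc (c v)
  have hcomm : ∀ Q : K[X], c * aeval f Q = aeval f Q * c := by
    intro Q
    induction Q using Polynomial.induction_on' with
    | add a b ha hb => rw [map_add, mul_add, add_mul, ha, hb]
    | monomial j a =>
      rw [aeval_monomial, ← Algebra.smul_def, mul_smul_comm, smul_mul_assoc]
      congr 1
      induction j with
      | zero => simp
      | succ j ih => rw [pow_succ, ← mul_assoc, ih, mul_assoc, hcf, ← mul_assoc]
  have hcP : c = aeval f P := by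
    apply LinearMap.ext
    intro u
    obtain ⟨Q, rfl⟩ := hcyc u
    calc c (aeval f Q v) = (c * aeval f Q) v := rfl
      _ = (aeval f Q * c) v := by rw [hcomm]
      _ = aeval f Q (c v) := rfl
      _ = aeval f Q (aeval f P v) := by rw [hP]
      _ = (aeval f Q * aeval f P) v := rfl
      _ = (aeval f P * aeval f Q) v := by rw [← map_mul, ← map_mul, mul_comm]
      _ = aeval f P (aeval f Q v) := rfl
  have hCP : C = aeval M P := by
    have h1 := congrArg T hcP
    rw [hc, T.apply_symm_apply] at h1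
    rw [h1, hM]
    exact (aeval_algHom_apply T f P).symm
  -- the conjugate transpose of `C`
  have hMinv : M * M ^ (k - 1) = 1 := by rw [← pow_succ', Nat.sub_add_cancel hkpos, hMk]
  have hstM : st σ M = M ^ (k - 1) := by
    calc st σ M = st σ M * (M * M ^ (k - 1)) := by rw [hMinv, mul_one]
      _ = (st σ M * M) * M ^ (k - 1) := by rw [mul_assoc]
      _ = M ^ (k - 1) := by rw [hMu, one_mul]
  set Cs := st σ C with hCs
  have hCsP : Cs = aeval (M ^ (k - 1)) (P.map σ) := by rw [hCs, hCP, st_aeval, hstM]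
  have hCsM : Cs * M = M * Cs := by
    rw [hCsP]
    exact commute_aeval (h := M ^ (k - 1)) (A := M) (by rw [← pow_succ, ← pow_succ']) (P.map σ)
  have hCCs : C * Cs = Cs * C := by
    rw [hCP]
    exact commute_aeval (h := M) (A := Cs) hCsM.symm P
  have hCsdet : Cs.det = σ z := by rw [hCs, det_st, hCdet]
  have hσz : σ z ≠ 0 := (map_ne_zero σ).2 hz
  have hCsinv1 : Cs * Cs⁻¹ = 1 := Matrix.mul_nonsing_inv _ (by rw [hCsdet]; exact hσz.isUnit)
  have hCsinv2 : Cs⁻¹ * Cs = 1 := Matrix.nonsing_inv_mul _ (by rw [hCsdet]; exact hσz.isUnit)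
  have hCinv2 : C⁻¹ * C = 1 := Matrix.nonsing_inv_mul _ (by rw [hCdet]; exact hz.isUnit)
  have hstCs : st σ Cs = C := by rw [hCs, st_st σ hσ2]
  have hstCsinv : st σ (Cs⁻¹) = C⁻¹ := by
    have h1 := congrArg (st σ) hCsinv1
    rw [st_mul, st_one, hstCs] at h1
    exact (Matrix.inv_eq_left_inv h1).symm
  set Y := C * Cs⁻¹ with hY
  have hYu : st σ Y * Y = 1 := by
    rw [hY, st_mul, hstCsinv, ← hCs]
    calc C⁻¹ * Cs * (C * Cs⁻¹) = C⁻¹ * (Cs * C) * Cs⁻¹ := by simp only [mul_assoc]
      _ = C⁻¹ * (C * Cs) * Cs⁻¹ := by rw [hCCs]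
      _ = (C⁻¹ * C) * (Cs * Cs⁻¹) := by simp only [mul_assoc]
      _ = 1 := by rw [hCinv2, hCsinv1, one_mul]
  have hYM : Y * M = M * Y := by
    have h1 : Cs⁻¹ * M = M * Cs⁻¹ := by
      calc Cs⁻¹ * M = Cs⁻¹ * M * (Cs * Cs⁻¹) := by rw [hCsinv1, mul_one]
        _ = Cs⁻¹ * (M * Cs) * Cs⁻¹ := by simp only [mul_assoc]
        _ = Cs⁻¹ * (Cs * M) * Cs⁻¹ := by rw [hCsM]
        _ = (Cs⁻¹ * Cs) * M * Cs⁻¹ := by simp only [mul_assoc]
        _ = M * Cs⁻¹ := by rw [hCsinv2, one_mul]
    rw [hY, mul_assoc, h1, ← mul_assoc, hCM, mul_assoc]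
  have hYdet : Y.det = z * (σ z)⁻¹ := by
    rw [hY, det_mul, hCdet, Matrix.det_nonsing_inv, hCsdet, Ring.inverse_eq_inv']
  refine ⟨T.symm Y, isometry_of_unitary B b hb Y hYu, ?_, ?_⟩
  · apply T.injective
    rw [map_mul T, map_mul T, T.apply_symm_apply]
    exact hYM
  · rw [← LinearMap.det_toMatrix b]
    show (T (T.symm Y)).det = _
    rw [T.apply_symm_apply, hYdet]

end cyclic

section extend
variable {K V : Type*} [Field K] [AddCommGroup V] [Module K V] [FiniteDimensional K V]

/-- extend an endomorphism of `W` by the identity on a complement `W'` -/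
noncomputable def extendId (W W' : Submodule K V) (h : IsCompl W W') (y : Module.End K W) :
    Module.End K V :=
  ((Submodule.prodEquivOfIsCompl W W' h : (W × W') ≃ₗ[K] V) : (W × W') →ₗ[K] V) ∘ₗ
    (LinearMap.prodMap y LinearMap.id) ∘ₗ
    (((Submodule.prodEquivOfIsCompl W W' h).symm : V ≃ₗ[K] (W × W')) : V →ₗ[K] (W × W'))

theorem extendId_apply (W W' : Submodule K V) (h : IsCompl W W') (y : Module.End K W) (w : W)
    (t : W') : extendId W W' h y ((w : V) + (t : V)) = (y w : V) + (t : V) := by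
  have h1 : (Submodule.prodEquivOfIsCompl W W' h).symm ((w : V) + (t : V)) = (w, t) := by
    rw [LinearEquiv.symm_apply_eq, Submodule.coe_prodEquivOfIsCompl']
  show (Submodule.prodEquivOfIsCompl W W' h) ((LinearMap.prodMap y LinearMap.id)
    ((Submodule.prodEquivOfIsCompl W W' h).symm ((w : V) + (t : V)))) = _
  rw [h1, LinearMap.prodMap_apply, Submodule.coe_prodEquivOfIsCompl']
  rfl

theorem det_extendId (W W' : Submodule K V) (h : IsCompl W W') (y : Module.End K W) :
    LinearMap.det (extendId W W' h y) = LinearMap.det y := by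
  rw [extendId, LinearMap.det_conj, LinearMap.det_prodMap, LinearMap.det_id, mul_one]

theorem exists_decomp (W W' : Submodule K V) (h : IsCompl W W') (u : V) :
    ∃ (w : W) (t : W'), u = (w : V) + (t : V) := by
  refine ⟨((Submodule.prodEquivOfIsCompl W W' h).symm u).1,
    ((Submodule.prodEquivOfIsCompl W W' h).symm u).2, ?_⟩
  rw [← Submodule.coe_prodEquivOfIsCompl' W W' h, LinearEquiv.apply_symm_apply]

theorem aeval_restrict_apply (f : Module.End K V) (W : Submodule K V) (hW : ∀ w ∈ W, f w ∈ W)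
    (P : K[X]) (w : W) : ((aeval (f.restrict hW) P w : W) : V) = aeval f P (w : V) := by
  induction P using Polynomial.induction_on' with
  | add a b ha hb =>
    rw [map_add, map_add, LinearMap.add_apply, LinearMap.add_apply, Submodule.coe_add, ha, hb]
  | monomial j a =>
    rw [aeval_monomial, aeval_monomial, ← Algebra.smul_def, ← Algebra.smul_def,
      LinearMap.smul_apply, LinearMap.smul_apply, Submodule.coe_smul]
    congr 1
    rw [Module.End.pow_restrict j hW]
    rfl

end extend

section main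
variable {K V : Type*} [Field K] [Fintype K] [AddCommGroup V] [Module K V] [FiniteDimensional K V]
  {σ : K →+* K} (B : V →ₛₗ[σ] V →ₗ[K] K)

/-- **The determinant on the unitary centraliser.**  For a nondegenerate Hermitian space over a
finite field and an isometry `f` of order prime to the characteristic there is, for every `z ≠ 0`,
an isometry commuting with `f` of determinant `z * (σ z)⁻¹`. -/
theorem exists_isometry_commute_det (p : ℕ) [Fact p.Prime] [CharP K p] (hσ : σ ≠ RingHom.id K)
    (hσ2 : ∀ a, σ (σ a) = a) (hS : B.IsSymm) (hB : B.Nondegenerate) [Nontrivial V]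
    (f : Module.End K V) (hf : ∀ u v, B (f u) (f v) = B u v) (k : ℕ) (hkp : k.Coprime p)
    (hfk : f ^ k = 1) (z : K) (hz : z ≠ 0) :
    ∃ y : Module.End K V, (∀ u u', B (y u) (y u') = B u u') ∧ y * f = f * y ∧
      LinearMap.det y = z * (σ z)⁻¹ := by
  classical
  have hp : p.Prime := Fact.out
  have hkpos : 0 < k := by
    rcases Nat.eq_zero_or_pos k with rfl | h
    · rw [Nat.coprime_zero_left] at hkp
      exact absurd hkp hp.one_lt.ne'
    · exact h
  have hk0 : (k : K) ≠ 0 := by
    intro h0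
    rw [CharP.cast_eq_zero_iff K p k] at h0
    have : p ∣ Nat.gcd k p := Nat.dvd_gcd h0 dvd_rfl
    rw [hkp] at this
    exact hp.one_lt.ne' (Nat.dvd_one.mp this)
  have hss : f.IsSemisimple := Cfsg.Agent.Helper43.SS.isSemisimple_of_pow_eq_one f k hk0 hfk
  obtain ⟨W, v, hvW, hvv, hWf, hWcyc, hcompl⟩ :=
    exists_nondeg_cyclic B hσ hσ2 hS hB f hf k hkpos hfk hss
  have hWo := orth_invt B f hf k hkpos hfk W hWf
  -- orthogonality relations
  have horth1 : ∀ w ∈ W, ∀ t ∈ W.orthogonalBilin B, B w t = 0 := by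
    intro w hw t ht
    exact (Submodule.mem_orthogonalBilin_iff.1 ht) w hw
  have horth2 : ∀ w ∈ W, ∀ t ∈ W.orthogonalBilin B, B t w = 0 := by
    intro w hw t ht
    exact Cfsg.Agent.S0751.sym_zero B hS (horth1 w hw t ht)
  -- the restricted data
  set BW := B.domRestrict₁₂ W W with hBW
  have hBWapp : ∀ a b : W, BW a b = B (a : V) (b : V) := fun a b => rfl
  have hSW : BW.IsSymm := hS.domRestrict W
  have hBWnd : BW.Nondegenerate := by
    constructor
    · intro a ha
      have h1 : (a : V) ∈ W ⊓ W.orthogonalBilin B := by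
        refine Submodule.mem_inf.2 ⟨a.2, ?_⟩
        rw [Submodule.mem_orthogonalBilin_iff]
        intro n hn
        have := ha ⟨n, hn⟩
        rw [hBWapp] at this
        exact Cfsg.Agent.S0751.sym_zero B hS this
      rw [hcompl.inf_eq_bot, Submodule.mem_bot] at h1
      exact Subtype.ext h1
    · intro a ha
      have h1 : (a : V) ∈ W ⊓ W.orthogonalBilin B := by
        refine Submodule.mem_inf.2 ⟨a.2, ?_⟩
        rw [Submodule.mem_orthogonalBilin_iff]
        intro n hn
        exact ha ⟨n, hn⟩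
      rw [hcompl.inf_eq_bot, Submodule.mem_bot] at h1
      exact Subtype.ext h1
  have : Nontrivial W := by
    refine ⟨⟨⟨v, hvW⟩, 0, ?_⟩⟩
    intro h0
    apply hvv
    have : v = 0 := congrArg Subtype.val h0
    rw [this, map_zero]
  set fW : Module.End K W := f.restrict hWf with hfW
  have hfWapp : ∀ a : W, ((fW a : W) : V) = f (a : V) := fun a => rfl
  have hfWiso : ∀ a b : W, BW (fW a) (fW b) = BW a b := by
    intro a b
    rw [hBWapp, hBWapp, hfWapp, hfWapp, hf]
  have hfWk : fW ^ k = 1 := by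
    rw [hfW, Module.End.pow_restrict k hWf]
    apply LinearMap.ext
    intro a
    apply Subtype.ext
    rw [LinearMap.coe_restrict_apply, hfk]
    rfl
  have hcycW : ∀ u : W, ∃ P : K[X], aeval fW P ⟨v, hvW⟩ = u := by
    intro u
    have hu : (u : V) ∈ cyclicSub f v := by rw [← hWcyc]; exact u.2
    obtain ⟨P, hP⟩ := (mem_cyclicSub f v _).1 hu
    refine ⟨P, ?_⟩
    apply Subtype.ext
    rw [hfW, aeval_restrict_apply f W hWf P ⟨v, hvW⟩]
    exact hP
  obtain ⟨yW, hyWiso, hyWf, hyWdet⟩ :=
    exists_isometry_of_cyclic BW p hσ hσ2 hSW hBWnd fW hfWiso k hkp hfWk ⟨v, hvW⟩ hcycW z hz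
  refine ⟨extendId W (W.orthogonalBilin B) hcompl yW, ?_, ?_, ?_⟩
  · intro u u'
    obtain ⟨w, t, rfl⟩ := exists_decomp W (W.orthogonalBilin B) hcompl u
    obtain ⟨w', t', rfl⟩ := exists_decomp W (W.orthogonalBilin B) hcompl u'
    rw [extendId_apply, extendId_apply]
    have e1 : B (yW w : V) (yW w' : V) = B (w : V) (w' : V) := hyWiso w w'
    have e2 : B (yW w : V) (t' : V) = 0 := horth1 _ (yW w).2 _ t'.2
    have e3 : B (t : V) (yW w' : V) = 0 := horth2 _ (yW w').2 _ t.2
    have e4 : B (w : V) (t' : V) = 0 := horth1 _ w.2 _ t'.2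
    have e5 : B (t : V) (w' : V) = 0 := horth2 _ w'.2 _ t.2
    simp only [map_add, LinearMap.add_apply, e1, e2, e3, e4, e5]
  · apply LinearMap.ext
    intro u
    obtain ⟨w, t, rfl⟩ := exists_decomp W (W.orthogonalBilin B) hcompl u
    rw [Module.End.mul_apply, Module.End.mul_apply]
    have hyf : yW (fW w) = fW (yW w) := congrArg (fun φ : Module.End K W => φ w) hyWf
    calc extendId W (W.orthogonalBilin B) hcompl yW (f ((w : V) + (t : V)))
        = extendId W (W.orthogonalBilin B) hcompl yW (((fW w : W) : V) +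
            ((⟨f (t : V), hWo _ t.2⟩ : W.orthogonalBilin B) : V)) := by rw [map_add]; rfl
      _ = (yW (fW w) : V) + f (t : V) := by rw [extendId_apply]
      _ = (fW (yW w) : V) + f (t : V) := by rw [hyf]
      _ = f ((yW w : V) + (t : V)) := by rw [map_add]; rfl
      _ = f (extendId W (W.orthogonalBilin B) hcompl yW ((w : V) + (t : V))) := by
          rw [extendId_apply]
  · rw [det_extendId, hyWdet]

end main

end Cfsg.Agent.Helper38
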