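import Mathlib
import Cfsg.Agent.Helper38.HermCent
import Cfsg.Agent.Helper45.GUCard

/-!
# Unitary matrices commuting with a semisimple unitary matrix, of prescribed determinant
-/

set_option autoImplicit false

namespace Cfsg.Agent.Helper38

open Matrix Cfsg.Agent.Helper45.GU

/-- Hilbert 90 for an involution of a field -/
theorem hilbert90_involution {K : Type*} [Field K] (σ : K →+* K) (hσ : σ ≠ RingHom.id K)
    (hσ2 : ∀ a, σ (σ a) = a) (δ : K) (hδ : δ * σ δ = 1) : ∃ z : K, z ≠ 0 ∧ z * (σ z)⁻¹ = δ := by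
  by_cases h1 : 1 + δ = 0
  · have hδ' : δ = -1 := by linear_combination h1
    by_cases h2 : (2 : K) = 0
    · refine ⟨1, one_ne_zero, ?_⟩
      rw [map_one, inv_one, mul_one, hδ']
      linear_combination h2
    · obtain ⟨ω, hω⟩ : ∃ ω, σ ω ≠ ω := by
        by_contra hcon
        push Not at hcon
        exact hσ (RingHom.ext hcon)
      have hne : ω - σ ω ≠ 0 := sub_ne_zero.2 (Ne.symm hω)
      refine ⟨ω - σ ω, hne, ?_⟩
      have h3 : σ (ω - σ ω) = -(ω - σ ω) := by rw [map_sub, hσ2]; ring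
      rw [h3, hδ', inv_neg, mul_neg, mul_inv_cancel₀ hne]
  · refine ⟨1 + δ, h1, ?_⟩
    have hδ0 : δ ≠ 0 := by
      rintro rfl
      simp at hδ
    have hσδ : σ δ = δ⁻¹ := eq_inv_of_mul_eq_one_right hδ
    have h2 : σ (1 + δ) = (1 + δ) * δ⁻¹ := by
      rw [map_add, map_one, hσδ, add_mul, one_mul, mul_inv_cancel₀ hδ0, add_comm]
    rw [h2, mul_inv, inv_inv, ← mul_assoc, mul_inv_cancel₀ h1, one_mul]

/-- **Matrix version.**  A unitary matrix of order prime to the characteristic commutes with a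
unitary matrix of any prescribed determinant of norm one. -/
theorem exists_unitary_commute_det {F : Type*} [Field F] [Fintype F] (p : ℕ) [Fact p.Prime]
    [CharP F p] {n : ℕ} (hn : 0 < n) (bar : F →+* F) (hne : bar ≠ RingHom.id F)
    (hinv : ∀ a, bar (bar a) = a) (A : Matrix (Fin n) (Fin n) F)
    (hA : ∀ u v, herm bar (A *ᵥ u) (A *ᵥ v) = herm bar u v) (k : ℕ) (hkp : k.Coprime p)
    (hAk : A ^ k = 1) (δ : F) (hδ : δ * bar δ = 1) :
    ∃ Y : Matrix (Fin n) (Fin n) F, (∀ u v, herm bar (Y *ᵥ u) (Y *ᵥ v) = herm bar u v) ∧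
      Y * A = A * Y ∧ Y.det = δ := by
  classical
  obtain ⟨z, hz, hzδ⟩ := hilbert90_involution bar hne hinv δ hδ
  have : Nonempty (Fin n) := ⟨⟨0, hn⟩⟩
  have : Nontrivial (Fin n → F) := Function.nontrivial
  set T : Matrix (Fin n) (Fin n) F ≃ₐ[F] Module.End F (Fin n → F) := Matrix.toLinAlgEquiv' with hT
  have hTapp : ∀ (M : Matrix (Fin n) (Fin n) F) (u : Fin n → F), T M u = M *ᵥ u := fun M u => rfl
  set f : Module.End F (Fin n → F) := T A with hf
  have hfiso : ∀ u v, Bform n bar (f u) (f v) = Bform n bar u v := by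
    intro u v
    rw [Bform_apply, Bform_apply, hf, hTapp, hTapp, hA]
  have hfk : f ^ k = 1 := by rw [hf, ← map_pow, hAk, map_one]
  obtain ⟨y, hyiso, hyf, hydet⟩ := exists_isometry_commute_det (Bform n bar) p hne hinv
    (Bform_isSymm n bar hinv) (Bform_nondegenerate n bar) f hfiso k hkp hfk z hz
  refine ⟨T.symm y, ?_, ?_, ?_⟩
  · intro u v
    have h1 := hyiso v u
    rw [Bform_apply, Bform_apply] at h1
    rw [← hTapp, ← hTapp, T.apply_symm_apply]
    exact h1
  · apply T.injective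
    rw [map_mul, map_mul, T.apply_symm_apply]
    exact hyf
  · rw [← hzδ, ← hydet, ← LinearMap.det_toLin' (T.symm y)]
    congr 1
    exact T.apply_symm_apply y

end Cfsg.Agent.Helper38
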