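import Mathlib
import Cfsg.Agent.Helper43.GUPrimeC

/-!
# Unitary matrices with a prescribed (self-conjugate-reciprocal) characteristic polynomial
-/

set_option autoImplicit false

namespace Cfsg.Agent.Helper38.PGU

open Polynomial Matrix
open Cfsg.Agent.Helper43.SpPrime Cfsg.Agent.Helper43.SS Cfsg.Agent.Helper43.GUPrime

universe u

variable {K : Type u} [Field K]

theorem star_X_pow_sub_C {r : ℕ} (hr : 0 < r) (c : K) (hc : c ≠ 0) :
    Cfsg.Agent.Helper43.SpPrime.star (X ^ r - C c : K[X]) = X ^ r - C c⁻¹ := by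
  have h1 : (X ^ r - C c : K[X]) = X ^ r + C (-c) := by
    rw [C_neg]; ring
  have hc0 : (X ^ r - C c : K[X]).coeff 0 = -c := by
    rw [coeff_sub, coeff_X_pow, coeff_C_zero, if_neg hr.ne]
    ring
  unfold Cfsg.Agent.Helper43.SpPrime.star
  rw [hc0, h1, reverse_add_C, natDegree_X_pow]
  have h2 : (X ^ r : K[X]).reverse = 1 := by
    have := reverse_X_pow_mul (1 : K[X]) r
    rw [mul_one] at this
    rw [this, ← C_1, reverse_C]
  rw [h2, mul_add, mul_one, ← mul_assoc, ← C_mul, inv_mul_cancel₀ (neg_ne_zero.2 hc), C_1, one_mul,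
    inv_neg, C_neg]
  ring

theorem utilde_X_pow_sub_C (bar : K →+* K) {r : ℕ} (hr : 0 < r) (d : K) (hd : d * bar d = 1) :
    utilde bar (X ^ r - C d : K[X]) = X ^ r - C d := by
  have hbd : bar d ≠ 0 := by
    intro h0
    rw [h0, mul_zero] at hd
    exact zero_ne_one hd
  unfold utilde
  rw [Polynomial.map_sub, Polynomial.map_pow, Polynomial.map_X, Polynomial.map_C,
    star_X_pow_sub_C hr _ hbd]
  congr 2
  exact (eq_inv_of_mul_eq_one_left hd).symm

theorem utilde_X_sub_C (bar : K →+* K) (d : K) (hd : d * bar d = 1) :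
    utilde bar (X - C d : K[X]) = X - C d := by
  have := utilde_X_pow_sub_C bar one_pos d hd
  rwa [pow_one] at this

/-- **Existence.**  A monic polynomial with nonzero constant term fixed by the twisted reciprocal
is the characteristic polynomial of an element of `GU_n(q)` of order prime to `p`. -/
theorem exists_GU_charpoly [Fintype K] (p : ℕ) [Fact p.Prime] [CharP K p] {q : ℕ}
    (hK : Fintype.card K = q ^ 2) (bar : K →+* K) (hbar : ∀ x, bar x = x ^ q) (n : ℕ) (f : K[X])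
    (hfm : f.Monic) (hfd : f.natDegree = n) (hf0 : f.coeff 0 ≠ 0) (hfu : utilde bar f = f) :
    ∃ B : ↥(Cfsg.GU n K q), ((B : GL (Fin n) K) : Matrix (Fin n) (Fin n) K).charpoly = f ∧
      ∃ k : ℕ, 0 < k ∧ k.Coprime p ∧ B ^ k = 1 := by
  have hp : p.Prime := Fact.out
  have hbarfun : (⇑bar : K → K) = fun x : K => x ^ q := funext hbar
  obtain ⟨A, hA, k, hk0, hkp, hAk⟩ := exists_matrix_charpoly p n f hfm hfd hf0
  have hkF : (k : K) ≠ 0 := by
    intro h0
    rw [CharP.cast_eq_zero_iff K p k] at h0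
    have : p ∣ Nat.gcd k p := Nat.dvd_gcd h0 dvd_rfl
    rw [hkp] at this
    exact hp.one_lt.ne' (Nat.dvd_one.mp this)
  have h1 : A * A ^ (k - 1) = 1 := by
    rw [← pow_succ', Nat.sub_add_cancel hk0, hAk]
  have h2 : A ^ (k - 1) * A = 1 := by
    rw [← pow_succ, Nat.sub_add_cancel hk0, hAk]
  let g : GL (Fin n) K := ⟨A, A ^ (k - 1), h1, h2⟩
  have hgk : g ^ k = 1 := by
    apply Units.ext
    rw [Units.val_pow_eq_pow_val]
    exact hAk
  have hst1 : (A.map bar)ᵀ * ((A ^ (k - 1)).map bar)ᵀ = 1 := by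
    have h3 : Cfsg.Agent.S2587.st bar (A ^ (k - 1) * A) = 1 := by
      rw [h2, Cfsg.Agent.S2587.st_one]
    rw [Cfsg.Agent.S2587.st_mul] at h3
    exact h3
  have hst2 : ((A ^ (k - 1)).map bar)ᵀ * (A.map bar)ᵀ = 1 := mul_eq_one_comm.mp hst1
  let g' : GL (Fin n) K := ⟨((A ^ (k - 1)).map bar)ᵀ, (A.map bar)ᵀ, hst2, hst1⟩
  have hg'k : g' ^ k = 1 := by
    apply Units.ext
    rw [Units.val_pow_eq_pow_val]
    show (Cfsg.Agent.S2587.st bar (A ^ (k - 1))) ^ k = 1
    rw [← Cfsg.Agent.S2587.st_pow, ← pow_mul, mul_comm, pow_mul, hAk, one_pow,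
      Cfsg.Agent.S2587.st_one]
  have hg'ch : (g' : Matrix (Fin n) (Fin n) K).charpoly = f := by
    have := charpoly_st_inv bar g ((A ^ (k - 1)).map bar)ᵀ hst1
    rw [this]
    show utilde bar A.charpoly = f
    rw [hA, hfu]
  have hconj : IsConj g g' :=
    isConj_GL_of_charpoly_eq g g' k k hkF hkF hgk hg'k (hA.trans hg'ch.symm)
  have hinv : ((A.map (fun x : K => x ^ q))ᵀ)⁻¹ = ((A ^ (k - 1)).map bar)ᵀ := by
    rw [← hbarfun]
    exact Matrix.inv_eq_right_inv hst1
  have hconjM : IsConj (g : Matrix (Fin n) (Fin n) K)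
      ((((g : Matrix (Fin n) (Fin n) K).map (fun x : K => x ^ q)).transpose)⁻¹) := by
    show IsConj A ((A.map (fun x : K => x ^ q))ᵀ)⁻¹
    rw [hinv]
    obtain ⟨c, hc⟩ := isConj_iff.mp hconj
    refine ⟨c, ?_⟩
    show (c : Matrix (Fin n) (Fin n) K) * A = ((A ^ (k - 1)).map bar)ᵀ * (c : Matrix (Fin n) (Fin n) K)
    have h3 : c * g = g' * c := by rw [← hc]; group
    exact congrArg Units.val h3
  obtain ⟨B, hB⟩ := (Cfsg.Agent.S2588.result hK g).mpr hconjM
  obtain ⟨c, hc⟩ := isConj_iff.mp hB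
  have hBch : ((B : GL (Fin n) K) : Matrix (Fin n) (Fin n) K).charpoly = f := by
    rw [← hc, Units.val_mul, Units.val_mul, Matrix.coe_units_inv]
    rw [Matrix.charpoly_units_conj c]
    exact hA
  have hBk : B ^ k = 1 := by
    apply Subtype.ext
    rw [Subgroup.coe_pow, ← hc, conj_pow, hgk, mul_one, mul_inv_cancel, Subgroup.coe_one]
  exact ⟨B, hBch, k, hk0, hkp, hBk⟩

end Cfsg.Agent.Helper38.PGU
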