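import Mathlib

/-!
# (PC) for S3439 (helper14, WANTED #8158)

The characteristic polynomial of a `4 × 4` symplectic matrix is self-reciprocal.
-/

set_option autoImplicit false

namespace Cfsg.Agent.Helper38.Spec4

open Polynomial Matrix

/-- For a symplectic matrix (any size), the characteristic polynomial equals its reverse
(`charpolyRev`). -/
theorem charpoly_eq_charpolyRev_of_symplectic {l : Type*} [Fintype l] [DecidableEq l]
    {F : Type*} [Field F]
    (M : Matrix (l ⊕ l) (l ⊕ l) F) (hM : M ∈ Matrix.symplecticGroup l F) :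
    M.charpoly = M.charpolyRev := by
  classical
  set N : Matrix (l ⊕ l) (l ⊕ l) F[X] := M.map C with hN
  have hNJ : N * J l F[X] * Nᵀ = J l F[X] := by
    have h1 := (SymplecticGroup.mem_iff).1 hM
    have h2 := congrArg (fun A : Matrix (l ⊕ l) (l ⊕ l) F => A.map (C : F → F[X])) h1
    simp only [Matrix.map_mul, Matrix.transpose_map, Matrix.map_J] at h2
    simpa [hN, Matrix.transpose_map] using h2
  have hdetN : N.det = 1 := by
    have h1 : N ∈ Matrix.symplecticGroup l F[X] := (SymplecticGroup.mem_iff).2 hNJ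
    exact SymplecticGroup.det_eq_one h1
  have hcp : M.charpoly = ((X : F[X]) • (1 : Matrix (l ⊕ l) (l ⊕ l) F[X]) - N).det := by
    rw [Matrix.charpoly, Matrix.charmatrix]
    congr 1
    ext i j
    simp [hN, Matrix.scalar_apply, Matrix.smul_apply, Matrix.one_apply, Matrix.diagonal_apply]
  have hkey : ((X : F[X]) • (1 : Matrix (l ⊕ l) (l ⊕ l) F[X]) - N) * J l F[X] * Nᵀ
      = - (J l F[X] * (1 - (X : F[X]) • N)ᵀ) := by
    have : ((X : F[X]) • (1 : Matrix (l ⊕ l) (l ⊕ l) F[X]) - N) * J l F[X] * Nᵀ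
        = (X : F[X]) • (J l F[X] * Nᵀ) - N * J l F[X] * Nᵀ := by
      rw [Matrix.sub_mul, Matrix.sub_mul, Matrix.smul_mul, Matrix.one_mul, Matrix.smul_mul]
    rw [this, hNJ, Matrix.transpose_sub, Matrix.transpose_one, Matrix.transpose_smul,
      Matrix.mul_sub, Matrix.mul_one, Matrix.mul_smul]
    abel
  have hdet := congrArg Matrix.det hkey
  rw [Matrix.det_mul, Matrix.det_mul, Matrix.det_transpose, hdetN, mul_one, Matrix.det_neg,
    Matrix.det_mul, Matrix.det_transpose, Fintype.card_sum, Even.neg_one_pow (Even.add_self _),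
    one_mul, ← hcp] at hdet
  have hJ : IsUnit (J l F[X]).det := Matrix.isUnit_det_J l F[X]
  rw [Matrix.charpolyRev]
  rw [mul_comm] at hdet
  exact hJ.mul_left_cancel hdet

theorem charpoly_symplectic {F : Type*} [Field F]
    (M : Matrix (Fin 2 ⊕ Fin 2) (Fin 2 ⊕ Fin 2) F) (hM : M ∈ Matrix.symplecticGroup (Fin 2) F) :
    ∃ a b : F, M.charpoly = X ^ 4 + C a * X ^ 3 + C b * X ^ 2 + C a * X + 1 := by
  have hrev : M.charpoly.reverse = M.charpoly := by
    rw [Matrix.reverse_charpoly, ← charpoly_eq_charpolyRev_of_symplectic M hM]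
  have hdeg : M.charpoly.natDegree = 4 := by
    rw [Matrix.charpoly_natDegree_eq_dim]; simp
  have hmonic : M.charpoly.Monic := Matrix.charpoly_monic M
  have h4 : M.charpoly.coeff 4 = 1 := by
    have := hmonic.coeff_natDegree
    rwa [hdeg] at this
  have h0 : M.charpoly.coeff 0 = 1 := by
    have := congrArg (fun p : F[X] => p.coeff 0) hrev
    simp only [coeff_reverse, hdeg] at this
    rw [← this, ← h4]
    congr 1
  have h1 : M.charpoly.coeff 1 = M.charpoly.coeff 3 := by
    have := congrArg (fun p : F[X] => p.coeff 1) hrev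
    simp only [coeff_reverse, hdeg] at this
    rw [← this]
    congr 1
  refine ⟨M.charpoly.coeff 3, M.charpoly.coeff 2, ?_⟩
  conv_lhs => rw [M.charpoly.as_sum_range_C_mul_X_pow, hdeg]
  simp only [Finset.sum_range_succ, Finset.sum_range_zero, h0, h1, h4]
  simp only [map_one, pow_zero, pow_one, one_mul, zero_add]
  ring

end Cfsg.Agent.Helper38.Spec4
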