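import Mathlib

/-!
# (PD) for S3439 (helper14, WANTED #8158)

Over the field with 3 elements, a square matrix with characteristic polynomial
`X^4 + a X^3 + b X^2 + a X + 1` satisfies `M ^ n = ± 1` for some `n ∈ {4,5,6,9,12}`.
-/

set_option autoImplicit false

namespace Cfsg.Agent.Helper38.Spec4

open Polynomial

theorem three_eq_zero_of_card {F : Type*} [Field F] [Fintype F] (hF : Fintype.card F = 3) :
    (3 : F) = 0 := by
  have h := Nat.cast_card_eq_zero F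
  rw [hF] at h
  exact_mod_cast h

theorem elt_cases_of_card {F : Type*} [Field F] [Fintype F] (hF : Fintype.card F = 3) (x : F) :
    x = 0 ∨ x = 1 ∨ x = -1 := by
  have h := FiniteField.pow_card x
  rw [hF] at h
  have h2 : x * ((x - 1) * (x + 1)) = 0 := by linear_combination h
  rcases mul_eq_zero.1 h2 with h0 | h1
  · exact Or.inl h0
  · rcases mul_eq_zero.1 h1 with h1 | h1
    · exact Or.inr (Or.inl (sub_eq_zero.1 h1))
    · exact Or.inr (Or.inr (eq_neg_of_add_eq_zero_left h1))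

theorem pow_eq_one_of_charpoly_mul {F : Type*} [Field F] {ι : Type*} [Fintype ι] [DecidableEq ι]
    (M : Matrix ι ι F) (n : ℕ) (q : F[X]) (hq : (X ^ n - 1 : F[X]) = M.charpoly * q) :
    M ^ n = 1 := by
  have h := congrArg (aeval M) hq
  rw [map_mul, Matrix.aeval_self_charpoly, zero_mul] at h
  simp only [map_sub, map_pow, aeval_X, map_one] at h
  exact sub_eq_zero.1 h

theorem pow_eq_neg_one_of_charpoly_mul {F : Type*} [Field F] {ι : Type*} [Fintype ι]
    [DecidableEq ι] (M : Matrix ι ι F) (n : ℕ) (q : F[X])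
    (hq : (X ^ n + 1 : F[X]) = M.charpoly * q) : M ^ n = -1 := by
  have h := congrArg (aeval M) hq
  rw [map_mul, Matrix.aeval_self_charpoly, zero_mul] at h
  simp only [map_add, map_pow, aeval_X, map_one] at h
  exact eq_neg_of_add_eq_zero_left h

theorem pow_eq_of_charpoly {F : Type*} [Field F] [Fintype F] (hF : Fintype.card F = 3)
    {ι : Type*} [Fintype ι] [DecidableEq ι] (M : Matrix ι ι F) (a b : F)
    (h : M.charpoly = X ^ 4 + C a * X ^ 3 + C b * X ^ 2 + C a * X + 1) :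
    ∃ n : ℕ, (n = 4 ∨ n = 5 ∨ n = 6 ∨ n = 9 ∨ n = 12) ∧ (M ^ n = 1 ∨ M ^ n = -1) := by
  have h3F : (3 : F) = 0 := three_eq_zero_of_card hF
  have h3 : (3 : F[X]) = 0 := by
    have h : (C (3 : F) : F[X]) = 0 := by rw [h3F, C_0]
    rwa [map_ofNat] at h
  rcases elt_cases_of_card hF a with rfl | rfl | rfl <;>
    rcases elt_cases_of_card hF b with rfl | rfl | rfl <;>
    simp only [map_zero, map_one, map_neg, zero_mul, add_zero, one_mul, neg_mul] at h
  · -- (0,0)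
    refine ⟨4, by simp, Or.inr ?_⟩
    apply pow_eq_neg_one_of_charpoly_mul M 4 1
    rw [h]; ring
  · -- (0,1)
    refine ⟨6, by simp, Or.inl ?_⟩
    apply pow_eq_one_of_charpoly_mul M 6 (X ^ 2 - 1)
    rw [h]; ring
  · -- (0,-1)
    refine ⟨6, by simp, Or.inr ?_⟩
    apply pow_eq_neg_one_of_charpoly_mul M 6 (X ^ 2 + 1)
    rw [h]; ring
  · -- (1,0)
    refine ⟨9, by simp, Or.inr ?_⟩
    apply pow_eq_neg_one_of_charpoly_mul M 9 ((X + 1) ^ 5)
    rw [h]
    linear_combination ((-2) * X + (-5) * X ^ 2 + (-7) * X ^ 3 + (-7) * X ^ 4 + (-7) * X ^ 5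
      + (-7) * X ^ 6 + (-5) * X ^ 7 + (-2) * X ^ 8) * h3
  · -- (1,1)
    refine ⟨5, by simp, Or.inl ?_⟩
    apply pow_eq_one_of_charpoly_mul M 5 (X - 1)
    rw [h]; ring
  · -- (1,-1)
    refine ⟨12, by simp, Or.inl ?_⟩
    apply pow_eq_one_of_charpoly_mul M 12 ((X ^ 2 + 1) ^ 2 * (X - 1) * (X + 1) ^ 3)
    rw [h]
    linear_combination (X + X ^ 2 + X ^ 3 + X ^ 4 - X ^ 8 - X ^ 9 - X ^ 10 - X ^ 11) * h3
  · -- (-1,0)
    refine ⟨9, by simp, Or.inl ?_⟩
    apply pow_eq_one_of_charpoly_mul M 9 ((X - 1) ^ 5)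
    rw [h]
    linear_combination ((-2) * X + 5 * X ^ 2 + (-7) * X ^ 3 + 7 * X ^ 4 + (-7) * X ^ 5
      + 7 * X ^ 6 + (-5) * X ^ 7 + 2 * X ^ 8) * h3
  · -- (-1,1)
    refine ⟨5, by simp, Or.inr ?_⟩
    apply pow_eq_neg_one_of_charpoly_mul M 5 (X + 1)
    rw [h]; ring
  · -- (-1,-1)
    refine ⟨12, by simp, Or.inl ?_⟩
    apply pow_eq_one_of_charpoly_mul M 12 ((X ^ 2 + 1) ^ 2 * (X + 1) * (X - 1) ^ 3)
    rw [h]
    linear_combination (-X + X ^ 2 - X ^ 3 + X ^ 4 - X ^ 8 + X ^ 9 - X ^ 10 + X ^ 11) * h3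

end Cfsg.Agent.Helper38.Spec4
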