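import Mathlib
import Cfsg.Agent.Helper15.MixDefs
import Cfsg.Agent.Helper15.MixBasic

/-!
# (C5) of WANTED #5926 (helper15, S4017), primed version

If `Y = ⟨p-elements of C(Q)⟩ ≠ 1` then `W_t = ⟨p-elements of C(t)⟩ ≤ C(Q)` for `t ∈ Q \ 1`.

Proof: pick `y ∈ Y`, `y ≠ 1`. By (C4) `N = N(Q) ≤ C(Y) ≤ C(y) ≠ G`, so `C(y) ≤ N` by (C3).
`W_t` is a `p`-group (C2), hence abelian (`pab`), and contains `y` (`Y ≤ W_t`), so `W_t ≤ C(y) ≤ N`.
Every generator of `W_t` lies in `N` and commutes with `t`, hence centralizes `Q` by (C1).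

The pieces (C1), (C2), (C3), (C4) are explicit hypotheses here.
-/

set_option autoImplicit false
set_option linter.unusedSectionVars false

namespace Cfsg.Agent.Helper38.Mix

open Subgroup Cfsg.Agent.Helper15.Mix

variable {G : Type*} [Group G] [Finite G] {p a : ℕ} {Q : Subgroup G} {x : G}

/-- (C5), with (C1)-(C4) as hypotheses. -/
theorem W_le_centralizer_of_Y_ne_bot' (h : Cfg G p a Q x)
    (hC1 : ∀ {g t : G}, g ∈ normalizer (Q : Set G) → t ∈ Q → t ≠ 1 → g * t = t * g →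
      g ∈ centralizer (Q : Set G))
    (hC2 : ∀ {t : G}, t ∈ Q → t ≠ 1 → IsPGroup p (W p t))
    (hC3 : ∀ E : Subgroup G, normalizer (Q : Set G) ≤ E → E ≠ ⊤ → E ≤ normalizer (Q : Set G))
    (hC4 : normalizer (Q : Set G) ≤ centralizer ((Y p Q : Subgroup G) : Set G))
    (hY : Y p Q ≠ ⊥) {t : G} (ht : t ∈ Q) (ht1 : t ≠ 1) :
    W p t ≤ centralizer (Q : Set G) := by
  obtain ⟨⟨y, hyY⟩, hy1⟩ := (Subgroup.ne_bot_iff_exists_ne_one).mp hY
  have hy1' : y ≠ 1 := fun hc => hy1 (Subtype.ext hc)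
  -- `N ≤ C(y)`
  have hN_le : normalizer (Q : Set G) ≤ centralizer ({y} : Set G) := by
    intro n hn
    have h1 := hC4 hn
    rw [mem_centralizer_iff] at h1 ⊢
    intro z hz
    rw [Set.mem_singleton_iff] at hz
    rw [hz]
    exact h1 y hyY
  -- `C(y) ≤ N`
  have hcz : centralizer ({y} : Set G) ≤ normalizer (Q : Set G) :=
    hC3 _ hN_le (h.cz_ne_top hy1')
  -- `W_t ≤ C(y)`
  have hWab := h.mc.pab (W p t) (hC2 ht ht1)
  have hyW : y ∈ W p t := Y_le_W ht hyY
  have hW_le : W p t ≤ centralizer ({y} : Set G) := by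
    intro w hw
    rw [mem_centralizer_iff]
    intro z hz
    rw [Set.mem_singleton_iff] at hz
    rw [hz]
    exact hWab y hyW w hw
  -- generators
  have hgen : ∀ g : G, g * t = t * g → IsPElt p g → g ∈ centralizer (Q : Set G) := by
    intro g hgt hgp
    exact hC1 (hcz (hW_le (mem_W hgt hgp))) ht ht1 hgt
  rw [W, Subgroup.closure_le]
  rintro g ⟨hgt, hgp⟩
  exact hgen g hgt hgp

end Cfsg.Agent.Helper38.Mix
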