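/-
helper38 (for helper78, WANTED #4370 (RC-OC), S4937): orbit-stabilizer for conjugation by a subgroup `N` on `G`,
phrased with the image Finset `{n g n⁻¹ | n ∈ N}`.
-/
import Mathlib

set_option autoImplicit false
set_option linter.unusedSectionVars false

namespace Cfsg.Agent.Helper38.ConjOrbit

variable {G : Type*} [Group G]

/-- `|H| * |K : H| = |K|` for `H ≤ K` -/
theorem card_mul_relIndex' {H K : Subgroup G} (h : H ≤ K) : Nat.card H * H.relIndex K = Nat.card K := by
  have := Subgroup.relIndex_mul_relIndex ⊥ H K bot_le h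
  rwa [Subgroup.relIndex_bot_left, Subgroup.relIndex_bot_left] at this

variable [Fintype G] [DecidableEq G]

theorem card_conjOrbit_mul (N : Subgroup G) [Fintype N] (g : G) :
    (Finset.univ.image (fun n : N => (n : G) * g * (n : G)⁻¹)).card *
      Nat.card (N ⊓ Subgroup.centralizer ({g} : Set G) : Subgroup G) = Nat.card N := by
  classical
  set f : N → G := fun n => (n : G) * g * (n : G)⁻¹ with hf
  set K : Subgroup G := N ⊓ Subgroup.centralizer ({g} : Set G) with hK
  have hfib : ∀ x ∈ Finset.univ.image f,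
      (Finset.univ.filter (fun n : N => f n = x)).card = Nat.card K := by
    intro x hx
    obtain ⟨n₀, -, rfl⟩ := Finset.mem_image.mp hx
    rw [← Fintype.card_subtype, ← Nat.card_eq_fintype_card]
    refine Nat.card_congr
      { toFun := fun n => ⟨(n₀ : G)⁻¹ * (n.1 : G), ?_⟩
        invFun := fun k => ⟨⟨(n₀ : G) * (k : G), N.mul_mem n₀.2 k.2.1⟩, ?_⟩
        left_inv := ?_
        right_inv := ?_ }
    · refine ⟨N.mul_mem (N.inv_mem n₀.2) n.1.2, ?_⟩
      show (n₀ : G)⁻¹ * (n.1 : G) ∈ Subgroup.centralizer ({g} : Set G)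
      rw [Subgroup.mem_centralizer_singleton_iff]
      have h := n.2
      simp only [hf] at h
      have h1 : (n₀ : G)⁻¹ * ((n.1 : G) * g * (n.1 : G)⁻¹) * (n.1 : G)
          = (n₀ : G)⁻¹ * ((n₀ : G) * g * (n₀ : G)⁻¹) * (n.1 : G) := by rw [h]
      have h2 : (n₀ : G)⁻¹ * ((n.1 : G) * g * (n.1 : G)⁻¹) * (n.1 : G) = (n₀ : G)⁻¹ * (n.1 : G) * g := by
        group
      have h3 : (n₀ : G)⁻¹ * ((n₀ : G) * g * (n₀ : G)⁻¹) * (n.1 : G) = g * ((n₀ : G)⁻¹ * (n.1 : G)) := by
        group
      rw [← h2, h1, h3]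
    · have h := (Subgroup.mem_centralizer_singleton_iff.mp k.2.2)
      show (n₀ : G) * (k : G) * g * ((n₀ : G) * (k : G))⁻¹ = (n₀ : G) * g * (n₀ : G)⁻¹
      rw [mul_assoc (n₀ : G), h]
      group
    · intro n
      apply Subtype.ext
      apply Subtype.ext
      show (n₀ : G) * ((n₀ : G)⁻¹ * (n.1 : G)) = (n.1 : G)
      group
    · intro k
      apply Subtype.ext
      show (n₀ : G)⁻¹ * ((n₀ : G) * (k : G)) = (k : G)
      group
  have h1 := Finset.card_eq_sum_card_image f Finset.univ
  rw [Finset.sum_congr rfl hfib, Finset.sum_const, smul_eq_mul, Finset.card_univ,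
    ← Nat.card_eq_fintype_card] at h1
  exact h1.symm

theorem card_conjOrbit_eq_relIndex (N : Subgroup G) [Fintype N] (g : G) :
    (Finset.univ.image (fun n : N => (n : G) * g * (n : G)⁻¹)).card =
      (N ⊓ Subgroup.centralizer ({g} : Set G) : Subgroup G).relIndex N := by
  have h1 := card_conjOrbit_mul N g
  have h2 := card_mul_relIndex' (inf_le_left : N ⊓ Subgroup.centralizer ({g} : Set G) ≤ N)
  have hpos : 0 < Nat.card (N ⊓ Subgroup.centralizer ({g} : Set G) : Subgroup G) := Nat.card_pos
  rw [← h1, mul_comm] at h2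
  exact (Nat.eq_of_mul_eq_mul_right hpos h2).symm

theorem card_conjOrbit_dvd_relIndex (N : Subgroup G) [Fintype N] (g : G) (Q : Subgroup G) (hQN : Q ≤ N)
    (hQg : Q ≤ Subgroup.centralizer ({g} : Set G)) :
    (Finset.univ.image (fun n : N => (n : G) * g * (n : G)⁻¹)).card ∣ Q.relIndex N := by
  rw [card_conjOrbit_eq_relIndex]
  exact Subgroup.relIndex_dvd_of_le_left N (le_inf hQN hQg)

theorem card_conjOrbit_dvd_index (N : Subgroup G) [N.Normal] [Fintype N] (g : G) :
    (Finset.univ.image (fun n : N => (n : G) * g * (n : G)⁻¹)).card ∣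
      (Subgroup.centralizer ({g} : Set G)).index := by
  set C : Subgroup G := Subgroup.centralizer ({g} : Set G) with hC
  set c := (Finset.univ.image (fun n : N => (n : G) * g * (n : G)⁻¹)).card with hc
  have h1 : c * Nat.card (N ⊓ C : Subgroup G) = Nat.card N := card_conjOrbit_mul N g
  have h2 : Nat.card (N ⊓ C : Subgroup G) * N.relIndex C = Nat.card C := by
    have := card_mul_relIndex' (inf_le_right : N ⊓ C ≤ C)
    rwa [Subgroup.inf_relIndex_right] at this
  obtain ⟨r, hr⟩ := Subgroup.relIndex_dvd_index_of_normal N C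
  have h3 : Nat.card C * C.index = Nat.card G := Subgroup.card_mul_index C
  have h4 : Nat.card N * N.index = Nat.card G := Subgroup.card_mul_index N
  have hpos : 0 < Nat.card (N ⊓ C : Subgroup G) := Nat.card_pos
  have hpos2 : 0 < N.relIndex C := by
    rcases Nat.eq_zero_or_pos (N.relIndex C) with h | h
    · rw [h, mul_zero] at h2
      exact absurd h2.symm (Nat.card_pos (α := C)).ne'
    · exact h
  refine ⟨r, ?_⟩
  have h5 : Nat.card (N ⊓ C : Subgroup G) * N.relIndex C * C.index
      = Nat.card (N ⊓ C : Subgroup G) * N.relIndex C * (c * r) := by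
    calc Nat.card (N ⊓ C : Subgroup G) * N.relIndex C * C.index
        = Nat.card C * C.index := by rw [h2]
      _ = Nat.card G := h3
      _ = Nat.card N * N.index := h4.symm
      _ = (c * Nat.card (N ⊓ C : Subgroup G)) * (N.relIndex C * r) := by rw [h1, hr]
      _ = Nat.card (N ⊓ C : Subgroup G) * N.relIndex C * (c * r) := by ring
  exact Nat.eq_of_mul_eq_mul_left (Nat.mul_pos hpos hpos2) h5

end Cfsg.Agent.Helper38.ConjOrbit
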