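import Mathlib

/-!
# Isometries of odd-dimensional nondegenerate bilinear spaces have an eigenvalue `±1`

The characteristic polynomial of an isometry is self-reciprocal (up to sign); in odd degree this forces the root `±1`,
in every characteristic.
-/

set_option autoImplicit false

namespace Cfsg.Agent.Helper38

open Matrix Polynomial Module

section matrix
variable {F : Type*} [Field F]

/-- a polynomial of odd degree `k` with `a_{k-i} = c a_i`, `c^2 = 1`, vanishes at `-c` -/
theorem eval_eq_zero_of_coeff_symm (χ : F[X]) (j : ℕ) (hdeg : χ.natDegree = 2 * j + 1) (c : F)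
    (hc : c * c = 1) (hsym : ∀ i, i ≤ 2 * j + 1 → χ.coeff (2 * j + 1 - i) = c * χ.coeff i) :
    χ.eval (-c) = 0 := by
  rw [Polynomial.eval_eq_sum_range, hdeg, show 2 * j + 1 + 1 = (j + 1) + (j + 1) by ring,
    Finset.sum_range_add]
  have h2 : ∑ x ∈ Finset.range (j + 1), χ.coeff (j + 1 + x) * (-c) ^ (j + 1 + x) =
      ∑ x ∈ Finset.range (j + 1), χ.coeff (j + 1 + (j + 1 - 1 - x)) * (-c) ^ (j + 1 + (j + 1 - 1 - x)) :=
    (Finset.sum_range_reflect (fun x => χ.coeff (j + 1 + x) * (-c) ^ (j + 1 + x)) (j + 1)).symm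
  rw [h2, ← Finset.sum_add_distrib]
  apply Finset.sum_eq_zero
  intro i hi
  rw [Finset.mem_range] at hi
  have h3 : j + 1 + (j + 1 - 1 - i) = 2 * j + 1 - i := by omega
  have h4 : 2 * j + 1 - i = 2 * (j - i) + 1 + i := by omega
  have ht2 : (-c) ^ 2 = 1 := by rw [neg_sq, pow_two, hc]
  rw [h3, hsym i (by omega), h4, pow_add, pow_add, pow_mul, ht2, one_pow, one_mul, pow_one]
  have : χ.coeff i * (-c) ^ i + c * χ.coeff i * (-c * (-c) ^ i) =
      χ.coeff i * (-c) ^ i * (1 - c * c) := by ring
  rw [this, hc, sub_self, mul_zero]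

/-- the characteristic polynomial of the inverse -/
theorem charpoly_mul_C_det_of_mul_eq_one {n : Type*} [Fintype n] [DecidableEq n]
    (M M' : Matrix n n F) (h : M' * M = 1) :
    M'.charpoly * Polynomial.C M.det = (-1) ^ Fintype.card n * M.charpoly.reverse := by
  rw [Matrix.reverse_charpoly, Matrix.charpolyRev, Matrix.charpoly, Matrix.charmatrix]
  have h1 : (Polynomial.C M.det : F[X]) = ((Polynomial.C : F →+* F[X]).mapMatrix M).det := by
    rw [← RingHom.map_det]
  rw [h1, ← Matrix.det_mul, ← Matrix.det_neg]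
  congr 1
  rw [sub_mul, ← map_mul, h, map_one, neg_sub]
  congr 1
  ext i j
  simp [Matrix.mul_apply, Matrix.scalar_apply, Matrix.diagonal_apply, Matrix.smul_apply]

/-- an isometry of a nondegenerate bilinear form in odd dimension has the eigenvalue `1` or `-1` -/
theorem isRoot_charpoly_of_isometry {k : ℕ} (hk : Odd k) (M G : Matrix (Fin k) (Fin k) F)
    (hG : G.det ≠ 0) (h : Mᵀ * G * M = G) :
    ∃ t : F, t * t = 1 ∧ M.charpoly.IsRoot t := by
  obtain ⟨j, rfl⟩ := hk
  have hδ : M.det * M.det = 1 := by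
    have h1 := congrArg Matrix.det h
    rw [Matrix.det_mul, Matrix.det_mul, Matrix.det_transpose] at h1
    have h2 : (M.det * M.det - 1) * G.det = M.det * G.det * M.det - G.det := by ring
    rw [h1, sub_self] at h2
    rcases mul_eq_zero.mp h2 with h3 | h3
    · exact sub_eq_zero.mp h3
    · exact absurd h3 hG
  have hGu : IsUnit G := (Matrix.isUnit_iff_isUnit_det G).mpr (isUnit_iff_ne_zero.mpr hG)
  obtain ⟨Gu, hGu'⟩ := hGu
  -- the inverse of `M`
  set M' : Matrix (Fin (2 * j + 1)) (Fin (2 * j + 1)) F :=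
    (Gu : Matrix (Fin (2 * j + 1)) (Fin (2 * j + 1)) F)⁻¹ * Mᵀ *
      (Gu : Matrix (Fin (2 * j + 1)) (Fin (2 * j + 1)) F) with hM'
  have hM'M : M' * M = 1 := by
    rw [hM', ← Matrix.coe_units_inv, hGu', Matrix.mul_assoc, Matrix.mul_assoc, ← Matrix.mul_assoc Mᵀ,
      h, ← hGu', Units.inv_mul]
  have hχ : M'.charpoly = M.charpoly := by
    rw [hM', Matrix.charpoly_units_conj', Matrix.charpoly_transpose]
  have h1 := charpoly_mul_C_det_of_mul_eq_one M M' hM'M
  rw [hχ, Fintype.card_fin, pow_succ, pow_mul, neg_one_sq, one_pow, one_mul, neg_one_mul] at h1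
  have hdeg : M.charpoly.natDegree = 2 * j + 1 := by
    rw [Matrix.charpoly_natDegree_eq_dim, Fintype.card_fin]
  have hsym : ∀ i, i ≤ 2 * j + 1 → M.charpoly.coeff (2 * j + 1 - i) = -M.det * M.charpoly.coeff i := by
    intro i hi
    have h2 := congrArg (fun p : F[X] => p.coeff i) h1
    simp only [Polynomial.coeff_mul_C, Polynomial.coeff_neg, Polynomial.coeff_reverse] at h2
    rw [hdeg, Polynomial.revAt_le hi] at h2
    linear_combination h2
  refine ⟨M.det, hδ, ?_⟩
  have h3 := eval_eq_zero_of_coeff_symm M.charpoly j hdeg (-M.det) (by rw [neg_mul_neg, hδ]) hsym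
  rwa [neg_neg] at h3

end matrix

section abstract
variable {F : Type*} [Field F] {W : Type*} [AddCommGroup W] [Module F W] [FiniteDimensional F W]

/-- abstract version: an isometry of a nondegenerate bilinear form on an odd-dimensional space fixes or negates
a nonzero vector -/
theorem exists_eigenvector_of_isometry (C : LinearMap.BilinForm F W) (hC : C.Nondegenerate)
    (g : W →ₗ[F] W) (hg : ∀ x y, C (g x) (g y) = C x y) (hodd : Odd (finrank F W)) :
    ∃ v : W, v ≠ 0 ∧ ∃ t : F, t * t = 1 ∧ g v = t • v := by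
  classical
  set b := Module.finBasis F W with hb
  set M := LinearMap.toMatrix b b g with hM
  set G := LinearMap.BilinForm.toMatrix b C with hGdef
  have hG : G.det ≠ 0 := (LinearMap.BilinForm.nondegenerate_iff_det_ne_zero b).mp hC
  have hcomp : C.comp g g = C := by
    ext x y
    exact hg x y
  have h : Mᵀ * G * M = G := by
    rw [hM, hGdef, ← LinearMap.BilinForm.toMatrix_comp b b C g g, hcomp]
  obtain ⟨t, ht, hroot⟩ := isRoot_charpoly_of_isometry hodd M G hG h
  rw [Polynomial.IsRoot, Matrix.eval_charpoly] at hroot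
  obtain ⟨w, hw0, hw⟩ := Matrix.exists_mulVec_eq_zero_iff.mpr hroot
  refine ⟨b.equivFun.symm w, ?_, t, ht, ?_⟩
  · intro h0
    exact hw0 (b.equivFun.symm.injective (h0.trans (map_zero _).symm))
  · apply b.equivFun.injective
    have h1 := LinearMap.toMatrix_mulVec_repr b b g (b.equivFun.symm w)
    have h2 : (b.repr (b.equivFun.symm w) : Fin (finrank F W) → F) = w :=
      b.equivFun.apply_symm_apply w
    rw [h2] at h1
    rw [Matrix.sub_mulVec, sub_eq_zero] at hw
    have h3 : (Matrix.scalar (Fin (finrank F W)) t) *ᵥ w = t • w := by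
      ext i
      simp [Matrix.mulVec, dotProduct, Matrix.scalar_apply, Matrix.diagonal_apply]
    rw [h3] at hw
    rw [map_smul, LinearEquiv.apply_symm_apply, hw, hM]
    exact h1.symm

end abstract

end Cfsg.Agent.Helper38
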