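import Mathlib
import Cfsg.Agent.Helper21.THDefs2
import Cfsg.Agent.Helper21.THMin
import Cfsg.Agent.Helper81.THW8

/-!
# (N2d) of WANTED #5542 (helper21, S3797 Thompson): `hyp_decomp` and `inverted_gen`

In the minimal configuration `MCfg X D U R`:
* `hyp_decomp`: for a hyperplane `H` of `X` over `D` and `x ∈ X \ H`, every `u ∈ C_U(H)` is `c * i` with
  `c ∈ C_U(X)` and `i ∈ C_U(H)` inverted by `x`;
* `inverted_gen`: `U` is generated by its elements inverted by some element of `X`.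
-/

set_option autoImplicit false

namespace Cfsg.Agent.Helper38.TH

open Subgroup Cfsg Cfsg.Agent.Helper21.TH
open scoped commutatorElement

universe u

variable {G : Type u} [Group G] [Finite G]

/-- `X` normalizes every hyperplane over `D` (inline copy of (N2a) `IsHyp.le_normalizer`). -/
theorem hyp_le_normalizer {X D U R H : Subgroup G} (h : MCfg X D U R) (hH : IsHyp X D H) :
    X ≤ normalizer (H : Set G) := by
  apply Cfsg.Agent.Helper71.Shult.le_normalizer_of_conj_mem
  intro x hx k hk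
  have h1 : ⁅x, k⁆ ∈ H := hH.1 (h.comm_mem hx (hH.2.1 hk))
  have h2 : x * k * x⁻¹ = ⁅x, k⁆ * k := by rw [commutatorElement_def]; group
  rw [h2]
  exact H.mul_mem h1 hk

omit [Finite G] in
/-- inline copy of (N2a) `IsHyp.cent_le`. -/
theorem hyp_cent_le {X D H : Subgroup G} (hH : IsHyp X D H) {x : G} (hx : x ∈ X) (hxH : x ∉ H) :
    centralizer (H : Set G) ⊓ centralizer {x} ≤ centralizer (X : Set G) := by
  intro g hg
  rw [mem_inf] at hg
  obtain ⟨hgH, hgx⟩ := hg
  rw [mem_centralizer_iff] at hgH ⊢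
  have hgx' : x * g = g * x := by
    rw [mem_centralizer_iff] at hgx
    exact hgx x rfl
  have hidx : (H.subgroupOf X).index = 2 := hH.2.2
  intro b hb
  by_cases hbH : b ∈ H
  · exact hgH b hbH
  · -- `b * x⁻¹ ∈ H`
    have hxi : x⁻¹ ∉ H := fun hc => hxH (by simpa using H.inv_mem hc)
    have hk : b * x⁻¹ ∈ H := by
      have := Subgroup.mul_mem_iff_of_index_two hidx (a := (⟨b, hb⟩ : X)) (b := (⟨x⁻¹, X.inv_mem hx⟩ : X))
      simp only [mem_subgroupOf, Subgroup.coe_mul] at this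
      exact this.mpr ⟨fun hc => absurd hc hbH, fun hc => absurd hc hxi⟩
    have h1 := hgH _ hk
    -- b = (b x⁻¹) x
    calc b * g = (b * x⁻¹) * (x * g) := by group
      _ = (b * x⁻¹) * (g * x) := by rw [hgx']
      _ = ((b * x⁻¹) * g) * x := by group
      _ = (g * (b * x⁻¹)) * x := by rw [h1]
      _ = g * b := by group

/-- (N2d), first part. -/
theorem hyp_decomp {X D U R H : Subgroup G} (h : MCfg X D U R) (hH : IsHyp X D H) {x : G} (hx : x ∈ X)
    (hxH : x ∉ H) {u : G} (hu : u ∈ U ⊓ centralizer (H : Set G)) :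
    ∃ c ∈ U ⊓ centralizer (X : Set G), ∃ i ∈ U ⊓ centralizer (H : Set G), x * i * x⁻¹ = i⁻¹ ∧ u = c * i := by
  have hodd : Odd (Nat.card ↥(U ⊓ centralizer (H : Set G))) :=
    Odd.of_dvd_nat h.hUodd (Subgroup.card_dvd_of_le inf_le_left)
  have hXN : X ≤ normalizer ((U ⊓ centralizer (H : Set G) : Subgroup G) : Set G) :=
    Cfsg.Agent.Helper71.Shult.inf_le_normalizer h.hXU
      (Cfsg.Agent.Helper71.Shult.le_normalizer_centralizer (hyp_le_normalizer h hH))
  have hx2 : x ^ 2 ∈ centralizer ((U ⊓ centralizer (H : Set G) : Subgroup G) : Set G) := by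
    have h1 : x ^ 2 ∈ centralizer (U : Set G) := h.D_le_cent (h.sq_mem hx)
    exact Subgroup.centralizer_le (by intro z hz; exact hz.1) h1
  obtain ⟨c, hc, i, hi, hxc, hxi, huci⟩ :=
    Cfsg.Agent.Helper81.TH.odd_invol_decomp (U ⊓ centralizer (H : Set G)) x hodd (hXN hx) hx2 hu
  refine ⟨c, ?_, i, hi, hxi, huci⟩
  rw [mem_inf] at hc ⊢
  refine ⟨hc.1, hyp_cent_le hH hx hxH ?_⟩
  rw [mem_inf]
  refine ⟨hc.2, ?_⟩
  rw [mem_centralizer_iff]
  intro y hy
  have hy' : y = x := hy
  rw [hy']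
  -- x * c * x⁻¹ = c
  calc x * c = (x * c * x⁻¹) * x := by group
    _ = c * x := by rw [hxc]

omit [Finite G] in
/-- conjugation by `g` preserves `closure I` if it preserves `I`. -/
theorem conj_mem_closure {I : Set G} {g : G} (hg : ∀ t ∈ I, g * t * g⁻¹ ∈ I) :
    ∀ n ∈ closure I, g * n * g⁻¹ ∈ closure I := by
  intro n hn
  induction hn using Subgroup.closure_induction with
  | mem t ht => exact subset_closure (hg t ht)
  | one => simp
  | mul a b _ _ ha hb =>
    have : g * (a * b) * g⁻¹ = (g * a * g⁻¹) * (g * b * g⁻¹) := by group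
    rw [this]; exact Subgroup.mul_mem _ ha hb
  | inv a _ ha =>
    have : g * a⁻¹ * g⁻¹ = (g * a * g⁻¹)⁻¹ := by group
    rw [this]; exact Subgroup.inv_mem _ ha

/-- (N2d), second part. -/
theorem inverted_gen {X D U R : Subgroup G} (h : MCfg X D U R) :
    U = closure {t : G | t ∈ U ∧ ∃ x ∈ X, x * t * x⁻¹ = t⁻¹} := by
  set I : Set G := {t : G | t ∈ U ∧ ∃ x ∈ X, x * t * x⁻¹ = t⁻¹} with hI
  have hle : closure I ≤ U := (closure_le U).mpr fun t ht => ht.1
  -- invariance of `I` under a subgroup normalizing `U` and `X`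
  have hinv : ∀ A : Subgroup G, A ≤ normalizer (U : Set G) → A ≤ normalizer (X : Set G) →
      A ≤ normalizer ((closure I : Subgroup G) : Set G) := by
    intro A hAU hAX
    apply Cfsg.Agent.Helper71.Shult.le_normalizer_of_conj_mem
    intro y hy n hn
    refine conj_mem_closure ?_ n hn
    rintro t ⟨htU, x, hx, hxt⟩
    refine ⟨Cfsg.Agent.Helper71.Shult.conj_mem_of_le_normalizer hAU hy htU, y * x * y⁻¹,
      Cfsg.Agent.Helper71.Shult.conj_mem_of_le_normalizer hAX hy hx, ?_⟩
    calc y * x * y⁻¹ * (y * t * y⁻¹) * (y * x * y⁻¹)⁻¹ = y * (x * t * x⁻¹) * y⁻¹ := by group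
      _ = y * t⁻¹ * y⁻¹ := by rw [hxt]
      _ = (y * t * y⁻¹)⁻¹ := by group
  by_contra hne
  have hlt : closure I < U := lt_of_le_of_ne hle (fun he => hne he.symm)
  have hcent : X ≤ centralizer ((closure I : Subgroup G) : Set G) :=
    h.hUmin _ hlt (hinv X h.hXU le_normalizer) (hinv R h.hRU h.hRX)
  -- every element of `I` is trivial
  have hI1 : ∀ t ∈ I, t = 1 := by
    rintro t ⟨htU, x, hx, hxt⟩
    have htI : t ∈ closure I := subset_closure ⟨htU, x, hx, hxt⟩
    have hcomm : t * x = x * t := (mem_centralizer_iff.mp (hcent hx)) t htI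
    have h1 : x * t * x⁻¹ = t := by rw [← hcomm]; group
    have h2 : t = t⁻¹ := by rw [← hxt, h1]
    have h3 : t ^ 2 = 1 := by
      rw [pow_two]
      calc t * t = t * t⁻¹ := by rw [← h2]
        _ = 1 := mul_inv_cancel t
    have hdvd : orderOf t ∣ Nat.card U := by
      have := orderOf_dvd_natCard (⟨t, htU⟩ : U)
      rwa [Subgroup.orderOf_mk] at this
    have hodd : Odd (orderOf t) := Odd.of_dvd_nat h.hUodd hdvd
    have h4 : orderOf t ∣ 2 := orderOf_dvd_of_pow_eq_one h3
    have h5 : orderOf t = 1 := by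
      rcases (Nat.dvd_prime Nat.prime_two).mp h4 with h6 | h6
      · exact h6
      · rw [h6] at hodd; exact absurd hodd (by decide)
    exact orderOf_eq_one_iff.mp h5
  -- some `x ∈ X` does not centralize `U`
  obtain ⟨x, hx, hxU⟩ := SetLike.not_le_iff_exists.mp h.not_le
  apply hxU
  rw [mem_centralizer_iff]
  intro u hu
  have hx2 : x ^ 2 ∈ centralizer (U : Set G) := h.D_le_cent (h.sq_mem hx)
  obtain ⟨c, hc, i, hi, hxc, hxi, huci⟩ :=
    Cfsg.Agent.Helper81.TH.odd_invol_decomp U x h.hUodd (h.hXU hx) hx2 hu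
  have hi1 : i = 1 := hI1 i ⟨hi, x, hx, hxi⟩
  rw [hi1, mul_one] at huci
  rw [huci]
  calc c * x = (x * c * x⁻¹) * x := by rw [hxc]
    _ = x * c := by group

end Cfsg.Agent.Helper38.TH
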