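import Mathlib
import Cfsg.Agent.Helper21.THDefs

/-!
Helper38 (for helper21, S3797): pieces (W5a), (W5b) — `OneClass` and `TwoInv` pass to the quotient
by a normal subgroup of odd order.
-/

set_option autoImplicit false

namespace Cfsg.Agent.Helper38.TH

open Subgroup Cfsg.Agent.Helper21.TH

/-- a subgroup of odd order contains no involution -/
theorem eq_one_of_sq_of_odd {N : Type*} [Group N] [Finite N] (T : Subgroup N)
    (hodd : Odd (Nat.card T)) {z : N} (hz : z ∈ T) (hz2 : z ^ 2 = 1) : z = 1 := by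
  have h1 : orderOf z ∣ 2 := orderOf_dvd_of_pow_eq_one hz2
  have h2 : orderOf z ∣ Nat.card T := Subgroup.orderOf_dvd_natCard T hz
  have h3 : Nat.Coprime 2 (Nat.card T) := (Nat.coprime_two_left).2 hodd
  have h4 : orderOf z ∣ 1 := by
    have := Nat.dvd_gcd h1 h2
    rwa [h3] at this
  exact orderOf_eq_one_iff.1 (Nat.dvd_one.1 h4)

/-- an involution of `N ⧸ T`, `T` of odd order, lifts to an involution of `N` -/
theorem exists_involution_lift {N : Type*} [Group N] [Finite N] (T : Subgroup N) [T.Normal]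
    (hodd : Odd (Nat.card T)) (x : N ⧸ T) (hx1 : x ≠ 1) (hx2 : x ^ 2 = 1) :
    ∃ g : N, g ≠ 1 ∧ g ^ 2 = 1 ∧ (QuotientGroup.mk g : N ⧸ T) = x := by
  obtain ⟨g, rfl⟩ := QuotientGroup.mk_surjective x
  obtain ⟨k, hk⟩ := hodd
  have hg2 : g ^ 2 ∈ T := by
    rw [← QuotientGroup.eq_one_iff, QuotientGroup.mk_pow]
    exact hx2
  have himg : (QuotientGroup.mk (g ^ Nat.card T) : N ⧸ T) = QuotientGroup.mk g := by
    rw [QuotientGroup.mk_pow, hk, pow_succ, pow_mul, hx2, one_pow, one_mul]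
  refine ⟨g ^ Nat.card T, ?_, ?_, himg⟩
  · intro h1
    apply hx1
    rw [← himg, h1]
    rfl
  · rw [← pow_mul, mul_comm, pow_mul]
    have h3 : (⟨g ^ 2, hg2⟩ : T) ^ Nat.card T = 1 := pow_card_eq_one'
    have h4 := congrArg (Subtype.val) h3
    rw [Subgroup.coe_pow, Subgroup.coe_one] at h4
    exact h4

/-- (W5a) -/
theorem oneClass_quotient_odd {N : Type*} [Group N] [Finite N] (T : Subgroup N) [T.Normal]
    (hodd : Odd (Nat.card T)) (h : OneClass N) : OneClass (N ⧸ T) := by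
  intro x y hx1 hx2 hy1 hy2
  obtain ⟨g, hg1, hg2, rfl⟩ := exists_involution_lift T hodd x hx1 hx2
  obtain ⟨k, hk1, hk2, rfl⟩ := exists_involution_lift T hodd y hy1 hy2
  obtain ⟨c, hc⟩ := isConj_iff.1 (h g k hg1 hg2 hk1 hk2)
  rw [isConj_iff]
  refine ⟨QuotientGroup.mk c, ?_⟩
  rw [← hc]
  rfl

/-- (W5b) -/
theorem twoInv_quotient_odd {N : Type*} [Group N] [Finite N] (T : Subgroup N) [T.Normal]
    (hodd : Odd (Nat.card T)) (h : TwoInv N) : TwoInv (N ⧸ T) := by
  obtain ⟨x, y, hxy, hx1, hx2, hy1, hy2, hcomm⟩ := h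
  refine ⟨QuotientGroup.mk x, QuotientGroup.mk y, ?_, ?_, ?_, ?_, ?_, ?_⟩
  · intro he
    have h1 : x⁻¹ * y ∈ T := QuotientGroup.eq.1 he
    have h2 : (x⁻¹ * y) ^ 2 = 1 := by
      have hxinv : x⁻¹ = x := by
        rw [inv_eq_iff_mul_eq_one, ← pow_two, hx2]
      rw [hxinv, pow_two]
      calc x * y * (x * y) = x * (y * x) * y := by group
        _ = x * (x * y) * y := by rw [hcomm]
        _ = x ^ 2 * y ^ 2 := by rw [pow_two, pow_two]; group
        _ = 1 := by rw [hx2, hy2, one_mul]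
    have h3 := eq_one_of_sq_of_odd T hodd h1 h2
    apply hxy
    calc x = x * (x⁻¹ * y) := by rw [h3, mul_one]
      _ = y := by group
  · intro he
    have h1 : x ∈ T := (QuotientGroup.eq_one_iff x).1 he
    exact hx1 (eq_one_of_sq_of_odd T hodd h1 hx2)
  · rw [← QuotientGroup.mk_pow, hx2]
    rfl
  · intro he
    have h1 : y ∈ T := (QuotientGroup.eq_one_iff y).1 he
    exact hy1 (eq_one_of_sq_of_odd T hodd h1 hy2)
  · rw [← QuotientGroup.mk_pow, hy2]
    rfl
  · rw [← QuotientGroup.mk_mul, ← QuotientGroup.mk_mul, hcomm]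

end Cfsg.Agent.Helper38.TH
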