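import Mathlib
import Cfsg.Agent.Helper52.PQDefs
import Cfsg.Agent.Helper62.ShultC

/-!
Helper38 (for helper52, S4306): piece (FA) — the API of `FrobPair`.
-/

set_option autoImplicit false
set_option linter.unusedSectionVars false

namespace Cfsg.Agent.Helper38.PQFA

open Subgroup Cfsg.Agent.Helper1.Shult Cfsg.Agent.Helper52.PQ

variable {H : Type*} [Group H] [Finite H]

/-- `τ σ τ⁻¹ = σ ^ k` -/
theorem exists_pow_eq {s t : ℕ} {σ τ : H} (h : FrobPair s t σ τ) :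
    ∃ k : ℕ, σ ^ k = τ * σ * τ⁻¹ := by
  have h1 : τ * σ * τ⁻¹ ∈ Submonoid.powers σ := (mem_powers_iff_mem_zpowers).2 h.norm
  exact (Submonoid.mem_powers_iff _ _).1 h1

theorem conj_pow_eq {σ τ : H} {k : ℕ} (hk : σ ^ k = τ * σ * τ⁻¹) (j : ℕ) :
    τ ^ j * σ * (τ ^ j)⁻¹ = σ ^ (k ^ j) := by
  induction j with
  | zero => simp
  | succ j ih =>
    have h1 : τ ^ (j + 1) * σ * (τ ^ (j + 1))⁻¹ = τ * (τ ^ j * σ * (τ ^ j)⁻¹) * τ⁻¹ := by
      rw [pow_succ']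
      group
    rw [h1, ih, pow_succ, pow_mul, ← conj_pow, ← hk, ← pow_mul, ← pow_mul, mul_comm]

theorem not_modEq_one {s t : ℕ} {σ τ : H} (h : FrobPair s t σ τ) {k : ℕ}
    (hk : σ ^ k = τ * σ * τ⁻¹) : ¬ k ≡ 1 [MOD s] := by
  intro hmod
  rw [← h.oσ, ← pow_eq_pow_iff_modEq, pow_one] at hmod
  apply h.ncomm
  rw [hmod] at hk
  calc τ * σ = (τ * σ * τ⁻¹) * τ := by group
    _ = σ * τ := by rw [← hk]

theorem pow_modEq_one {s t : ℕ} {σ τ : H} (h : FrobPair s t σ τ) {k : ℕ}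
    (hk : σ ^ k = τ * σ * τ⁻¹) : k ^ t ≡ 1 [MOD s] := by
  have h1 := conj_pow_eq hk t
  have h2 : τ ^ t = 1 := by rw [← h.oτ]; exact pow_orderOf_eq_one τ
  rw [h2, one_mul, inv_one, mul_one] at h1
  rw [← h.oσ, ← pow_eq_pow_iff_modEq, pow_one]
  exact h1.symm

theorem not_dvd_exp {s t : ℕ} {σ τ : H} (h : FrobPair s t σ τ) {k : ℕ}
    (hk : σ ^ k = τ * σ * τ⁻¹) : ¬ s ∣ k := by
  intro hd
  have h1 : σ ^ k = 1 := by
    rw [← h.oσ] at hd
    exact orderOf_dvd_iff_pow_eq_one.1 hd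
  rw [h1] at hk
  have h2 : σ = 1 := by
    have : σ = τ⁻¹ * (τ * σ * τ⁻¹) * τ := by group
    rw [this, ← hk]
    group
  have h3 : orderOf σ = 1 := by rw [h2, orderOf_one]
  rw [h.oσ] at h3
  exact h.hs.one_lt.ne' h3

theorem frob_dvd_pred {s t : ℕ} {σ τ : H} (h : FrobPair s t σ τ) : t ∣ s - 1 := by
  obtain ⟨k, hk⟩ := exists_pow_eq h
  have : Fact s.Prime := ⟨h.hs⟩
  have h1 : ((k : ZMod s)) ^ t = 1 := by
    have := (ZMod.natCast_eq_natCast_iff _ _ _).2 (pow_modEq_one h hk)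
    rw [Nat.cast_pow, Nat.cast_one] at this
    exact this
  have hne1 : (k : ZMod s) ≠ 1 := by
    intro h2
    apply not_modEq_one h hk
    apply (ZMod.natCast_eq_natCast_iff _ _ _).1
    rw [h2, Nat.cast_one]
  have hne0 : (k : ZMod s) ≠ 0 := by
    intro h2
    apply not_dvd_exp h hk
    exact (ZMod.natCast_eq_zero_iff _ _).1 h2
  have hord : orderOf (k : ZMod s) = t := by
    have hd : orderOf (k : ZMod s) ∣ t := orderOf_dvd_of_pow_eq_one h1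
    rcases (Nat.dvd_prime h.ht).1 hd with h3 | h3
    · exact absurd (orderOf_eq_one_iff.1 h3) hne1
    · exact h3
  rw [← hord]
  exact orderOf_dvd_of_pow_eq_one (ZMod.pow_card_sub_one_eq_one hne0)

theorem frob_ne {s t : ℕ} {σ τ : H} (h : FrobPair s t σ τ) : s ≠ t := by
  intro hst
  have h1 := frob_dvd_pred h
  rw [← hst] at h1
  have h2 := h.hs.two_le
  have h3 := Nat.le_of_dvd (by omega) h1
  omega

/-- conjugating `τ` by an element commuting with `σ` -/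
theorem frob_conj_of_commute {s t : ℕ} {σ τ : H} (h : FrobPair s t σ τ) (a : H)
    (ha : a * σ = σ * a) : FrobPair s t σ (a * τ * a⁻¹) := by
  obtain ⟨k, hk⟩ := exists_pow_eq h
  have hak : a * σ ^ k * a⁻¹ = σ ^ k := by
    have : Commute a (σ ^ k) := (show Commute a σ from ha).pow_right k
    rw [this.eq]
    group
  have hconj : (a * τ * a⁻¹) * σ * (a * τ * a⁻¹)⁻¹ = σ ^ k := by
    have h1 : (a * τ * a⁻¹) * σ * (a * τ * a⁻¹)⁻¹ = a * (τ * (a⁻¹ * σ * a) * τ⁻¹) * a⁻¹ := by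
      group
    have h2 : a⁻¹ * σ * a = σ := by
      rw [mul_assoc, ← ha]
      group
    rw [h1, h2, ← hk, hak]
  refine ⟨h.hs, h.ht, h.oσ, ?_, ?_, ?_⟩
  · rw [← h.oτ]
    exact MulEquiv.orderOf_eq (MulAut.conj a) τ
  · rw [hconj]
    exact Subgroup.pow_mem _ (mem_zpowers σ) k
  · intro hc
    have h3 : (a * τ * a⁻¹) * σ * (a * τ * a⁻¹)⁻¹ = σ := by
      rw [hc]
      group
    rw [hconj, hk] at h3
    apply h.ncomm
    calc τ * σ = (τ * σ * τ⁻¹) * τ := by group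
      _ = σ * τ := by rw [h3]

theorem frob_conj {s t : ℕ} {σ τ : H} (h : FrobPair s t σ τ) (i : ℕ) :
    FrobPair s t σ (σ ^ i * τ * (σ ^ i)⁻¹) :=
  frob_conj_of_commute h (σ ^ i) ((Commute.refl σ).pow_left i).eq

theorem inv_conj_iff (σ τ : H) (i : ℕ) (X : Subgroup H) :
    Inv σ (σ ^ i * τ * (σ ^ i)⁻¹) X ↔ Inv σ τ X := by
  unfold Cfsg.Agent.Helper1.Shult.Inv
  constructor
  · rintro ⟨h1, h2⟩
    refine ⟨h1, ?_⟩
    have h3 : σ ^ i ∈ normalizer (X : Set H) := Subgroup.pow_mem _ h1 i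
    have h4 : τ = (σ ^ i)⁻¹ * (σ ^ i * τ * (σ ^ i)⁻¹) * σ ^ i := by group
    rw [h4]
    exact Subgroup.mul_mem _ (Subgroup.mul_mem _ (Subgroup.inv_mem _ h3) h2) h3
  · rintro ⟨h1, h2⟩
    refine ⟨h1, ?_⟩
    have h3 : σ ^ i ∈ normalizer (X : Set H) := Subgroup.pow_mem _ h1 i
    exact Subgroup.mul_mem _ (Subgroup.mul_mem _ h3 h2) (Subgroup.inv_mem _ h3)

theorem fix_conj_eq (σ τ : H) (i : ℕ) (X : Subgroup H) :
    Fix σ (σ ^ i * τ * (σ ^ i)⁻¹) X = Fix σ τ X := by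
  unfold Cfsg.Agent.Helper1.Shult.Fix
  congr 1
  ext g
  simp only [mem_centralizer_iff, Set.mem_insert_iff, Set.mem_singleton_iff, forall_eq_or_imp,
    forall_eq]
  constructor
  · rintro ⟨h1, h2⟩
    refine ⟨h1, ?_⟩
    have hc : Commute σ g := h1
    have hci : Commute (σ ^ i) g := hc.pow_left i
    have hc2 : Commute (σ ^ i * τ * (σ ^ i)⁻¹) g := h2
    have h4 : τ = (σ ^ i)⁻¹ * (σ ^ i * τ * (σ ^ i)⁻¹) * σ ^ i := by group
    have : Commute τ g := by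
      rw [h4]
      exact (hci.inv_left.mul_left hc2).mul_left hci
    exact this.eq
  · rintro ⟨h1, h2⟩
    refine ⟨h1, ?_⟩
    have hc : Commute σ g := h1
    have hci : Commute (σ ^ i) g := hc.pow_left i
    have hc2 : Commute τ g := h2
    exact ((hci.mul_left hc2).mul_left hci.inv_left).eq

/-- conjugates of `σ` under `⟨σ, τ⟩` are nontrivial powers of `σ`. -/
theorem frob_conj_sigma {s t : ℕ} {σ τ : H} (h : FrobPair s t σ τ) (a : H)
    (ha : a ∈ closure ({σ, τ} : Set H)) :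
    ∃ m : ℕ, ¬ s ∣ m ∧ a * σ * a⁻¹ = σ ^ m := by
  obtain ⟨k, hk⟩ := exists_pow_eq h
  induction ha using Subgroup.closure_induction with
  | mem x hx =>
    rcases hx with rfl | hx
    · exact ⟨1, h.hs.not_dvd_one, by simp⟩
    · rw [Set.mem_singleton_iff] at hx
      subst hx
      exact ⟨k, not_dvd_exp h hk, hk.symm⟩
  | one => exact ⟨1, h.hs.not_dvd_one, by simp⟩
  | mul x y _ _ hx hy =>
    obtain ⟨m, hm, hxm⟩ := hx
    obtain ⟨n, hn, hyn⟩ := hy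
    refine ⟨m * n, ?_, ?_⟩
    · intro hd
      rcases (Nat.Prime.dvd_mul h.hs).1 hd with h1 | h1
      · exact hm h1
      · exact hn h1
    · calc x * y * σ * (x * y)⁻¹ = x * (y * σ * y⁻¹) * x⁻¹ := by group
        _ = x * σ ^ n * x⁻¹ := by rw [hyn]
        _ = (x * σ * x⁻¹) ^ n := by rw [conj_pow]
        _ = σ ^ (m * n) := by rw [hxm, pow_mul]
  | inv x _ hx =>
    obtain ⟨m, hm, hxm⟩ := hx
    have hcop : Nat.Coprime m s := ((Nat.Prime.coprime_iff_not_dvd h.hs).2 hm).symm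
    obtain ⟨m', -, hm'⟩ := Nat.exists_mul_mod_eq_one_of_coprime hcop h.hs.one_lt
    refine ⟨m', ?_, ?_⟩
    · intro hd
      have : m * m' % s = 0 := Nat.mod_eq_zero_of_dvd (Dvd.dvd.mul_left hd m)
      omega
    · have h1 : (x⁻¹ * σ * x⁻¹⁻¹) ^ m = σ := by
        rw [conj_pow, ← hxm]
        group
      have hord : orderOf (x⁻¹ * σ * x⁻¹⁻¹) = s := by
        rw [← h.oσ]
        exact MulEquiv.orderOf_eq (MulAut.conj x⁻¹) σ
      have h2 : (x⁻¹ * σ * x⁻¹⁻¹) ^ (m * m') = x⁻¹ * σ * x⁻¹⁻¹ := by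
        conv_rhs => rw [← pow_one (x⁻¹ * σ * x⁻¹⁻¹)]
        rw [pow_eq_pow_iff_modEq, hord]
        unfold Nat.ModEq
        rw [hm', Nat.mod_eq_of_lt h.hs.one_lt]
      rw [← h2, pow_mul, h1]

/-- `σ` acts trivially on an `⟨σ,τ⟩`-invariant quotient of prime order. -/
theorem frob_sigma_cyclic_quotient {s t : ℕ} {σ τ : H} (h : FrobPair s t σ τ) (Q D : Subgroup H)
    {q : ℕ} (hq : q.Prime) (hDQ : D ≤ Q) (hDn : Q ≤ normalizer (D : Set H))
    (hidx : D.relIndex Q = q) (hQinv : Inv σ τ Q) (hDinv : Inv σ τ D) :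
    ∀ x ∈ Q, x⁻¹ * (σ * x * σ⁻¹) ∈ D := by
  intro x hx
  obtain ⟨k, hk⟩ := exists_pow_eq h
  set N : Subgroup H := normalizer (Q : Set H) ⊓ normalizer (D : Set H) with hN
  have hQN : Q ≤ N := le_inf le_normalizer hDn
  have hDN : D ≤ N := hDQ.trans hQN
  have hσN : σ ∈ N := ⟨hQinv.1, hDinv.1⟩
  have hτN : τ ∈ N := ⟨hQinv.2, hDinv.2⟩
  have hD1 : (D.subgroupOf N).Normal := normal_subgroupOf_of_le_normalizer inf_le_right
  have hQ1 : (Q.subgroupOf N).Normal := normal_subgroupOf_of_le_normalizer inf_le_left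
  set f : ↥N →* ↥N ⧸ D.subgroupOf N := QuotientGroup.mk' (D.subgroupOf N) with hf
  set C : Subgroup (↥N ⧸ D.subgroupOf N) := (Q.subgroupOf N).map f with hCdef
  have hCn : C.Normal := hQ1.map f (QuotientGroup.mk'_surjective _)
  have hCcard : Nat.card C = q := by
    have h1 := relIndex_ker (Q.subgroupOf N) f
    rw [hf, QuotientGroup.ker_mk', relIndex_subgroupOf hQN, hidx] at h1
    exact h1.symm
  -- the subgroup of `H` of the elements of `N` acting trivially on `C`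
  set Z : Subgroup H := ((centralizer (C : Set (↥N ⧸ D.subgroupOf N))).comap f).map N.subtype
    with hZ
  set σ' : ↥N := ⟨σ, hσN⟩ with hσ'
  set τ' : ↥N := ⟨τ, hτN⟩ with hτ'
  set x' : ↥N := ⟨x, hQN hx⟩ with hx'
  -- the commutator lies in `Z`
  have hcomm : τ * σ * τ⁻¹ * σ⁻¹ ∈ Z := by
    refine ⟨τ' * σ' * τ'⁻¹ * σ'⁻¹, ?_, rfl⟩
    rw [SetLike.mem_coe, mem_comap, mem_centralizer_iff]
    intro c hc
    have key := Cfsg.Agent.Helper62.Shult.conj_comm_eq_of_prime_card C hq hCcard (f τ') (f σ') c hc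
    rw [← map_inv, ← map_inv, ← map_mul, ← map_mul, ← map_mul] at key
    calc c * f (τ' * σ' * τ'⁻¹ * σ'⁻¹)
        = (f (τ' * σ' * τ'⁻¹ * σ'⁻¹) * c * (f (τ' * σ' * τ'⁻¹ * σ'⁻¹))⁻¹)
          * f (τ' * σ' * τ'⁻¹ * σ'⁻¹) := by rw [key]
      _ = f (τ' * σ' * τ'⁻¹ * σ'⁻¹) * c := by group
  -- the commutator generates `⟨σ⟩`
  have hg1 : τ * σ * τ⁻¹ * σ⁻¹ ≠ 1 := by
    intro h1
    apply h.ncomm
    calc τ * σ = (τ * σ * τ⁻¹ * σ⁻¹) * σ * τ := by group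
      _ = σ * τ := by rw [h1, one_mul]
  have hgmem : τ * σ * τ⁻¹ * σ⁻¹ ∈ zpowers σ :=
    Subgroup.mul_mem _ h.norm (Subgroup.inv_mem _ (mem_zpowers σ))
  have hgord : orderOf (τ * σ * τ⁻¹ * σ⁻¹) = s := by
    have hd : orderOf (τ * σ * τ⁻¹ * σ⁻¹) ∣ s := by
      rw [← h.oσ]
      exact orderOf_dvd_of_mem_zpowers hgmem
    rcases (Nat.dvd_prime h.hs).1 hd with h3 | h3
    · exact absurd (orderOf_eq_one_iff.1 h3) hg1
    · exact h3
  have hzp : zpowers (τ * σ * τ⁻¹ * σ⁻¹) = zpowers σ := by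
    apply Subgroup.eq_of_le_of_card_ge
    · exact (zpowers_le).2 hgmem
    · rw [Nat.card_zpowers, Nat.card_zpowers, hgord, h.oσ]
  have hσZ : σ ∈ Z := by
    have h1 : zpowers (τ * σ * τ⁻¹ * σ⁻¹) ≤ Z := (zpowers_le).2 hcomm
    rw [hzp] at h1
    exact h1 (mem_zpowers σ)
  obtain ⟨σ'', hσ''Z, hσ''⟩ := hσZ
  have hσeq : σ'' = σ' := Subtype.ext hσ''
  rw [hσeq, SetLike.mem_coe, mem_comap, mem_centralizer_iff] at hσ''Z
  have hx'C : f x' ∈ C := ⟨x', (mem_subgroupOf).2 hx, rfl⟩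
  have key := hσ''Z (f x') hx'C
  have key2 : x'⁻¹ * (σ' * x' * σ'⁻¹) ∈ D.subgroupOf N := by
    rw [← QuotientGroup.eq]
    show f x' = f (σ' * x' * σ'⁻¹)
    rw [map_mul, map_mul, map_inv, ← key]
    group
  exact (mem_subgroupOf).1 key2

end Cfsg.Agent.Helper38.PQFA
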