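import Mathlib
import Cfsg.Agent.Helper30.HallSym.Defs

/-!
# (X-1), (X-2) of WANTED #6117 (helper30, Hall subgroups of `S_n`): the exceptional Hall subgroups
`S_{n-1} < S_n` (`n` prime) and `S_3 × S_4 < S_7`.
-/

set_option autoImplicit false
open Equiv Equiv.Perm MulAction Subgroup Cfsg Cfsg.Agent.Helper30.HallSym
open scoped Nat Pointwise

universe u

namespace Cfsg.Agent.Helper38.HallSym

/-- the index of the setwise stabilizer of a `k`-subset in the symmetric group -/
theorem index_stabilizer_set {α : Type u} [Fintype α] [DecidableEq α] (s : Set α) :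
    (stabilizer (Perm α) s).index = (Fintype.card α).choose s.ncard := by
  classical
  have hfin : s.Finite := Set.toFinite s
  have hk : hfin.toFinset.card = s.ncard := (Set.ncard_eq_toFinset_card s hfin).symm
  let s' : Set.powersetCard α s.ncard := ⟨hfin.toFinset, Set.powersetCard.mem_iff.mpr hk⟩
  have hcoe : ((s' : Set.powersetCard α s.ncard) : Set α) = s := by
    ext x
    simp [s']
  have := Set.powersetCard.isPretransitive (α := α) (n := s.ncard)
  have h1 := Set.powersetCard.stabilizer_coe (G := Perm α) s'
  rw [hcoe] at h1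
  rw [← h1, MulAction.index_stabilizer_of_transitive, Set.powersetCard.card,
    Nat.card_eq_fintype_card]

/-- (X-1) -/
theorem isPiHall_stabilizer_point {α : Type u} [Fintype α] [DecidableEq α] {π : Set ℕ}
    (hn : (Fintype.card α).Prime)
    (h : ∀ r : ℕ, r.Prime → r ≤ Fintype.card α → (r ∈ π ↔ r < Fintype.card α)) (a : α) :
    IsPiHall π (stabilizer (Perm α) a) := by
  have hidx : (stabilizer (Perm α) a).index = Fintype.card α := by
    rw [MulAction.index_stabilizer_of_transitive, Nat.card_eq_fintype_card]
  have hmul := Subgroup.card_mul_index (stabilizer (Perm α) a)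
  rw [hidx, Nat.card_eq_fintype_card (α := Perm α), Fintype.card_perm,
    ← Nat.mul_factorial_pred hn.pos.ne', mul_comm] at hmul
  have hcard : Nat.card (stabilizer (Perm α) a) = (Fintype.card α - 1)! :=
    Nat.eq_of_mul_eq_mul_left hn.pos hmul
  constructor
  · intro p hp hdvd
    rw [hcard] at hdvd
    have hle : p ≤ Fintype.card α - 1 := (Nat.Prime.dvd_factorial hp).mp hdvd
    have hpos := hn.pos
    exact (h p hp (by omega)).mpr (by omega)
  · intro p hp hpπ hdvd
    rw [hidx] at hdvd
    have heq : p = Fintype.card α := (Nat.prime_dvd_prime_iff_eq hp hn).mp hdvd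
    have := (h p hp (by omega)).mp hpπ
    omega

end Cfsg.Agent.Helper38.HallSym
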