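import Mathlib
import Cfsg.Agent.Helper30.HallSym.Defs
import Cfsg.Agent.Helper38.HallSymX1

/-!
# (X-2) of WANTED #6117 (helper30): `S_3 × S_4 < S_7` is a Hall `{2,3}`-subgroup
-/

set_option autoImplicit false
open Equiv Equiv.Perm MulAction Subgroup Cfsg Cfsg.Agent.Helper30.HallSym
open scoped Nat Pointwise

universe u

namespace Cfsg.Agent.Helper38.HallSym

/-- (X-2) -/
theorem isPiHall_stabilizer_three {α : Type u} [Fintype α] [DecidableEq α] {π : Set ℕ}
    (h7 : Fintype.card α = 7) (h : TwoThree π 7) (s : Set α) (hs : s.ncard = 3) :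
    IsPiHall π (stabilizer (Perm α) s) := by
  have hidx : (stabilizer (Perm α) s).index = 35 := by
    rw [index_stabilizer_set, h7, hs]; rfl
  have hmul := Subgroup.card_mul_index (stabilizer (Perm α) s)
  rw [hidx, Nat.card_eq_fintype_card (α := Perm α), Fintype.card_perm, h7] at hmul
  have hcard : Nat.card (stabilizer (Perm α) s) = 144 := by
    have h5040 : (7)! = 144 * 35 := by decide
    rw [h5040] at hmul
    exact Nat.eq_of_mul_eq_mul_right (by norm_num) hmul
  constructor
  · intro p hp hdvd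
    rw [hcard, show (144 : ℕ) = 2 ^ 4 * 3 ^ 2 by norm_num] at hdvd
    rcases hp.dvd_mul.mp hdvd with h2 | h3
    · have : p = 2 := (Nat.prime_dvd_prime_iff_eq hp Nat.prime_two).mp (hp.dvd_of_dvd_pow h2)
      exact (h p hp (by omega)).mpr (Or.inl this)
    · have : p = 3 := (Nat.prime_dvd_prime_iff_eq hp Nat.prime_three).mp (hp.dvd_of_dvd_pow h3)
      exact (h p hp (by omega)).mpr (Or.inr this)
  · intro p hp hpπ hdvd
    rw [hidx, show (35 : ℕ) = 5 * 7 by norm_num] at hdvd
    rcases hp.dvd_mul.mp hdvd with h5 | h7'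
    · have h5' : p = 5 := (Nat.prime_dvd_prime_iff_eq hp (by norm_num)).mp h5
      have := (h p hp (by omega)).mp hpπ
      omega
    · have h7'' : p = 7 := (Nat.prime_dvd_prime_iff_eq hp (by norm_num)).mp h7'
      have := (h p hp (by omega)).mp hpπ
      omega

end Cfsg.Agent.Helper38.HallSym
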