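import Mathlib

/-!
# Isometries with irreducible minimal polynomial over a finite field

If `x` is an isometry of a nondegenerate bilinear form on a finite-dimensional space over the finite
field `F_q` and the minimal polynomial of `x` is irreducible, then `x ^ (q ^ i + 1) = 1` for some `i`:
the adjoint involution induces an automorphism of the field `F[x]`, i.e. a power of Frobenius,
mapping `x` to `x⁻¹`.
-/

set_option autoImplicit false

namespace Cfsg.Agent.Helper38

open Module Polynomial

section
variable {F V : Type*} [Field F] [AddCommGroup V] [Module F V]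

/-- adjoint of a polynomial in `x` when `y` is adjoint to `x` -/
theorem aeval_adjoint (B : LinearMap.BilinForm F V) (x y : Module.End F V)
    (hxy : ∀ u v, B (x u) v = B u (y v)) (p : F[X]) (u v : V) :
    B (aeval x p u) v = B u (aeval y p v) := by
  induction p using Polynomial.induction_on generalizing u v with
  | C a => simp [Module.algebraMap_end_apply]
  | add p q hp hq => simp [hp, hq]
  | monomial n a h =>
    have e1 : ∀ w : V, aeval x (C a * X ^ (n + 1)) w = x (aeval x (C a * X ^ n) w) := by
      intro w
      rw [pow_succ, ← mul_assoc, map_mul, aeval_X, Module.End.mul_apply]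
      have hc : Commute (aeval x (C a * X ^ n)) x := by
        have : Commute (aeval x (C a * X ^ n)) (aeval x X) :=
          (Commute.all (C a * X ^ n) X).map (aeval x)
        rwa [aeval_X] at this
      rw [← Module.End.mul_apply, hc.eq, Module.End.mul_apply]
    have e2 : ∀ w : V, aeval y (C a * X ^ (n + 1)) w = aeval y (C a * X ^ n) (y w) := by
      intro w
      rw [pow_succ, ← mul_assoc, map_mul, aeval_X, Module.End.mul_apply]
    rw [e1, e2, hxy, h]

end

section
variable {F V : Type*} [Field F] [Fintype F] [AddCommGroup V] [Module F V]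

/-- **Isometries with irreducible minimal polynomial**: `x ^ (q ^ i + 1) = 1` for some `i`. -/
theorem isometry_pow_eq_one_of_irreducible (B : LinearMap.BilinForm F V) (hnd : B.Nondegenerate)
    (x : Module.End F V) (hxB : ∀ u v, B (x u) (x v) = B u v)
    (hirr : Irreducible (minpoly F x)) :
    ∃ i : ℕ, x ^ (Fintype.card F ^ i + 1) = 1 := by
  classical
  -- `V` is nontrivial
  have hnt : Nontrivial (Module.End F V) := by
    by_contra hcon
    rw [not_nontrivial_iff_subsingleton] at hcon
    have : minpoly F x = 1 := minpoly.subsingleton F x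
    rw [this] at hirr
    exact not_irreducible_one hirr
  have : Fact (Irreducible (minpoly F x)) := ⟨hirr⟩
  let K := AdjoinRoot (minpoly F x)
  let ev : K →ₐ[F] Module.End F V :=
    Ideal.Quotient.liftₐ (Ideal.span {minpoly F x}) (aeval x) (by
      intro a ha
      rw [Ideal.mem_span_singleton] at ha
      obtain ⟨c, rfl⟩ := ha
      rw [map_mul, minpoly.aeval, zero_mul])
  have hevinj : Function.Injective ev := (ev : K →+* Module.End F V).injective
  set α : K := AdjoinRoot.root (minpoly F x) with hα
  have hevmk : ∀ p : F[X], ev (AdjoinRoot.mk (minpoly F x) p) = aeval x p := fun p => rfl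
  have hevα : ev α = x := by
    rw [hα, AdjoinRoot.root, hevmk, aeval_X]
  -- `x ≠ 0`
  have hx0 : x ≠ 0 := by
    intro h0
    obtain ⟨v, hv⟩ : ∃ v : V, v ≠ 0 := by
      by_contra hcon
      push Not at hcon
      obtain ⟨f, g, hfg⟩ := hnt
      apply hfg
      ext v
      rw [hcon v, map_zero, map_zero]
    apply hv
    apply hnd.1
    intro w
    rw [← hxB, h0]
    simp
  have hα0 : α ≠ 0 := by
    intro h
    apply hx0
    rw [← hevα, h, map_zero]
  set β : K := α⁻¹ with hβ
  set y : Module.End F V := ev β with hy
  have hxy1 : x * y = 1 := by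
    rw [← hevα, hy, ← map_mul, hβ, mul_inv_cancel₀ hα0, map_one]
  have hadj : ∀ u v, B (x u) v = B u (y v) := by
    intro u v
    have : v = x (y v) := by
      rw [← Module.End.mul_apply, hxy1, Module.End.one_apply]
    nth_rewrite 1 [this]
    rw [hxB]
  -- `minpoly(y) = 0`
  have hmy : aeval y (minpoly F x) = 0 := by
    ext v
    rw [LinearMap.zero_apply]
    apply hnd.2
    intro u
    rw [← aeval_adjoint B x y hadj, minpoly.aeval]
    simp
  have hmβ : aeval β (minpoly F x) = 0 := by
    apply hevinj
    rw [map_zero, ← Polynomial.aeval_algHom_apply, ← hy, hmy]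
  let σ : K →ₐ[F] K := AdjoinRoot.liftAlgHom (minpoly F x) (Algebra.ofId F K) β (by
      rwa [aeval_def] at hmβ)
  have hσα : σ α = β := AdjoinRoot.liftAlgHom_root _ _ _ _
  have : FiniteDimensional F K := (AdjoinRoot.powerBasis hirr.ne_zero).finite
  have : Finite K := Module.finite_of_finite F
  obtain ⟨i, hi⟩ := (FiniteField.bijective_frobeniusAlgHom_pow F K).2 σ
  refine ⟨i.1, ?_⟩
  have h1 : α ^ (Fintype.card F ^ i.1) = β := by
    rw [← hσα, ← hi]
    simp only [AlgHom.coe_pow, FiniteField.coe_frobeniusAlgHom, pow_iterate]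
  have h2 : α ^ (Fintype.card F ^ i.1 + 1) = 1 := by
    rw [pow_succ, h1, hβ, inv_mul_cancel₀ hα0]
  have h3 := congrArg ev h2
  rwa [map_pow, hevα, map_one] at h3

end

section
variable {F V : Type*} [Field F] [AddCommGroup V] [Module F V] [FiniteDimensional F V]

/-- an endomorphism without proper nonzero invariant subspaces has irreducible minimal polynomial -/
theorem irreducible_minpoly_of_minimal [Nontrivial V] (x : Module.End F V)
    (hmin : ∀ W : Submodule F V, (∀ w ∈ W, x w ∈ W) → W = ⊥ ∨ W = ⊤) :
    Irreducible (minpoly F x) := by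
  have hint : IsIntegral F x := Algebra.IsIntegral.isIntegral x
  have hne : minpoly F x ≠ 0 := minpoly.ne_zero hint
  have hnu : ¬ IsUnit (minpoly F x) := minpoly.not_isUnit F x
  obtain ⟨f, hf, c, hc⟩ := WfDvdMonoid.exists_irreducible_factor hnu hne
  have hinv : ∀ w ∈ LinearMap.ker (aeval x f), x w ∈ LinearMap.ker (aeval x f) := by
    intro w hw
    rw [LinearMap.mem_ker] at hw ⊢
    have hc' : Commute (aeval x f) x := by
      have : Commute (aeval x f) (aeval x X) := (Commute.all f X).map (aeval x)
      rwa [aeval_X] at this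
    rw [← Module.End.mul_apply, hc'.eq, Module.End.mul_apply, hw, map_zero]
  rcases hmin _ hinv with h | h
  · -- `f(x)` injective, so `c(x) = 0`
    exfalso
    have hc0 : aeval x c = 0 := by
      ext v
      have h1 : (aeval x f) ((aeval x c) v) = 0 := by
        rw [← Module.End.mul_apply, ← map_mul, ← hc, minpoly.aeval]
        rfl
      have h2 : (aeval x c) v ∈ LinearMap.ker (aeval x f) := h1
      rw [h] at h2
      simpa using h2
    have hdvd := minpoly.dvd F x hc0
    have hc_ne : c ≠ 0 := by
      rintro rfl
      rw [mul_zero] at hc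
      exact hne hc
    have hdeg := Polynomial.natDegree_le_of_dvd hdvd hc_ne
    rw [hc, Polynomial.natDegree_mul hf.ne_zero hc_ne] at hdeg
    have := hf.natDegree_pos
    omega
  · -- `f(x) = 0`
    have hf0 : aeval x f = 0 := by
      ext v
      have : v ∈ LinearMap.ker (aeval x f) := by rw [h]; trivial
      simpa using this
    have hdvd := minpoly.dvd F x hf0
    have hass : Associated f (minpoly F x) := associated_of_dvd_dvd ⟨c, hc⟩ hdvd
    exact hass.irreducible hf

end


section
variable {F V : Type*} [Field F] [Fintype F] [AddCommGroup V] [Module F V] [FiniteDimensional F V]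

/-- SD'' on a minimal invariant nondegenerate subspace -/
theorem isometry_pow_eq_on_minimal (B : LinearMap.BilinForm F V) (hrefl : B.IsRefl)
    (x : Module.End F V) (hxB : ∀ u v, B (x u) (x v) = B u v)
    (W : Submodule F V) (hW : ∀ w ∈ W, x w ∈ W) (hW0 : W ≠ ⊥)
    (hmin : ∀ W' : Submodule F V, W' ≤ W → (∀ w ∈ W', x w ∈ W') → W' = ⊥ ∨ W' = W)
    (hdisj : Disjoint W (B.orthogonal W)) :
    ∃ i : ℕ, ∀ w ∈ W, (x ^ (Fintype.card F ^ i + 1)) w = w := by
  have hnd' : (B.restrict W).Nondegenerate :=
    LinearMap.BilinForm.nondegenerate_restrict_of_disjoint_orthogonal B hrefl hdisj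
  have hnt : Nontrivial W := Submodule.nontrivial_iff_ne_bot.mpr hW0
  have hmin' : ∀ W' : Submodule F W, (∀ w ∈ W', (x.restrict hW) w ∈ W') → W' = ⊥ ∨ W' = ⊤ := by
    intro W' hW'
    have h1 : ∀ w ∈ W'.map W.subtype, x w ∈ W'.map W.subtype := by
      rintro _ ⟨w, hw, rfl⟩
      exact ⟨x.restrict hW w, hW' w hw, rfl⟩
    rcases hmin _ (Submodule.map_subtype_le W W') h1 with h | h
    · left
      rw [Submodule.eq_bot_iff]
      intro w hw
      have h2 : (w : V) ∈ W'.map W.subtype := ⟨w, hw, rfl⟩
      rw [h, Submodule.mem_bot] at h2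
      exact Subtype.ext h2
    · right
      rw [eq_top_iff]
      rintro ⟨w, hw⟩ -
      have : w ∈ W'.map W.subtype := by rw [h]; exact hw
      obtain ⟨w', hw', hw'eq⟩ := this
      have : w' = ⟨w, hw⟩ := Subtype.ext hw'eq
      rwa [← this]
  have hirr := irreducible_minpoly_of_minimal (x.restrict hW) hmin'
  obtain ⟨i, hi⟩ := isometry_pow_eq_one_of_irreducible (B.restrict W) hnd' (x.restrict hW)
    (fun u v => hxB u v) hirr
  refine ⟨i, fun w hw => ?_⟩
  rw [Module.End.pow_restrict] at hi
  have := LinearMap.congr_fun hi ⟨w, hw⟩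
  exact congrArg Subtype.val this

end


end Cfsg.Agent.Helper38
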