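import Mathlib
import Cfsg.Agent.Helper38.CommUnip

/-!
# Variants of `CommUnip` for small dimensions
-/

set_option autoImplicit false

namespace Cfsg.Agent.Helper38

open Module

section main
variable {F V : Type*} [Field F] [Fintype F] [AddCommGroup V] [Module F V] [Finite V]

/-- `exists_dvd_of_commute_sq_zero` for all dimensions `≥ 2`, with the bound `max (n - 2) 1` -/
theorem exists_dvd_of_commute_sq_zero' (g N : Module.End F V) (hN2 : N * N = 0) (hN : N ≠ 0)
    (hcomm : g * N = N * g) (r : ℕ) [Fact r.Prime] (hg : g ^ r = 1) (hg1 : g ≠ 1)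
    (hrq : ¬ r ∣ Fintype.card F) (hr0 : (r : F) ≠ 0) :
    ∃ e, 1 ≤ e ∧ e ≤ max (finrank F V - 2) 1 ∧ r ∣ Fintype.card F ^ e - 1 := by
  by_contra hcon
  push Not at hcon
  have hIK : LinearMap.range N ≤ LinearMap.ker N := by
    rintro v ⟨w, rfl⟩
    rw [LinearMap.mem_ker, ← Module.End.mul_apply, hN2]
    rfl
  have hrank := LinearMap.finrank_range_add_finrank_ker N
  have hI1 : 1 ≤ finrank F (LinearMap.range N) := by
    rw [Nat.one_le_iff_ne_zero, Ne, Submodule.finrank_eq_zero, LinearMap.range_eq_bot]
    exact hN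
  have hIle : finrank F (LinearMap.range N) ≤ finrank F (LinearMap.ker N) :=
    Submodule.finrank_mono hIK
  have hIinv : ∀ w ∈ LinearMap.range N, g w ∈ LinearMap.range N := by
    rintro w ⟨v, rfl⟩
    refine ⟨g v, ?_⟩
    rw [← Module.End.mul_apply, ← hcomm, Module.End.mul_apply]
  have hKinv : ∀ w ∈ LinearMap.ker N, g w ∈ LinearMap.ker N := by
    intro w hw
    rw [LinearMap.mem_ker] at hw ⊢
    rw [← Module.End.mul_apply, ← hcomm, Module.End.mul_apply, hw, map_zero]
  -- step 1
  have hIfix : ∀ w ∈ LinearMap.range N, g w = w := by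
    have h1 := dvd_pow_sub_one_of_invariant g r hg hrq _ hIinv
    have h2 : fixIn g (LinearMap.range N) = LinearMap.range N := by
      apply Submodule.eq_of_le_of_finrank_le (fixIn_le _ _)
      by_contra hlt
      push Not at hlt
      exact hcon _ (by omega) (by omega) h1
    intro w hw
    rw [← h2] at hw
    exact ((mem_fixIn g _ w).mp hw).2
  -- step 2
  have hKfix : ∀ w ∈ LinearMap.ker N, g w = w := by
    have h1 := dvd_pow_sub_one_of_invariant g r hg hrq _ hKinv
    have h3 : finrank F (LinearMap.range N) ≤ finrank F (fixIn g (LinearMap.ker N)) := by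
      apply Submodule.finrank_mono
      intro w hw
      exact (mem_fixIn g _ w).mpr ⟨hIK hw, hIfix w hw⟩
    have h2 : fixIn g (LinearMap.ker N) = LinearMap.ker N := by
      apply Submodule.eq_of_le_of_finrank_le (fixIn_le _ _)
      by_contra hlt
      push Not at hlt
      exact hcon _ (by omega) (by omega) h1
    intro w hw
    rw [← h2] at hw
    exact ((mem_fixIn g _ w).mp hw).2
  -- step 3
  have hM : (g - 1) * (g - 1) = 0 := by
    apply LinearMap.ext
    intro v
    rw [Module.End.mul_apply, LinearMap.zero_apply]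
    have hk : (g - 1) v ∈ LinearMap.ker N := by
      rw [LinearMap.mem_ker, LinearMap.sub_apply, Module.End.one_apply, map_sub,
        ← Module.End.mul_apply, ← hcomm, Module.End.mul_apply, hIfix _ ⟨v, rfl⟩, sub_self]
    rw [LinearMap.sub_apply, Module.End.one_apply, hKfix _ hk, sub_self]
  have hpow := one_add_pow_of_sq_zero (g - 1) hM r
  rw [add_sub_cancel, hg] at hpow
  have h0 : (r : F) • (g - 1) = 0 := by
    have := hpow
    rwa [left_eq_add] at this
  rcases smul_eq_zero.mp h0 with h | h
  · exact hr0 h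
  · exact hg1 (sub_eq_zero.mp h)

end main

end Cfsg.Agent.Helper38
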