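import Mathlib
import Cfsg.Agent.Helper38.CommUnip2
import Cfsg.Agent.Helper38.IsomOdd
import Cfsg.Agent.Helper36.AltForm
import Cfsg.Agent.Helper40.SylowGL

/-!
# Semisimple isometries of a symplectic space commuting with a unipotent isometry
-/

set_option autoImplicit false

namespace Cfsg.Agent.Helper38

open Module

section semisimple
variable {F V : Type*} [Field F] [AddCommGroup V] [Module F V] [FiniteDimensional F V]

omit [FiniteDimensional F V] in
/-- fixed space and commutator space of an element of order prime to the characteristic meet trivially -/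
theorem ker_inf_range_sub_one (g : Module.End F V) (r : ℕ) (hg : g ^ r = 1) (hr0 : (r : F) ≠ 0) :
    LinearMap.ker (g - 1) ⊓ LinearMap.range (g - 1) = ⊥ := by
  rw [eq_bot_iff]
  rintro v ⟨hv1, ⟨u, rfl⟩⟩
  rw [SetLike.mem_coe, LinearMap.mem_ker, LinearMap.sub_apply, Module.End.one_apply, sub_eq_zero] at hv1
  have hS : (∑ i ∈ Finset.range r, g ^ i) * (g - 1) = 0 := by
    rw [geom_sum_mul, hg, sub_self]
  have h1 : (∑ i ∈ Finset.range r, g ^ i) ((g - 1) u) = 0 := by
    rw [← Module.End.mul_apply, hS]
    rfl
  have hfixpow : ∀ i : ℕ, (g ^ i) ((g - 1) u) = (g - 1) u := by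
    intro i
    induction i with
    | zero => simp
    | succ i ih => rw [pow_succ, Module.End.mul_apply, hv1, ih]
  have h2 : (∑ i ∈ Finset.range r, g ^ i) ((g - 1) u) = (r : F) • ((g - 1) u) := by
    rw [LinearMap.sum_apply, Finset.sum_congr rfl (fun i _ => hfixpow i), Finset.sum_const,
      Finset.card_range, Nat.cast_smul_eq_nsmul]
  rw [h1] at h2
  rcases smul_eq_zero.mp h2.symm with h | h
  · exact absurd h hr0
  · exact h

theorem ker_sup_range_sub_one (g : Module.End F V) (r : ℕ) (hg : g ^ r = 1) (hr0 : (r : F) ≠ 0) :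
    LinearMap.ker (g - 1) ⊔ LinearMap.range (g - 1) = ⊤ := by
  apply Submodule.eq_top_of_finrank_eq
  have h1 := Submodule.finrank_sup_add_finrank_inf_eq (LinearMap.ker (g - 1)) (LinearMap.range (g - 1))
  rw [ker_inf_range_sub_one g r hg hr0, finrank_bot, add_zero] at h1
  have h2 := LinearMap.finrank_range_add_finrank_ker (g - 1)
  omega

/-- the commutator space `[V, g]` of an isometry `g` of an alternating form has even dimension -/
theorem even_finrank_sub_ker_of_isometry (B : LinearMap.BilinForm F V) (hB : B.IsAlt)
    (hnd : B.Nondegenerate) (g : Module.End F V) (hgB : ∀ x y, B (g x) (g y) = B x y)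
    (r : ℕ) (hg : g ^ r = 1) (hr0 : (r : F) ≠ 0) :
    Even (finrank F V - finrank F (LinearMap.ker (g - 1))) := by
  set β : LinearMap.BilinForm F V := B.comp (g - 1) (g - 1) with hβdef
  have hβ : β.IsAlt := fun x => hB _
  have hker : LinearMap.ker β = LinearMap.ker (g - 1) := by
    ext x
    rw [LinearMap.mem_ker, LinearMap.mem_ker]
    constructor
    · intro h
      apply hnd.1
      intro y
      have hy : y ∈ LinearMap.ker (g - 1) ⊔ LinearMap.range (g - 1) := by
        rw [ker_sup_range_sub_one g r hg hr0]
        trivial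
      obtain ⟨c, hc, m, ⟨y', rfl⟩, rfl⟩ := Submodule.mem_sup.mp hy
      rw [LinearMap.mem_ker, LinearMap.sub_apply, Module.End.one_apply, sub_eq_zero] at hc
      have h1 : B ((g - 1) x) c = 0 := by
        rw [LinearMap.sub_apply, Module.End.one_apply, map_sub, LinearMap.sub_apply]
        nth_rewrite 1 [← hc]
        rw [hgB, sub_self]
      have h2 : B ((g - 1) x) ((g - 1) y') = 0 := by
        have := LinearMap.congr_fun h y'
        simpa [hβdef] using this
      rw [map_add, h1, h2, add_zero]
    · intro h
      ext y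
      simp [hβdef, h]
  have := Cfsg.Agent.Helper36.even_finrank_sub_ker_of_isAlt β hβ
  rwa [hker] at this

end semisimple

section main
variable {F V : Type*} [Field F] [Fintype F] [AddCommGroup V] [Module F V] [Finite V]

omit [Fintype F] [Finite V] in
/-- adjoint of the powers of `U - 1` for an isometry `U` -/
theorem isometry_sub_one_pow_adjoint (B : LinearMap.BilinForm F V) (U : Module.End F V)
    (hUB : ∀ x y, B (U x) (U y) = B x y) (j : ℕ) (x y : V) :
    B (((U - 1) ^ j) x) ((U ^ j) y) = (-1) ^ j * B x (((U - 1) ^ j) y) := by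
  induction j generalizing x y with
  | zero => simp
  | succ j ih =>
    have hcomm : Commute (U - 1) (U ^ j) := ((Commute.refl U).pow_right j).sub_left (Commute.one_left _)
    have h1 : ∀ a b : V, B ((U - 1) a) (U b) = - B a ((U - 1) b) := by
      intro a b
      simp only [LinearMap.sub_apply, Module.End.one_apply, map_sub, hUB]
      ring
    have e1 : ((U - 1) ^ (j + 1)) x = (U - 1) (((U - 1) ^ j) x) := by
      rw [pow_succ', Module.End.mul_apply]
    have e2 : (U ^ (j + 1)) y = U ((U ^ j) y) := by
      rw [pow_succ', Module.End.mul_apply]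
    have e3 : ((U - 1) ^ (j + 1)) y = ((U - 1) ^ j) ((U - 1) y) := by
      rw [pow_succ, Module.End.mul_apply]
    have e4 : (U - 1) ((U ^ j) y) = (U ^ j) ((U - 1) y) := by
      rw [← Module.End.mul_apply, hcomm.eq, Module.End.mul_apply]
    rw [e1, e2, e3, h1, e4, ih, pow_succ]
    ring

/-- The main bound: if a semisimple isometry `g` of prime order `r` of a symplectic space over `F_q` commutes with a
nontrivial unipotent isometry, then with `k = ord_r(q)`: `k + 2 ≤ dim V` for even `k`, `2 k + 2 ≤ dim V` for odd `k`. -/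
theorem sp_adjacent_bound (B : LinearMap.BilinForm F V) (hB : B.IsAlt) (hnd : B.Nondegenerate)
    (g U : Module.End F V) (hgB : ∀ x y, B (g x) (g y) = B x y) (hUB : ∀ x y, B (U x) (U y) = B x y)
    (hgU : g * U = U * g) (r : ℕ) [Fact r.Prime] (hr2 : r ≠ 2) (hg : g ^ r = 1) (hg1 : g ≠ 1)
    (hrq : ¬ r ∣ Fintype.card F) (hr0 : (r : F) ≠ 0) (hU1 : U ≠ 1) (hUnil : ∃ s, (U - 1) ^ s = 0) :
    (Even (orderOf ((Fintype.card F : ℕ) : ZMod r)) →
      orderOf ((Fintype.card F : ℕ) : ZMod r) + 2 ≤ finrank F V) ∧
    (Odd (orderOf ((Fintype.card F : ℕ) : ZMod r)) →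
      2 * orderOf ((Fintype.card F : ℕ) : ZMod r) + 2 ≤ finrank F V) := by
  classical
  have hq : 1 ≤ Fintype.card F := Fintype.card_pos
  have hrp : r.Prime := Fact.out
  have hkpos : 0 < orderOf ((Fintype.card F : ℕ) : ZMod r) := Cfsg.Agent.Helper40.ordq_pos hrq
  -- the square-zero element
  set D : Module.End F V := U - 1 with hD
  have hD0 : D ≠ 0 := fun h => hU1 (sub_eq_zero.mp h)
  set s := Nat.find hUnil with hs
  have hs0 : D ^ s = 0 := Nat.find_spec hUnil
  have : Nontrivial V := by
    by_contra hnt
    rw [not_nontrivial_iff_subsingleton] at hnt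
    apply hD0
    apply LinearMap.ext
    intro v
    exact Subsingleton.elim _ _
  have hs2 : 2 ≤ s := by
    by_contra hlt
    push Not at hlt
    interval_cases s
    · rw [pow_zero] at hs0
      exact one_ne_zero hs0
    · rw [pow_one] at hs0
      exact hD0 hs0
  have hsmin : D ^ (s - 1) ≠ 0 := Nat.find_min hUnil (by omega)
  have hgD : g * D = D * g := by
    rw [hD, mul_sub, sub_mul, hgU, mul_one, one_mul]
  set N : Module.End F V := D ^ (s - 1) with hN
  have hN2 : N * N = 0 := by
    rw [hN, ← pow_add]
    obtain ⟨t, ht⟩ : ∃ t, s - 1 + (s - 1) = s + t := ⟨s - 2, by omega⟩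
    rw [ht, pow_add, hs0, zero_mul]
  have hgN : g * N = N * g := by
    have : Commute g D := hgD
    exact (this.pow_right (s - 1)).eq
  -- dimension of the fixed space
  have hfix : fixIn g ⊤ = LinearMap.ker (g - 1) := by
    unfold fixIn
    rw [top_inf_eq]
  have h1 := dvd_pow_sub_one_of_invariant g r hg hrq ⊤ (fun w _ => trivial)
  rw [Cfsg.Agent.Helper40.dvd_pow_sub_one_iff hq, finrank_top, hfix] at h1
  have hc : finrank F (LinearMap.ker (g - 1)) < finrank F V := by
    apply Submodule.finrank_lt
    intro h
    apply hg1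
    apply LinearMap.ext
    intro v
    have hv : v ∈ LinearMap.ker (g - 1) := by rw [h]; trivial
    rw [LinearMap.mem_ker, LinearMap.sub_apply, sub_eq_zero] at hv
    exact hv
  have h2 := even_finrank_sub_ker_of_isometry B hB hnd g hgB r hg hr0
  have hdeven : Even (finrank F V) :=
    Cfsg.Agent.Helper36.even_finrank_of_isAlt_nondegenerate (finrank F V) B hB hnd rfl
  obtain ⟨e, he1, he2, he⟩ := exists_dvd_of_commute_sq_zero' g N hN2 hsmin hgN r hg hg1 hrq hr0
  rw [Cfsg.Agent.Helper40.dvd_pow_sub_one_iff hq] at he
  have hke := Nat.le_of_dvd (by omega) he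
  constructor
  · intro hkeven
    obtain ⟨t, ht⟩ := hkeven
    have : max (finrank F V - 2) 1 = finrank F V - 2 ∨ max (finrank F V - 2) 1 = 1 := by
      rcases le_total (finrank F V - 2) 1 with h | h
      · right; exact max_eq_right h
      · left; exact max_eq_left h
    omega
  · intro hkodd
    by_contra hlt
    push Not at hlt
    set k := orderOf ((Fintype.card F : ℕ) : ZMod r) with hk
    -- `2 k` divides `dim V - c`
    have h3 : 2 * k ∣ finrank F V - finrank F (LinearMap.ker (g - 1)) :=
      (Nat.Coprime.mul_dvd_of_dvd_of_dvd (Nat.Coprime.symm hkodd.coprime_two_right)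
        (even_iff_two_dvd.mp h2) h1)
    have h4 := Nat.le_of_dvd (by omega) h3
    have hd : finrank F V = 2 * k := by
      obtain ⟨t, ht⟩ := hdeven
      omega
    have hc0 : finrank F (LinearMap.ker (g - 1)) = 0 := by omega
    have hker : LinearMap.ker (g - 1) = ⊥ := Submodule.finrank_eq_zero.mp hc0
    have hnofix : ∀ v : V, g v = v → v = 0 := by
      intro v hv
      have : v ∈ LinearMap.ker (g - 1) := by
        rw [LinearMap.mem_ker, LinearMap.sub_apply, Module.End.one_apply, hv, sub_self]
      rw [hker] at this
      exact (Submodule.mem_bot F).mp this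
    -- image and kernel of `N`
    have hIK : LinearMap.range N ≤ LinearMap.ker N := by
      rintro v ⟨w, rfl⟩
      rw [LinearMap.mem_ker, ← Module.End.mul_apply, hN2]
      rfl
    have hrank := LinearMap.finrank_range_add_finrank_ker N
    have hI1 : 1 ≤ finrank F (LinearMap.range N) := by
      rw [Nat.one_le_iff_ne_zero, Ne, Submodule.finrank_eq_zero, LinearMap.range_eq_bot]
      exact hsmin
    have hIle : finrank F (LinearMap.range N) ≤ finrank F (LinearMap.ker N) :=
      Submodule.finrank_mono hIK
    have hIinv : ∀ w ∈ LinearMap.range N, g w ∈ LinearMap.range N := by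
      rintro w ⟨v, rfl⟩
      refine ⟨g v, ?_⟩
      rw [← Module.End.mul_apply, ← hgN, Module.End.mul_apply]
    have hKinv : ∀ w ∈ LinearMap.ker N, g w ∈ LinearMap.ker N := by
      intro w hw
      rw [LinearMap.mem_ker] at hw ⊢
      rw [← Module.End.mul_apply, ← hgN, Module.End.mul_apply, hw, map_zero]
    have hfix0 : ∀ W : Submodule F V, finrank F (fixIn g W) = 0 := by
      intro W
      rw [Submodule.finrank_eq_zero, eq_bot_iff]
      intro v hv
      rw [mem_fixIn] at hv
      rw [Submodule.mem_bot]
      exact hnofix v hv.2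
    have hkI := dvd_pow_sub_one_of_invariant g r hg hrq _ hIinv
    have hkK := dvd_pow_sub_one_of_invariant g r hg hrq _ hKinv
    rw [Cfsg.Agent.Helper40.dvd_pow_sub_one_iff hq, hfix0, Nat.sub_zero, ← hk] at hkI hkK
    have hIk : finrank F (LinearMap.range N) = k := by
      obtain ⟨a, ha⟩ := hkI
      obtain ⟨b, hb⟩ := hkK
      rw [ha, hb, hd] at hrank
      rw [ha, hb] at hIle
      rw [ha] at hI1
      have hab : a + b = 2 := by
        have : k * (a + b) = k * 2 := by rw [mul_add, hrank, mul_comm]
        exact Nat.eq_of_mul_eq_mul_left hkpos this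
      have hab' : a ≤ b := Nat.le_of_mul_le_mul_left hIle hkpos
      have ha0 : a ≠ 0 := by
        rintro rfl
        omega
      have ha1 : a = 1 := by omega
      rw [ha, ha1, mul_one]
    -- `U` is bijective
    have hUinj : Function.Injective U := by
      rw [← LinearMap.ker_eq_bot, LinearMap.ker_eq_bot']
      intro x hx
      apply hnd.1
      intro y
      rw [← hUB, hx, map_zero, LinearMap.zero_apply]
    have hUsurj : Function.Surjective U := LinearMap.surjective_of_injective hUinj
    have hUpinj : ∀ j : ℕ, Function.Injective (U ^ j) := by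
      intro j
      rw [Module.End.coe_pow]
      exact hUinj.iterate j
    have hUpsurj : ∀ j : ℕ, Function.Surjective (U ^ j) := by
      intro j
      rw [Module.End.coe_pow]
      exact hUsurj.iterate j
    have hUN : Commute N (U ^ (s - 1)) := by
      have : Commute D U := (Commute.refl U).sub_left (Commute.one_left _)
      exact (this.pow_left (s - 1)).pow_right (s - 1)
    -- the image of `N` is orthogonal to its kernel
    have horth : ∀ a ∈ LinearMap.range N, ∀ z ∈ LinearMap.ker N, B a z = 0 := by
      rintro a ⟨x, rfl⟩ z hz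
      obtain ⟨y, rfl⟩ := hUpsurj (s - 1) z
      rw [hN, isometry_sub_one_pow_adjoint B U hUB, ← hN]
      have : N y = 0 := by
        apply hUpinj (s - 1)
        rw [LinearMap.mem_ker, ← Module.End.mul_apply, hUN.eq, Module.End.mul_apply] at hz
        rw [hz, map_zero]
      rw [this, map_zero, mul_zero]
    -- a section of `N`
    obtain ⟨σ, hσ⟩ := (N.rangeRestrict).exists_rightInverse_of_surjective (LinearMap.range_rangeRestrict N)
    have hσ' : ∀ b : LinearMap.range N, N (σ b) = (b : V) := by
      intro b
      have := LinearMap.congr_fun hσ b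
      rw [LinearMap.comp_apply, LinearMap.id_apply] at this
      have h5 := congrArg Subtype.val this
      rwa [LinearMap.codRestrict_apply] at h5
    set C : LinearMap.BilinForm F (LinearMap.range N) :=
      B.comp (LinearMap.range N).subtype σ with hCdef
    have hCapp : ∀ a b : LinearMap.range N, C a b = B (a : V) (σ b) := fun a b => rfl
    have hCnd : C.Nondegenerate := by
      apply LinearMap.BilinForm.Nondegenerate.ofSeparatingLeft
      intro a ha
      apply Subtype.ext
      rw [Submodule.coe_zero]
      apply hnd.1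
      intro y
      have h5 := ha ⟨N y, ⟨y, rfl⟩⟩
      rw [hCapp] at h5
      have h6 : y - σ ⟨N y, ⟨y, rfl⟩⟩ ∈ LinearMap.ker N := by
        rw [LinearMap.mem_ker, map_sub, hσ', sub_self]
      have h7 := horth a a.2 _ h6
      rw [map_sub, h5, sub_zero] at h7
      exact h7
    set gI : LinearMap.range N →ₗ[F] LinearMap.range N := g.restrict hIinv with hgI
    have hgIC : ∀ a b : LinearMap.range N, C (gI a) (gI b) = C a b := by
      intro a b
      rw [hCapp, hCapp]
      have h6 : σ (gI b) - g (σ b) ∈ LinearMap.ker N := by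
        rw [LinearMap.mem_ker, map_sub, hσ', ← Module.End.mul_apply, ← hgN, Module.End.mul_apply, hσ']
        rw [hgI, LinearMap.coe_restrict_apply, sub_self]
      have h7 := horth (gI a) (gI a).2 _ h6
      rw [map_sub, sub_eq_zero] at h7
      rw [h7, hgI, LinearMap.coe_restrict_apply, hgB]
    obtain ⟨v, hv0, t, ht, hv⟩ :=
      exists_eigenvector_of_isometry C hCnd gI hgIC (by rw [hIk]; exact hkodd)
    -- `t = 1`
    have hv' : g (v : V) = t • (v : V) := by
      have := congrArg Subtype.val hv
      rwa [hgI, LinearMap.coe_restrict_apply] at this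
    have hpow : ∀ j : ℕ, (g ^ j) (v : V) = t ^ j • (v : V) := by
      intro j
      induction j with
      | zero => simp
      | succ j ih => rw [pow_succ', Module.End.mul_apply, ih, map_smul, hv', smul_smul, pow_succ]
    have hvne : (v : V) ≠ 0 := fun h => hv0 (Subtype.ext h)
    have htr : t ^ r = 1 := by
      have h5 := hpow r
      rw [hg, Module.End.one_apply] at h5
      have h6 : (t ^ r - 1) • (v : V) = 0 := by rw [sub_smul, ← h5, one_smul, sub_self]
      rcases smul_eq_zero.mp h6 with h | h
      · exact sub_eq_zero.mp h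
      · exact absurd h hvne
    have ht1 : t = 1 := by
      have h5 : t ^ 2 = 1 := by rw [pow_two, ht]
      have h6 := (pow_gcd_eq_one (a := t)).mpr ⟨htr, h5⟩
      have h7 : Nat.gcd r 2 = 1 := (Nat.coprime_primes hrp Nat.prime_two).mpr hr2
      rwa [h7, pow_one] at h6
    apply hvne
    apply hnofix
    rw [hv', ht1, one_smul]

end main

end Cfsg.Agent.Helper38
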