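import Mathlib
import Cfsg.Agent.Helper38.IsomIrr
import Cfsg.Agent.Helper38.SpAdj

/-!
# Two commuting semisimple isometries of odd prime orders in a symplectic group
-/

set_option autoImplicit false

namespace Cfsg.Agent.Helper38

open Module

/-- if `k ∤ l` (both positive) then `2 l ≤ lcm k l` -/
theorem two_mul_le_lcm_of_not_dvd {k l : ℕ} (hk0 : 0 < k) (hl0 : 0 < l) (h : ¬ k ∣ l) :
    2 * l ≤ Nat.lcm k l := by
  obtain ⟨c, hc⟩ := Nat.dvd_lcm_right k l
  have hpos : 0 < Nat.lcm k l := Nat.lcm_pos hk0 hl0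
  have hc0 : c ≠ 0 := by
    rintro rfl
    rw [mul_zero] at hc
    omega
  have hc1 : c ≠ 1 := by
    rintro rfl
    rw [mul_one] at hc
    apply h
    rw [← hc]
    exact Nat.dvd_lcm_left k l
  have : 2 ≤ c := by omega
  rw [hc]
  nlinarith

theorem sp_num_a (k l i d n ηk ηl : ℕ) (hk1 : k ∣ 2 * i) (hk2 : ¬ k ∣ i) (hl1 : l ∣ 2 * i)
    (hl2 : ¬ l ∣ i) (hkd : k ∣ d) (hld : l ∣ d) (hd0 : 0 < d) (hdn : d ≤ 2 * n)
    (hηk : (Odd k ∧ ηk = k) ∨ (Even k ∧ 2 * ηk = k))
    (hηl : (Odd l ∧ ηl = l) ∨ (Even l ∧ 2 * ηl = l)) (hkl : ηk ≤ ηl) :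
    ηk + ηl ≤ n ∨ ∃ t : ℕ, Odd t ∧ l = k * t := by
  have hk0 : 0 < k := by
    rcases Nat.eq_zero_or_pos k with h | h
    · subst h
      rw [zero_dvd_iff] at hk1
      exfalso; apply hk2
      have : i = 0 := by omega
      rw [this]
    · exact h
  have hl0 : 0 < l := by
    rcases Nat.eq_zero_or_pos l with h | h
    · subst h
      rw [zero_dvd_iff] at hl1
      exfalso; apply hl2
      have : i = 0 := by omega
      rw [this]
    · exact h
  have hkev : 2 * ηk = k := by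
    rcases hηk with ⟨ho, -⟩ | ⟨-, h⟩
    · exfalso
      apply hk2
      exact (Nat.Coprime.dvd_of_dvd_mul_left (Nat.coprime_two_right.mpr ho) hk1)
    · exact h
  have hlev : 2 * ηl = l := by
    rcases hηl with ⟨ho, -⟩ | ⟨-, h⟩
    · exfalso
      apply hl2
      exact (Nat.Coprime.dvd_of_dvd_mul_left (Nat.coprime_two_right.mpr ho) hl1)
    · exact h
  by_cases hdiv : k ∣ l
  · right
    obtain ⟨t, ht⟩ := hdiv
    refine ⟨t, ?_, ht⟩
    by_contra hodd
    rw [Nat.not_odd_iff_even] at hodd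
    obtain ⟨t', ht'⟩ := hodd
    apply hk2
    have h1 : 2 * (k * t') ∣ 2 * i := by
      have : l = 2 * (k * t') := by rw [ht, ht']; ring
      rwa [this] at hl1
    have h2 : k * t' ∣ i := Nat.dvd_of_mul_dvd_mul_left (by norm_num) h1
    exact (Dvd.intro _ rfl).trans h2
  · left
    have h1 := two_mul_le_lcm_of_not_dvd hk0 hl0 hdiv
    have h2 : Nat.lcm k l ≤ d := Nat.le_of_dvd hd0 (Nat.lcm_dvd hkd hld)
    omega

theorem sp_num_b (k l d n ηk ηl : ℕ) (hk0 : 0 < k) (hl0 : 0 < l) (hkd : k ∣ d) (hld : l ∣ d)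
    (hd0 : 0 < d) (hdn : d ≤ n)
    (hηk : (Odd k ∧ ηk = k) ∨ (Even k ∧ 2 * ηk = k))
    (hηl : (Odd l ∧ ηl = l) ∨ (Even l ∧ 2 * ηl = l)) (hkl : ηk ≤ ηl) :
    ηk + ηl ≤ n ∨ ∃ t : ℕ, Odd t ∧ l = k * t := by
  have hk_le : ηk ≤ k := by rcases hηk with ⟨-, h⟩ | ⟨-, h⟩ <;> omega
  have hl_le : ηl ≤ l := by rcases hηl with ⟨-, h⟩ | ⟨-, h⟩ <;> omega
  have hk_ge : k ≤ 2 * ηk := by rcases hηk with ⟨-, h⟩ | ⟨-, h⟩ <;> omega
  have hkd' : k ≤ d := Nat.le_of_dvd hd0 hkd
  have hld' : l ≤ d := Nat.le_of_dvd hd0 hld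
  by_cases hdiv : k ∣ l
  · obtain ⟨t, ht⟩ := hdiv
    by_cases hodd : Odd t
    · right; exact ⟨t, hodd, ht⟩
    · left
      rw [Nat.not_odd_iff_even] at hodd
      obtain ⟨t', ht'⟩ := hodd
      have ht'0 : 0 < t' := by
        rcases Nat.eq_zero_or_pos t' with h | h
        · subst h
          rw [ht'] at ht
          simp at ht
          omega
        · exact h
      have hl2 : l = 2 * (k * t') := by rw [ht, ht']; ring
      have hlev : 2 * ηl = l := by
        rcases hηl with ⟨ho, -⟩ | ⟨-, h⟩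
        · exfalso
          rw [hl2] at ho
          exact (Nat.not_odd_iff_even.mpr (even_two_mul _)) ho
        · exact h
      have : k ≤ k * t' := Nat.le_mul_of_pos_right k ht'0
      omega
  · left
    by_cases hdiv' : l ∣ k
    · obtain ⟨t', ht'⟩ := hdiv'
      have : 2 ≤ t' := by
        rcases t' with _ | _ | t'
        · simp at ht'; omega
        · exfalso; apply hdiv; rw [ht']; simp
        · omega
      have : 2 * l ≤ k := by rw [ht']; nlinarith
      omega
    · have h1 := two_mul_le_lcm_of_not_dvd hk0 hl0 hdiv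
      have h1' := two_mul_le_lcm_of_not_dvd hl0 hk0 hdiv'
      rw [Nat.lcm_comm] at h1'
      have h2 : Nat.lcm k l ≤ d := Nat.le_of_dvd hd0 (Nat.lcm_dvd hkd hld)
      omega


section
variable {F V : Type*} [Field F] [Fintype F] [AddCommGroup V] [Module F V] [Finite V]

/-- Fact A: the commutator space of an isometry of odd prime order `r` has dimension divisible by `2 η(k)`. -/
theorem two_eta_dvd_finrank_range (B : LinearMap.BilinForm F V) (hB : B.IsAlt) (hnd : B.Nondegenerate)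
    (g : Module.End F V) (hgB : ∀ x y, B (g x) (g y) = B x y) (r : ℕ) [Fact r.Prime]
    (hg : g ^ r = 1) (hg1 : g ≠ 1) (hrq : ¬ r ∣ Fintype.card F) (hr0 : (r : F) ≠ 0)
    (k ηk : ℕ) (hk : k = orderOf ((Fintype.card F : ℕ) : ZMod r))
    (hηk : (Odd k ∧ ηk = k) ∨ (Even k ∧ 2 * ηk = k)) :
    2 * ηk ∣ finrank F (LinearMap.range (g - 1)) ∧ 0 < finrank F (LinearMap.range (g - 1)) := by
  have hq : 1 ≤ Fintype.card F := Fintype.card_pos
  have hrn := LinearMap.finrank_range_add_finrank_ker (g - 1)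
  have heven := even_finrank_sub_ker_of_isometry B hB hnd g hgB r hg hr0
  have hdvd := dvd_pow_sub_one_of_invariant g r hg hrq ⊤ (fun w _ => Submodule.mem_top)
  have hfix : fixIn g ⊤ = LinearMap.ker (g - 1) := by
    unfold fixIn
    exact top_inf_eq _
  rw [hfix, finrank_top] at hdvd
  rw [Cfsg.Agent.Helper40.dvd_pow_sub_one_iff hq, ← hk] at hdvd
  have hU : finrank F (LinearMap.range (g - 1)) = finrank F V - finrank F (LinearMap.ker (g - 1)) := by
    omega
  rw [hU]
  constructor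
  · rcases hηk with ⟨ho, h⟩ | ⟨-, h⟩
    · rw [h]
      exact Nat.Coprime.mul_dvd_of_dvd_of_dvd (Nat.coprime_two_left.mpr ho) heven.two_dvd hdvd
    · rw [h]; exact hdvd
  · rw [← hU]
    rw [Module.finrank_pos_iff_exists_ne_zero]
    have : g - 1 ≠ 0 := fun h => hg1 (sub_eq_zero.mp h)
    obtain ⟨v, hv⟩ : ∃ v, (g - 1) v ≠ 0 := by
      by_contra hcon
      push Not at hcon
      exact this (LinearMap.ext hcon)
    exact ⟨⟨(g - 1) v, LinearMap.mem_range_self _ v⟩, fun h => hv (congrArg Subtype.val h)⟩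

/-- consequences of `r ∣ q^i + 1` for the order `k` of `q` mod `r` -/
theorem ord_dvd_of_dvd_pow_add_one (q r : ℕ) [hr : Fact r.Prime] (hr2 : r ≠ 2) (hq : 1 ≤ q) (i : ℕ)
    (h : r ∣ q ^ i + 1) :
    orderOf ((q : ℕ) : ZMod r) ∣ 2 * i ∧ ¬ orderOf ((q : ℕ) : ZMod r) ∣ i := by
  have h1 : 1 ≤ q ^ i := Nat.one_le_pow _ _ hq
  constructor
  · rw [← Cfsg.Agent.Helper40.dvd_pow_sub_one_iff hq]
    have : q ^ (2 * i) - 1 = (q ^ i + 1) * (q ^ i - 1) := by
      rw [mul_comm 2 i, pow_mul]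
      generalize q ^ i = a at h1
      obtain ⟨b, rfl⟩ : ∃ b, a = b + 1 := ⟨a - 1, by omega⟩
      have : (b + 1) ^ 2 = (b + 1 + 1) * b + 1 := by ring
      rw [this]
      simp
    rw [this]
    exact Dvd.dvd.mul_right h _
  · rw [← Cfsg.Agent.Helper40.dvd_pow_sub_one_iff hq]
    intro h2
    have h3 : r ∣ (q ^ i + 1) - (q ^ i - 1) := Nat.dvd_sub h h2
    have h4 : (q ^ i + 1) - (q ^ i - 1) = 2 := by omega
    rw [h4] at h3
    exact hr2 ((Nat.prime_dvd_prime_iff_eq hr.out Nat.prime_two).mp h3)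

omit [Fintype F] [Finite V] in
/-- if `g` has prime order `r`, has no fixed points on `W ≠ 0` and `g ^ N` fixes `W` pointwise, then `r ∣ N` -/
theorem dvd_of_pow_fix (g : Module.End F V) (r : ℕ) [hr : Fact r.Prime] (hg : g ^ r = 1)
    (W : Submodule F V) (hW0 : W ≠ ⊥) (hfix : W ⊓ LinearMap.ker (g - 1) = ⊥) (N : ℕ)
    (hN : ∀ w ∈ W, (g ^ N) w = w) : r ∣ N := by
  by_contra hrN
  have hcop : Nat.Coprime r N := (Nat.Prime.coprime_iff_not_dvd hr.out).mpr hrN
  apply hW0
  rw [eq_bot_iff, ← hfix]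
  intro w hw
  refine ⟨hw, ?_⟩
  rw [SetLike.mem_coe, LinearMap.mem_ker, LinearMap.sub_apply, Module.End.one_apply, sub_eq_zero]
  -- Bezout
  have hrfix : ∀ j : ℕ, (g ^ (r * j)) w = w := by
    intro j
    rw [pow_mul, hg, one_pow, Module.End.one_apply]
  have hNfix : ∀ j : ℕ, (g ^ (N * j)) w = w := by
    intro j
    induction j with
    | zero => simp
    | succ j ih =>
      rw [mul_add, mul_one, pow_add, Module.End.mul_apply, hN w hw, ih]
  obtain ⟨a, b, hab⟩ : ∃ a b : ℕ, N * a = r * b + 1 := by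
    have := Nat.exists_mul_mod_eq_one_of_coprime hcop.symm hr.out.one_lt
    obtain ⟨m, -, hm⟩ := this
    refine ⟨m, N * m / r, ?_⟩
    have := Nat.div_add_mod (N * m) r
    omega
  have h1 := hNfix a
  rw [hab, pow_add, pow_one, Module.End.mul_apply] at h1
  have h2 : (g ^ (r * b)) (g w) = g w := by
    rw [pow_mul, hg, one_pow, Module.End.one_apply]
  rw [h2] at h1
  exact h1

/-- **Two odd primes in a symplectic group**: if `x` is an isometry of order `r s` of a symplectic space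
of dimension `2 n` over `F_q`, then `η(k) + η(l) ≤ n` or `l / k` is an odd integer. -/
theorem sp_two_primes_bound (B : LinearMap.BilinForm F V) (hB : B.IsAlt) (hnd : B.Nondegenerate)
    (x : Module.End F V) (hxB : ∀ u v, B (x u) (x v) = B u v)
    (r s : ℕ) [hr : Fact r.Prime] [hs : Fact s.Prime] (hr2 : r ≠ 2) (hs2 : s ≠ 2)
    (hx : x ^ (r * s) = 1) (hg1 : x ^ s ≠ 1) (hh1 : x ^ r ≠ 1)
    (hrq : ¬ r ∣ Fintype.card F) (hsq : ¬ s ∣ Fintype.card F) (hr0 : (r : F) ≠ 0) (hs0 : (s : F) ≠ 0)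
    (n : ℕ) (hdim : finrank F V = 2 * n)
    (k l ηk ηl : ℕ) (hk : k = orderOf ((Fintype.card F : ℕ) : ZMod r))
    (hl : l = orderOf ((Fintype.card F : ℕ) : ZMod s))
    (hηk : (Odd k ∧ ηk = k) ∨ (Even k ∧ 2 * ηk = k))
    (hηl : (Odd l ∧ ηl = l) ∨ (Even l ∧ 2 * ηl = l)) (hkl : ηk ≤ ηl) :
    ηk + ηl ≤ n ∨ ∃ t : ℕ, Odd t ∧ l = k * t := by
  classical
  have hq : 1 ≤ Fintype.card F := Fintype.card_pos
  have hk0 : 0 < k := hk ▸ Cfsg.Agent.Helper40.ordq_pos hrq
  have hl0 : 0 < l := hl ▸ Cfsg.Agent.Helper40.ordq_pos hsq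
  set g : Module.End F V := x ^ s with hgdef
  set h : Module.End F V := x ^ r with hhdef
  have hgr : g ^ r = 1 := by rw [hgdef, ← pow_mul, mul_comm, hx]
  have hhs : h ^ s = 1 := by rw [hhdef, ← pow_mul, hx]
  have hpowB : ∀ j : ℕ, ∀ u v, B ((x ^ j) u) ((x ^ j) v) = B u v := by
    intro j
    induction j with
    | zero => intro u v; simp
    | succ j ih => intro u v; rw [pow_succ', Module.End.mul_apply, Module.End.mul_apply, hxB, ih]
  have hgB : ∀ u v, B (g u) (g v) = B u v := hpowB s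
  have hhB : ∀ u v, B (h u) (h v) = B u v := hpowB r
  have hcgx : Commute (g - 1) x := ((Commute.refl x).pow_left s).sub_left (Commute.one_left _)
  have hchx : Commute (h - 1) x := ((Commute.refl x).pow_left r).sub_left (Commute.one_left _)
  have hcgh : Commute (g - 1) (h - 1) :=
    ((((Commute.refl x).pow_left s).pow_right r).sub_right (Commute.one_right _)).sub_left
      (Commute.one_left _)
  obtain ⟨hAg, hAg0⟩ := two_eta_dvd_finrank_range B hB hnd g hgB r hgr hg1 hrq hr0 k ηk hk hηk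
  obtain ⟨hAh, hAh0⟩ := two_eta_dvd_finrank_range B hB hnd h hhB s hhs hh1 hsq hs0 l ηl hl hηl
  have hKUg := ker_inf_range_sub_one g r hgr hr0
  have hKUh := ker_inf_range_sub_one h s hhs hs0
  by_cases hcase : LinearMap.range (g - 1) ≤ LinearMap.ker (h - 1)
  · -- `h` trivial on `[V, g]`
    left
    have hdisj : LinearMap.range (g - 1) ⊓ LinearMap.range (h - 1) = ⊥ := by
      rw [eq_bot_iff, ← hKUh]
      exact inf_le_inf_right _ hcase
    have h1 := Submodule.finrank_sup_add_finrank_inf_eq (LinearMap.range (g - 1))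
      (LinearMap.range (h - 1))
    rw [hdisj, finrank_bot, add_zero] at h1
    have h2 : finrank F ↥(LinearMap.range (g - 1) ⊔ LinearMap.range (h - 1)) ≤ finrank F V :=
      Submodule.finrank_le _
    have h3 := Nat.le_of_dvd hAg0 hAg
    have h4 := Nat.le_of_dvd hAh0 hAh
    omega
  · -- the subspace `W = (h - 1)(g - 1) V`
    set W : Submodule F V := LinearMap.range ((h - 1) * (g - 1)) with hWdef
    have hWne : W ≠ ⊥ := by
      intro hbot
      apply hcase
      rintro _ ⟨v, rfl⟩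
      rw [LinearMap.mem_ker]
      have : ((h - 1) * (g - 1)) v ∈ W := LinearMap.mem_range_self _ v
      rw [hbot, Submodule.mem_bot] at this
      exact this
    have hWx : ∀ w ∈ W, x w ∈ W := by
      rintro _ ⟨v, rfl⟩
      refine ⟨x v, ?_⟩
      have : Commute ((h - 1) * (g - 1)) x := hchx.mul_left hcgx
      rw [← Module.End.mul_apply, this.eq, Module.End.mul_apply]
    have hWg : W ⊓ LinearMap.ker (g - 1) = ⊥ := by
      rw [eq_bot_iff, ← hKUg, inf_comm]
      apply inf_le_inf_left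
      rintro _ ⟨v, rfl⟩
      refine ⟨(h - 1) v, ?_⟩
      rw [← Module.End.mul_apply, hcgh.eq]
    have hWh : W ⊓ LinearMap.ker (h - 1) = ⊥ := by
      rw [eq_bot_iff, ← hKUh, inf_comm]
      apply inf_le_inf_left
      rintro _ ⟨v, rfl⟩
      exact ⟨(g - 1) v, rfl⟩
    -- a minimal invariant subspace
    let S : Set (Submodule F V) := {W' | W' ≠ ⊥ ∧ W' ≤ W ∧ ∀ w ∈ W', x w ∈ W'}
    have hSne : S.Nonempty := ⟨W, hWne, le_refl _, hWx⟩
    obtain ⟨W₀, ⟨hW₀ne, hW₀W, hW₀x⟩, hW₀min⟩ := (wellFounded_lt (α := Submodule F V)).has_min S hSne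
    have hmin : ∀ W' : Submodule F V, W' ≤ W₀ → (∀ w ∈ W', x w ∈ W') → W' = ⊥ ∨ W' = W₀ := by
      intro W' hle hinv
      by_cases hb : W' = ⊥
      · left; exact hb
      · right
        by_contra hne
        exact hW₀min W' ⟨hb, hle.trans hW₀W, hinv⟩ (lt_of_le_of_ne hle hne)
    have hW₀pow : ∀ j : ℕ, ∀ w ∈ W₀, (x ^ j) w ∈ W₀ := fun j w hw => pow_apply_mem x W₀ hW₀x j w hw
    have hd0 : 0 < finrank F W₀ := by
      rw [Module.finrank_pos_iff_exists_ne_zero]
      obtain ⟨w, hw, hw0⟩ := (Submodule.ne_bot_iff _).mp hW₀ne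
      exact ⟨⟨w, hw⟩, fun h => hw0 (congrArg Subtype.val h)⟩
    have hW₀g : W₀ ⊓ LinearMap.ker (g - 1) = ⊥ := by
      rw [eq_bot_iff, ← hWg]
      exact inf_le_inf_right _ hW₀W
    have hW₀h : W₀ ⊓ LinearMap.ker (h - 1) = ⊥ := by
      rw [eq_bot_iff, ← hWh]
      exact inf_le_inf_right _ hW₀W
    -- `k ∣ d`, `l ∣ d`
    have hkd : k ∣ finrank F W₀ := by
      have := dvd_pow_sub_one_of_invariant g r hgr hrq W₀ (hW₀pow s)
      have hfix : fixIn g W₀ = ⊥ := hW₀g
      rw [hfix, finrank_bot, Nat.sub_zero, Cfsg.Agent.Helper40.dvd_pow_sub_one_iff hq, ← hk] at this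
      exact this
    have hld : l ∣ finrank F W₀ := by
      have := dvd_pow_sub_one_of_invariant h s hhs hsq W₀ (hW₀pow r)
      have hfix : fixIn h W₀ = ⊥ := hW₀h
      rw [hfix, finrank_bot, Nat.sub_zero, Cfsg.Agent.Helper40.dvd_pow_sub_one_iff hq, ← hl] at this
      exact this
    -- the radical
    have hRinv : ∀ w ∈ W₀ ⊓ B.orthogonal W₀, x w ∈ W₀ ⊓ B.orthogonal W₀ := by
      rintro w ⟨hw1, hw2⟩
      refine ⟨hW₀x w hw1, ?_⟩
      rw [SetLike.mem_coe, LinearMap.BilinForm.mem_orthogonal_iff] at hw2 ⊢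
      intro u hu
      have hrs0 : 0 < r * s := Nat.mul_pos hr.out.pos hs.out.pos
      have hu' : u = x ((x ^ (r * s - 1)) u) := by
        rw [← Module.End.mul_apply, ← pow_succ', Nat.sub_add_cancel hrs0, hx, Module.End.one_apply]
      rw [hu', hxB]
      exact hw2 _ (hW₀pow _ u hu)
    rcases hmin _ inf_le_left hRinv with hR | hR
    · -- nondegenerate case
      have hdisj : Disjoint W₀ (B.orthogonal W₀) := disjoint_iff.mpr hR
      obtain ⟨i, hi⟩ := isometry_pow_eq_on_minimal B hB.isRefl x hxB W₀ hW₀x hW₀ne hmin hdisj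
      have hgi : ∀ w ∈ W₀, (g ^ (Fintype.card F ^ i + 1)) w = w := by
        intro w hw
        rw [hgdef, ← pow_mul, mul_comm, pow_mul]
        have : ∀ j : ℕ, ((x ^ (Fintype.card F ^ i + 1)) ^ j) w = w := by
          intro j
          induction j with
          | zero => simp
          | succ j ih => rw [pow_succ, Module.End.mul_apply, hi w hw, ih]
        exact this s
      have hhi : ∀ w ∈ W₀, (h ^ (Fintype.card F ^ i + 1)) w = w := by
        intro w hw
        rw [hhdef, ← pow_mul, mul_comm, pow_mul]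
        have : ∀ j : ℕ, ((x ^ (Fintype.card F ^ i + 1)) ^ j) w = w := by
          intro j
          induction j with
          | zero => simp
          | succ j ih => rw [pow_succ, Module.End.mul_apply, hi w hw, ih]
        exact this r
      have hr_dvd := dvd_of_pow_fix g r hgr W₀ hW₀ne hW₀g _ hgi
      have hs_dvd := dvd_of_pow_fix h s hhs W₀ hW₀ne hW₀h _ hhi
      obtain ⟨hk1, hk2⟩ := ord_dvd_of_dvd_pow_add_one (Fintype.card F) r hr2 hq i hr_dvd
      obtain ⟨hl1, hl2⟩ := ord_dvd_of_dvd_pow_add_one (Fintype.card F) s hs2 hq i hs_dvd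
      rw [← hk] at hk1 hk2
      rw [← hl] at hl1 hl2
      have hdn : finrank F W₀ ≤ 2 * n := hdim ▸ Submodule.finrank_le W₀
      exact sp_num_a k l i (finrank F W₀) n ηk ηl hk1 hk2 hl1 hl2 hkd hld hd0 hdn hηk hηl hkl
    · -- totally isotropic case
      have hle : W₀ ≤ B.orthogonal W₀ := by
        intro w hw
        have : w ∈ W₀ ⊓ B.orthogonal W₀ := by rw [hR]; exact hw
        exact this.2
      have h1 := LinearMap.BilinForm.finrank_orthogonal hnd W₀
      have h2 := Submodule.finrank_mono hle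
      have h3 : finrank F W₀ ≤ finrank F V := Submodule.finrank_le W₀
      have hdn : finrank F W₀ ≤ n := by omega
      exact sp_num_b k l (finrank F W₀) n ηk ηl hk0 hl0 hkd hld hd0 hdn hηk hηl hkl

end

end Cfsg.Agent.Helper38
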