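import Mathlib

/-!
# Roots of irreducible polynomials over finite fields

For a monic irreducible `f` of degree `n` over `F_q` and its root `α` in `AdjoinRoot f`:
`α ^ ((q^n - 1)/(q - 1)) = (-1)^n f(0)` (norm), descent of elements with `x ^ (q-1) = 1` to `F`,
and divisibility `f ∣ X^N - λ` from `α ^ N = λ`.
-/

set_option autoImplicit false

namespace Cfsg.Agent.Helper38

open Polynomial

section
variable {F : Type*} [Field F] [Fintype F]

/-- elements of an extension field fixed by the `q`-Frobenius lie in `F` -/
theorem exists_algebraMap_eq_of_pow_card {K : Type*} [Field K] [Algebra F K] (x : K)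
    (hx : x ^ Fintype.card F = x) : ∃ lam : F, algebraMap F K lam = x := by
  classical
  by_contra hcon
  push Not at hcon
  set P : K[X] := X ^ Fintype.card F - X with hP
  have hq : 1 < Fintype.card F := Fintype.one_lt_card
  have hP0 : P ≠ 0 := FiniteField.X_pow_card_sub_X_ne_zero K hq
  have hdeg : P.natDegree = Fintype.card F := FiniteField.X_pow_card_sub_X_natDegree_eq K hq
  let S : Finset K := insert x (Finset.univ.image (algebraMap F K))
  have hS : S.val ≤ P.roots := by
    rw [Multiset.le_iff_subset S.nodup]
    intro y hy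
    rw [mem_roots hP0, IsRoot, hP, eval_sub, eval_pow, eval_X, sub_eq_zero]
    rw [Finset.mem_val, Finset.mem_insert, Finset.mem_image] at hy
    rcases hy with rfl | ⟨lam, -, rfl⟩
    · exact hx
    · rw [← map_pow, FiniteField.pow_card]
  have hcard : S.card = Fintype.card F + 1 := by
    rw [Finset.card_insert_of_notMem, Finset.card_image_of_injective _ (algebraMap F K).injective,
      Finset.card_univ]
    rw [Finset.mem_image]
    rintro ⟨lam, -, h⟩
    exact hcon lam h
  have h1 := Multiset.card_le_card hS
  have h2 := Polynomial.card_roots' P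
  rw [Finset.card_val, hcard] at h1
  omega

/-- nonzero version: `x ^ (q - 1) = 1` -/
theorem exists_algebraMap_eq_of_pow_card_sub_one {K : Type*} [Field K] [Algebra F K] (x : K)
    (hx : x ^ (Fintype.card F - 1) = 1) : ∃ lam : F, algebraMap F K lam = x := by
  apply exists_algebraMap_eq_of_pow_card
  have hq : 1 < Fintype.card F := Fintype.one_lt_card
  calc x ^ Fintype.card F = x ^ (Fintype.card F - 1) * x := by
        rw [← pow_succ, Nat.sub_add_cancel (by omega)]
    _ = x := by rw [hx, one_mul]

end

section adjoin
variable {F : Type*} [Field F] [Fintype F] (f : F[X]) [hf : Fact (Irreducible f)]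

/-- the norm of the root: `α ^ ((q^n - 1)/(q - 1)) = (-1)^n f(0)` -/
theorem root_pow_norm (hm : f.Monic) :
    (AdjoinRoot.root f) ^ ((Fintype.card F ^ f.natDegree - 1) / (Fintype.card F - 1)) =
      algebraMap F (AdjoinRoot f) ((-1) ^ f.natDegree * f.coeff 0) := by
  have hne : f ≠ 0 := hf.out.ne_zero
  have hfd : FiniteDimensional F (AdjoinRoot f) := (AdjoinRoot.powerBasis hne).finite
  have hfin : Finite (AdjoinRoot f) := Module.finite_of_finite F
  have hfr : Module.finrank F (AdjoinRoot f) = f.natDegree := by
    rw [(AdjoinRoot.powerBasis hne).finrank, AdjoinRoot.powerBasis_dim]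
  have hcard : Nat.card (AdjoinRoot f) = Fintype.card F ^ f.natDegree := by
    rw [Module.natCard_eq_pow_finrank (K := F), hfr, Nat.card_eq_fintype_card]
  have h1 := FiniteField.algebraMap_norm_eq_pow (K := F) (K' := AdjoinRoot f)
    (x := AdjoinRoot.root f)
  rw [hcard, Nat.card_eq_fintype_card] at h1
  rw [← h1]
  congr 1
  have h2 := Algebra.PowerBasis.norm_gen_eq_coeff_zero_minpoly (AdjoinRoot.powerBasis hne)
  rw [AdjoinRoot.minpoly_powerBasis_gen_of_monic hm, AdjoinRoot.powerBasis_gen,
    AdjoinRoot.powerBasis_dim] at h2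
  exact h2

omit [Fintype F] in
/-- divisibility from a power relation at the root -/
theorem dvd_X_pow_sub_C_of_root_pow (hm : f.Monic) (N : ℕ) (lam : F)
    (h : (AdjoinRoot.root f) ^ N = algebraMap F (AdjoinRoot f) lam) : f ∣ X ^ N - C lam := by
  have hne : f ≠ 0 := hf.out.ne_zero
  have h1 : aeval (AdjoinRoot.root f) (X ^ N - C lam) = 0 := by
    rw [map_sub, map_pow, aeval_X, aeval_C, h, sub_self]
  have h2 := minpoly.dvd F (AdjoinRoot.root f) h1
  rwa [AdjoinRoot.minpoly_root hne, hm.leadingCoeff, inv_one, C.map_one, mul_one] at h2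

end adjoin


end Cfsg.Agent.Helper38
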