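import Mathlib
import Cfsg.Agent.Helper38.FinFieldRoot

/-!
# Singer cycles in `GL_n(q)` as matrices

A matrix `A ∈ M_n(F_q)` of order `q^n - 1` with `A ^ ((q^n-1)/(q-1)) = det A • 1` and a criterion
for its powers to be scalar.
-/

set_option autoImplicit false

namespace Cfsg.Agent.Helper38

open Module

section
variable {F : Type*} [Field F] [Fintype F]

/-- **Singer cycle.** -/
theorem exists_singer (n : ℕ) (hn : 0 < n) :
    ∃ A : Matrix (Fin n) (Fin n) F, orderOf A = Fintype.card F ^ n - 1 ∧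
      A ^ ((Fintype.card F ^ n - 1) / (Fintype.card F - 1)) = A.det • (1 : Matrix (Fin n) (Fin n) F) ∧
      ∀ j : ℕ, (∃ μ : F, A ^ j = μ • (1 : Matrix (Fin n) (Fin n) F)) ↔
        Fintype.card F ^ n - 1 ∣ j * (Fintype.card F - 1) := by
  classical
  obtain ⟨p, hp⟩ := CharP.exists F
  have : Fact p.Prime := ⟨CharP.char_is_prime F p⟩
  have : NeZero n := ⟨hn.ne'⟩
  let K := FiniteField.Extension F p n
  have : Fintype K := Fintype.ofFinite K
  have hcardK : Nat.card K = Fintype.card F ^ n := by
    rw [FiniteField.natCard_extension, Nat.card_eq_fintype_card]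
  have hfr : finrank F K = n := FiniteField.finrank_extension F p n
  let b : Basis (Fin n) F K := (Module.finBasis F K).reindex (finCongr hfr)
  obtain ⟨ζ, hζ⟩ := IsCyclic.exists_ofOrder_eq_natCard (α := Kˣ)
  have hcardU : Nat.card Kˣ = Fintype.card F ^ n - 1 := by
    rw [Nat.card_units, hcardK]
  let ψ : K →ₐ[F] Matrix (Fin n) (Fin n) F := Algebra.leftMulMatrix b
  have hψinj : Function.Injective ψ := Algebra.leftMulMatrix_injective b
  have hscal : ∀ μ : F, ψ (algebraMap F K μ) = μ • (1 : Matrix (Fin n) (Fin n) F) := by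
    intro μ
    rw [AlgHom.commutes, Algebra.algebraMap_eq_smul_one]
  refine ⟨ψ (ζ : K), ?_, ?_, ?_⟩
  · have h1 := orderOf_injective (ψ : K →* Matrix (Fin n) (Fin n) F) hψinj (ζ : K)
    have h2 : orderOf (ψ (ζ : K)) = orderOf (ζ : K) := h1
    rw [h2, orderOf_units, hζ, hcardU]
  · have h1 := FiniteField.algebraMap_norm_eq_pow (K := F) (K' := K) (x := (ζ : K))
    rw [hcardK, Nat.card_eq_fintype_card] at h1
    rw [← map_pow, ← h1, hscal, Algebra.norm_eq_matrix_det b]
  · intro j
    have hpow : ψ (ζ : K) ^ j = ψ ((ζ : K) ^ j) := (map_pow ψ _ j).symm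
    rw [hpow]
    constructor
    · rintro ⟨μ, hμ⟩
      rw [← hscal] at hμ
      have h1 := hψinj hμ
      have hμ0 : μ ≠ 0 := by
        rintro rfl
        rw [map_zero] at h1
        exact (pow_ne_zero j (Units.ne_zero ζ)) h1
      have h2 : ζ ^ (j * (Fintype.card F - 1)) = 1 := by
        apply Units.ext
        rw [Units.val_pow_eq_pow_val, Units.val_one, pow_mul, h1, ← map_pow,
          FiniteField.pow_card_sub_one_eq_one μ hμ0, map_one]
      have := orderOf_dvd_of_pow_eq_one h2
      rwa [hζ, hcardU] at this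
    · intro h
      have h3 : ζ ^ (j * (Fintype.card F - 1)) = 1 := by
        apply orderOf_dvd_iff_pow_eq_one.mp
        rw [hζ, hcardU]
        exact h
      have h2 : ((ζ : K) ^ j) ^ (Fintype.card F - 1) = 1 := by
        rw [← pow_mul, ← Units.val_pow_eq_pow_val, h3, Units.val_one]
      obtain ⟨μ, hμ⟩ := exists_algebraMap_eq_of_pow_card_sub_one (F := F) _ h2
      exact ⟨μ, by rw [← hμ, hscal]⟩

end

end Cfsg.Agent.Helper38
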