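import Mathlib
import Cfsg.Agent.Helper38.SU3Gen
import Cfsg.Agent.Helper38.SU3Pow
import Cfsg.Agent.Helper38.Singer
import Cfsg.Agent.S2476

/-!
# The torus of order `(q ^ n - 1) / (q + 1)` in `SU_n(q)`, `n` even
-/

set_option autoImplicit false

namespace Cfsg.Agent.Helper38

open Matrix Cfsg.Agent.Helper45.GU

section transport
variable {F : Type*} [Field F] [Fintype F] {q n : ℕ} (hF : Fintype.card F = q ^ 2)

include hF in
/-- `exists_su_of_isConj` for matrices indexed by a type equivalent to `Fin n` -/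
theorem exists_su_of_isConj_equiv {ι : Type*} [Fintype ι] [DecidableEq ι] (e : ι ≃ Fin n)
    (A : Matrix ι ι F) (hdet : A.det = 1)
    (hconj : IsConj A ((A.map (fun x : F => x ^ q)).transpose)⁻¹) :
    ∃ X : Cfsg.SU n F q, ∀ (j : ℕ) (μ : F),
      ((X : SpecialLinearGroup (Fin n) F) : Matrix (Fin n) (Fin n) F) ^ j =
        μ • (1 : Matrix (Fin n) (Fin n) F) ↔ A ^ j = μ • (1 : Matrix ι ι F) := by
  classical
  let φ : Matrix ι ι F ≃ₐ[F] Matrix (Fin n) (Fin n) F := Matrix.reindexAlgEquiv F F e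
  have hφ : ∀ M, φ M = M.submatrix e.symm e.symm := fun M => rfl
  have hdet' : (φ A).det = 1 := by
    rw [Matrix.det_reindexAlgEquiv, hdet]
  have hB : φ ((A.map (fun x : F => x ^ q)).transpose)⁻¹ =
      (((φ A).map (fun x : F => x ^ q)).transpose)⁻¹ := by
    rw [hφ, hφ, ← Matrix.submatrix_map, Matrix.transpose_submatrix, Matrix.inv_submatrix_equiv]
  obtain ⟨c, hc⟩ := hconj
  have hconj' : IsConj (φ A) (((φ A).map (fun x : F => x ^ q)).transpose)⁻¹ := by
    refine ⟨Units.map (φ : Matrix ι ι F →* Matrix (Fin n) (Fin n) F) c, ?_⟩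
    show φ (c : Matrix ι ι F) * φ A = _ * φ (c : Matrix ι ι F)
    rw [← hB, ← map_mul, ← map_mul]
    exact congrArg φ hc
  obtain ⟨X, hX⟩ := exists_su_of_isConj hF (φ A) hdet' hconj'
  refine ⟨X, fun j μ => ?_⟩
  rw [hX, ← map_pow]
  constructor
  · intro h
    apply φ.injective
    rw [h, map_smul, map_one]
  · intro h
    rw [h, map_smul, map_one]

end transport

section blocks
variable {F : Type*} [Field F] {m : ℕ} (bar : F →+* F)

/-- the conjugate inverse transpose -/
noncomputable def cit (B : Matrix (Fin m) (Fin m) F) : Matrix (Fin m) (Fin m) F :=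
  ((B.map bar).transpose)⁻¹

/-- a torus element in block form -/
noncomputable def torusMat (B : Matrix (Fin m) (Fin m) F) :
    Matrix (Fin m ⊕ Fin m) (Fin m ⊕ Fin m) F :=
  fromBlocks B 0 0 (cit bar B)

theorem map_bar_eq (B : Matrix (Fin m) (Fin m) F) : B.map bar = bar.mapMatrix B := rfl

theorem det_map_bar (B : Matrix (Fin m) (Fin m) F) : (B.map bar).det = bar B.det := by
  rw [map_bar_eq, ← RingHom.map_det]

theorem cit_mul (B : Matrix (Fin m) (Fin m) F) (hB : B.det ≠ 0) :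
    cit bar B * (B.map bar).transpose = 1 := by
  apply Matrix.nonsing_inv_mul
  rw [det_transpose, det_map_bar]
  exact ((map_ne_zero bar).2 hB).isUnit

theorem det_cit (B : Matrix (Fin m) (Fin m) F) : (cit bar B).det = (bar B.det)⁻¹ := by
  rw [cit, Matrix.det_nonsing_inv, det_transpose, det_map_bar, Ring.inverse_eq_inv']

theorem cit_pow (B : Matrix (Fin m) (Fin m) F) (j : ℕ) : cit bar B ^ j = cit bar (B ^ j) := by
  rw [cit, cit, Matrix.inv_pow', ← Matrix.transpose_pow, map_bar_eq, map_bar_eq, map_pow]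

theorem cit_smul_one (μ : F) (hμ : μ ≠ 0) :
    cit bar (μ • (1 : Matrix (Fin m) (Fin m) F)) = (bar μ)⁻¹ • (1 : Matrix (Fin m) (Fin m) F) := by
  rw [cit]
  apply Matrix.inv_eq_left_inv
  have h1 : ((μ • (1 : Matrix (Fin m) (Fin m) F)).map bar) = bar μ • (1 : Matrix (Fin m) (Fin m) F) := by
    ext i j
    rw [Matrix.map_apply, Matrix.smul_apply, Matrix.smul_apply, Matrix.one_apply]
    split_ifs <;> simp
  rw [h1, transpose_smul, transpose_one, smul_mul_smul_comm, mul_one,
    inv_mul_cancel₀ ((map_ne_zero bar).2 hμ), one_smul]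

variable (hbar2 : ∀ x, bar (bar x) = x)

include hbar2 in
theorem mul_cit_map (B : Matrix (Fin m) (Fin m) F) (hB : B.det ≠ 0) :
    B * ((cit bar B).map bar).transpose = 1 := by
  have h1 : ((cit bar B * (B.map bar).transpose).map bar).transpose =
      ((1 : Matrix (Fin m) (Fin m) F).map bar).transpose := by rw [cit_mul bar B hB]
  rw [Matrix.map_one _ (map_zero bar) (map_one bar), transpose_one, Matrix.map_mul,
    transpose_mul] at h1
  have h2 : (((B.map bar).transpose).map bar).transpose = B := by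
    ext i j
    simp [hbar2]
  rw [h2] at h1
  exact h1

include hbar2 in
/-- the conjugate inverse transpose of a torus element -/
theorem torusMat_cit (B : Matrix (Fin m) (Fin m) F) (hB : B.det ≠ 0) :
    (((torusMat bar B).map bar).transpose)⁻¹ = fromBlocks (cit bar B) 0 0 B := by
  apply Matrix.inv_eq_left_inv
  rw [torusMat, fromBlocks_map, fromBlocks_transpose, fromBlocks_multiply]
  simp only [Matrix.map_zero, map_zero, transpose_zero, Matrix.mul_zero, Matrix.zero_mul, add_zero,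
    zero_add]
  rw [cit_mul bar B hB, mul_cit_map bar hbar2 B hB, fromBlocks_one]

/-- a torus element is conjugate to the block swap of itself -/
theorem torusMat_isConj (B : Matrix (Fin m) (Fin m) F) :
    IsConj (torusMat bar B) (fromBlocks (cit bar B) 0 0 B) := by
  set sw : Matrix (Fin m ⊕ Fin m) (Fin m ⊕ Fin m) F :=
    fromBlocks (0 : Matrix (Fin m) (Fin m) F) (1 : Matrix (Fin m) (Fin m) F)
      (1 : Matrix (Fin m) (Fin m) F) (0 : Matrix (Fin m) (Fin m) F) with hsw
  have hc : sw * sw = 1 := by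
    rw [hsw, fromBlocks_multiply]
    simp only [Matrix.mul_zero, Matrix.mul_one, zero_add, add_zero]
    exact fromBlocks_one
  refine ⟨⟨sw, sw, hc, hc⟩, ?_⟩
  show sw * torusMat bar B = fromBlocks (cit bar B) 0 0 B * sw
  rw [hsw]
  rw [torusMat, fromBlocks_multiply, fromBlocks_multiply]
  simp only [Matrix.mul_zero, Matrix.mul_one, zero_add, add_zero, Matrix.zero_mul, Matrix.one_mul]

theorem torusMat_det (B : Matrix (Fin m) (Fin m) F) :
    (torusMat bar B).det = B.det * (bar B.det)⁻¹ := by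
  rw [torusMat, det_fromBlocks_zero₂₁, det_cit]

theorem torusMat_pow (B : Matrix (Fin m) (Fin m) F) (j : ℕ) :
    torusMat bar B ^ j = fromBlocks (B ^ j) 0 0 (cit bar (B ^ j)) := by
  induction j with
  | zero =>
    rw [pow_zero, pow_zero]
    have : cit bar (1 : Matrix (Fin m) (Fin m) F) = 1 := by
      have := cit_smul_one (m := m) bar (1 : F) one_ne_zero
      rwa [one_smul, map_one, inv_one, one_smul] at this
    rw [this, fromBlocks_one]
  | succ j ih =>
    rw [pow_succ, ih, torusMat, fromBlocks_multiply]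
    simp only [Matrix.mul_zero, Matrix.zero_mul, add_zero, zero_add]
    rw [← cit_pow, ← cit_pow, ← pow_succ, ← pow_succ]

/-- scalar powers of a torus element -/
theorem torusMat_pow_scalar (hm : 0 < m) (B : Matrix (Fin m) (Fin m) F) (hB : B.det ≠ 0) (j : ℕ) :
    (∃ μ : F, torusMat bar B ^ j = μ • (1 : Matrix (Fin m ⊕ Fin m) (Fin m ⊕ Fin m) F)) ↔
      ∃ μ : F, B ^ j = μ • (1 : Matrix (Fin m) (Fin m) F) ∧ μ * bar μ = 1 := by
  have hone : (1 : Matrix (Fin m) (Fin m) F) ⟨0, hm⟩ ⟨0, hm⟩ = 1 := Matrix.one_apply_eq _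
  have hscal : ∀ μ : F, μ • (1 : Matrix (Fin m ⊕ Fin m) (Fin m ⊕ Fin m) F) =
      fromBlocks (μ • (1 : Matrix (Fin m) (Fin m) F)) 0 0 (μ • 1) := by
    intro μ
    rw [← fromBlocks_one, fromBlocks_smul, smul_zero]
  have hμ0 : ∀ μ : F, B ^ j = μ • (1 : Matrix (Fin m) (Fin m) F) → μ ≠ 0 := by
    rintro μ h rfl
    have hd := congrArg Matrix.det h
    have : Nonempty (Fin m) := ⟨⟨0, hm⟩⟩
    rw [det_pow, zero_smul, det_zero] at hd
    exact (pow_ne_zero j hB) hd
  constructor
  · rintro ⟨μ, hμ⟩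
    rw [torusMat_pow, hscal, fromBlocks_inj] at hμ
    obtain ⟨h1, -, -, h2⟩ := hμ
    refine ⟨μ, h1, ?_⟩
    have hμ0' := hμ0 μ h1
    rw [h1, cit_smul_one bar μ hμ0'] at h2
    have h3 := congrFun (congrFun h2 ⟨0, hm⟩) ⟨0, hm⟩
    rw [Matrix.smul_apply, Matrix.smul_apply, hone, smul_eq_mul, smul_eq_mul, mul_one, mul_one] at h3
    have h4 : (bar μ)⁻¹ * bar μ = 1 := inv_mul_cancel₀ ((map_ne_zero bar).2 hμ0')
    rw [h3] at h4
    exact h4
  · rintro ⟨μ, h1, h2⟩
    refine ⟨μ, ?_⟩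
    rw [torusMat_pow, hscal, h1, cit_smul_one bar μ (hμ0 μ h1)]
    congr 2
    exact (eq_inv_of_mul_eq_one_left h2).symm

end blocks

section torus
variable {F : Type*} [Field F] [Fintype F] {q : ℕ} (hF : Fintype.card F = q ^ 2)

include hF in
/-- the image in `PSU_{2m}(q)` of the torus of order `(q ^ (2m) - 1) / (q + 1)` -/
theorem exists_psu_order_torus (m : ℕ) (hm : 2 ≤ m) (T : ℕ) (hT : T * (q + 1) = q ^ (m + m) - 1) :
    ∃ x : Cfsg.PSU (m + m) F q, orderOf x = T / Nat.gcd T (q + 1) := by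
  classical
  obtain ⟨bar, hbar⟩ := exists_bar hF
  have hbar2 : ∀ x, bar (bar x) = x := by
    intro x
    rw [hbar, hbar, ← pow_mul, ← sq, ← hF, FiniteField.pow_card]
  have hq2 : 2 ≤ q := by
    have := Fintype.one_lt_card (α := F)
    rw [hF] at this
    nlinarith
  obtain ⟨B₀, hB₀, -, hcrit⟩ := exists_singer (F := F) m (by omega)
  rw [hF] at hB₀ hcrit
  have hQm : (q ^ 2) ^ m = q ^ (m + m) := by rw [← pow_mul, two_mul]
  rw [hQm] at hB₀ hcrit
  have hpos : 0 < q ^ (m + m) - 1 := by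
    have : 1 < q ^ (m + m) := Nat.one_lt_pow (by omega) (by omega)
    omega
  have hTpos : 0 < T := by
    rcases Nat.eq_zero_or_pos T with h | h
    · rw [h, zero_mul] at hT; omega
    · exact h
  have hdetB₀ : B₀.det ≠ 0 := by
    intro h0
    have h1 : B₀ ^ (q ^ (m + m) - 1) = 1 := by rw [← hB₀]; exact pow_orderOf_eq_one B₀
    have h2 := congrArg Matrix.det h1
    rw [Matrix.det_pow, h0, zero_pow hpos.ne', Matrix.det_one] at h2
    exact zero_ne_one h2
  set B := B₀ ^ (q + 1) with hB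
  have hdetB : B.det ≠ 0 := by rw [hB, det_pow]; exact pow_ne_zero _ hdetB₀
  have hdetbar : bar B.det = B.det := by
    rw [hbar, hB, det_pow, ← pow_mul, add_mul, one_mul, pow_add, ← sq, ← hF, FiniteField.pow_card,
      pow_succ']
  set A := torusMat bar B with hA
  have hdet : A.det = 1 := by
    rw [hA, torusMat_det, hdetbar]
    exact mul_inv_cancel₀ hdetB
  have hmapbar : A.map (fun x : F => x ^ q) = A.map bar := by
    ext i l
    simp only [Matrix.map_apply, hbar]
  have hconj : IsConj A ((A.map (fun x : F => x ^ q)).transpose)⁻¹ := by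
    rw [hmapbar, hA, torusMat_cit bar hbar2 B hdetB]
    exact torusMat_isConj bar B
  obtain ⟨X, hX⟩ := exists_su_of_isConj_equiv hF finSumFinEquiv A hdet hconj
  have hq21 : q ^ 2 - 1 = (q + 1) * (q - 1) := by
    obtain ⟨t, rfl⟩ : ∃ t, q = t + 1 := ⟨q - 1, by omega⟩
    simp only [Nat.add_sub_cancel]
    have : (t + 1) ^ 2 = (t + 1 + 1) * t + 1 := by ring
    rw [this]
    simp
  have hscal : ∀ j : ℕ, (∃ μ : F, A ^ j = μ • (1 : Matrix (Fin m ⊕ Fin m) (Fin m ⊕ Fin m) F)) ↔
      T ∣ j * (q + 1) := by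
    intro j
    rw [hA, torusMat_pow_scalar bar (by omega) B hdetB]
    have hBpow : ∀ i : ℕ, B ^ i = B₀ ^ ((q + 1) * i) := by
      intro i; rw [hB, ← pow_mul]
    have hone : ∀ i : ℕ, B ^ i = 1 ↔ T ∣ i := by
      intro i
      rw [hBpow, ← orderOf_dvd_iff_pow_eq_one, hB₀, ← hT, mul_comm (q + 1) i]
      exact Nat.mul_dvd_mul_iff_right (by omega)
    constructor
    · rintro ⟨μ, h1, h2⟩
      rw [← hone, pow_mul, h1, smul_pow, one_pow, pow_succ', ← hbar, h2, one_smul]
    · intro h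
      have h1 : B ^ (j * (q + 1)) = 1 := (hone _).2 h
      obtain ⟨μ, hμ⟩ : ∃ μ : F, B ^ j = μ • (1 : Matrix (Fin m) (Fin m) F) := by
        rw [hBpow, hcrit, hq21, ← hT]
        obtain ⟨c, hc⟩ := h
        refine ⟨c * (q - 1), ?_⟩
        calc (q + 1) * j * ((q + 1) * (q - 1)) = (j * (q + 1)) * (q + 1) * (q - 1) := by ring
          _ = T * (q + 1) * (c * (q - 1)) := by rw [hc]; ring
      refine ⟨μ, hμ, ?_⟩
      rw [pow_mul, hμ, smul_pow, one_pow] at h1
      have h3 := congrFun (congrFun h1 ⟨0, by omega⟩) ⟨0, by omega⟩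
      rw [Matrix.smul_apply, Matrix.one_apply_eq, smul_eq_mul, mul_one] at h3
      rw [hbar, ← pow_succ']
      exact h3
  obtain ⟨μ, hμ⟩ : ∃ μ : F, A ^ (T / Nat.gcd T (q + 1)) =
      μ • (1 : Matrix (Fin m ⊕ Fin m) (Fin m ⊕ Fin m) F) := by
    rw [hscal, mul_comm]
    exact su3_dvd_mul_div _ (q + 1) T (Nat.gcd_dvd_right _ _) (Nat.gcd_dvd_left _ _)
  refine ⟨QuotientGroup.mk X, orderOf_mk_su_eq hF (by omega) X _ μ ((hX _ μ).2 hμ) ?_⟩
  rintro j ⟨ν, hν⟩
  have h1 : T ∣ j * (q + 1) := (hscal j).1 ⟨ν, (hX j ν).1 hν⟩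
  exact Cfsg.Agent.S2476.div_gcd_dvd_of_dvd_mul T (q + 1) j hTpos h1

end torus

end Cfsg.Agent.Helper38
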