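import Mathlib
import Cfsg.Prelude.Def_ParabolicCharacters

/-!
# The Borel subgroup of `GL₂(F)`: parametrisation and conjugation
-/

set_option autoImplicit false

namespace Cfsg.Agent.Helper38

open Matrix Cfsg

section
variable {F : Type*} [Field F]

theorem mem_borel_iff (g : GL (Fin 2) F) :
    g ∈ upperTriangularGL 2 F ↔ (g : Matrix (Fin 2) (Fin 2) F) 1 0 = 0 := by
  change (g : Matrix (Fin 2) (Fin 2) F).BlockTriangular id ↔ _
  constructor
  · intro h
    exact h (by decide : (id (0 : Fin 2)) < id 1)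
  · intro h i j hij
    fin_cases i <;> fin_cases j
    · exact absurd hij (by decide)
    · exact absurd hij (by decide)
    · exact h
    · exact absurd hij (by decide)

/-- the upper triangular matrix with diagonal `a, d` and corner `t` -/
noncomputable def bmk (a d : Fˣ) (t : F) : GL (Fin 2) F :=
  Matrix.GeneralLinearGroup.mkOfDetNeZero !![(a : F), t; 0, (d : F)]
    (by simp [Matrix.det_fin_two_of])

theorem bmk_coe (a d : Fˣ) (t : F) :
    ((bmk a d t : GL (Fin 2) F) : Matrix (Fin 2) (Fin 2) F) = !![(a : F), t; 0, (d : F)] := rfl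

theorem bmk_mem (a d : Fˣ) (t : F) : bmk a d t ∈ upperTriangularGL 2 F := by
  rw [mem_borel_iff, bmk_coe]; rfl

theorem borel_diag_ne_zero (b : upperTriangularGL 2 F) :
    ((b : GL (Fin 2) F) : Matrix (Fin 2) (Fin 2) F) 0 0 ≠ 0 ∧
      ((b : GL (Fin 2) F) : Matrix (Fin 2) (Fin 2) F) 1 1 ≠ 0 := by
  have h10 := (mem_borel_iff b.1).1 b.2
  have hdet : ((b : GL (Fin 2) F) : Matrix (Fin 2) (Fin 2) F).det ≠ 0 :=
    Matrix.GeneralLinearGroup.det_ne_zero b.1
  rw [Matrix.det_fin_two, h10, mul_zero, sub_zero] at hdet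
  exact ⟨left_ne_zero_of_mul hdet, right_ne_zero_of_mul hdet⟩

/-- parametrisation of the Borel subgroup -/
noncomputable def borelEquiv : Fˣ × Fˣ × F ≃ upperTriangularGL 2 F where
  toFun p := ⟨bmk p.1 p.2.1 p.2.2, bmk_mem _ _ _⟩
  invFun b := (Units.mk0 _ (borel_diag_ne_zero b).1, Units.mk0 _ (borel_diag_ne_zero b).2,
    ((b : GL (Fin 2) F) : Matrix (Fin 2) (Fin 2) F) 0 1)
  left_inv := by
    rintro ⟨a, d, t⟩
    refine Prod.ext (Units.ext ?_) (Prod.ext (Units.ext ?_) ?_) <;> simp [bmk_coe]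
  right_inv := by
    intro b
    apply Subtype.ext
    apply Matrix.GeneralLinearGroup.ext
    have h10 := (mem_borel_iff b.1).1 b.2
    intro i j
    fin_cases i <;> fin_cases j <;> simp [bmk_coe, h10]

theorem borelEquiv_apply (a d : Fˣ) (t : F) :
    ((borelEquiv (a, d, t) : upperTriangularGL 2 F) : GL (Fin 2) F) = bmk a d t := rfl

theorem card_borel [Fintype F] :
    Nat.card (upperTriangularGL 2 F) = (Fintype.card F - 1) * ((Fintype.card F - 1) * Fintype.card F) := by
  rw [← Nat.card_congr (borelEquiv (F := F)), Nat.card_prod, Nat.card_prod, Nat.card_units,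
    Nat.card_eq_fintype_card]

theorem card_GL2 [Fintype F] :
    Nat.card (GL (Fin 2) F) =
      (Fintype.card F ^ 2 - 1) * (Fintype.card F ^ 2 - Fintype.card F) := by
  rw [Matrix.card_GL_field, Fin.prod_univ_two]
  simp

/-- conjugating an upper triangular element by `x` with `x₁₀ ≠ 0` -/
theorem conj_bmk_eq (x : GL (Fin 2) F) (hx : (x : Matrix (Fin 2) (Fin 2) F) 1 0 ≠ 0) (a d : Fˣ) :
    x⁻¹ * bmk a d ((x : Matrix (Fin 2) (Fin 2) F) 0 0 * ((d : F) - a) /
        (x : Matrix (Fin 2) (Fin 2) F) 1 0) * x =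
      bmk d a ((x : Matrix (Fin 2) (Fin 2) F) 1 1 * ((d : F) - a) /
        (x : Matrix (Fin 2) (Fin 2) F) 1 0) := by
  rw [mul_assoc, inv_mul_eq_iff_eq_mul]
  apply Units.ext
  rw [Units.val_mul, Units.val_mul]
  set X : Matrix (Fin 2) (Fin 2) F := (x : Matrix (Fin 2) (Fin 2) F) with hX
  change (bmk a d _ : Matrix (Fin 2) (Fin 2) F) * X = X * (bmk d a _ : Matrix (Fin 2) (Fin 2) F)
  rw [bmk_coe, bmk_coe]
  conv_lhs => rw [Matrix.eta_fin_two X]
  conv_rhs => rw [Matrix.eta_fin_two X]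
  ext i j
  fin_cases i <;> fin_cases j <;>
    simp [Matrix.mul_apply, Fin.sum_univ_two] <;> field_simp <;> ring

theorem conj_bmk_mem_iff (x : GL (Fin 2) F) (hx : (x : Matrix (Fin 2) (Fin 2) F) 1 0 ≠ 0)
    (a d : Fˣ) (t : F) :
    x⁻¹ * bmk a d t * x ∈ upperTriangularGL 2 F ↔
      t = (x : Matrix (Fin 2) (Fin 2) F) 0 0 * ((d : F) - a) /
        (x : Matrix (Fin 2) (Fin 2) F) 1 0 := by
  constructor
  · intro hmem
    set b' : GL (Fin 2) F := x⁻¹ * bmk a d t * x with hb'
    have h10 : (b' : Matrix (Fin 2) (Fin 2) F) 1 0 = 0 := (mem_borel_iff b').1 hmem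
    have heq : x * b' = bmk a d t * x := by
      rw [hb']; group
    have hm : (x : Matrix (Fin 2) (Fin 2) F) * (b' : Matrix (Fin 2) (Fin 2) F)
        = (bmk a d t : Matrix (Fin 2) (Fin 2) F) * (x : Matrix (Fin 2) (Fin 2) F) := by
      rw [← Units.val_mul, ← Units.val_mul, heq]
    have e10 := congrFun (congrFun hm 1) 0
    have e00 := congrFun (congrFun hm 0) 0
    simp only [Matrix.mul_apply, Fin.sum_univ_two, bmk_coe, h10, mul_zero, add_zero] at e10 e00
    simp at e10 e00
    -- e10 : x 1 0 * b' 0 0 = d * x 1 0 ; e00 : x 0 0 * b' 0 0 = a * x 0 0 + t * x 1 0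
    have hb00 : (b' : Matrix (Fin 2) (Fin 2) F) 0 0 = d := by
      have := e10
      rw [mul_comm] at this
      exact mul_right_cancel₀ hx this
    rw [hb00] at e00
    field_simp
    linear_combination -e00
  · intro ht
    rw [ht, conj_bmk_eq x hx a d]
    exact bmk_mem _ _ _

end

end Cfsg.Agent.Helper38
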