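import Mathlib
import Cfsg.Agent.Helper15.IndChar

/-!
# An irreducibility criterion for characters induced from a linear character (Mackey)
-/

set_option autoImplicit false

namespace Cfsg.Agent.Helper38

open Cfsg
open scoped ComplexConjugate

universe u

section
variable {G : Type u} [Group G]

/-- a monoid homomorphism to `ℂ` is a character -/
theorem isCharacter_of_monoidHomC (θ : G →* ℂ) : Cfsg.IsCharacter G (fun g => θ g) := by
  let ρ : Representation ℂ G (Fin 1 → ℂ) :=
    ((algebraMap ℂ (Module.End ℂ (Fin 1 → ℂ))) : ℂ →* _).comp θ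
  refine ⟨1, ρ, ?_⟩
  funext g
  change LinearMap.trace ℂ _ (algebraMap ℂ (Module.End ℂ (Fin 1 → ℂ)) (θ g)) = θ g
  rw [Algebra.algebraMap_eq_smul_one, map_smul, LinearMap.trace_one]
  simp

theorem ext_mul_left (H : Subgroup G) (θ : H →* ℂ) (h : H) (g : G) :
    extendByZero H (fun b => θ b) ((h : G) * g) = θ h * extendByZero H (fun b => θ b) g := by
  by_cases hg : g ∈ H
  · rw [Helper15.extendByZero_of_mem H _ hg, Helper15.extendByZero_of_mem H _ (H.mul_mem h.2 hg)]
    rw [← map_mul]; rfl
  · have : (h : G) * g ∉ H := fun hh => hg ((H.mul_mem_cancel_left h.2).1 hh)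
    rw [Helper15.extendByZero_of_not_mem H _ hg, Helper15.extendByZero_of_not_mem H _ this,
      mul_zero]

theorem monoidHomC_mul_conj [Finite G] (θ : G →* ℂ) (g : G) : θ g * conj (θ g) = 1 := by
  have h1 : θ g ^ Nat.card G = 1 := by
    rw [← map_pow, pow_card_eq_one', map_one]
  have h2 : ‖θ g‖ = 1 :=
    Complex.norm_eq_one_of_pow_eq_one h1 (Nat.card_pos.ne')
  rw [Complex.mul_conj, Complex.normSq_eq_norm_sq, h2]
  simp

end

section
variable {G : Type u} [Group G] [Fintype G]

/-- **Mackey irreducibility criterion** for a linear character `θ` of `H`: if for every `x ∉ H`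
the characters `θ` and `θ^x` differ somewhere on `H ∩ x H x⁻¹`, then `θ^G` is irreducible. -/
theorem isIrr_indFun_of_mackey (H : Subgroup G) (θ : H →* ℂ)
    (hsep : ∀ x : G, x ∉ H → ∃ b₀ : H, ∃ hb : x⁻¹ * b₀ * x ∈ H,
      θ b₀ ≠ θ ⟨x⁻¹ * b₀ * x, hb⟩) :
    Cfsg.IsIrrCharacter G (indFun H (fun b => θ b)) := by
  classical
  let _ : Fintype H := Fintype.ofFinite H
  have hchar : IsCharacter G (indFun H (fun b => θ b)) :=
    Helper15.isCharacter_indFun H (isCharacter_of_monoidHomC θ)
  apply Helper15.isIrrCharacter_of_inner_self_eq_one hchar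
  rw [Helper15.frobenius_reciprocity H _ _ (Helper15.isClassFunction_indFun H _)]
  have hnorm : ∀ h : H, θ h * conj (θ h) = 1 := fun h => monoidHomC_mul_conj θ h
  -- the inner sums
  set S : G → ℂ := fun x => ∑ b : H, θ b * conj (extendByZero H (fun b => θ b) (x⁻¹ * b * x))
    with hS
  have hS_mem : ∀ x : G, x ∈ H → S x = (Nat.card H : ℂ) := by
    intro x hx
    have : ∀ b : H, θ b * conj (extendByZero H (fun b => θ b) (x⁻¹ * b * x)) = 1 := by
      intro b
      have hmem : x⁻¹ * b * x ∈ H := H.mul_mem (H.mul_mem (H.inv_mem hx) b.2) hx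
      rw [Helper15.extendByZero_of_mem H _ hmem]
      have : (⟨x⁻¹ * b * x, hmem⟩ : H) = (⟨x, hx⟩ : H)⁻¹ * b * ⟨x, hx⟩ := rfl
      have h2 : θ ((⟨x, hx⟩ : H)⁻¹ * b * ⟨x, hx⟩) = θ b := by
        rw [map_mul, map_mul, mul_comm (θ _) (θ b), mul_assoc, ← map_mul, inv_mul_cancel,
          map_one, mul_one]
      rw [this, h2]
      exact hnorm b
    rw [hS]
    simp only [this, Finset.sum_const, Finset.card_univ, nsmul_eq_mul, mul_one,
      Nat.card_eq_fintype_card]
  have hS_not : ∀ x : G, x ∉ H → S x = 0 := by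
    intro x hx
    obtain ⟨b₀, hb, hne⟩ := hsep x hx
    set b₁ : H := ⟨x⁻¹ * b₀ * x, hb⟩ with hb₁
    set f : H → ℂ := fun b => θ b * conj (extendByZero H (fun b => θ b) (x⁻¹ * b * x)) with hf
    have hshift : ∀ b : H, f (b₀ * b) = (θ b₀ * conj (θ b₁)) * f b := by
      intro b
      have e1 : x⁻¹ * ((b₀ * b : H) : G) * x = (b₁ : G) * (x⁻¹ * b * x) := by
        rw [hb₁]; simp only [Subgroup.coe_mul]; group
      simp only [hf]
      rw [e1, ext_mul_left, map_mul, map_mul]
      ring
    have hsum : ∑ b : H, f b = (θ b₀ * conj (θ b₁)) * ∑ b : H, f b := by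
      rw [Finset.mul_sum]
      rw [← Fintype.sum_equiv (Equiv.mulLeft b₀) (fun b => f (b₀ * b)) f (fun b => rfl)]
      exact Finset.sum_congr rfl (fun b _ => hshift b)
    have hl : θ b₀ * conj (θ b₁) ≠ 1 := by
      intro h1
      apply hne
      have := congrArg (fun z => z * θ b₁) h1
      simp only [one_mul] at this
      rw [mul_assoc, mul_comm (conj _) _, hnorm b₁, mul_one] at this
      exact this
    have : (1 - θ b₀ * conj (θ b₁)) * ∑ b : H, f b = 0 := by
      rw [sub_mul, one_mul, ← hsum, sub_self]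
    rcases mul_eq_zero.1 this with h | h
    · exact absurd (sub_eq_zero.1 h).symm hl
    · exact h
  -- assemble
  rw [Helper15.classInner_apply]
  have hcard : (Nat.card H : ℂ) ≠ 0 := by
    have : Nat.card H ≠ 0 := Nat.card_pos.ne'
    exact_mod_cast this
  have step : ∀ b : H, θ b * conj (indFun H (fun b => θ b) (b : G))
      = (Nat.card H : ℂ)⁻¹ * ∑ x : G,
          θ b * conj (extendByZero H (fun b => θ b) (x⁻¹ * b * x)) := by
    intro b
    rw [Helper15.indFun_apply, map_mul, map_inv₀, Complex.conj_natCast, map_sum, Finset.mul_sum,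
      Finset.mul_sum, Finset.mul_sum]
    apply Finset.sum_congr rfl
    intro x _
    ring
  simp only [step]
  rw [← Finset.mul_sum, Finset.sum_comm]
  have : ∀ x : G, ∑ b : H, θ b * conj (extendByZero H (fun b => θ b) (x⁻¹ * b * x))
      = extendByZero H (fun _ => (Nat.card H : ℂ)) x := by
    intro x
    by_cases hx : x ∈ H
    · rw [Helper15.extendByZero_of_mem H _ hx]; exact hS_mem x hx
    · rw [Helper15.extendByZero_of_not_mem H _ hx]; exact hS_not x hx
  simp only [this]
  rw [Helper15.sum_extendByZero]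
  simp only [Finset.sum_const, Finset.card_univ, nsmul_eq_mul, ← Nat.card_eq_fintype_card]
  field_simp

end

end Cfsg.Agent.Helper38
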