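import Mathlib
import Cfsg.Agent.Helper38.GL2Borel
import Cfsg.Agent.Helper38.MackeyIrr

/-!
# Principal series characters of `GL₂(F)`: inner products
-/

set_option autoImplicit false

namespace Cfsg.Agent.Helper38

open Matrix Cfsg
open scoped ComplexConjugate

section general
universe u
variable {G : Type u} [Group G] [Fintype G]

/-- the Mackey sum attached to `x` -/
noncomputable def mackeySum (H : Subgroup G) [Fintype H] (θ θ' : H →* ℂ) (x : G) : ℂ :=
  ∑ b : H, θ b * conj (extendByZero H (fun b => θ' b) (x⁻¹ * b * x))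

theorem classInner_indFun_indFun (H : Subgroup G) [Fintype H] (θ θ' : H →* ℂ) :
    classInner (indFun H (fun b => θ b)) (indFun H (fun b => θ' b))
      = (Nat.card H : ℂ)⁻¹ * ((Nat.card H : ℂ)⁻¹ * ∑ x : G, mackeySum H θ θ' x) := by
  rw [Helper15.frobenius_reciprocity H _ _ (Helper15.isClassFunction_indFun H _)]
  rw [Helper15.classInner_apply]
  have step : ∀ b : H, θ b * conj (indFun H (fun b => θ' b) (b : G))
      = (Nat.card H : ℂ)⁻¹ * ∑ x : G,
          θ b * conj (extendByZero H (fun b => θ' b) (x⁻¹ * b * x)) := by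
    intro b
    rw [Helper15.indFun_apply, map_mul, map_inv₀, Complex.conj_natCast, map_sum, Finset.mul_sum,
      Finset.mul_sum, Finset.mul_sum]
    apply Finset.sum_congr rfl
    intro x _
    ring
  simp only [step]
  rw [← Finset.mul_sum, Finset.sum_comm]
  rfl

omit [Fintype G] in
theorem mackeySum_of_mem (H : Subgroup G) [Fintype H] (θ θ' : H →* ℂ) {x : G} (hx : x ∈ H) :
    mackeySum H θ θ' x = ∑ b : H, θ b * conj (θ' b) := by
  unfold mackeySum
  apply Finset.sum_congr rfl
  intro b _
  have hmem : x⁻¹ * b * x ∈ H := H.mul_mem (H.mul_mem (H.inv_mem hx) b.2) hx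
  rw [Helper15.extendByZero_of_mem H _ hmem]
  have : (⟨x⁻¹ * b * x, hmem⟩ : H) = (⟨x, hx⟩ : H)⁻¹ * b * ⟨x, hx⟩ := rfl
  have h2 : θ' ((⟨x, hx⟩ : H)⁻¹ * b * ⟨x, hx⟩) = θ' b := by
    rw [map_mul, map_mul, mul_comm (θ' _) (θ' b), mul_assoc, ← map_mul, inv_mul_cancel,
      map_one, mul_one]
  rw [this, h2]

end general

section theta
variable {F : Type*} [Field F]

/-- the linear character of the Borel subgroup attached to `(α, β)` -/
noncomputable def thetaHom (α β : MulChar F ℂ) : upperTriangularGL 2 F →* ℂ where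
  toFun b := α (((b : GL (Fin 2) F) : Matrix (Fin 2) (Fin 2) F) 0 0) *
    β (((b : GL (Fin 2) F) : Matrix (Fin 2) (Fin 2) F) 1 1)
  map_one' := by simp
  map_mul' := by
    intro a b
    have ha := (mem_borel_iff a.1).1 a.2
    have hb := (mem_borel_iff b.1).1 b.2
    simp only [Subgroup.coe_mul, Units.val_mul, Matrix.mul_apply, Fin.sum_univ_two, ha, hb,
      mul_zero, zero_mul, add_zero, zero_add, map_mul]
    ring

theorem thetaHom_apply (α β : MulChar F ℂ) (b : upperTriangularGL 2 F) :
    thetaHom α β b = α (((b : GL (Fin 2) F) : Matrix (Fin 2) (Fin 2) F) 0 0) *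
      β (((b : GL (Fin 2) F) : Matrix (Fin 2) (Fin 2) F) 1 1) := rfl

theorem thetaHom_bmk (α β : MulChar F ℂ) (a d : Fˣ) (t : F) (h : bmk a d t ∈ upperTriangularGL 2 F) :
    thetaHom α β ⟨bmk a d t, h⟩ = α a * β d := by
  rw [thetaHom_apply]
  simp [bmk_coe]

theorem thetaHom_borelEquiv (α β : MulChar F ℂ) (a d : Fˣ) (t : F) :
    thetaHom α β (borelEquiv (a, d, t)) = α a * β d :=
  thetaHom_bmk α β a d t _

end theta

section gl2
variable {F : Type*} [Field F] [Fintype F] [DecidableEq F]

/-- the principal series function -/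
noncomputable def PS (α β : MulChar F ℂ) : GL (Fin 2) F → ℂ :=
  indFun (upperTriangularGL 2 F) (fun b => thetaHom α β b)

theorem sum_units_mulChar (χ : MulChar F ℂ) : ∑ a : Fˣ, χ (a : F) = ∑ a : F, χ a := by
  classical
  rw [← Finset.sum_subset (Finset.subset_univ (Finset.univ.map ⟨((↑) : Fˣ → F), Units.val_injective⟩))]
  · rw [Finset.sum_map]; rfl
  · intro a _ ha
    apply MulChar.map_nonunit
    intro hu
    apply ha
    rw [Finset.mem_map]
    exact ⟨hu.unit, Finset.mem_univ _, rfl⟩

theorem card_sub_one_cast : ((Fintype.card Fˣ : ℕ) : ℂ) = (Fintype.card F : ℂ) - 1 := by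
  rw [Fintype.card_units, Nat.cast_sub Fintype.card_pos, Nat.cast_one]

theorem sum_units_mul_conj (α β : MulChar F ℂ) :
    ∑ a : Fˣ, α (a : F) * conj (β (a : F)) = if α = β then ((Fintype.card F : ℂ) - 1) else 0 := by
  have h1 : ∀ a : Fˣ, α (a : F) * conj (β (a : F)) = (α * β⁻¹) (a : F) := by
    intro a
    rw [MulChar.mul_apply, ← MulChar.star_apply']
    rfl
  simp only [h1]
  rw [sum_units_mulChar]
  split_ifs with h
  · rw [h, mul_inv_cancel, MulChar.sum_one_eq_card_units, card_sub_one_cast]
  · apply MulChar.sum_eq_zero_of_ne_one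
    intro h2
    apply h
    rw [mul_inv_eq_one] at h2
    exact h2

variable [Fintype (upperTriangularGL 2 F)]

theorem sum_borel (f : upperTriangularGL 2 F → ℂ) :
    ∑ b : upperTriangularGL 2 F, f b = ∑ a : Fˣ, ∑ d : Fˣ, ∑ t : F, f (borelEquiv (a, d, t)) := by
  rw [← borelEquiv.sum_comp f, Fintype.sum_prod_type]
  apply Finset.sum_congr rfl
  intro a _
  rw [Fintype.sum_prod_type]

theorem mackeySum_mem (α β α' β' : MulChar F ℂ) {x : GL (Fin 2) F}
    (hx : x ∈ upperTriangularGL 2 F) :
    mackeySum (upperTriangularGL 2 F) (thetaHom α β) (thetaHom α' β') x =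
      (Fintype.card F : ℂ) * ((if α = α' then ((Fintype.card F : ℂ) - 1) else 0) *
        (if β = β' then ((Fintype.card F : ℂ) - 1) else 0)) := by
  rw [mackeySum_of_mem _ _ _ hx, sum_borel]
  simp only [thetaHom_borelEquiv, Finset.sum_const, Finset.card_univ, nsmul_eq_mul, map_mul]
  rw [← sum_units_mul_conj α α', ← sum_units_mul_conj β β', Finset.sum_mul_sum, Finset.mul_sum]
  apply Finset.sum_congr rfl
  intro a _
  rw [Finset.mul_sum]
  apply Finset.sum_congr rfl
  intro d _
  ring

theorem mackeySum_not_mem (α β α' β' : MulChar F ℂ) {x : GL (Fin 2) F}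
    (hx : x ∉ upperTriangularGL 2 F) :
    mackeySum (upperTriangularGL 2 F) (thetaHom α β) (thetaHom α' β') x =
      (if α = β' then ((Fintype.card F : ℂ) - 1) else 0) *
        (if β = α' then ((Fintype.card F : ℂ) - 1) else 0) := by
  rw [mem_borel_iff] at hx
  unfold mackeySum
  rw [sum_borel]
  have inner : ∀ a d : Fˣ, ∑ t : F, thetaHom α β (borelEquiv (a, d, t)) *
      conj (extendByZero (upperTriangularGL 2 F) (fun b => thetaHom α' β' b)
        (x⁻¹ * (borelEquiv (a, d, t) : upperTriangularGL 2 F) * x))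
      = α a * β d * conj (α' d * β' a) := by
    intro a d
    set t₀ : F := (x : Matrix (Fin 2) (Fin 2) F) 0 0 * ((d : F) - a) /
        (x : Matrix (Fin 2) (Fin 2) F) 1 0 with ht₀
    rw [Finset.sum_eq_single t₀]
    · rw [thetaHom_borelEquiv, borelEquiv_apply, ht₀, conj_bmk_eq x hx a d,
        Helper15.extendByZero_of_mem _ _ (bmk_mem _ _ _), thetaHom_bmk]
    · intro t _ ht
      have : x⁻¹ * (borelEquiv (a, d, t) : upperTriangularGL 2 F) * x ∉ upperTriangularGL 2 F := by
        rw [borelEquiv_apply, conj_bmk_mem_iff x hx]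
        exact ht
      rw [Helper15.extendByZero_of_not_mem _ _ this, map_zero, mul_zero]
    · intro h; exact absurd (Finset.mem_univ _) h
  simp only [inner]
  rw [← sum_units_mul_conj α β', ← sum_units_mul_conj β α', Finset.sum_mul_sum]
  apply Finset.sum_congr rfl
  intro a _
  apply Finset.sum_congr rfl
  intro d _
  rw [map_mul]
  ring

/-- the diagonal orthogonality factor -/
noncomputable def eFac (α β : MulChar F ℂ) : ℂ := if α = β then ((Fintype.card F : ℂ) - 1) else 0

theorem sum_mackeySum (α β α' β' : MulChar F ℂ) :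
    ∑ x : GL (Fin 2) F, mackeySum (upperTriangularGL 2 F) (thetaHom α β) (thetaHom α' β') x
      = (Nat.card (upperTriangularGL 2 F) : ℂ) *
          ((Fintype.card F : ℂ) * (eFac α α' * eFac β β') - eFac α β' * eFac β α') +
        (Nat.card (GL (Fin 2) F) : ℂ) * (eFac α β' * eFac β α') := by
  have h : ∀ x : GL (Fin 2) F,
      mackeySum (upperTriangularGL 2 F) (thetaHom α β) (thetaHom α' β') x
        = extendByZero (upperTriangularGL 2 F)
            (fun _ => (Fintype.card F : ℂ) * (eFac α α' * eFac β β') - eFac α β' * eFac β α') x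
          + eFac α β' * eFac β α' := by
    intro x
    by_cases hx : x ∈ upperTriangularGL 2 F
    · rw [Helper15.extendByZero_of_mem _ _ hx, mackeySum_mem α β α' β' hx]
      unfold eFac
      ring
    · rw [Helper15.extendByZero_of_not_mem _ _ hx, mackeySum_not_mem α β α' β' hx]
      unfold eFac
      ring
  simp only [h]
  rw [Finset.sum_add_distrib, Helper15.sum_extendByZero]
  simp only [Finset.sum_const, Finset.card_univ, nsmul_eq_mul, Nat.card_eq_fintype_card]

omit [DecidableEq F] [Fintype (upperTriangularGL 2 F)] in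
theorem card_F_cast_ne : (Fintype.card F : ℂ) ≠ 0 ∧ (Fintype.card F : ℂ) - 1 ≠ 0 := by
  have h1 : 1 < Fintype.card F := Fintype.one_lt_card
  constructor
  · have : Fintype.card F ≠ 0 := by omega
    exact_mod_cast this
  · intro h
    have h2 : (Fintype.card F : ℂ) = 1 := by linear_combination h
    have : Fintype.card F = 1 := by exact_mod_cast h2
    omega

omit [DecidableEq F] [Fintype (upperTriangularGL 2 F)] in
theorem card_borel_cast : (Nat.card (upperTriangularGL 2 F) : ℂ)
    = ((Fintype.card F : ℂ) - 1) * (((Fintype.card F : ℂ) - 1) * (Fintype.card F : ℂ)) := by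
  rw [card_borel]
  have h1 : 1 ≤ Fintype.card F := Fintype.card_pos
  push_cast [Nat.cast_sub h1]
  ring

omit [DecidableEq F] [Fintype (upperTriangularGL 2 F)] in
theorem card_GL2_cast : (Nat.card (GL (Fin 2) F) : ℂ)
    = ((Fintype.card F : ℂ) ^ 2 - 1) * ((Fintype.card F : ℂ) ^ 2 - (Fintype.card F : ℂ)) := by
  rw [card_GL2]
  have h1 : 1 ≤ Fintype.card F := Fintype.card_pos
  have h2 : 1 ≤ Fintype.card F ^ 2 := Nat.one_le_pow _ _ h1
  have h3 : Fintype.card F ≤ Fintype.card F ^ 2 := by nlinarith
  push_cast [Nat.cast_sub h2, Nat.cast_sub h3]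
  ring

/-- the inner products of principal series functions -/
theorem classInner_PS (α β α' β' : MulChar F ℂ) :
    classInner (PS α β) (PS α' β') =
      (if α = α' ∧ β = β' then 1 else 0) + (if α = β' ∧ β = α' then 1 else 0) := by
  unfold PS
  rw [classInner_indFun_indFun, sum_mackeySum, card_borel_cast, card_GL2_cast]
  obtain ⟨hq, hq1⟩ := card_F_cast_ne (F := F)
  have e : ∀ a b : MulChar F ℂ,
      eFac a b = ((Fintype.card F : ℂ) - 1) * (if a = b then 1 else 0) := by
    intro a b; unfold eFac; split_ifs <;> simp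
  have e2 : ∀ (p q : Prop) [Decidable p] [Decidable q],
      (if p ∧ q then (1 : ℂ) else 0) = (if p then 1 else 0) * (if q then 1 else 0) := by
    intro p q _ _; split_ifs <;> simp_all
  rw [e, e, e, e, e2, e2]
  generalize (if α = α' then (1 : ℂ) else 0) = d1
  generalize (if β = β' then (1 : ℂ) else 0) = d2
  generalize (if α = β' then (1 : ℂ) else 0) = d3
  generalize (if β = α' then (1 : ℂ) else 0) = d4
  field_simp
  ring

end gl2

end Cfsg.Agent.Helper38
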