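import Mathlib
import Cfsg.Agent.Helper38.GL2Char

/-!
# Mackey: inner product of two characters induced from linear characters of the same subgroup
-/

set_option autoImplicit false

namespace Cfsg.Agent.Helper38

open Cfsg
open scoped ComplexConjugate

universe u

section
variable {G : Type u} [Group G] [Fintype G]

omit [Fintype G] in
/-- the Mackey sum at `x` vanishes when `θ` and `θ'^x` differ somewhere on `H ∩ x H x⁻¹` -/
theorem mackeySum_eq_zero_of_sep (H : Subgroup G) [Fintype H] (θ θ' : H →* ℂ) (x : G)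
    (b₀ : H) (hb : x⁻¹ * b₀ * x ∈ H) (hne : θ b₀ ≠ θ' ⟨x⁻¹ * b₀ * x, hb⟩) :
    mackeySum H θ θ' x = 0 := by
  classical
  have hnorm : ∀ h : H, θ' h * conj (θ' h) = 1 := fun h => monoidHomC_mul_conj θ' h
  set b₁ : H := ⟨x⁻¹ * b₀ * x, hb⟩ with hb₁
  set f : H → ℂ := fun b => θ b * conj (extendByZero H (fun b => θ' b) (x⁻¹ * b * x)) with hf
  have hshift : ∀ b : H, f (b₀ * b) = (θ b₀ * conj (θ' b₁)) * f b := by
    intro b
    have e1 : x⁻¹ * ((b₀ * b : H) : G) * x = (b₁ : G) * (x⁻¹ * b * x) := by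
      rw [hb₁]; simp only [Subgroup.coe_mul]; group
    simp only [hf]
    rw [e1, ext_mul_left, map_mul, map_mul]
    ring
  have hsum : ∑ b : H, f b = (θ b₀ * conj (θ' b₁)) * ∑ b : H, f b := by
    rw [Finset.mul_sum]
    rw [← Fintype.sum_equiv (Equiv.mulLeft b₀) (fun b => f (b₀ * b)) f (fun b => rfl)]
    exact Finset.sum_congr rfl (fun b _ => hshift b)
  have hl : θ b₀ * conj (θ' b₁) ≠ 1 := by
    intro h1
    apply hne
    have := congrArg (fun z => z * θ' b₁) h1
    simp only [one_mul] at this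
    rw [mul_assoc, mul_comm (conj _) _, hnorm b₁, mul_one] at this
    exact this
  have : (1 - θ b₀ * conj (θ' b₁)) * ∑ b : H, f b = 0 := by
    rw [sub_mul, one_mul, ← hsum, sub_self]
  unfold mackeySum
  rcases mul_eq_zero.1 this with h | h
  · exact absurd (sub_eq_zero.1 h).symm hl
  · exact h

/-- **Mackey**: if for every `x ∉ H` the characters `θ` and `θ'^x` differ somewhere on
`H ∩ x H x⁻¹`, then `⟨θ^G, θ'^G⟩ = ⟨θ, θ'⟩_H`. -/
theorem classInner_indFun_of_sep (H : Subgroup G) [Fintype H] (θ θ' : H →* ℂ)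
    (hsep : ∀ x : G, x ∉ H → ∃ b₀ : H, ∃ hb : x⁻¹ * b₀ * x ∈ H,
      θ b₀ ≠ θ' ⟨x⁻¹ * b₀ * x, hb⟩) :
    classInner (indFun H (fun b => θ b)) (indFun H (fun b => θ' b))
      = (Nat.card H : ℂ)⁻¹ * ∑ b : H, θ b * conj (θ' b) := by
  classical
  rw [classInner_indFun_indFun]
  have : ∀ x : G, mackeySum H θ θ' x
      = extendByZero H (fun _ => ∑ b : H, θ b * conj (θ' b)) x := by
    intro x
    by_cases hx : x ∈ H
    · rw [Helper15.extendByZero_of_mem H _ hx]; exact mackeySum_of_mem H θ θ' hx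
    · rw [Helper15.extendByZero_of_not_mem H _ hx]
      obtain ⟨b₀, hb, hne⟩ := hsep x hx
      exact mackeySum_eq_zero_of_sep H θ θ' x b₀ hb hne
  simp only [this]
  rw [Helper15.sum_extendByZero]
  simp only [Finset.sum_const, Finset.card_univ, nsmul_eq_mul, ← Nat.card_eq_fintype_card]
  have hcard : (Nat.card H : ℂ) ≠ 0 := by
    have : Nat.card H ≠ 0 := Nat.card_pos.ne'
    exact_mod_cast this
  field_simp

end

end Cfsg.Agent.Helper38
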