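import Mathlib

/-!
# (E1) of WANTED #5812/#5817 (helper34, S4067): weighted count of the classes of an equivalence relation
-/

set_option autoImplicit false

namespace Cfsg.Agent.Helper38.AutOrb

theorem mul_card_quotient_le_sum {α : Type*} [Fintype α] (r : Setoid α) [DecidableRel r.r]
    (w : α → ℕ) (N : ℕ)
    (h : ∀ a : α, N ≤ ∑ b ∈ Finset.univ.filter (fun b => r.r a b), w b) :
    N * Nat.card (Quotient r) ≤ ∑ a, w a := by
  classical
  have : Fintype (Quotient r) := Fintype.ofFinite _
  have hsum : ∑ a, w a =
      ∑ q : Quotient r, ∑ a ∈ Finset.univ.filter (fun a => (Quotient.mk r a) = q), w a :=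
    (Finset.sum_fiberwise Finset.univ (fun a => Quotient.mk r a) w).symm
  rw [hsum, Nat.card_eq_fintype_card, ← Finset.card_univ, mul_comm, ← smul_eq_mul,
    ← Finset.sum_const]
  apply Finset.sum_le_sum
  intro q _
  obtain ⟨a, rfl⟩ := Quotient.exists_rep q
  refine le_trans (h a) (le_of_eq ?_)
  apply Finset.sum_congr _ (fun _ _ => rfl)
  ext b
  simp only [Finset.mem_filter, Finset.mem_univ, true_and]
  constructor
  · intro hab
    exact Quotient.sound (r.symm hab)
  · intro hq
    exact r.symm (Quotient.exact hq)

end Cfsg.Agent.Helper38.AutOrb
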