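import Mathlib

/-!
# An abstract counting lemma for character degrees of rank one groups of Lie type
-/

set_option autoImplicit false

namespace Cfsg.Agent.Helper38

open Finset

theorem degree_count {I ML MP : Type*} [Fintype I] [DecidableEq I] [Fintype ML] [Fintype MP]
    [DecidableEq MP]
    (d : I → ℕ) (m N T : ℕ) (hm : 1 ≤ m)
    (hN : Fintype.card I = N) (hT : ∑ χ : I, d χ ^ 2 = T)
    (iL iS : ML → I) (iP : MP → I) (σ : MP → MP)
    (hσ : ∀ p, σ p ≠ p)
    (hiL : Function.Injective iL) (hiS : Function.Injective iS)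
    (hiP : ∀ p p', iP p = iP p' ↔ p' = p ∨ p' = σ p)
    (hdL : ∀ α, d (iL α) = 1) (hdS : ∀ α, d (iS α) = m + 1) (hdP : ∀ p, d (iP p) = m + 2)
    (hcl : ∀ χ, (∃ α, χ = iL α) ∨ (∃ α, χ = iS α) ∨ (∃ p, χ = iP p) ∨ (m ∣ d χ ∧ 0 < d χ))
    (hnum : 2 * T + (4 * Fintype.card ML + Fintype.card MP) * m ^ 2 =
      2 * Fintype.card ML * (1 + (m + 1) ^ 2) + Fintype.card MP * (m + 2) ^ 2 + 2 * N * m ^ 2) :
    (∀ χ, d χ = 1 ∨ d χ = m ∨ d χ = m + 1 ∨ d χ = m + 2) ∧
      (2 ≤ m →
        (univ.filter (fun χ => d χ = 1)).card = Fintype.card ML ∧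
        (univ.filter (fun χ => d χ = m + 1)).card = Fintype.card ML ∧
        2 * (univ.filter (fun χ => d χ = m + 2)).card = Fintype.card MP ∧
        2 * (univ.filter (fun χ => d χ = m)).card + 4 * Fintype.card ML + Fintype.card MP
          = 2 * N) := by
  classical
  set SL : Finset I := univ.image iL with hSL
  set SS : Finset I := univ.image iS with hSS
  set SP : Finset I := univ.image iP with hSP
  have cSL : SL.card = Fintype.card ML := by
    rw [hSL, card_image_of_injective _ hiL, card_univ]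
  have cSS : SS.card = Fintype.card ML := by
    rw [hSS, card_image_of_injective _ hiS, card_univ]
  have cSP : Fintype.card MP = 2 * SP.card := by
    rw [← card_univ, card_eq_sum_card_fiberwise (f := iP) (s := univ) (t := SP)
      (fun p _ => mem_image_of_mem iP (mem_univ p))]
    rw [mul_comm, ← smul_eq_mul, ← sum_const]
    apply sum_congr rfl
    intro y hy
    obtain ⟨p₀, -, rfl⟩ := mem_image.1 hy
    have : (univ.filter (fun p => iP p = iP p₀)) = {p₀, σ p₀} := by
      ext p
      simp only [mem_filter, mem_univ, true_and, mem_insert, mem_singleton]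
      rw [eq_comm, hiP]
    rw [this, card_pair (hσ p₀).symm]
  have dSL : ∀ χ ∈ SL, d χ = 1 := by
    intro χ hχ; obtain ⟨α, -, rfl⟩ := mem_image.1 hχ; exact hdL α
  have dSS : ∀ χ ∈ SS, d χ = m + 1 := by
    intro χ hχ; obtain ⟨α, -, rfl⟩ := mem_image.1 hχ; exact hdS α
  have dSP : ∀ χ ∈ SP, d χ = m + 2 := by
    intro χ hχ; obtain ⟨α, -, rfl⟩ := mem_image.1 hχ; exact hdP α
  have disj1 : Disjoint SL SS := by
    rw [disjoint_left]; intro χ h1 h2
    have := dSL χ h1; have := dSS χ h2; omega
  have disj2 : Disjoint (SL ∪ SS) SP := by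
    rw [disjoint_left]; intro χ h1 h2
    have h3 := dSP χ h2
    rcases mem_union.1 h1 with h | h
    · have := dSL χ h; omega
    · have := dSS χ h; omega
  set ST : Finset I := (SL ∪ SS) ∪ SP with hST
  set SC : Finset I := univ \ ST with hSC
  have cST : ST.card = 2 * Fintype.card ML + SP.card := by
    rw [hST, card_union_of_disjoint disj2, card_union_of_disjoint disj1, cSL, cSS]; ring
  have hcusp : ∀ χ ∈ SC, m ∣ d χ ∧ 0 < d χ := by
    intro χ hχ
    rw [hSC, mem_sdiff] at hχ
    have hn := hχ.2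
    rcases hcl χ with ⟨α, rfl⟩ | ⟨α, rfl⟩ | ⟨p, rfl⟩ | h
    · exact absurd (mem_union_left _ (mem_union_left _ (mem_image_of_mem iL (mem_univ α)))) hn
    · exact absurd (mem_union_left _ (mem_union_right _ (mem_image_of_mem iS (mem_univ α)))) hn
    · exact absurd (mem_union_right _ (mem_image_of_mem iP (mem_univ p))) hn
    · exact h
  have sumST : ∑ χ ∈ ST, d χ ^ 2
      = Fintype.card ML + Fintype.card ML * (m + 1) ^ 2 + SP.card * (m + 2) ^ 2 := by
    rw [hST, sum_union disj2, sum_union disj1]
    rw [sum_congr rfl (fun χ hχ => by rw [dSL χ hχ] : ∀ χ ∈ SL, d χ ^ 2 = 1 ^ 2),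
      sum_congr rfl (fun χ hχ => by rw [dSS χ hχ] : ∀ χ ∈ SS, d χ ^ 2 = (m + 1) ^ 2),
      sum_congr rfl (fun χ hχ => by rw [dSP χ hχ] : ∀ χ ∈ SP, d χ ^ 2 = (m + 2) ^ 2)]
    simp only [sum_const, smul_eq_mul, cSL, cSS]
    ring
  have sumAll : ∑ χ ∈ SC, d χ ^ 2 + ∑ χ ∈ ST, d χ ^ 2 = T := by
    rw [hSC, sum_sdiff (subset_univ ST), hT]
  have cardAll : SC.card + ST.card = N := by
    rw [hSC, card_sdiff_add_card_eq_card (subset_univ ST), card_univ, hN]
  -- the key identity
  have key : ∑ χ ∈ SC, d χ ^ 2 = SC.card * m ^ 2 := by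
    rw [sumST] at sumAll
    rw [cST] at cardAll
    have h2 : 2 * ∑ χ ∈ SC, d χ ^ 2 = 2 * (SC.card * m ^ 2) := by
      zify at sumAll cardAll hnum cSP ⊢
      linear_combination 2 * sumAll + hnum + (((m : ℤ) + 2) ^ 2 - (m : ℤ) ^ 2) * cSP -
        2 * (m : ℤ) ^ 2 * cardAll
    omega
  have hle : ∀ χ ∈ SC, m ^ 2 ≤ d χ ^ 2 := by
    intro χ hχ
    obtain ⟨hdvd, hpos⟩ := hcusp χ hχ
    exact Nat.pow_le_pow_left (Nat.le_of_dvd hpos hdvd) 2
  have heq : ∀ χ ∈ SC, d χ = m := by
    have h1 : ∑ χ ∈ SC, m ^ 2 = ∑ χ ∈ SC, d χ ^ 2 := by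
      rw [key, sum_const, smul_eq_mul]
    have h2 := (sum_eq_sum_iff_of_le hle).1 h1
    intro χ hχ
    have h3 := h2 χ hχ
    exact (Nat.pow_left_injective (by norm_num : 2 ≠ 0) h3).symm
  have hmemC : ∀ χ, χ ∉ ST → χ ∈ SC := by
    intro χ h; rw [hSC, mem_sdiff]; exact ⟨mem_univ _, h⟩
  have hclass : ∀ χ, χ ∈ SL ∨ χ ∈ SS ∨ χ ∈ SP ∨ χ ∈ SC := by
    intro χ
    by_cases h : χ ∈ ST
    · rw [hST, mem_union, mem_union] at h
      tauto
    · right; right; right; exact hmemC χ h
  refine ⟨?_, ?_⟩
  · intro χ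
    rcases hclass χ with h | h | h | h
    · left; exact dSL χ h
    · right; right; left; exact dSS χ h
    · right; right; right; exact dSP χ h
    · right; left; exact heq χ h
  · intro hm2
    have f1 : univ.filter (fun χ => d χ = 1) = SL := by
      ext χ
      simp only [mem_filter, mem_univ, true_and]
      constructor
      · intro h
        rcases hclass χ with h' | h' | h' | h'
        · exact h'
        · have := dSS χ h'; omega
        · have := dSP χ h'; omega
        · have := heq χ h'; omega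
      · exact dSL χ
    have f2 : univ.filter (fun χ => d χ = m + 1) = SS := by
      ext χ
      simp only [mem_filter, mem_univ, true_and]
      constructor
      · intro h
        rcases hclass χ with h' | h' | h' | h'
        · have := dSL χ h'; omega
        · exact h'
        · have := dSP χ h'; omega
        · have := heq χ h'; omega
      · exact dSS χ
    have f3 : univ.filter (fun χ => d χ = m + 2) = SP := by
      ext χ
      simp only [mem_filter, mem_univ, true_and]
      constructor
      · intro h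
        rcases hclass χ with h' | h' | h' | h'
        · have := dSL χ h'; omega
        · have := dSS χ h'; omega
        · exact h'
        · have := heq χ h'; omega
      · exact dSP χ
    have f4 : univ.filter (fun χ => d χ = m) = SC := by
      ext χ
      simp only [mem_filter, mem_univ, true_and]
      constructor
      · intro h
        rcases hclass χ with h' | h' | h' | h'
        · have := dSL χ h'; omega
        · have := dSS χ h'; omega
        · have := dSP χ h'; omega
        · exact h'
      · exact heq χ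
    rw [f1, f2, f3, f4, cSL, cSS]
    refine ⟨rfl, rfl, cSP.symm, ?_⟩
    rw [cST] at cardAll
    omega

end Cfsg.Agent.Helper38
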