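import Mathlib
import Cfsg.Agent.Helper38.GL2Char
import Cfsg.Agent.Helper74.CharCount
import Cfsg.Agent.Helper80.Integrality

/-!
# The non-cuspidal irreducible characters of `GL₂(F)` and the degrees of the cuspidal ones
-/

set_option autoImplicit false

namespace Cfsg.Agent.Helper38

open Matrix Cfsg
open scoped ComplexConjugate

section general
universe u
variable {G : Type u} [Group G] [Fintype G]

theorem isIrr_of_monoidHomC (θ : G →* ℂ) : IsIrrCharacter G (fun g => θ g) := by
  apply Helper15.isIrrCharacter_of_inner_self_eq_one (isCharacter_of_monoidHomC θ)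
  rw [Helper15.classInner_apply]
  simp only [monoidHomC_mul_conj]
  have hG : (Nat.card G : ℂ) ≠ 0 := by
    have : Nat.card G ≠ 0 := Nat.card_pos.ne'
    exact_mod_cast this
  simp only [Finset.sum_const, Finset.card_univ, nsmul_eq_mul, mul_one,
    ← Nat.card_eq_fintype_card]
  exact inv_mul_cancel₀ hG

/-- a character of norm 2 minus an irreducible constituent of multiplicity 1 is irreducible -/
theorem isIrr_sub_of_inner (χ L : G → ℂ) (hχ : IsCharacter G χ) (hL : IsIrrCharacter G L)
    (h2 : classInner χ χ = 2) (h1 : classInner χ L = 1) : IsIrrCharacter G (χ - L) := by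
  classical
  have hcf : IsClassFunction G (χ - L) :=
    Helper74.isClassFunction_sub (Helper74.isClassFunction_of_isCharacter hχ)
      (Helper74.isClassFunction_of_isCharacter (Helper74.isCharacter_of_isIrr hL))
  have hchar : IsCharacter G (χ - L) := by
    apply Helper15.isCharacter_of_classFunction_of_inner_nat hcf
    intro ψ
    rw [Helper74.classInner_sub_left]
    obtain ⟨m, hm⟩ := Helper74.isCharacter_inner_irr_nat hχ ψ
    by_cases hψ : (⟨L, hL⟩ : IrrCharacter G) = ψ
    · refine ⟨0, ?_⟩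
      have e1 : classInner L (ψ : G → ℂ) = 1 := by
        have := Helper74.irr_inner_self (⟨L, hL⟩ : IrrCharacter G)
        rw [← hψ]; exact this
      have e2 : classInner χ (ψ : G → ℂ) = 1 := by rw [← hψ]; exact h1
      rw [e1, e2]; simp
    · refine ⟨m, ?_⟩
      have e1 : classInner L (ψ : G → ℂ) = 0 :=
        Helper74.irr_inner_ne (χ := (⟨L, hL⟩ : IrrCharacter G)) (ψ := ψ) hψ
      rw [e1, hm]; simp
  apply Helper15.isIrrCharacter_of_inner_self_eq_one hchar
  rw [Helper74.classInner_sub_left, Helper74.classInner_sub_right, Helper74.classInner_sub_right,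
    h2, h1]
  have e3 : classInner L χ = 1 := by
    rw [← Helper74.classInner_conj_symm, h1]; simp
  have e4 : classInner L L = 1 := Helper74.irr_inner_self (⟨L, hL⟩ : IrrCharacter G)
  rw [e3, e4]; norm_num

end general

section gl2
variable {F : Type*} [Field F] [Fintype F] [DecidableEq F]

/-- `α ∘ det` as a homomorphism to `ℂ` -/
noncomputable def detHomC (α : MulChar F ℂ) : GL (Fin 2) F →* ℂ :=
  (α.toMonoidHom).comp ((Units.coeHom F).comp Matrix.GeneralLinearGroup.det)

omit [Fintype F] [DecidableEq F] in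
theorem detHomC_apply (α : MulChar F ℂ) (g : GL (Fin 2) F) :
    detHomC α g = α ((g : Matrix (Fin 2) (Fin 2) F).det) := rfl

/-- the linear character `α ∘ det` -/
noncomputable def Lc (α : MulChar F ℂ) : GL (Fin 2) F → ℂ := fun g => detHomC α g

theorem isIrr_Lc (α : MulChar F ℂ) : IsIrrCharacter (GL (Fin 2) F) (Lc α) :=
  isIrr_of_monoidHomC (detHomC α)

omit [Fintype F] [DecidableEq F] in
theorem Lc_one (α : MulChar F ℂ) : Lc α 1 = 1 := map_one _

omit [Fintype F] [DecidableEq F] in
theorem Lc_borel (α : MulChar F ℂ) (b : upperTriangularGL 2 F) :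
    Lc α (b : GL (Fin 2) F) = thetaHom α α b := by
  have h10 := (mem_borel_iff b.1).1 b.2
  change detHomC α _ = _
  rw [detHomC_apply, thetaHom_apply, Matrix.det_fin_two, h10, mul_zero, sub_zero, map_mul]

theorem isCharacter_PS (α β : MulChar F ℂ) : IsCharacter (GL (Fin 2) F) (PS α β) :=
  Helper15.isCharacter_indFun _ (isCharacter_of_monoidHomC _)

theorem isIrr_PS (α β : MulChar F ℂ) (h : α ≠ β) : IsIrrCharacter (GL (Fin 2) F) (PS α β) := by
  classical
  let _ : Fintype (upperTriangularGL 2 F) := Fintype.ofFinite _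
  apply Helper15.isIrrCharacter_of_inner_self_eq_one (isCharacter_PS α β)
  rw [classInner_PS]
  simp [h]

theorem PS_one (α β : MulChar F ℂ) : PS α β 1 = (Fintype.card F : ℂ) + 1 := by
  unfold PS
  rw [Helper15.indFun_apply]
  have : ∀ x : GL (Fin 2) F, extendByZero (upperTriangularGL 2 F) (fun b => thetaHom α β b)
      (x⁻¹ * 1 * x) = 1 := by
    intro x
    have e : x⁻¹ * 1 * x = ((1 : upperTriangularGL 2 F) : GL (Fin 2) F) := by simp
    rw [e, Helper15.extendByZero_coe, map_one]
  rw [Finset.sum_congr rfl (fun x _ => this x), Finset.sum_const, Finset.card_univ, nsmul_eq_mul,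
    mul_one, ← Nat.card_eq_fintype_card (α := GL (Fin 2) F), card_borel_cast, card_GL2_cast]
  obtain ⟨hq, hq1⟩ := card_F_cast_ne (F := F)
  field_simp
  ring

theorem classInner_PS_Lc (α β γ : MulChar F ℂ) :
    classInner (PS α β) (Lc γ) = if α = γ ∧ β = γ then 1 else 0 := by
  classical
  let _ : Fintype (upperTriangularGL 2 F) := Fintype.ofFinite _
  unfold PS
  rw [Helper15.frobenius_reciprocity _ _ _
    (Helper74.isClassFunction_of_isCharacter (Helper74.isCharacter_of_isIrr (isIrr_Lc γ)))]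
  rw [Helper15.classInner_apply]
  have h1 : ∀ b : upperTriangularGL 2 F, (thetaHom α β b) * conj (Lc γ (b : GL (Fin 2) F))
      = thetaHom α β b * conj (thetaHom γ γ b) := by
    intro b; rw [Lc_borel]
  simp only [h1]
  rw [← mackeySum_of_mem (upperTriangularGL 2 F) (thetaHom α β) (thetaHom γ γ)
    (one_mem _), mackeySum_mem α β γ γ (one_mem _), card_borel_cast]
  obtain ⟨hq, hq1⟩ := card_F_cast_ne (F := F)
  by_cases h1 : α = γ <;> by_cases h2 : β = γ <;> simp [h1, h2]
  field_simp

/-- the Steinberg-type character -/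
noncomputable def St (α : MulChar F ℂ) : GL (Fin 2) F → ℂ := PS α α - Lc α

theorem isIrr_St (α : MulChar F ℂ) : IsIrrCharacter (GL (Fin 2) F) (St α) := by
  classical
  let _ : Fintype (upperTriangularGL 2 F) := Fintype.ofFinite _
  apply isIrr_sub_of_inner _ _ (isCharacter_PS α α) (isIrr_Lc α)
  · rw [classInner_PS]; simp; norm_num
  · rw [classInner_PS_Lc]; simp

theorem St_one (α : MulChar F ℂ) : St α 1 = (Fintype.card F : ℂ) := by
  unfold St
  rw [Pi.sub_apply, PS_one, Lc_one]
  ring

theorem classInner_PS_St (α β γ : MulChar F ℂ) :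
    classInner (PS α β) (St γ) = if α = γ ∧ β = γ then 1 else 0 := by
  classical
  let _ : Fintype (upperTriangularGL 2 F) := Fintype.ofFinite _
  unfold St
  rw [Helper74.classInner_sub_right, classInner_PS, classInner_PS_Lc]
  by_cases h1 : α = γ <;> by_cases h2 : β = γ <;> simp [h1, h2]

/-- an irreducible character meeting a principal series function is one of the listed ones -/
theorem noncuspidal_cases (χ : IrrCharacter (GL (Fin 2) F)) (α β : MulChar F ℂ)
    (h : classInner (PS α β) (χ : GL (Fin 2) F → ℂ) ≠ 0) :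
    (χ : GL (Fin 2) F → ℂ) = Lc α ∨ (χ : GL (Fin 2) F → ℂ) = St α ∨
      (α ≠ β ∧ (χ : GL (Fin 2) F → ℂ) = PS α β) := by
  classical
  by_cases hab : α = β
  · subst hab
    have hsum : PS α α = St α + Lc α := by unfold St; rw [sub_add_cancel]
    rw [hsum, Helper74.classInner_add_left] at h
    by_cases e1 : (⟨Lc α, isIrr_Lc α⟩ : IrrCharacter (GL (Fin 2) F)) = χ
    · left; exact (congrArg Subtype.val e1).symm
    · by_cases e2 : (⟨St α, isIrr_St α⟩ : IrrCharacter (GL (Fin 2) F)) = χ
      · right; left; exact (congrArg Subtype.val e2).symm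
      · exfalso
        apply h
        have z1 : classInner (Lc α) (χ : GL (Fin 2) F → ℂ) = 0 :=
          Helper74.irr_inner_ne (χ := (⟨Lc α, isIrr_Lc α⟩ : IrrCharacter (GL (Fin 2) F))) e1
        have z2 : classInner (St α) (χ : GL (Fin 2) F → ℂ) = 0 :=
          Helper74.irr_inner_ne (χ := (⟨St α, isIrr_St α⟩ : IrrCharacter (GL (Fin 2) F))) e2
        rw [z1, z2, add_zero]
  · right; right
    refine ⟨hab, ?_⟩
    by_cases e : (⟨PS α β, isIrr_PS α β hab⟩ : IrrCharacter (GL (Fin 2) F)) = χ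
    · exact (congrArg Subtype.val e).symm
    · exfalso
      apply h
      exact Helper74.irr_inner_ne
        (χ := (⟨PS α β, isIrr_PS α β hab⟩ : IrrCharacter (GL (Fin 2) F))) e

theorem sum_mulChar_apply [Fintype (MulChar F ℂ)] (a : Fˣ) :
    ∑ α : MulChar F ℂ, α (a : F) = if a = 1 then ((Fintype.card F : ℂ) - 1) else 0 := by
  have : NeZero (Monoid.exponent Fˣ) := ⟨Monoid.exponent_ne_zero_of_finite⟩
  split_ifs with h
  · subst h
    simp only [Units.val_one, map_one, Finset.sum_const, Finset.card_univ, nsmul_eq_mul, mul_one]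
    rw [← Nat.card_eq_fintype_card, MulChar.card_eq_card_units_of_hasEnoughRootsOfUnity F ℂ,
      Nat.card_eq_fintype_card, card_sub_one_cast]
  · have ha : (a : F) ≠ 1 := fun h' => h (Units.ext h')
    obtain ⟨χ₀, hχ₀⟩ := MulChar.exists_apply_ne_one_of_hasEnoughRootsOfUnity F ℂ ha
    have hsum : ∑ α : MulChar F ℂ, α (a : F) = χ₀ (a : F) * ∑ α : MulChar F ℂ, α (a : F) := by
      rw [Finset.mul_sum]
      rw [← Equiv.sum_comp (Equiv.mulLeft χ₀) (fun α : MulChar F ℂ => α (a : F))]
      apply Finset.sum_congr rfl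
      intro α _
      rw [Equiv.coe_mulLeft, MulChar.mul_apply]
    have : (1 - χ₀ (a : F)) * ∑ α : MulChar F ℂ, α (a : F) = 0 := by
      rw [sub_mul, one_mul, ← hsum, sub_self]
    rcases mul_eq_zero.1 this with h' | h'
    · exact absurd (sub_eq_zero.1 h').symm hχ₀
    · exact h'

theorem fourier_at_one [Fintype (MulChar F ℂ)] (f : Fˣ → ℂ)
    (h : ∀ α : MulChar F ℂ, ∑ a : Fˣ, α (a : F) * f a = 0) : f 1 = 0 := by
  have h1 : ∑ α : MulChar F ℂ, ∑ a : Fˣ, α (a : F) * f a = 0 :=
    Finset.sum_eq_zero (fun α _ => h α)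
  rw [Finset.sum_comm] at h1
  simp only [← Finset.sum_mul, sum_mulChar_apply] at h1
  rw [Finset.sum_eq_single (1 : Fˣ)] at h1
  · rw [if_pos rfl] at h1
    obtain ⟨hq, hq1⟩ := card_F_cast_ne (F := F)
    rcases mul_eq_zero.1 h1 with h' | h'
    · exact absurd h' hq1
    · exact h'
  · intro a _ ha
    rw [if_neg ha, zero_mul]
  · intro h'; exact absurd (Finset.mem_univ _) h'

omit [Fintype F] [DecidableEq F] in
theorem bmk_one_one_zero : bmk (1 : Fˣ) 1 (0 : F) = 1 := by
  apply Matrix.GeneralLinearGroup.ext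
  intro i j
  fin_cases i <;> fin_cases j <;> simp [bmk_coe]

omit [Fintype F] [DecidableEq F] in
theorem bmk_conj_unip (t : F) (ht : t ≠ 0) :
    bmk (Units.mk0 t ht) 1 0 * bmk 1 1 1 * (bmk (Units.mk0 t ht) 1 0)⁻¹ = bmk 1 1 t := by
  rw [mul_inv_eq_iff_eq_mul]
  apply Matrix.GeneralLinearGroup.ext
  intro i j
  fin_cases i <;> fin_cases j <;>
    simp [bmk_coe, Matrix.mul_apply, Fin.sum_univ_two]

/-- the degree of a cuspidal character is divisible by `q - 1` -/
theorem cuspidal_dvd (χ : IrrCharacter (GL (Fin 2) F))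
    (hc : ∀ α β : MulChar F ℂ, classInner (PS α β) (χ : GL (Fin 2) F → ℂ) = 0) :
    (Fintype.card F - 1) ∣ charDegree (χ : GL (Fin 2) F → ℂ) := by
  classical
  let _ : Fintype (upperTriangularGL 2 F) := Fintype.ofFinite _
  let _ : Fintype (MulChar F ℂ) := Fintype.ofFinite _
  have hcf : IsClassFunction (GL (Fin 2) F) (χ : GL (Fin 2) F → ℂ) := Helper74.irr_isClassFunction χ
  obtain ⟨hq, hq1⟩ := card_F_cast_ne (F := F)
  -- Step 1
  have step1 : ∀ α β : MulChar F ℂ, ∑ a : Fˣ, α (a : F) * ∑ d : Fˣ, β (d : F) *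
      ∑ t : F, conj ((χ : GL (Fin 2) F → ℂ) (bmk a d t)) = 0 := by
    intro α β
    have h := hc α β
    unfold PS at h
    rw [Helper15.frobenius_reciprocity _ _ _ hcf, Helper15.classInner_apply] at h
    have hB : (Nat.card (upperTriangularGL 2 F) : ℂ)⁻¹ ≠ 0 := by
      rw [card_borel_cast]
      exact inv_ne_zero (mul_ne_zero hq1 (mul_ne_zero hq1 hq))
    have h' := (mul_eq_zero.1 h).resolve_left hB
    rw [sum_borel] at h'
    rw [← h']
    apply Finset.sum_congr rfl
    intro a _
    rw [Finset.mul_sum]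
    apply Finset.sum_congr rfl
    intro d _
    rw [Finset.mul_sum, Finset.mul_sum]
    apply Finset.sum_congr rfl
    intro t _
    rw [thetaHom_borelEquiv, borelEquiv_apply]
    ring
  -- Step 2
  have step2 : ∀ β : MulChar F ℂ, ∑ d : Fˣ, β (d : F) *
      ∑ t : F, conj ((χ : GL (Fin 2) F → ℂ) (bmk 1 d t)) = 0 := by
    intro β
    exact fourier_at_one (fun a => ∑ d : Fˣ, β (d : F) *
      ∑ t : F, conj ((χ : GL (Fin 2) F → ℂ) (bmk a d t))) (fun α => step1 α β)
  have step3 : ∑ t : F, conj ((χ : GL (Fin 2) F → ℂ) (bmk 1 1 t)) = 0 :=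
    fourier_at_one (fun d => ∑ t : F, conj ((χ : GL (Fin 2) F → ℂ) (bmk 1 d t))) step2
  have step3' : ∑ t : F, (χ : GL (Fin 2) F → ℂ) (bmk 1 1 t) = 0 := by
    have := congrArg conj step3
    rw [map_sum, map_zero] at this
    simpa using this
  -- Step 4
  have hval : ∀ t : F, t ≠ 0 →
      (χ : GL (Fin 2) F → ℂ) (bmk 1 1 t) = (χ : GL (Fin 2) F → ℂ) (bmk 1 1 1) := by
    intro t ht
    rw [← bmk_conj_unip t ht]
    exact hcf _ _
  have hsum : ∑ t : F, (χ : GL (Fin 2) F → ℂ) (bmk 1 1 t)
      = (χ : GL (Fin 2) F → ℂ) 1 +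
        ((Fintype.card F : ℂ) - 1) * (χ : GL (Fin 2) F → ℂ) (bmk 1 1 1) := by
    rw [← Finset.add_sum_erase Finset.univ _ (Finset.mem_univ (0 : F)), bmk_one_one_zero]
    congr 1
    rw [Finset.sum_congr rfl (fun t ht => hval t (Finset.ne_of_mem_erase ht)), Finset.sum_const,
      Finset.card_erase_of_mem (Finset.mem_univ _), Finset.card_univ, nsmul_eq_mul,
      Nat.cast_sub Fintype.card_pos, Nat.cast_one]
  rw [hsum] at step3'
  -- Step 6
  have hdeg : ((charDegree (χ : GL (Fin 2) F → ℂ) : ℕ) : ℂ) = (χ : GL (Fin 2) F → ℂ) 1 :=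
    Helper74.charDegree_cast (Helper74.irr_isCharacter χ)
  have hint : IsIntegral ℤ ((χ : GL (Fin 2) F → ℂ) (bmk 1 1 1)) :=
    Helper80.IsCharacter.isIntegral (Helper74.irr_isCharacter χ) _
  have hb : Fintype.card F - 1 ≠ 0 := by
    have : 1 < Fintype.card F := Fintype.one_lt_card
    omega
  apply Helper80.dvd_of_isIntegral_div hb
  have hcast : ((Fintype.card F - 1 : ℕ) : ℂ) = (Fintype.card F : ℂ) - 1 := by
    rw [Nat.cast_sub Fintype.card_pos, Nat.cast_one]
  rw [hcast, hdeg]
  have : (χ : GL (Fin 2) F → ℂ) 1 / ((Fintype.card F : ℂ) - 1)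
      = -((χ : GL (Fin 2) F → ℂ) (bmk 1 1 1)) := by
    field_simp
    linear_combination step3'
  rw [this]
  exact hint.neg

end gl2

end Cfsg.Agent.Helper38
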