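import Mathlib
import Cfsg.Agent.Helper38.GL2Irr
import Cfsg.Agent.Helper38.DegCount
import Cfsg.Agent.S2330

/-!
# The degrees of the irreducible characters of `GL₂(F)`
-/

set_option autoImplicit false

namespace Cfsg.Agent.Helper38

open Matrix Cfsg
open scoped ComplexConjugate

section gl2
variable {F : Type*} [Field F] [Fintype F] [DecidableEq F]

theorem charDegree_eq_of_one {G : Type*} [Group G] {χ : G → ℂ} (hχ : IsCharacter G χ) (n : ℕ)
    (h : χ 1 = n) : charDegree χ = n := by
  have := Helper74.charDegree_cast hχ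
  rw [h] at this
  exact_mod_cast this

theorem Lc_injective : Function.Injective (Lc (F := F)) := by
  classical
  let _ : Fintype (upperTriangularGL 2 F) := Fintype.ofFinite _
  intro α β h
  have h1 := classInner_PS_Lc α α α
  rw [h, classInner_PS_Lc] at h1
  by_contra hne
  simp [hne] at h1

theorem St_injective : Function.Injective (St (F := F)) := by
  classical
  intro α β h
  have h1 := classInner_PS_St α α α
  rw [h, classInner_PS_St] at h1
  by_contra hne
  simp [hne] at h1

theorem PS_eq_iff (α β α' β' : MulChar F ℂ) (h : α ≠ β) (h' : α' ≠ β') :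
    PS α β = PS α' β' ↔ (α' = α ∧ β' = β) ∨ (α' = β ∧ β' = α) := by
  classical
  let _ : Fintype (upperTriangularGL 2 F) := Fintype.ofFinite _
  constructor
  · intro heq
    have h1 := classInner_PS α β α β
    rw [if_pos ⟨rfl, rfl⟩, if_neg (fun hh => h hh.1), add_zero] at h1
    have h2 := classInner_PS α β α' β'
    rw [← heq, h1] at h2
    by_cases c1 : α = α' ∧ β = β'
    · left; exact ⟨c1.1.symm, c1.2.symm⟩
    · by_cases c2 : α = β' ∧ β = α'
      · right; exact ⟨c2.2.symm, c2.1.symm⟩
      · rw [if_neg c1, if_neg c2] at h2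
        norm_num at h2
  · rintro (⟨rfl, rfl⟩ | ⟨rfl, rfl⟩)
    · rfl
    · by_contra hne
      have hne' : (⟨PS β' α', isIrr_PS β' α' h⟩ : IrrCharacter (GL (Fin 2) F)) ≠
          ⟨PS α' β', isIrr_PS α' β' h'⟩ := fun hh => hne (congrArg Subtype.val hh)
      have h0 := Helper74.irr_inner_ne hne'
      simp only at h0
      rw [classInner_PS, if_neg (fun hh => h hh.1), if_pos ⟨rfl, rfl⟩] at h0
      norm_num at h0

omit [DecidableEq F] in
theorem card_irr_GL2 [Fintype (IrrCharacter (GL (Fin 2) F))] :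
    Fintype.card (IrrCharacter (GL (Fin 2) F)) = Fintype.card F ^ 2 - 1 := by
  rw [← Nat.card_eq_fintype_card, Helper74.card_irr_eq_card_conjClasses,
    Cfsg.Agent.S2330.result]

theorem sum_charDegree_sq [Fintype (IrrCharacter (GL (Fin 2) F))] :
    ∑ χ : IrrCharacter (GL (Fin 2) F), charDegree (χ : GL (Fin 2) F → ℂ) ^ 2
      = Nat.card (GL (Fin 2) F) := by
  have h := Helper74.sum_irr_degree_sq (G := GL (Fin 2) F)
  have h2 : ∀ χ : IrrCharacter (GL (Fin 2) F),
      (χ : GL (Fin 2) F → ℂ) 1 = (charDegree (χ : GL (Fin 2) F → ℂ) : ℂ) :=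
    fun χ => (Helper74.charDegree_cast (Helper74.irr_isCharacter χ)).symm
  simp only [h2] at h
  have : ((∑ χ : IrrCharacter (GL (Fin 2) F), charDegree (χ : GL (Fin 2) F → ℂ) ^ 2 : ℕ) : ℂ)
      = (Nat.card (GL (Fin 2) F) : ℂ) := by
    rw [← h]; push_cast
    apply Finset.sum_congr rfl
    intro χ _
    ring
  exact_mod_cast this

theorem card_mulChar [Fintype (MulChar F ℂ)] :
    Fintype.card (MulChar F ℂ) = Fintype.card F - 1 := by
  have : NeZero (Monoid.exponent Fˣ) := ⟨Monoid.exponent_ne_zero_of_finite⟩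
  rw [← Nat.card_eq_fintype_card, MulChar.card_eq_card_units_of_hasEnoughRootsOfUnity F ℂ,
    Nat.card_eq_fintype_card, Fintype.card_units]

/-- the degree table of `GL₂(F)` in terms of `charDegree`, `m = q - 1` -/
theorem GL2_degree_table [Fintype (IrrCharacter (GL (Fin 2) F))]
    [DecidableEq (IrrCharacter (GL (Fin 2) F))] (m : ℕ) (hm : Fintype.card F = m + 1) :
    (∀ χ : IrrCharacter (GL (Fin 2) F), charDegree (χ : GL (Fin 2) F → ℂ) = 1 ∨
        charDegree (χ : GL (Fin 2) F → ℂ) = m ∨ charDegree (χ : GL (Fin 2) F → ℂ) = m + 1 ∨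
        charDegree (χ : GL (Fin 2) F → ℂ) = m + 2) ∧
      (2 ≤ m →
        (Finset.univ.filter (fun χ : IrrCharacter (GL (Fin 2) F) =>
          charDegree (χ : GL (Fin 2) F → ℂ) = 1)).card = m ∧
        (Finset.univ.filter (fun χ : IrrCharacter (GL (Fin 2) F) =>
          charDegree (χ : GL (Fin 2) F → ℂ) = m + 1)).card = m ∧
        2 * (Finset.univ.filter (fun χ : IrrCharacter (GL (Fin 2) F) =>
          charDegree (χ : GL (Fin 2) F → ℂ) = m + 2)).card = m * (m - 1) ∧
        2 * (Finset.univ.filter (fun χ : IrrCharacter (GL (Fin 2) F) =>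
          charDegree (χ : GL (Fin 2) F → ℂ) = m)).card = (m + 1) * m) := by
  classical
  let _ : Fintype (MulChar F ℂ) := Fintype.ofFinite _
  have hm1 : 1 ≤ m := by
    have : 1 < Fintype.card F := Fintype.one_lt_card
    omega
  have cML : Fintype.card (MulChar F ℂ) = m := by rw [card_mulChar, hm]; omega
  have cMP : Fintype.card {p : MulChar F ℂ × MulChar F ℂ // p.1 ≠ p.2} + m = m ^ 2 := by
    rw [Fintype.card_subtype]
    have : (Finset.univ.filter (fun p : MulChar F ℂ × MulChar F ℂ => p.1 ≠ p.2))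
        = (Finset.univ : Finset (MulChar F ℂ)).offDiag := by
      ext p; simp [Finset.mem_offDiag]
    rw [this, Finset.offDiag_card, Finset.card_univ, cML]
    have : m ≤ m * m := Nat.le_mul_of_pos_left m hm1
    rw [sq]; omega
  have hqc : (Fintype.card F : ℂ) = (m : ℂ) + 1 := by rw [hm]; push_cast; ring
  have key := degree_count
    (I := IrrCharacter (GL (Fin 2) F)) (ML := MulChar F ℂ)
    (MP := {p : MulChar F ℂ × MulChar F ℂ // p.1 ≠ p.2})
    (fun χ => charDegree (χ : GL (Fin 2) F → ℂ)) m (Fintype.card F ^ 2 - 1)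
    (Nat.card (GL (Fin 2) F)) hm1 card_irr_GL2 sum_charDegree_sq
    (fun α => ⟨Lc α, isIrr_Lc α⟩) (fun α => ⟨St α, isIrr_St α⟩)
    (fun p => ⟨PS p.1.1 p.1.2, isIrr_PS _ _ p.2⟩)
    (fun p => ⟨p.1.swap, fun h => p.2 h.symm⟩)
    (by
      intro p h
      apply p.2
      have := congrArg (fun x => x.1.1) h
      simpa using this.symm)
    (by intro α β h; exact Lc_injective (congrArg Subtype.val h))
    (by intro α β h; exact St_injective (congrArg Subtype.val h))
    (by
      rintro ⟨⟨α, β⟩, h⟩ ⟨⟨α', β'⟩, h'⟩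
      simp only [Subtype.mk.injEq, Prod.swap_prod_mk, Prod.mk.injEq]
      exact PS_eq_iff α β α' β' h h')
    (by
      intro α
      exact charDegree_eq_of_one (Helper74.isCharacter_of_isIrr (isIrr_Lc α)) 1
        (by rw [Lc_one]; simp))
    (by
      intro α
      exact charDegree_eq_of_one (Helper74.isCharacter_of_isIrr (isIrr_St α)) (m + 1)
        (by rw [St_one, hqc]; push_cast; ring))
    (by
      intro p
      exact charDegree_eq_of_one (Helper74.isCharacter_of_isIrr (isIrr_PS _ _ p.2)) (m + 2)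
        (by rw [PS_one, hqc]; push_cast; ring))
    (by
      intro χ
      by_cases h : ∃ α β : MulChar F ℂ, classInner (PS α β) (χ : GL (Fin 2) F → ℂ) ≠ 0
      · obtain ⟨α, β, hne⟩ := h
        rcases noncuspidal_cases χ α β hne with h1 | h1 | ⟨hab, h1⟩
        · left; exact ⟨α, Subtype.ext h1⟩
        · right; left; exact ⟨α, Subtype.ext h1⟩
        · right; right; left; exact ⟨⟨(α, β), hab⟩, Subtype.ext h1⟩
      · right; right; right
        push Not at h
        have := cuspidal_dvd χ h
        rw [hm, Nat.add_sub_cancel] at this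
        exact ⟨this, Helper80.IsIrrCharacter.charDegree_pos χ.2⟩)
    (by
      rw [cML, card_GL2, hm]
      have e1 : (m + 1) ^ 2 - 1 = m ^ 2 + 2 * m := by
        have : (m + 1) ^ 2 = m ^ 2 + 2 * m + 1 := by ring
        omega
      have e2 : (m + 1) ^ 2 - (m + 1) = (m + 1) * m := by
        have : (m + 1) ^ 2 = (m + 1) * m + (m + 1) := by ring
        omega
      rw [e1, e2]
      zify at cMP ⊢
      linear_combination ((m : ℤ) ^ 2 - ((m : ℤ) + 2) ^ 2) * cMP)
  refine ⟨key.1, fun h2 => ?_⟩
  obtain ⟨k1, k2, k3, k4⟩ := key.2 h2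
  refine ⟨by rw [k1, cML], by rw [k2, cML], ?_, ?_⟩
  · rw [k3]
    have : m * (m - 1) + m = m ^ 2 := by
      obtain ⟨k, rfl⟩ : ∃ k, m = k + 1 := ⟨m - 1, by omega⟩
      simp only [Nat.add_sub_cancel]; ring
    omega
  · rw [cML, hm] at k4
    have e1 : (m + 1) ^ 2 - 1 = m ^ 2 + 2 * m := by
      have : (m + 1) ^ 2 = m ^ 2 + 2 * m + 1 := by ring
      omega
    rw [e1] at k4
    have : (m + 1) * m = m ^ 2 + m := by ring
    rw [this]
    omega

end gl2

end Cfsg.Agent.Helper38
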