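import Mathlib
import Cfsg.Agent.Helper5.Card

/-!
# The Borel subgroup of `SL₂(F)`: parametrisation and conjugation
-/

set_option autoImplicit false

namespace Cfsg.Agent.Helper38

open Matrix

section
variable {F : Type*} [Field F]

/-- the upper triangular subgroup of `SL₂(F)` -/
def borelSL (F : Type*) [Field F] : Subgroup (SpecialLinearGroup (Fin 2) F) where
  carrier := {g | (g : Matrix (Fin 2) (Fin 2) F) 1 0 = 0}
  mul_mem' := by
    intro a b ha hb
    simp only [Set.mem_ofPred_eq] at ha hb ⊢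
    rw [Matrix.SpecialLinearGroup.coe_mul, Matrix.mul_apply, Fin.sum_univ_two, ha, hb]
    ring
  one_mem' := by simp
  inv_mem' := by
    intro a ha
    simp only [Set.mem_ofPred_eq] at ha ⊢
    rw [Matrix.SpecialLinearGroup.coe_inv, Matrix.adjugate_fin_two]
    simp [ha]

theorem mem_borelSL_iff (g : SpecialLinearGroup (Fin 2) F) :
    g ∈ borelSL F ↔ (g : Matrix (Fin 2) (Fin 2) F) 1 0 = 0 := Iff.rfl

/-- the upper triangular matrix with diagonal `a, a⁻¹` and corner `t` -/
noncomputable def smk (a : Fˣ) (t : F) : SpecialLinearGroup (Fin 2) F :=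
  ⟨!![(a : F), t; 0, ((a⁻¹ : Fˣ) : F)], by simp [Matrix.det_fin_two_of]⟩

theorem smk_coe (a : Fˣ) (t : F) :
    ((smk a t : SpecialLinearGroup (Fin 2) F) : Matrix (Fin 2) (Fin 2) F)
      = !![(a : F), t; 0, ((a⁻¹ : Fˣ) : F)] := rfl

theorem smk_mem (a : Fˣ) (t : F) : smk a t ∈ borelSL F := by
  rw [mem_borelSL_iff, smk_coe]; rfl

theorem borelSL_diag (b : borelSL F) :
    ((b : SpecialLinearGroup (Fin 2) F) : Matrix (Fin 2) (Fin 2) F) 0 0 *
      ((b : SpecialLinearGroup (Fin 2) F) : Matrix (Fin 2) (Fin 2) F) 1 1 = 1 := by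
  have h10 := (mem_borelSL_iff b.1).1 b.2
  have hdet := b.1.2
  rw [Matrix.det_fin_two, h10, mul_zero, sub_zero] at hdet
  exact hdet

theorem borelSL_diag_ne_zero (b : borelSL F) :
    ((b : SpecialLinearGroup (Fin 2) F) : Matrix (Fin 2) (Fin 2) F) 0 0 ≠ 0 := by
  intro h
  have := borelSL_diag b
  rw [h, zero_mul] at this
  exact zero_ne_one this

/-- parametrisation of the Borel subgroup of `SL₂` -/
noncomputable def borelSLEquiv : Fˣ × F ≃ borelSL F where
  toFun p := ⟨smk p.1 p.2, smk_mem _ _⟩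
  invFun b := (Units.mk0 _ (borelSL_diag_ne_zero b),
    ((b : SpecialLinearGroup (Fin 2) F) : Matrix (Fin 2) (Fin 2) F) 0 1)
  left_inv := by
    rintro ⟨a, t⟩
    refine Prod.ext (Units.ext ?_) ?_ <;> simp [smk_coe]
  right_inv := by
    intro b
    apply Subtype.ext
    apply Subtype.ext
    have h10 := (mem_borelSL_iff b.1).1 b.2
    have h11 : ((b : SpecialLinearGroup (Fin 2) F) : Matrix (Fin 2) (Fin 2) F) 1 1
        = (((b : SpecialLinearGroup (Fin 2) F) : Matrix (Fin 2) (Fin 2) F) 0 0)⁻¹ :=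
      eq_inv_of_mul_eq_one_right (borelSL_diag b)
    ext i j
    fin_cases i <;> fin_cases j <;> simp [smk_coe, h10, h11]

theorem borelSLEquiv_apply (a : Fˣ) (t : F) :
    ((borelSLEquiv (a, t) : borelSL F) : SpecialLinearGroup (Fin 2) F) = smk a t := rfl

theorem card_borelSL [Fintype F] :
    Nat.card (borelSL F) = (Fintype.card F - 1) * Fintype.card F := by
  rw [← Nat.card_congr (borelSLEquiv (F := F)), Nat.card_prod, Nat.card_units,
    Nat.card_eq_fintype_card]

theorem card_SL2_mul [Fintype F] :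
    Nat.card (SpecialLinearGroup (Fin 2) F) * (Fintype.card F - 1) =
      (Fintype.card F ^ 2 - 1) * (Fintype.card F ^ 2 - Fintype.card F) := by
  rw [← Helper5.card_GL_eq_card_SL_mul, Matrix.card_GL_field, Fin.prod_univ_two]
  simp

/-- conjugating an upper triangular element by `x` with `x₁₀ ≠ 0` -/
theorem conj_smk_eq (x : SpecialLinearGroup (Fin 2) F)
    (hx : (x : Matrix (Fin 2) (Fin 2) F) 1 0 ≠ 0) (a : Fˣ) :
    x⁻¹ * smk a ((x : Matrix (Fin 2) (Fin 2) F) 0 0 * (((a⁻¹ : Fˣ) : F) - a) /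
        (x : Matrix (Fin 2) (Fin 2) F) 1 0) * x =
      smk a⁻¹ ((x : Matrix (Fin 2) (Fin 2) F) 1 1 * (((a⁻¹ : Fˣ) : F) - a) /
        (x : Matrix (Fin 2) (Fin 2) F) 1 0) := by
  rw [mul_assoc, inv_mul_eq_iff_eq_mul]
  apply Subtype.ext
  rw [Matrix.SpecialLinearGroup.coe_mul, Matrix.SpecialLinearGroup.coe_mul]
  set X : Matrix (Fin 2) (Fin 2) F := (x : Matrix (Fin 2) (Fin 2) F) with hX
  rw [smk_coe, smk_coe, inv_inv]
  conv_lhs => rw [Matrix.eta_fin_two X]
  conv_rhs => rw [Matrix.eta_fin_two X]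
  have ha : (a : F) ≠ 0 := a.ne_zero
  ext i j
  fin_cases i <;> fin_cases j <;>
    simp [Matrix.mul_apply, Fin.sum_univ_two] <;> field_simp <;> ring

theorem conj_smk_mem_iff (x : SpecialLinearGroup (Fin 2) F)
    (hx : (x : Matrix (Fin 2) (Fin 2) F) 1 0 ≠ 0) (a : Fˣ) (t : F) :
    x⁻¹ * smk a t * x ∈ borelSL F ↔
      t = (x : Matrix (Fin 2) (Fin 2) F) 0 0 * (((a⁻¹ : Fˣ) : F) - a) /
        (x : Matrix (Fin 2) (Fin 2) F) 1 0 := by
  constructor
  · intro hmem
    set b' : SpecialLinearGroup (Fin 2) F := x⁻¹ * smk a t * x with hb'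
    have h10 : (b' : Matrix (Fin 2) (Fin 2) F) 1 0 = 0 := (mem_borelSL_iff b').1 hmem
    have heq : x * b' = smk a t * x := by
      rw [hb']; group
    have hm : (x : Matrix (Fin 2) (Fin 2) F) * (b' : Matrix (Fin 2) (Fin 2) F)
        = (smk a t : Matrix (Fin 2) (Fin 2) F) * (x : Matrix (Fin 2) (Fin 2) F) := by
      rw [← Matrix.SpecialLinearGroup.coe_mul, ← Matrix.SpecialLinearGroup.coe_mul, heq]
    have e10 := congrFun (congrFun hm 1) 0
    have e00 := congrFun (congrFun hm 0) 0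
    simp only [Matrix.mul_apply, Fin.sum_univ_two, smk_coe, h10, mul_zero, add_zero] at e10 e00
    simp at e10 e00
    have hb00 : (b' : Matrix (Fin 2) (Fin 2) F) 0 0 = ((a⁻¹ : Fˣ) : F) := by
      have := e10
      rw [mul_comm] at this
      have h2 := mul_right_cancel₀ hx this
      rw [h2]; simp
    rw [hb00] at e00
    rw [Units.val_inv_eq_inv_val] at e00 ⊢
    rw [eq_div_iff hx]
    linear_combination -e00
  · intro ht
    rw [ht, conj_smk_eq x hx a]
    exact smk_mem _ _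

end

end Cfsg.Agent.Helper38
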