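import Mathlib
import Cfsg.Agent.Helper38.SL2Borel
import Cfsg.Agent.Helper38.GL2Char

/-!
# Principal series characters of `SL₂(F)`: inner products
-/

set_option autoImplicit false

namespace Cfsg.Agent.Helper38

open Matrix Cfsg
open scoped ComplexConjugate

section theta
variable {F : Type*} [Field F]

/-- the linear character of the Borel subgroup of `SL₂` attached to `α` -/
noncomputable def thetaS (α : MulChar F ℂ) : borelSL F →* ℂ where
  toFun b := α (((b : SpecialLinearGroup (Fin 2) F) : Matrix (Fin 2) (Fin 2) F) 0 0)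
  map_one' := by simp
  map_mul' := by
    intro a b
    have hb := (mem_borelSL_iff b.1).1 b.2
    simp only [Subgroup.coe_mul, Matrix.SpecialLinearGroup.coe_mul, Matrix.mul_apply,
      Fin.sum_univ_two, hb, mul_zero, add_zero, map_mul]

theorem thetaS_apply (α : MulChar F ℂ) (b : borelSL F) :
    thetaS α b = α (((b : SpecialLinearGroup (Fin 2) F) : Matrix (Fin 2) (Fin 2) F) 0 0) := rfl

theorem thetaS_smk (α : MulChar F ℂ) (a : Fˣ) (t : F) (h : smk a t ∈ borelSL F) :
    thetaS α ⟨smk a t, h⟩ = α a := by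
  rw [thetaS_apply]
  simp [smk_coe]

theorem thetaS_borelSLEquiv (α : MulChar F ℂ) (a : Fˣ) (t : F) :
    thetaS α (borelSLEquiv (a, t)) = α a :=
  thetaS_smk α a t _

end theta

section sl2
variable {F : Type*} [Field F] [Fintype F] [DecidableEq F]

/-- the principal series function of `SL₂` -/
noncomputable def PSs (α : MulChar F ℂ) : SpecialLinearGroup (Fin 2) F → ℂ :=
  indFun (borelSL F) (fun b => thetaS α b)

variable [Fintype (borelSL F)]

theorem sum_borelSL (f : borelSL F → ℂ) :
    ∑ b : borelSL F, f b = ∑ a : Fˣ, ∑ t : F, f (borelSLEquiv (a, t)) := by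
  rw [← borelSLEquiv.sum_comp f, Fintype.sum_prod_type]

theorem mackeySumS_mem (α α' : MulChar F ℂ) {x : SpecialLinearGroup (Fin 2) F}
    (hx : x ∈ borelSL F) :
    mackeySum (borelSL F) (thetaS α) (thetaS α') x =
      (Fintype.card F : ℂ) * eFac α α' := by
  rw [mackeySum_of_mem _ _ _ hx, sum_borelSL]
  simp only [thetaS_borelSLEquiv, Finset.sum_const, Finset.card_univ, nsmul_eq_mul]
  unfold eFac
  rw [← sum_units_mul_conj α α', Finset.mul_sum]

theorem mackeySumS_not_mem (α α' : MulChar F ℂ) {x : SpecialLinearGroup (Fin 2) F}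
    (hx : x ∉ borelSL F) :
    mackeySum (borelSL F) (thetaS α) (thetaS α') x = eFac α α'⁻¹ := by
  rw [mem_borelSL_iff] at hx
  unfold mackeySum
  rw [sum_borelSL]
  have inner : ∀ a : Fˣ, ∑ t : F, thetaS α (borelSLEquiv (a, t)) *
      conj (extendByZero (borelSL F) (fun b => thetaS α' b)
        (x⁻¹ * (borelSLEquiv (a, t) : borelSL F) * x))
      = α a * conj (α'⁻¹ (a : F)) := by
    intro a
    set t₀ : F := (x : Matrix (Fin 2) (Fin 2) F) 0 0 * (((a⁻¹ : Fˣ) : F) - a) /
        (x : Matrix (Fin 2) (Fin 2) F) 1 0 with ht₀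
    rw [Finset.sum_eq_single t₀]
    · rw [thetaS_borelSLEquiv, borelSLEquiv_apply, ht₀, conj_smk_eq x hx a,
        Helper15.extendByZero_of_mem _ _ (smk_mem _ _), thetaS_smk, MulChar.inv_apply',
        Units.val_inv_eq_inv_val]
    · intro t _ ht
      have : x⁻¹ * (borelSLEquiv (a, t) : borelSL F) * x ∉ borelSL F := by
        rw [borelSLEquiv_apply, conj_smk_mem_iff x hx]
        exact ht
      rw [Helper15.extendByZero_of_not_mem _ _ this, map_zero, mul_zero]
    · intro h; exact absurd (Finset.mem_univ _) h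
  simp only [inner]
  unfold eFac
  rw [← sum_units_mul_conj α α'⁻¹]

theorem sum_mackeySumS (α α' : MulChar F ℂ) :
    ∑ x : SpecialLinearGroup (Fin 2) F, mackeySum (borelSL F) (thetaS α) (thetaS α') x
      = (Nat.card (borelSL F) : ℂ) * ((Fintype.card F : ℂ) * eFac α α' - eFac α α'⁻¹) +
        (Nat.card (SpecialLinearGroup (Fin 2) F) : ℂ) * eFac α α'⁻¹ := by
  have h : ∀ x : SpecialLinearGroup (Fin 2) F,
      mackeySum (borelSL F) (thetaS α) (thetaS α') x
        = extendByZero (borelSL F)
            (fun _ => (Fintype.card F : ℂ) * eFac α α' - eFac α α'⁻¹) x + eFac α α'⁻¹ := by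
    intro x
    by_cases hx : x ∈ borelSL F
    · rw [Helper15.extendByZero_of_mem _ _ hx, mackeySumS_mem α α' hx]
      ring
    · rw [Helper15.extendByZero_of_not_mem _ _ hx, mackeySumS_not_mem α α' hx]
      ring
  simp only [h]
  rw [Finset.sum_add_distrib, Helper15.sum_extendByZero]
  simp only [Finset.sum_const, Finset.card_univ, nsmul_eq_mul, Nat.card_eq_fintype_card]

omit [DecidableEq F] [Fintype (borelSL F)] in
theorem card_borelSL_cast : (Nat.card (borelSL F) : ℂ)
    = ((Fintype.card F : ℂ) - 1) * (Fintype.card F : ℂ) := by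
  rw [card_borelSL]
  have h1 : 1 ≤ Fintype.card F := Fintype.card_pos
  push_cast [Nat.cast_sub h1]
  ring

omit [DecidableEq F] [Fintype (borelSL F)] in
theorem card_SL2_cast : (Nat.card (SpecialLinearGroup (Fin 2) F) : ℂ)
    = (Fintype.card F : ℂ) * ((Fintype.card F : ℂ) ^ 2 - 1) := by
  have h := card_SL2_mul (F := F)
  have h1 : 1 ≤ Fintype.card F := Fintype.card_pos
  have h2 : 1 ≤ Fintype.card F ^ 2 := Nat.one_le_pow _ _ h1
  have h3 : Fintype.card F ≤ Fintype.card F ^ 2 := by nlinarith
  have hc : (Nat.card (SpecialLinearGroup (Fin 2) F) : ℂ) * ((Fintype.card F : ℂ) - 1)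
      = ((Fintype.card F : ℂ) ^ 2 - 1) * ((Fintype.card F : ℂ) ^ 2 - (Fintype.card F : ℂ)) := by
    have := congrArg (fun n : ℕ => (n : ℂ)) h
    push_cast [Nat.cast_sub h1, Nat.cast_sub h2, Nat.cast_sub h3] at this
    exact this
  obtain ⟨hq, hq1⟩ := card_F_cast_ne (F := F)
  have : (Nat.card (SpecialLinearGroup (Fin 2) F) : ℂ) * ((Fintype.card F : ℂ) - 1)
      = ((Fintype.card F : ℂ) * ((Fintype.card F : ℂ) ^ 2 - 1)) * ((Fintype.card F : ℂ) - 1) := by
    rw [hc]; ring
  exact mul_right_cancel₀ hq1 this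

/-- the inner products of principal series functions of `SL₂` -/
theorem classInner_PSs (α α' : MulChar F ℂ) :
    classInner (PSs α) (PSs α') =
      (if α = α' then 1 else 0) + (if α = α'⁻¹ then 1 else 0) := by
  unfold PSs
  rw [classInner_indFun_indFun, sum_mackeySumS, card_borelSL_cast, card_SL2_cast]
  obtain ⟨hq, hq1⟩ := card_F_cast_ne (F := F)
  have e : ∀ a b : MulChar F ℂ,
      eFac a b = ((Fintype.card F : ℂ) - 1) * (if a = b then 1 else 0) := by
    intro a b; unfold eFac; split_ifs <;> simp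
  rw [e, e]
  generalize (if α = α' then (1 : ℂ) else 0) = d1
  generalize (if α = α'⁻¹ then (1 : ℂ) else 0) = d2
  field_simp
  ring

end sl2

end Cfsg.Agent.Helper38
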