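import Mathlib
import Cfsg.Agent.Helper38.SL2Char
import Cfsg.Agent.Helper38.GL2Irr

/-!
# The non-cuspidal irreducible characters of `SL₂(F)`, `F` of characteristic 2
-/

set_option autoImplicit false

namespace Cfsg.Agent.Helper38

open Matrix Cfsg
open scoped ComplexConjugate

section sl2
variable {F : Type*} [Field F] [Fintype F] [DecidableEq F]

/-- the trivial character of `SL₂` -/
noncomputable def trivS : SpecialLinearGroup (Fin 2) F → ℂ :=
  fun g => (1 : SpecialLinearGroup (Fin 2) F →* ℂ) g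

theorem isIrr_trivS : IsIrrCharacter (SpecialLinearGroup (Fin 2) F) (trivS (F := F)) :=
  isIrr_of_monoidHomC (1 : SpecialLinearGroup (Fin 2) F →* ℂ)

omit [Fintype F] [DecidableEq F] in
theorem trivS_apply (g : SpecialLinearGroup (Fin 2) F) : trivS g = 1 := rfl

omit [Fintype F] [DecidableEq F] in
theorem trivS_borel (b : borelSL F) :
    trivS (b : SpecialLinearGroup (Fin 2) F) = thetaS (1 : MulChar F ℂ) b := by
  rw [trivS_apply, thetaS_apply, MulChar.one_apply (borelSL_diag_ne_zero b).isUnit]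

theorem isCharacter_PSs (α : MulChar F ℂ) :
    IsCharacter (SpecialLinearGroup (Fin 2) F) (PSs α) :=
  Helper15.isCharacter_indFun _ (isCharacter_of_monoidHomC _)

theorem PSs_one (α : MulChar F ℂ) : PSs α 1 = (Fintype.card F : ℂ) + 1 := by
  unfold PSs
  rw [Helper15.indFun_apply]
  have : ∀ x : SpecialLinearGroup (Fin 2) F, extendByZero (borelSL F) (fun b => thetaS α b)
      (x⁻¹ * 1 * x) = 1 := by
    intro x
    have e : x⁻¹ * 1 * x = ((1 : borelSL F) : SpecialLinearGroup (Fin 2) F) := by simp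
    rw [e, Helper15.extendByZero_coe, map_one]
  rw [Finset.sum_congr rfl (fun x _ => this x), Finset.sum_const, Finset.card_univ, nsmul_eq_mul,
    mul_one, ← Nat.card_eq_fintype_card (α := SpecialLinearGroup (Fin 2) F), card_borelSL_cast,
    card_SL2_cast]
  obtain ⟨hq, hq1⟩ := card_F_cast_ne (F := F)
  field_simp
  ring

theorem classInner_PSs_trivS (α : MulChar F ℂ) :
    classInner (PSs α) (trivS (F := F)) = if α = 1 then 1 else 0 := by
  classical
  let _ : Fintype (borelSL F) := Fintype.ofFinite _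
  unfold PSs
  rw [Helper15.frobenius_reciprocity _ _ _
    (Helper74.isClassFunction_of_isCharacter (Helper74.isCharacter_of_isIrr isIrr_trivS))]
  rw [Helper15.classInner_apply]
  have h1 : ∀ b : borelSL F, (thetaS α b) * conj (trivS (b : SpecialLinearGroup (Fin 2) F))
      = thetaS α b * conj (thetaS (1 : MulChar F ℂ) b) := by
    intro b; rw [trivS_borel]
  simp only [h1]
  rw [← mackeySum_of_mem (borelSL F) (thetaS α) (thetaS 1) (one_mem _),
    mackeySumS_mem α 1 (one_mem _), card_borelSL_cast]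
  obtain ⟨hq, hq1⟩ := card_F_cast_ne (F := F)
  unfold eFac
  by_cases h1 : α = 1 <;> simp [h1]
  field_simp

/-- the Steinberg character of `SL₂` -/
noncomputable def Sts : SpecialLinearGroup (Fin 2) F → ℂ := PSs (1 : MulChar F ℂ) - trivS

theorem isIrr_Sts : IsIrrCharacter (SpecialLinearGroup (Fin 2) F) (Sts (F := F)) := by
  classical
  let _ : Fintype (borelSL F) := Fintype.ofFinite _
  apply isIrr_sub_of_inner _ _ (isCharacter_PSs 1) isIrr_trivS
  · rw [classInner_PSs]; simp; norm_num
  · rw [classInner_PSs_trivS]; simp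

theorem Sts_one : Sts (F := F) 1 = (Fintype.card F : ℂ) := by
  unfold Sts
  rw [Pi.sub_apply, PSs_one, trivS_apply]
  ring

theorem classInner_PSs_Sts (α : MulChar F ℂ) :
    classInner (PSs α) (Sts (F := F)) = if α = 1 then 1 else 0 := by
  classical
  let _ : Fintype (borelSL F) := Fintype.ofFinite _
  unfold Sts
  rw [Helper74.classInner_sub_right, classInner_PSs, classInner_PSs_trivS]
  by_cases h1 : α = 1 <;> simp [h1]

theorem mulChar_inv_ne [CharP F 2] (α : MulChar F ℂ) (hα : α ≠ 1) : α ≠ α⁻¹ := by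
  intro h
  apply hα
  have h2 : α ^ 2 = 1 := by
    rw [sq]
    nth_rewrite 2 [h]
    exact mul_inv_cancel α
  have hcard : α ^ (Fintype.card Fˣ) = 1 := MulChar.pow_card_eq_one α
  have heven : Even (Fintype.card F) := by
    have := FiniteField.even_card_of_char_two (F := F) (ringChar.eq F 2)
    rw [Nat.even_iff]; exact this
  obtain ⟨j, hj⟩ := heven
  have hpos : 0 < Fintype.card F := Fintype.card_pos
  have hu : Fintype.card Fˣ = 2 * (j - 1) + 1 := by
    rw [Fintype.card_units]; omega
  rw [hu, pow_succ, pow_mul, h2, one_pow, one_mul] at hcard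
  exact hcard

theorem isIrr_PSs [CharP F 2] (α : MulChar F ℂ) (h : α ≠ 1) :
    IsIrrCharacter (SpecialLinearGroup (Fin 2) F) (PSs α) := by
  classical
  let _ : Fintype (borelSL F) := Fintype.ofFinite _
  apply Helper15.isIrrCharacter_of_inner_self_eq_one (isCharacter_PSs α)
  rw [classInner_PSs]
  simp [mulChar_inv_ne α h]

/-- an irreducible character meeting a principal series function is one of the listed ones -/
theorem noncuspidal_casesS [CharP F 2] (χ : IrrCharacter (SpecialLinearGroup (Fin 2) F))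
    (α : MulChar F ℂ)
    (h : classInner (PSs α) (χ : SpecialLinearGroup (Fin 2) F → ℂ) ≠ 0) :
    (χ : SpecialLinearGroup (Fin 2) F → ℂ) = trivS ∨
      (χ : SpecialLinearGroup (Fin 2) F → ℂ) = Sts ∨
      (α ≠ 1 ∧ (χ : SpecialLinearGroup (Fin 2) F → ℂ) = PSs α) := by
  classical
  by_cases hab : α = 1
  · subst hab
    have hsum : PSs (1 : MulChar F ℂ) = Sts + trivS := by unfold Sts; rw [sub_add_cancel]
    rw [hsum, Helper74.classInner_add_left] at h
    by_cases e1 : (⟨trivS, isIrr_trivS⟩ : IrrCharacter (SpecialLinearGroup (Fin 2) F)) = χ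
    · left; exact (congrArg Subtype.val e1).symm
    · by_cases e2 : (⟨Sts, isIrr_Sts⟩ : IrrCharacter (SpecialLinearGroup (Fin 2) F)) = χ
      · right; left; exact (congrArg Subtype.val e2).symm
      · exfalso
        apply h
        have z1 : classInner (trivS (F := F)) (χ : SpecialLinearGroup (Fin 2) F → ℂ) = 0 :=
          Helper74.irr_inner_ne
            (χ := (⟨trivS, isIrr_trivS⟩ : IrrCharacter (SpecialLinearGroup (Fin 2) F))) e1
        have z2 : classInner (Sts (F := F)) (χ : SpecialLinearGroup (Fin 2) F → ℂ) = 0 :=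
          Helper74.irr_inner_ne
            (χ := (⟨Sts, isIrr_Sts⟩ : IrrCharacter (SpecialLinearGroup (Fin 2) F))) e2
        rw [z1, z2, add_zero]
  · right; right
    refine ⟨hab, ?_⟩
    by_cases e : (⟨PSs α, isIrr_PSs α hab⟩ : IrrCharacter (SpecialLinearGroup (Fin 2) F)) = χ
    · exact (congrArg Subtype.val e).symm
    · exfalso
      apply h
      exact Helper74.irr_inner_ne
        (χ := (⟨PSs α, isIrr_PSs α hab⟩ : IrrCharacter (SpecialLinearGroup (Fin 2) F))) e

omit [Fintype F] [DecidableEq F] in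
theorem smk_one_zero : smk (1 : Fˣ) (0 : F) = 1 := by
  apply Subtype.ext
  rw [smk_coe]
  ext i j
  fin_cases i <;> fin_cases j <;> simp

omit [Fintype F] [DecidableEq F] in
theorem smk_conj_unip (s : F) (hs : s ≠ 0) :
    smk (Units.mk0 s hs) 0 * smk 1 1 * (smk (Units.mk0 s hs) 0)⁻¹ = smk 1 (s * s) := by
  rw [mul_inv_eq_iff_eq_mul]
  apply Subtype.ext
  rw [Matrix.SpecialLinearGroup.coe_mul, Matrix.SpecialLinearGroup.coe_mul]
  simp only [smk_coe]
  ext i j
  fin_cases i <;> fin_cases j <;>
    simp [Matrix.mul_apply, Fin.sum_univ_two]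

/-- the degree of a cuspidal character of `SL₂(F)`, `F` of characteristic 2, is divisible by
`q - 1` -/
theorem cuspidal_dvdS [CharP F 2] (χ : IrrCharacter (SpecialLinearGroup (Fin 2) F))
    (hc : ∀ α : MulChar F ℂ, classInner (PSs α) (χ : SpecialLinearGroup (Fin 2) F → ℂ) = 0) :
    (Fintype.card F - 1) ∣ charDegree (χ : SpecialLinearGroup (Fin 2) F → ℂ) := by
  classical
  let _ : Fintype (borelSL F) := Fintype.ofFinite _
  let _ : Fintype (MulChar F ℂ) := Fintype.ofFinite _
  have hcf : IsClassFunction (SpecialLinearGroup (Fin 2) F)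
      (χ : SpecialLinearGroup (Fin 2) F → ℂ) := Helper74.irr_isClassFunction χ
  obtain ⟨hq, hq1⟩ := card_F_cast_ne (F := F)
  have step1 : ∀ α : MulChar F ℂ, ∑ a : Fˣ, α (a : F) *
      ∑ t : F, conj ((χ : SpecialLinearGroup (Fin 2) F → ℂ) (smk a t)) = 0 := by
    intro α
    have h := hc α
    unfold PSs at h
    rw [Helper15.frobenius_reciprocity _ _ _ hcf, Helper15.classInner_apply] at h
    have hB : (Nat.card (borelSL F) : ℂ)⁻¹ ≠ 0 := by
      rw [card_borelSL_cast]
      exact inv_ne_zero (mul_ne_zero hq1 hq)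
    have h' := (mul_eq_zero.1 h).resolve_left hB
    rw [sum_borelSL] at h'
    rw [← h']
    apply Finset.sum_congr rfl
    intro a _
    rw [Finset.mul_sum]
    apply Finset.sum_congr rfl
    intro t _
    rw [thetaS_borelSLEquiv, borelSLEquiv_apply]
  have step3 : ∑ t : F, conj ((χ : SpecialLinearGroup (Fin 2) F → ℂ) (smk 1 t)) = 0 :=
    fourier_at_one (fun a => ∑ t : F, conj ((χ : SpecialLinearGroup (Fin 2) F → ℂ) (smk a t)))
      step1
  have step3' : ∑ t : F, (χ : SpecialLinearGroup (Fin 2) F → ℂ) (smk 1 t) = 0 := by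
    have := congrArg conj step3
    rw [map_sum, map_zero] at this
    simpa using this
  have hval : ∀ t : F, t ≠ 0 → (χ : SpecialLinearGroup (Fin 2) F → ℂ) (smk 1 t)
      = (χ : SpecialLinearGroup (Fin 2) F → ℂ) (smk 1 1) := by
    intro t ht
    obtain ⟨s, hs⟩ := FiniteField.isSquare_of_char_two (ringChar.eq F 2) t
    have hs0 : s ≠ 0 := by
      rintro rfl
      apply ht
      rw [hs, mul_zero]
    rw [hs, ← smk_conj_unip s hs0]
    exact hcf _ _
  have hsum : ∑ t : F, (χ : SpecialLinearGroup (Fin 2) F → ℂ) (smk 1 t)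
      = (χ : SpecialLinearGroup (Fin 2) F → ℂ) 1 +
        ((Fintype.card F : ℂ) - 1) * (χ : SpecialLinearGroup (Fin 2) F → ℂ) (smk 1 1) := by
    rw [← Finset.add_sum_erase Finset.univ _ (Finset.mem_univ (0 : F)), smk_one_zero]
    congr 1
    rw [Finset.sum_congr rfl (fun t ht => hval t (Finset.ne_of_mem_erase ht)), Finset.sum_const,
      Finset.card_erase_of_mem (Finset.mem_univ _), Finset.card_univ, nsmul_eq_mul,
      Nat.cast_sub Fintype.card_pos, Nat.cast_one]
  rw [hsum] at step3'
  have hdeg : ((charDegree (χ : SpecialLinearGroup (Fin 2) F → ℂ) : ℕ) : ℂ)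
      = (χ : SpecialLinearGroup (Fin 2) F → ℂ) 1 :=
    Helper74.charDegree_cast (Helper74.irr_isCharacter χ)
  have hint : IsIntegral ℤ ((χ : SpecialLinearGroup (Fin 2) F → ℂ) (smk 1 1)) :=
    Helper80.IsCharacter.isIntegral (Helper74.irr_isCharacter χ) _
  have hb : Fintype.card F - 1 ≠ 0 := by
    have : 1 < Fintype.card F := Fintype.one_lt_card
    omega
  apply Helper80.dvd_of_isIntegral_div hb
  have hcast : ((Fintype.card F - 1 : ℕ) : ℂ) = (Fintype.card F : ℂ) - 1 := by
    rw [Nat.cast_sub Fintype.card_pos, Nat.cast_one]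
  rw [hcast, hdeg]
  have : (χ : SpecialLinearGroup (Fin 2) F → ℂ) 1 / ((Fintype.card F : ℂ) - 1)
      = -((χ : SpecialLinearGroup (Fin 2) F → ℂ) (smk 1 1)) := by
    field_simp
    linear_combination step3'
  rw [this]
  exact hint.neg

end sl2

end Cfsg.Agent.Helper38
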