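import Mathlib
import Cfsg.Agent.Helper38.SL2Irr
import Cfsg.Agent.Helper38.GL2Count
import Cfsg.Agent.S2331

/-!
# The degrees of the irreducible characters of `SL₂(F)`, `F` of characteristic 2
-/

set_option autoImplicit false

namespace Cfsg.Agent.Helper38

open Matrix Cfsg
open scoped ComplexConjugate

section sl2
variable {F : Type*} [Field F] [Fintype F] [DecidableEq F]

theorem PSs_eq_iff [CharP F 2] (α α' : MulChar F ℂ) (h : α ≠ 1) (h' : α' ≠ 1) :
    PSs α = PSs α' ↔ α' = α ∨ α' = α⁻¹ := by
  classical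
  let _ : Fintype (borelSL F) := Fintype.ofFinite _
  constructor
  · intro heq
    have h1 := classInner_PSs α α
    rw [if_pos rfl, if_neg (mulChar_inv_ne α h), add_zero] at h1
    have h2 := classInner_PSs α α'
    rw [← heq, h1] at h2
    by_cases c1 : α = α'
    · left; exact c1.symm
    · by_cases c2 : α = α'⁻¹
      · right; rw [c2, inv_inv]
      · rw [if_neg c1, if_neg c2] at h2
        norm_num at h2
  · rintro (rfl | rfl)
    · rfl
    · by_contra hne
      have hne' : (⟨PSs α, isIrr_PSs α h⟩ : IrrCharacter (SpecialLinearGroup (Fin 2) F)) ≠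
          ⟨PSs α⁻¹, isIrr_PSs α⁻¹ h'⟩ := fun hh => hne (congrArg Subtype.val hh)
      have h0 := Helper74.irr_inner_ne hne'
      simp only at h0
      rw [classInner_PSs, if_neg (mulChar_inv_ne α h), inv_inv, if_pos rfl] at h0
      norm_num at h0

omit [DecidableEq F] in
theorem card_irr_SL2 [CharP F 2] [Fintype (IrrCharacter (SpecialLinearGroup (Fin 2) F))] :
    Fintype.card (IrrCharacter (SpecialLinearGroup (Fin 2) F)) = Fintype.card F + 1 := by
  rw [← Nat.card_eq_fintype_card, Helper74.card_irr_eq_card_conjClasses,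
    Cfsg.Agent.S2331.result]

theorem sum_charDegree_sq_of {G : Type*} [Group G] [Fintype G] [Fintype (IrrCharacter G)] :
    ∑ χ : IrrCharacter G, charDegree (χ : G → ℂ) ^ 2 = Nat.card G := by
  have h := Helper74.sum_irr_degree_sq (G := G)
  have h2 : ∀ χ : IrrCharacter G, (χ : G → ℂ) 1 = (charDegree (χ : G → ℂ) : ℂ) :=
    fun χ => (Helper74.charDegree_cast (Helper74.irr_isCharacter χ)).symm
  simp only [h2] at h
  have : ((∑ χ : IrrCharacter G, charDegree (χ : G → ℂ) ^ 2 : ℕ) : ℂ) = (Nat.card G : ℂ) := by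
    rw [← h]; push_cast
    apply Finset.sum_congr rfl
    intro χ _
    ring
  exact_mod_cast this

/-- the degree table of `SL₂(F)`, `F` of characteristic 2, in terms of `charDegree`,
`m = q - 1` -/
theorem SL2_degree_table [CharP F 2] [Fintype (IrrCharacter (SpecialLinearGroup (Fin 2) F))]
    [DecidableEq (IrrCharacter (SpecialLinearGroup (Fin 2) F))] (m : ℕ)
    (hm : Fintype.card F = m + 1) :
    (∀ χ : IrrCharacter (SpecialLinearGroup (Fin 2) F),
        charDegree (χ : SpecialLinearGroup (Fin 2) F → ℂ) = 1 ∨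
        charDegree (χ : SpecialLinearGroup (Fin 2) F → ℂ) = m ∨
        charDegree (χ : SpecialLinearGroup (Fin 2) F → ℂ) = m + 1 ∨
        charDegree (χ : SpecialLinearGroup (Fin 2) F → ℂ) = m + 2) ∧
      (2 ≤ m →
        (Finset.univ.filter (fun χ : IrrCharacter (SpecialLinearGroup (Fin 2) F) =>
          charDegree (χ : SpecialLinearGroup (Fin 2) F → ℂ) = 1)).card = 1 ∧
        (Finset.univ.filter (fun χ : IrrCharacter (SpecialLinearGroup (Fin 2) F) =>
          charDegree (χ : SpecialLinearGroup (Fin 2) F → ℂ) = m + 1)).card = 1 ∧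
        2 * (Finset.univ.filter (fun χ : IrrCharacter (SpecialLinearGroup (Fin 2) F) =>
          charDegree (χ : SpecialLinearGroup (Fin 2) F → ℂ) = m + 2)).card = m - 1 ∧
        2 * (Finset.univ.filter (fun χ : IrrCharacter (SpecialLinearGroup (Fin 2) F) =>
          charDegree (χ : SpecialLinearGroup (Fin 2) F → ℂ) = m)).card = m + 1) := by
  classical
  let _ : Fintype (MulChar F ℂ) := Fintype.ofFinite _
  have hm1 : 1 ≤ m := by
    have : 1 < Fintype.card F := Fintype.one_lt_card
    omega
  have cML : Fintype.card (MulChar F ℂ) = m := by rw [card_mulChar, hm]; omega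
  have cMP : Fintype.card {α : MulChar F ℂ // α ≠ 1} + 1 = m := by
    rw [Fintype.card_subtype_compl, Fintype.card_subtype_eq, cML]
    omega
  have hqc : (Fintype.card F : ℂ) = (m : ℂ) + 1 := by rw [hm]; push_cast; ring
  have hT : Nat.card (SpecialLinearGroup (Fin 2) F) = (m + 1) * (m * (m + 2)) := by
    have h := card_SL2_mul (F := F)
    rw [hm] at h
    have e0 : m + 1 - 1 = m := by omega
    have e1 : (m + 1) ^ 2 - 1 = m * (m + 2) := by
      have : (m + 1) ^ 2 = m * (m + 2) + 1 := by ring
      omega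
    have e2 : (m + 1) ^ 2 - (m + 1) = (m + 1) * m := by
      have : (m + 1) ^ 2 = (m + 1) * m + (m + 1) := by ring
      omega
    rw [e0, e1, e2] at h
    have h' : Nat.card (SpecialLinearGroup (Fin 2) F) * m = ((m + 1) * (m * (m + 2))) * m := by
      rw [h]; ring
    exact Nat.eq_of_mul_eq_mul_right (by omega) h'
  have key := degree_count
    (I := IrrCharacter (SpecialLinearGroup (Fin 2) F)) (ML := Unit)
    (MP := {α : MulChar F ℂ // α ≠ 1})
    (fun χ => charDegree (χ : SpecialLinearGroup (Fin 2) F → ℂ)) m (Fintype.card F + 1)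
    (Nat.card (SpecialLinearGroup (Fin 2) F)) hm1 card_irr_SL2 sum_charDegree_sq_of
    (fun _ => ⟨trivS, isIrr_trivS⟩) (fun _ => ⟨Sts, isIrr_Sts⟩)
    (fun α => ⟨PSs α.1, isIrr_PSs _ α.2⟩)
    (fun α => ⟨α.1⁻¹, fun h => α.2 (inv_eq_one.1 h)⟩)
    (by
      intro α h
      exact mulChar_inv_ne α.1 α.2 (congrArg Subtype.val h).symm)
    (by intro a b _; rfl)
    (by intro a b _; rfl)
    (by
      rintro ⟨α, h⟩ ⟨α', h'⟩
      simp only [Subtype.mk.injEq]
      exact PSs_eq_iff α α' h h')
    (by
      intro _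
      exact charDegree_eq_of_one (Helper74.isCharacter_of_isIrr isIrr_trivS) 1
        (by rw [trivS_apply]; simp))
    (by
      intro _
      exact charDegree_eq_of_one (Helper74.isCharacter_of_isIrr isIrr_Sts) (m + 1)
        (by rw [Sts_one, hqc]; push_cast; ring))
    (by
      intro α
      exact charDegree_eq_of_one (Helper74.isCharacter_of_isIrr (isIrr_PSs _ α.2)) (m + 2)
        (by rw [PSs_one, hqc]; push_cast; ring))
    (by
      intro χ
      by_cases h : ∃ α : MulChar F ℂ,
          classInner (PSs α) (χ : SpecialLinearGroup (Fin 2) F → ℂ) ≠ 0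
      · obtain ⟨α, hne⟩ := h
        rcases noncuspidal_casesS χ α hne with h1 | h1 | ⟨hab, h1⟩
        · left; exact ⟨(), Subtype.ext h1⟩
        · right; left; exact ⟨(), Subtype.ext h1⟩
        · right; right; left; exact ⟨⟨α, hab⟩, Subtype.ext h1⟩
      · right; right; right
        push Not at h
        have := cuspidal_dvdS χ h
        rw [hm, Nat.add_sub_cancel] at this
        exact ⟨this, Helper80.IsIrrCharacter.charDegree_pos χ.2⟩)
    (by
      rw [hT, hm, Fintype.card_unit]
      zify at cMP ⊢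
      linear_combination ((m : ℤ) ^ 2 - ((m : ℤ) + 2) ^ 2) * cMP)
  refine ⟨key.1, fun h2 => ?_⟩
  obtain ⟨k1, k2, k3, k4⟩ := key.2 h2
  rw [Fintype.card_unit] at k1 k2 k4
  refine ⟨k1, k2, ?_, ?_⟩
  · rw [k3]; omega
  · rw [hm] at k4; omega

end sl2

end Cfsg.Agent.Helper38
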