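import Mathlib
import Cfsg.Agent.Helper35.Asch.Defs

/-!
# (R) for S3401 (helper35, WANTED #8612): a transitive normal subgroup of a 2-transitive group of
degree `n ≡ 2 mod 4`, `n > 2`, is not semiregular.
-/

set_option autoImplicit false

namespace Cfsg.Agent.Helper38.Asch

open MulAction Cfsg.Agent.Helper35.Asch

variable {G : Type*} [Group G] [Finite G] {Ω : Type*} [Fintype Ω] [MulAction G Ω]

theorem two_pow_mod_four_aux (k : ℕ) (h1 : 2 ^ k % 4 = 2) (h2 : 2 < 2 ^ k) : False := by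
  rcases k with _ | _ | k
  · simp at h1
  · simp at h2
  · have : (2 : ℕ) ^ (k + 1 + 1) = 4 * 2 ^ k := by rw [pow_succ, pow_succ]; ring
    rw [this] at h1
    omega

/-- (R) a transitive normal subgroup is not semiregular. -/
theorem exists_ne_one_mem_stab_of_trans (h2 : TwoTrans (⊤ : Subgroup G) Ω)
    (hn : Fintype.card Ω % 4 = 2) (hn2 : 2 < Fintype.card Ω)
    (N : Subgroup G) [N.Normal] (hT : Trans N Ω) (a : Ω) : ∃ x ∈ N, x ≠ 1 ∧ x • a = a := by
  by_contra hcon
  have hsemi : ∀ x ∈ N, x • a = a → x = 1 := by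
    intro x hx hxa
    by_contra hx1
    exact hcon ⟨x, hx, hx1, hxa⟩
  -- the orbit map is injective on `N`
  have hinj : ∀ x ∈ N, ∀ y ∈ N, x • a = y • a → x = y := by
    intro x hx y hy hxy
    have h1 : (y⁻¹ * x) • a = a := by
      rw [mul_smul, hxy, inv_smul_smul]
    have h2' := hsemi _ (N.mul_mem (N.inv_mem hy) hx) h1
    have : y * (y⁻¹ * x) = y * 1 := by rw [h2']
    simpa using this
  -- `N ≃ Ω`
  have hbij : Function.Bijective (fun x : N => (x : G) • a) := by
    constructor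
    · intro x y hxy
      exact Subtype.ext (hinj x x.2 y y.2 hxy)
    · intro b
      obtain ⟨g, hg, hgb⟩ := hT a b
      exact ⟨⟨g, hg⟩, hgb⟩
  have hcard : Nat.card N = Fintype.card Ω := by
    rw [Nat.card_congr (Equiv.ofBijective _ hbij), Nat.card_eq_fintype_card]
  -- all non-identity elements of `N` are conjugate
  have hconj : ∀ x ∈ N, ∀ y ∈ N, x ≠ 1 → y ≠ 1 → ∃ g : G, g * x * g⁻¹ = y := by
    intro x hx y hy hx1 hy1
    have hxa : a ≠ x • a := fun h => hx1 (hsemi x hx h.symm)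
    have hya : a ≠ y • a := fun h => hy1 (hsemi y hy h.symm)
    obtain ⟨g, -, hga, hgx⟩ := h2 hxa hya
    refine ⟨g, ?_⟩
    apply hinj _ (Subgroup.Normal.conj_mem inferInstance x hx g) _ hy
    have hginv : g⁻¹ • a = a := by
      rw [inv_smul_eq_iff, hga]
    rw [mul_smul, mul_smul, hginv, hgx]
  -- an element of order 2
  have h2dvd : 2 ∣ Nat.card N := by
    rw [hcard]; omega
  have : Fact (Nat.Prime 2) := ⟨Nat.prime_two⟩
  obtain ⟨x0, hx0⟩ := exists_prime_orderOf_dvd_card' 2 h2dvd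
  have hx01 : (x0 : G) ≠ 1 := by
    intro h
    have : x0 = 1 := Subtype.ext h
    rw [this, orderOf_one] at hx0
    omega
  have hx0sq : (x0 : G) ^ 2 = 1 := by
    have := pow_orderOf_eq_one x0
    rw [hx0] at this
    have h3 := congrArg (Subtype.val) this
    simpa using h3
  have hsq : ∀ y ∈ N, y ^ 2 = 1 := by
    intro y hy
    by_cases hy1 : y = 1
    · rw [hy1, one_pow]
    · obtain ⟨g, hg⟩ := hconj x0 x0.2 y hy hx01 hy1
      rw [← hg, conj_pow, hx0sq, mul_one, mul_inv_cancel]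
  have hP : IsPGroup 2 N := by
    intro y
    refine ⟨1, ?_⟩
    apply Subtype.ext
    have := hsq y y.2
    simpa using this
  obtain ⟨k, hk⟩ := (IsPGroup.iff_card).1 hP
  rw [hcard] at hk
  rw [hk] at hn hn2
  exact two_pow_mod_four_aux k hn hn2

end Cfsg.Agent.Helper38.Asch
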