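import Mathlib

/-!
# Generation of the alternating group by the 3-cycles `(p q a)`

For helper96 (S0892, piece P-E of WANTED #3646).
-/

namespace Cfsg.Agent.Helper38.AltStem

open Equiv Equiv.Perm

/-- The alternating group is generated by the 3-cycles `swap p q * swap q a` (`a ≠ p, q`). -/
theorem closure_c3_eq_alternating {α : Type*} [Fintype α] [DecidableEq α] (p q : α)
    (hpq : p ≠ q) :
    Subgroup.closure {g : Equiv.Perm α | ∃ a : α, a ≠ p ∧ a ≠ q ∧
      g = Equiv.swap p q * Equiv.swap q a} = alternatingGroup α := by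
  set S : Set (Equiv.Perm α) := {g : Equiv.Perm α | ∃ a : α, a ≠ p ∧ a ≠ q ∧
      g = Equiv.swap p q * Equiv.swap q a} with hS
  set H : Subgroup (Equiv.Perm α) := Subgroup.closure S with hH
  have hle : H ≤ alternatingGroup α := by
    rw [hH, Subgroup.closure_le]
    rintro g ⟨a, hap, haq, rfl⟩
    simp only [SetLike.mem_coe, Equiv.Perm.mem_alternatingGroup, Equiv.Perm.sign_mul]
    rw [Equiv.Perm.sign_swap hpq, Equiv.Perm.sign_swap haq.symm]
    rfl
  -- Step A: `t * swap q x ∈ H` for every `x ≠ q`
  have hA : ∀ x : α, x ≠ q → Equiv.swap p q * Equiv.swap q x ∈ H := by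
    intro x hxq
    by_cases hxp : x = p
    · subst hxp
      rw [Equiv.swap_comm q x, Equiv.swap_mul_self]
      exact H.one_mem
    · exact Subgroup.subset_closure ⟨x, hxp, hxq, rfl⟩
  -- conjugation trick
  have hconj : ∀ u v : Equiv.Perm α, u * u = 1 → v * v = 1 → Equiv.swap p q * u ∈ H →
      Equiv.swap p q * v ∈ H → Equiv.swap p q * (u * v * u) ∈ H := by
    intro u v hu hv htu htv
    have h1 : Equiv.swap p q * (u * v * u) =
        (Equiv.swap p q * u) * (Equiv.swap p q * v)⁻¹ * (Equiv.swap p q * u) := by
      have hvinv : v⁻¹ = v := inv_eq_of_mul_eq_one_left hv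
      have htinv : (Equiv.swap p q : Equiv.Perm α)⁻¹ = Equiv.swap p q := Equiv.swap_inv p q
      rw [mul_inv_rev, hvinv, htinv]
      have htt : (Equiv.swap p q : Equiv.Perm α) * Equiv.swap p q = 1 := Equiv.swap_mul_self p q
      calc Equiv.swap p q * (u * v * u)
          = Equiv.swap p q * u * v * (1 : Equiv.Perm α) * u := by simp [mul_assoc]
        _ = Equiv.swap p q * u * v * (Equiv.swap p q * Equiv.swap p q) * u := by rw [htt]
        _ = Equiv.swap p q * u * (v * Equiv.swap p q) * (Equiv.swap p q * u) := by
            simp only [mul_assoc]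
    rw [h1]
    exact H.mul_mem (H.mul_mem htu (H.inv_mem htv)) htu
  -- Step B: `t * swap x y ∈ H` for all `x ≠ y`
  have hB : ∀ x y : α, x ≠ y → Equiv.swap p q * Equiv.swap x y ∈ H := by
    intro x y hxy
    by_cases hxq : x = q
    · subst hxq
      exact hA y (Ne.symm hxy)
    by_cases hyq : y = q
    · subst hyq
      rw [Equiv.swap_comm x y]
      exact hA x hxy
    · have h := Equiv.swap_mul_swap_mul_swap (x := y) (y := q) (z := x) hyq (Ne.symm hxy)
      rw [← h]
      refine hconj _ _ (Equiv.swap_mul_self q x) (Equiv.swap_mul_self y q) (hA x hxq) ?_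
      rw [Equiv.swap_comm y q]
      exact hA y hyq
  -- every permutation is in `H` or `t * f ∈ H`
  have hP : ∀ f : Equiv.Perm α, f ∈ H ∨ Equiv.swap p q * f ∈ H := by
    intro f
    induction f using Equiv.Perm.swap_induction_on with
    | one => exact Or.inl H.one_mem
    | swap_mul f x y hxy ih =>
      rcases ih with h | h
      · right
        rw [← mul_assoc]
        exact H.mul_mem (hB x y hxy) h
      · left
        have h2 : Equiv.swap x y * f =
            (Equiv.swap p q * Equiv.swap x y)⁻¹ * (Equiv.swap p q * f) := by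
          rw [mul_inv_rev, Equiv.swap_inv, Equiv.swap_inv, mul_assoc, ← mul_assoc (Equiv.swap p q),
            Equiv.swap_mul_self, one_mul]
        rw [h2]
        exact H.mul_mem (H.inv_mem (hB x y hxy)) h
  refine le_antisymm hle ?_
  intro f hf
  rcases hP f with h | h
  · exact h
  · exfalso
    have h1 := hle h
    rw [Equiv.Perm.mem_alternatingGroup] at h1 hf
    rw [Equiv.Perm.sign_mul, hf, Equiv.Perm.sign_swap hpq] at h1
    exact absurd h1 (by decide)

end Cfsg.Agent.Helper38.AltStem
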