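import Mathlib
import Cfsg.Agent.Helper96.StemInf
import Cfsg.Agent.Helper96.StemBoundB

/-!
# Stem extensions of `A₄` and `A₅` have kernel of order at most 2

For helper96 (S0892, piece P-G of WANTED #3646): transfer into a Klein four-group and into
cyclic subgroups of coprime index.
-/

set_option autoImplicit false

namespace Cfsg.Agent.Helper38.AltStem

open Subgroup
open scoped commutatorElement

universe u v

/-- The four-group generated by two commuting involutions, with explicit carrier. -/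
def kleinSub {G : Type v} [Group G] (s t : G) (hs : s * s = 1) (ht : t * t = 1)
    (hst : s * t = t * s) : Subgroup G where
  carrier := {g | g = 1 ∨ g = s ∨ g = t ∨ g = s * t}
  one_mem' := Or.inl rfl
  mul_mem' := by
    have h1 : s * (s * t) = t := by rw [← mul_assoc, hs, one_mul]
    have h2 : t * (s * t) = s := by rw [← mul_assoc, ← hst, mul_assoc, ht, mul_one]
    have h3 : s * t * s = t := by rw [mul_assoc, ← hst, h1]
    have h4 : s * t * t = s := by rw [mul_assoc, ht, mul_one]
    have h5 : s * t * (s * t) = 1 := by rw [mul_assoc, h2, hs]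
    rintro a b (rfl | rfl | rfl | rfl) (rfl | rfl | rfl | rfl)
    · left; rw [mul_one]
    · right; left; rw [one_mul]
    · right; right; left; rw [one_mul]
    · right; right; right; rw [one_mul]
    · right; left; rw [mul_one]
    · left; exact hs
    · right; right; right; rfl
    · right; right; left; exact h1
    · right; right; left; rw [mul_one]
    · right; right; right; exact hst.symm
    · left; exact ht
    · right; left; exact h2
    · right; right; right; rw [mul_one]
    · right; right; left; exact h3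
    · right; left; exact h4
    · left; exact h5
  inv_mem' := by
    have hsi : s⁻¹ = s := inv_eq_of_mul_eq_one_left hs
    have hti : t⁻¹ = t := inv_eq_of_mul_eq_one_left ht
    rintro a (rfl | rfl | rfl | rfl)
    · left; exact inv_one
    · right; left; exact hsi
    · right; right; left; exact hti
    · right; right; right; rw [mul_inv_rev, hsi, hti, hst]

theorem mem_kleinSub {G : Type v} [Group G] {s t : G} {hs : s * s = 1} {ht : t * t = 1}
    {hst : s * t = t * s} {g : G} :
    g ∈ kleinSub s t hs ht hst ↔ g = 1 ∨ g = s ∨ g = t ∨ g = s * t := Iff.rfl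

theorem card_kleinSub {G : Type v} [Group G] (s t : G) (hs : s * s = 1) (ht : t * t = 1)
    (hst : s * t = t * s) (hs1 : s ≠ 1) (ht1 : t ≠ 1) (hne : s ≠ t) :
    Nat.card (kleinSub s t hs ht hst) = 4 := by
  classical
  have hset : ((kleinSub s t hs ht hst : Subgroup G) : Set G) =
      ↑({1, s, t, s * t} : Finset G) := by
    ext g
    simp only [SetLike.mem_coe, mem_kleinSub, Finset.coe_insert, Finset.coe_singleton,
      Set.mem_insert_iff, Set.mem_singleton_iff]
  have hsi : s⁻¹ = s := inv_eq_of_mul_eq_one_left hs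
  have h1 : (1 : G) ∉ ({s, t, s * t} : Finset G) := by
    simp only [Finset.mem_insert, Finset.mem_singleton, not_or]
    refine ⟨hs1.symm, ht1.symm, ?_⟩
    intro h
    apply hne
    rw [← hsi]
    exact inv_eq_of_mul_eq_one_right h.symm
  have h2 : s ∉ ({t, s * t} : Finset G) := by
    simp only [Finset.mem_insert, Finset.mem_singleton, not_or]
    refine ⟨hne, ?_⟩
    intro h
    exact ht1 (by simpa using h.symm)
  have h3 : t ∉ ({s * t} : Finset G) := by
    simp only [Finset.mem_singleton]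
    intro h
    exact hs1 (by simpa using h.symm)
  have hc : Nat.card (kleinSub s t hs ht hst) =
      ((kleinSub s t hs ht hst : Subgroup G) : Set G).ncard := rfl
  rw [hc, hset, Set.ncard_coe_finset, Finset.card_insert_of_notMem h1,
    Finset.card_insert_of_notMem h2, Finset.card_insert_of_notMem h3, Finset.card_singleton]

/-- Core transfer argument: a Klein-type subgroup of index `a` and an exponent `b` of the
kernel prime to `a` confine the kernel to `⟨⁅x, y⁆⟩`. -/
theorem ker_le_zpowers_core {Γ : Type u} {G : Type v} [Group Γ] [Group G] [Finite G]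
    (σ : Γ →* G) (hσ : Cfsg.IsStemExtension σ) (x y : Γ) (V : Subgroup G)
    (hcomm : σ x * σ y = σ y * σ x) (hV : ∀ g ∈ V, ∃ i j : ℕ, g = σ x ^ i * σ y ^ j)
    (a b : ℕ) (ha : V.index = a) (hb : ∀ z ∈ σ.ker, z ^ b = 1) (hab : Nat.Coprime a b) :
    σ.ker ≤ zpowers ⁅x, y⁆ := by
  intro z hz
  have h1 : z ^ a ∈ zpowers ⁅x, y⁆ := by
    rw [← ha]
    exact Cfsg.Agent.Helper96.StemBound.commutator_comap_le_zpowers_of_comm σ hσ x y V hcomm hV
      (Cfsg.Agent.Helper96.StemInf.ker_pow_index_mem' σ hσ V hz)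
  have h2 : z ^ b = 1 := hb z hz
  have hbez : (1 : ℤ) = a * Nat.gcdA a b + b * Nat.gcdB a b := by
    have := Nat.gcd_eq_gcd_ab a b
    rw [hab.gcd_eq_one] at this
    exact_mod_cast this
  have hz1 : z = (z ^ a) ^ (Nat.gcdA a b) * (z ^ b) ^ (Nat.gcdB a b) := by
    rw [← zpow_natCast z a, ← zpow_natCast z b, ← zpow_mul, ← zpow_mul, ← zpow_add, ← hbez,
      zpow_one]
  rw [hz1, h2, one_zpow, mul_one]
  exact zpow_mem h1 _

theorem card_ker_le_two_core {Γ : Type u} {G : Type v} [Group Γ] [Group G] [Finite Γ] [Finite G]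
    (σ : Γ →* G) (hσ : Cfsg.IsStemExtension σ) (s t : G) (hs : s * s = 1) (ht : t * t = 1)
    (hst : s * t = t * s)
    (a b : ℕ) (ha : (kleinSub s t hs ht hst).index = a) (hb : ∀ z ∈ σ.ker, z ^ b = 1)
    (hab : Nat.Coprime a b) : Nat.card σ.ker ≤ 2 := by
  obtain ⟨x, hx⟩ := hσ.1 s
  obtain ⟨y, hy⟩ := hσ.1 t
  have hcomm : σ x * σ y = σ y * σ x := by rw [hx, hy]; exact hst
  have hV : ∀ g ∈ kleinSub s t hs ht hst, ∃ i j : ℕ, g = σ x ^ i * σ y ^ j := by
    rw [hx, hy]
    rintro g (rfl | rfl | rfl | rfl)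
    · exact ⟨0, 0, by simp⟩
    · exact ⟨1, 0, by simp⟩
    · exact ⟨0, 1, by simp⟩
    · exact ⟨1, 1, by simp⟩
  have hle := ker_le_zpowers_core σ hσ x y _ hcomm hV a b ha hb hab
  have hc2 : ⁅x, y⁆ ^ 2 = 1 :=
    Cfsg.Agent.Helper96.StemBound.commElt_pow_eq_one_of_comm σ hσ x y hcomm 2
      (by rw [hx, pow_two]; exact hs)
  calc Nat.card σ.ker ≤ Nat.card (zpowers ⁅x, y⁆) := Subgroup.card_le_of_le hle
    _ = orderOf ⁅x, y⁆ := Nat.card_zpowers _
    _ ≤ 2 := Nat.le_of_dvd (by norm_num) (orderOf_dvd_of_pow_eq_one hc2)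

theorem index_of_card {G : Type v} [Group G] [Finite G] (H : Subgroup G) (c N k : ℕ)
    (hc : Nat.card H = c) (hN : Nat.card G = N) (hk : c * k = N) (hc0 : 0 < c) :
    H.index = k := by
  have h := H.card_mul_index
  rw [hc, hN, ← hk] at h
  exact Nat.eq_of_mul_eq_mul_left hc0 h

theorem card_zpowers_of_prime {G : Type v} [Group G] (g : G) (p : ℕ) [hp : Fact p.Prime]
    (h1 : g ^ p = 1) (h2 : g ≠ 1) : Nat.card (zpowers g) = p := by
  rw [Nat.card_zpowers]
  exact orderOf_eq_prime h1 h2

theorem card_alt_four : Nat.card (alternatingGroup (Fin 4)) = 12 := by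
  rw [nat_card_alternatingGroup, Nat.card_eq_fintype_card, Fintype.card_fin]
  rfl

theorem card_alt_five : Nat.card (alternatingGroup (Fin 5)) = 60 := by
  rw [nat_card_alternatingGroup, Nat.card_eq_fintype_card, Fintype.card_fin]
  rfl

/-- `(0 1)(2 3)` in `A₄`. -/
def s4 : alternatingGroup (Fin 4) :=
  ⟨Equiv.swap 0 1 * Equiv.swap 2 3, Equiv.Perm.mem_alternatingGroup.mpr (by decide)⟩

/-- `(0 2)(1 3)` in `A₄`. -/
def t4 : alternatingGroup (Fin 4) :=
  ⟨Equiv.swap 0 2 * Equiv.swap 1 3, Equiv.Perm.mem_alternatingGroup.mpr (by decide)⟩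

/-- `(0 1 2)` in `A₄`. -/
def c4 : alternatingGroup (Fin 4) :=
  ⟨Equiv.swap 0 1 * Equiv.swap 1 2, Equiv.Perm.mem_alternatingGroup.mpr (by decide)⟩

/-- `(0 1)(2 3)` in `A₅`. -/
def s5 : alternatingGroup (Fin 5) :=
  ⟨Equiv.swap 0 1 * Equiv.swap 2 3, Equiv.Perm.mem_alternatingGroup.mpr (by decide)⟩

/-- `(0 2)(1 3)` in `A₅`. -/
def t5 : alternatingGroup (Fin 5) :=
  ⟨Equiv.swap 0 2 * Equiv.swap 1 3, Equiv.Perm.mem_alternatingGroup.mpr (by decide)⟩

/-- `(0 1 2)` in `A₅`. -/
def c5 : alternatingGroup (Fin 5) :=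
  ⟨Equiv.swap 0 1 * Equiv.swap 1 2, Equiv.Perm.mem_alternatingGroup.mpr (by decide)⟩

/-- A 5-cycle in `A₅`. -/
def d5 : alternatingGroup (Fin 5) :=
  ⟨Equiv.swap 0 1 * Equiv.swap 1 2 * Equiv.swap 2 3 * Equiv.swap 3 4,
    Equiv.Perm.mem_alternatingGroup.mpr (by decide)⟩

theorem card_ker_le_two_four {Γ : Type u} [Group Γ] [Finite Γ]
    (σ : Γ →* alternatingGroup (Fin 4)) (hσ : Cfsg.IsStemExtension σ) : Nat.card σ.ker ≤ 2 := by
  have hs : s4 * s4 = 1 := by decide
  have ht : t4 * t4 = 1 := by decide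
  have hst : s4 * t4 = t4 * s4 := by decide
  have hV : (kleinSub s4 t4 hs ht hst).index = 3 :=
    index_of_card _ 4 12 3 (card_kleinSub s4 t4 hs ht hst (by decide) (by decide) (by decide))
      card_alt_four (by norm_num) (by norm_num)
  have : Fact (Nat.Prime 3) := ⟨by norm_num⟩
  have hC : (zpowers c4).index = 4 :=
    index_of_card _ 3 12 4 (card_zpowers_of_prime c4 3 (by decide) (by decide))
      card_alt_four (by norm_num) (by norm_num)
  refine card_ker_le_two_core σ hσ s4 t4 hs ht hst 3 4 hV ?_ (by norm_num)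
  intro z hz
  rw [← hC]
  exact Cfsg.Agent.Helper96.StemInf.ker_pow_index_of_isCyclic' σ hσ (zpowers c4) hz

theorem card_ker_le_two_five {Γ : Type u} [Group Γ] [Finite Γ]
    (σ : Γ →* alternatingGroup (Fin 5)) (hσ : Cfsg.IsStemExtension σ) : Nat.card σ.ker ≤ 2 := by
  have hs : s5 * s5 = 1 := by decide
  have ht : t5 * t5 = 1 := by decide
  have hst : s5 * t5 = t5 * s5 := by decide
  have hV : (kleinSub s5 t5 hs ht hst).index = 15 :=
    index_of_card _ 4 60 15 (card_kleinSub s5 t5 hs ht hst (by decide) (by decide) (by decide))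
      card_alt_five (by norm_num) (by norm_num)
  have : Fact (Nat.Prime 3) := ⟨by norm_num⟩
  have : Fact (Nat.Prime 5) := ⟨by norm_num⟩
  have hC : (zpowers c5).index = 20 :=
    index_of_card _ 3 60 20 (card_zpowers_of_prime c5 3 (by decide) (by decide))
      card_alt_five (by norm_num) (by norm_num)
  have hD : (zpowers d5).index = 12 :=
    index_of_card _ 5 60 12 (card_zpowers_of_prime d5 5 (by decide) (by decide))
      card_alt_five (by norm_num) (by norm_num)
  refine card_ker_le_two_core σ hσ s5 t5 hs ht hst 15 4 hV ?_ (by norm_num)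
  intro z hz
  have h20 : z ^ 20 = 1 := by
    rw [← hC]
    exact Cfsg.Agent.Helper96.StemInf.ker_pow_index_of_isCyclic' σ hσ (zpowers c5) hz
  have h12 : z ^ 12 = 1 := by
    rw [← hD]
    exact Cfsg.Agent.Helper96.StemInf.ker_pow_index_of_isCyclic' σ hσ (zpowers d5) hz
  have h24 : z ^ 24 = 1 := by
    rw [show 24 = 12 * 2 from rfl, pow_mul, h12, one_pow]
  rw [show 24 = 20 + 4 from rfl, pow_add, h20, one_mul] at h24
  exact h24

/-- Stem extensions of `A₄` and `A₅` have kernel of order at most two. -/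
theorem card_ker_le_two_small {n : ℕ} (hn : n = 4 ∨ n = 5) {Γ : Type*} [Group Γ] [Finite Γ]
    (σ : Γ →* alternatingGroup (Fin n)) (hσ : Cfsg.IsStemExtension σ) :
    Nat.card σ.ker ≤ 2 := by
  rcases hn with rfl | rfl
  · exact card_ker_le_two_four σ hσ
  · exact card_ker_le_two_five σ hσ

end Cfsg.Agent.Helper38.AltStem
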