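import Mathlib

/-!
# An even permutation fixing two points and moving a pair to a pair

For helper96 (S0892, piece P-H of WANTED #3726).
-/

set_option autoImplicit false

namespace Cfsg.Agent.Helper38.AltStem

open Equiv

theorem exists_alt_map {α : Type*} [DecidableEq α] [Fintype α] (hcard : 6 ≤ Fintype.card α)
    {p0 p1 a d a' d' : α} (h : [p0, p1, a, d].Nodup) (h' : [p0, p1, a', d'].Nodup) :
    ∃ g ∈ alternatingGroup α, g p0 = p0 ∧ g p1 = p1 ∧ g a = a' ∧ g d = d' := by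
  simp only [List.nodup_cons, List.mem_cons, List.not_mem_nil, or_false, not_or,
    List.nodup_nil, and_true, not_false_eq_true] at h h'
  obtain ⟨⟨h01, h0a, h0d⟩, ⟨h1a, h1d⟩, had⟩ := h
  obtain ⟨⟨-, h0a', h0d'⟩, ⟨h1a', h1d'⟩, had'⟩ := h'
  -- the permutation `k`
  set x : α := Equiv.swap a a' d with hx
  set k : Equiv.Perm α := Equiv.swap x d' * Equiv.swap a a' with hk
  have hxa' : x ≠ a' := by
    intro e
    have : Equiv.swap a a' x = Equiv.swap a a' a' := by rw [e]
    rw [hx, Equiv.swap_apply_self, Equiv.swap_apply_right] at this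
    exact had this.symm
  have hk0 : ∀ p : α, p ≠ a → p ≠ d → p ≠ a' → p ≠ d' → k p = p := by
    intro p hpa hpd hpa' hpd'
    have hpx : p ≠ x := by
      intro e
      have : Equiv.swap a a' p = Equiv.swap a a' x := by rw [e]
      rw [hx, Equiv.swap_apply_self, Equiv.swap_apply_of_ne_of_ne hpa hpa'] at this
      exact hpd this
    rw [hk, Equiv.Perm.mul_apply, Equiv.swap_apply_of_ne_of_ne hpa hpa',
      Equiv.swap_apply_of_ne_of_ne hpx hpd']
  have hka : k a = a' := by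
    rw [hk, Equiv.Perm.mul_apply, Equiv.swap_apply_left,
      Equiv.swap_apply_of_ne_of_ne hxa'.symm had']
  have hkd : k d = d' := by
    rw [hk, Equiv.Perm.mul_apply, ← hx, Equiv.swap_apply_left]
  -- two further points
  have hex : ∃ e f : α, e ≠ f ∧ (e ≠ p0 ∧ e ≠ p1 ∧ e ≠ a ∧ e ≠ d) ∧
      (f ≠ p0 ∧ f ≠ p1 ∧ f ≠ a ∧ f ≠ d) := by
    set T : Finset α := {p0, p1, a, d} with hT
    have hTc : T.card ≤ 4 := Finset.card_le_four
    have hcompl : 1 < Tᶜ.card := by
      rw [Finset.card_compl]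
      omega
    obtain ⟨e, he, f, hf, hef⟩ := Finset.one_lt_card.mp hcompl
    rw [Finset.mem_compl, hT] at he hf
    simp only [Finset.mem_insert, Finset.mem_singleton, not_or] at he hf
    exact ⟨e, f, hef, he, hf⟩
  obtain ⟨e, f, hef, ⟨he0, he1, hea, hed⟩, ⟨hf0, hf1, hfa, hfd⟩⟩ := hex
  rcases Int.units_eq_one_or (Equiv.Perm.sign k) with hs | hs
  · exact ⟨k, Equiv.Perm.mem_alternatingGroup.mpr hs, hk0 p0 h0a h0d h0a' h0d',
      hk0 p1 h1a h1d h1a' h1d', hka, hkd⟩
  · refine ⟨k * Equiv.swap e f, ?_, ?_, ?_, ?_, ?_⟩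
    · rw [Equiv.Perm.mem_alternatingGroup, Equiv.Perm.sign_mul, hs, Equiv.Perm.sign_swap hef]
      rfl
    · rw [Equiv.Perm.mul_apply, Equiv.swap_apply_of_ne_of_ne he0.symm hf0.symm]
      exact hk0 p0 h0a h0d h0a' h0d'
    · rw [Equiv.Perm.mul_apply, Equiv.swap_apply_of_ne_of_ne he1.symm hf1.symm]
      exact hk0 p1 h1a h1d h1a' h1d'
    · rw [Equiv.Perm.mul_apply, Equiv.swap_apply_of_ne_of_ne hea.symm hfa.symm]
      exact hka
    · rw [Equiv.Perm.mul_apply, Equiv.swap_apply_of_ne_of_ne hed.symm hfd.symm]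
      exact hkd

end Cfsg.Agent.Helper38.AltStem
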