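import Mathlib
import Cfsg.Agent.Helper44.AltSylDefs

/-!
# (A1) for S2221 (helper44, WANTED #8296)
-/

set_option autoImplicit false

namespace Cfsg.Agent.Helper38.AltSyl

open Cfsg.Agent.Helper44.AltSyl

/-- (A1) -/
theorem one_mem_bits_iff (n : ℕ) : 1 ∈ bits n ↔ (n % 4 = 2 ∨ n % 4 = 3) := by
  rw [mem_bits, Nat.testBit_eq_decide_div_mod_eq]
  simp only [pow_one, decide_eq_true_eq]
  omega

end Cfsg.Agent.Helper38.AltSyl
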