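import Mathlib
import Cfsg.Agent.Helper44.AltSylDefs

/-!
# (A2) for S2221 (helper44, WANTED #8296)
-/

set_option autoImplicit false

namespace Cfsg.Agent.Helper38.AltSyl

open Cfsg.Agent.Helper44.AltSyl

theorem filter_bits_eq_image (n : ℕ) :
    (bits n).filter (2 ≤ ·) = (bits (n / 4)).image (· + 2) := by
  ext i
  simp only [Finset.mem_filter, Finset.mem_image, mem_bits]
  constructor
  · rintro ⟨h1, h2⟩
    refine ⟨i - 2, ?_, by omega⟩
    have h4 : (4 : ℕ) = 2 ^ 2 := by norm_num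
    rw [h4, Nat.testBit_div_two_pow]
    have : i - 2 + 2 = i := by omega
    rw [this]; exact h1
  · rintro ⟨j, hj, rfl⟩
    have h4 : (4 : ℕ) = 2 ^ 2 := by norm_num
    rw [h4, Nat.testBit_div_two_pow] at hj
    exact ⟨hj, by omega⟩

/-- (A2) -/
theorem sum_filter_bits (n : ℕ) : ∑ i ∈ (bits n).filter (2 ≤ ·), 2 ^ i = 4 * (n / 4) := by
  rw [filter_bits_eq_image, Finset.sum_image (by intro a _ b _ h; simpa using h)]
  have : ∀ i ∈ bits (n / 4), 2 ^ (i + 2) = 4 * 2 ^ i := by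
    intro i _; rw [pow_add]; ring
  rw [Finset.sum_congr rfl this, ← Finset.mul_sum, sum_bits]

end Cfsg.Agent.Helper38.AltSyl
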