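import Mathlib

/-!
# (A3) for S2221 (helper44, WANTED #8296)
-/

set_option autoImplicit false

namespace Cfsg.Agent.Helper38.AltSyl

/-- (A3) -/
theorem card_eq_one_iff_two_pow (S : Finset ℕ) (hS : S.Nonempty) :
    S.card = 1 ↔ ∃ r : ℕ, ∑ i ∈ S, 2 ^ i = 2 ^ r := by
  constructor
  · intro h
    obtain ⟨a, rfl⟩ := Finset.card_eq_one.1 h
    exact ⟨a, by simp⟩
  · rintro ⟨r, hr⟩
    have h1 := Finset.toFinset_bitIndices_sum_two_pow S
    rw [hr, Nat.bitIndices_two_pow] at h1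
    rw [← h1]
    simp

end Cfsg.Agent.Helper38.AltSyl
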