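import Mathlib

/-!
# (M1) for S2221 (helper44, WANTED #8296): sign of a fibre-preserving permutation of a sigma type
-/

set_option autoImplicit false

namespace Cfsg.Agent.Helper38.AltSyl

open Equiv Equiv.Perm

theorem sigmaCongrRight_mulSingle {α : Type*} [Fintype α] [DecidableEq α] {β : α → Type*}
    [∀ a, Fintype (β a)] [∀ a, DecidableEq (β a)] (a : α) (τ : Equiv.Perm (β a)) :
    Equiv.Perm.sigmaCongrRight (Pi.mulSingle a τ : ∀ a, Equiv.Perm (β a))
      = Equiv.Perm.ofSubtype (p := fun s : Sigma β => s.1 = a)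
          ((Equiv.sigmaSubtype a).symm.permCongr τ) := by
  ext x : 1
  obtain ⟨b, y⟩ := x
  by_cases hb : b = a
  · subst hb
    rw [Equiv.Perm.ofSubtype_apply_of_mem (p := fun s : Sigma β => s.1 = b) _ (show (⟨b, y⟩ : Sigma β).1 = b from rfl)]
    simp [Equiv.Perm.sigmaCongrRight]
    rfl
  · rw [Equiv.Perm.ofSubtype_apply_of_not_mem (p := fun s : Sigma β => s.1 = a) _ (show ¬ (⟨b, y⟩ : Sigma β).1 = a from hb)]
    simp [Equiv.Perm.sigmaCongrRight, Pi.mulSingle_eq_of_ne hb]

theorem sign_sigmaCongrRight_mulSingle {α : Type*} [Fintype α] [DecidableEq α] {β : α → Type*}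
    [∀ a, Fintype (β a)] [∀ a, DecidableEq (β a)] (a : α) (τ : Equiv.Perm (β a)) :
    Equiv.Perm.sign (Equiv.Perm.sigmaCongrRight (Pi.mulSingle a τ : ∀ a, Equiv.Perm (β a)))
      = Equiv.Perm.sign τ := by
  rw [sigmaCongrRight_mulSingle, Equiv.Perm.sign_ofSubtype, Equiv.Perm.sign_permCongr]

/-- (M1) the sign of a permutation of a sigma type preserving the fibres -/
theorem sign_sigmaCongrRight {α : Type*} [Fintype α] [DecidableEq α] {β : α → Type*}
    [∀ a, Fintype (β a)] [∀ a, DecidableEq (β a)] (σ : ∀ a, Equiv.Perm (β a)) :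
    Equiv.Perm.sign (Equiv.Perm.sigmaCongrRight σ) = ∏ a, Equiv.Perm.sign (σ a) := by
  let f : (∀ a, Equiv.Perm (β a)) →* ℤˣ :=
    Equiv.Perm.sign.comp (Equiv.Perm.sigmaCongrRightHom β)
  let g : (∀ a, Equiv.Perm (β a)) →* ℤˣ :=
    { toFun := fun σ => ∏ a, Equiv.Perm.sign (σ a)
      map_one' := by simp
      map_mul' := fun σ τ => by simp [Finset.prod_mul_distrib] }
  have hfg : f = g := by
    apply MonoidHom.pi_ext
    intro a τ
    change Equiv.Perm.sign (Equiv.Perm.sigmaCongrRight (Pi.mulSingle a τ : ∀ a, Equiv.Perm (β a)))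
      = ∏ b, Equiv.Perm.sign ((Pi.mulSingle a τ : ∀ a, Equiv.Perm (β a)) b)
    rw [sign_sigmaCongrRight_mulSingle, Finset.prod_eq_single a]
    · rw [Pi.mulSingle_eq_same]
    · intro b _ hb
      rw [Pi.mulSingle_eq_of_ne hb, map_one]
    · intro h; exact absurd (Finset.mem_univ a) h
  exact DFunLike.congr_fun hfg σ

end Cfsg.Agent.Helper38.AltSyl
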