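import Mathlib
import Cfsg.Agent.Helper44.AltSylDefs

/-!
# (M3) for S2221 (helper44, WANTED #8296): Legendre's formula for `p = 2`
-/

set_option autoImplicit false

namespace Cfsg.Agent.Helper38.AltSyl

open Cfsg.Agent.Helper44.AltSyl

theorem digits_two_sum_eq_length_bitIndices (n : ℕ) :
    (Nat.digits 2 n).sum = n.bitIndices.length := by
  induction n using Nat.strong_induction_on with
  | _ n ih =>
    rcases Nat.eq_zero_or_pos n with rfl | hn
    · simp
    · have hlt : n / 2 < n := Nat.div_lt_self hn (by norm_num)
      rw [Nat.digits_def' (by norm_num) hn, List.sum_cons, ih _ hlt]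
      rcases Nat.mod_two_eq_zero_or_one n with h | h
      · have hn2 : n = 2 * (n / 2) := by omega
        conv_rhs => rw [hn2, Nat.bitIndices_two_mul, List.length_map]
        rw [h, zero_add]
      · have hn2 : n = 2 * (n / 2) + 1 := by omega
        conv_rhs => rw [hn2, Nat.bitIndices_two_mul_add_one, List.length_cons, List.length_map]
        rw [h, add_comm]

theorem card_bits (n : ℕ) : (bits n).card = (Nat.digits 2 n).sum := by
  rw [digits_two_sum_eq_length_bitIndices]
  unfold bits
  rw [List.toFinset_card_of_nodup Nat.bitIndices_nodup]

/-- (M3) Legendre's formula for `p = 2` -/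
theorem padicValNat_two_factorial (n : ℕ) :
    padicValNat 2 n.factorial = n - (bits n).card := by
  have h := @sub_one_mul_padicValNat_factorial 2 _ n
  rw [card_bits]
  simpa using h

end Cfsg.Agent.Helper38.AltSyl
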