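import Mathlib
import Cfsg.Agent.Helper35.Asch.Defs
import Cfsg.Agent.Helper93.AschT

/-!
# (Eabs) for S3401 (helper35, WANTED #8612): the abstract endgame, the sign argument.
-/

set_option autoImplicit false

namespace Cfsg.Agent.Helper38.Asch

open MulAction Cfsg.Agent.Helper35.Asch

/-- a fixed-point-free involution on a nonempty finite set `Φ`: `card Φ = 2 * k` and its sign is
`(-1) ^ k`. -/
theorem sign_of_fpf_involution {Φ : Type*} [Fintype Φ] [DecidableEq Φ] [Nonempty Φ]
    (σ : Equiv.Perm Φ) (h2 : σ ^ 2 = 1) (hf : ∀ x, σ x ≠ x) :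
    ∃ k : ℕ, Fintype.card Φ = 2 * k ∧ Equiv.Perm.sign σ = (-1) ^ k := by
  have hσ1 : σ ≠ 1 := by
    intro h
    obtain ⟨x⟩ := ‹Nonempty Φ›
    exact hf x (by rw [h]; rfl)
  have hord : orderOf σ = 2 := orderOf_eq_prime h2 hσ1
  have hprime : (orderOf σ).Prime := by rw [hord]; exact Nat.prime_two
  obtain ⟨n, hn⟩ := Equiv.Perm.cycleType_prime_order hprime
  rw [hord] at hn
  have hsupp : σ.support = Finset.univ := by
    ext x
    simp [Equiv.Perm.mem_support, hf x]
  have hsum : σ.cycleType.sum = Fintype.card Φ := by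
    rw [Equiv.Perm.sum_cycleType, hsupp, Finset.card_univ]
  refine ⟨n + 1, ?_, ?_⟩
  · rw [← hsum, hn, Multiset.sum_replicate, smul_eq_mul, mul_comm]
  · rw [Equiv.Perm.sign_of_cycleType, hn, Multiset.sum_replicate, Multiset.card_replicate,
      smul_eq_mul]
    have : (n + 1) * 2 + (n + 1) = 2 * (n + 1) + (n + 1) := by ring
    rw [this, pow_add, pow_mul]
    simp

/-- (Eabs) the abstract endgame: the sign argument. -/
theorem card_le_two_of_sign {B : Type*} [Group B] [Finite B] {Φ : Type*} [Fintype Φ]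
    [MulAction B Φ] (A Q : Subgroup B) [A.Normal] (hQA : Q ≤ A)
    (hQ : ∀ q ∈ Q, ∀ x : Φ, q • x = x) (t : B) (htA : t ∈ A) (ht2 : t * t ∈ Q)
    (htf : ∀ x : Φ, t • x ≠ x) (h2 : TwoTrans (⊤ : Subgroup B) Φ) (hA : Trans A Φ)
    (m : ℕ) (hm : Odd m) (hcard : Nat.card A = 2 * m * Nat.card Q) :
    Fintype.card Φ ≤ 2 := by
  classical
  rcases isEmpty_or_nonempty Φ with hΦ | hΦ
  · rw [Fintype.card_eq_zero]; omega
  obtain ⟨x⟩ := hΦ
  have hQpos : 0 < Nat.card Q := Nat.card_pos
  -- Step 1: `card Φ ∣ 2 * m`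
  have hQstab : Q ≤ stabIn A x := by
    intro q hq
    exact Subgroup.mem_inf.2 ⟨hQA hq, MulAction.mem_stabilizer_iff.2 (hQ q hq x)⟩
  have hos := Cfsg.Agent.Helper93.Asch.card_eq_card_mul hA x
  obtain ⟨c, hc⟩ := Subgroup.card_dvd_of_le hQstab
  have h2m : Fintype.card Φ * c = 2 * m := by
    have : Nat.card Q * (Fintype.card Φ * c) = Nat.card Q * (2 * m) := by
      rw [hcard, hc] at hos
      linarith [hos]
    exact Nat.eq_of_mul_eq_mul_left hQpos this
  -- Step 2: the sign of `t`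
  set σ : Equiv.Perm Φ := MulAction.toPermHom B Φ t with hσ
  have hσ2 : σ ^ 2 = 1 := by
    ext y
    have : (t * t) • y = y := hQ _ ht2 y
    rw [mul_smul] at this
    simpa [hσ, pow_two] using this
  have hσf : ∀ y, σ y ≠ y := fun y => by simpa [hσ] using htf y
  have : Nonempty Φ := ⟨x⟩
  obtain ⟨k, hk, hsign⟩ := sign_of_fpf_involution σ hσ2 hσf
  have hkm : k ∣ m := by
    have : 2 * k ∣ 2 * m := ⟨c, by rw [← hk]; exact h2m.symm⟩
    exact (Nat.mul_dvd_mul_iff_left (by norm_num)).1 this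
  have hkodd : Odd k := by
    obtain ⟨e, he⟩ := hkm
    rcases Nat.even_or_odd k with hke | hko
    · exfalso
      have : Even m := by rw [he]; exact hke.mul_right e
      exact (Nat.not_even_iff_odd.2 hm) this
    · exact hko
  have hsign' : Equiv.Perm.sign σ = -1 := by rw [hsign]; exact hkodd.neg_one_pow
  have hkpos : 1 ≤ k := by
    rcases hkodd with ⟨e, he⟩; omega
  -- the sign character
  set sg : B →* ℤˣ := Equiv.Perm.sign.comp (MulAction.toPermHom B Φ) with hsg
  have hsgt : sg t = -1 := hsign'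
  have hsgQ : ∀ q ∈ Q, sg q = 1 := by
    intro q hq
    have : MulAction.toPermHom B Φ q = 1 := by
      ext y
      simpa using hQ q hq y
    simp [hsg, this]
  -- Step 3: `A1 := A ⊓ ker sg`
  set A1 : Subgroup B := A ⊓ sg.ker with hA1
  have hA1A : A1 ≤ A := inf_le_left
  have hQA1 : Q ≤ A1 := fun q hq => Subgroup.mem_inf.2 ⟨hQA hq, (MonoidHom.mem_ker).2 (hsgQ q hq)⟩
  have hmemA1 : ∀ a : B, a ∈ A1 ↔ a ∈ A ∧ sg a = 1 := by
    intro a
    rw [hA1, Subgroup.mem_inf, MonoidHom.mem_ker]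
  have hA1normal : ∀ a ∈ A1, ∀ b : B, b * a * b⁻¹ ∈ A1 := by
    intro a ha b
    rw [hmemA1] at ha ⊢
    refine ⟨Subgroup.Normal.conj_mem inferInstance a ha.1 b, ?_⟩
    rw [map_mul, map_mul, map_inv, mul_comm, ← mul_assoc, inv_mul_cancel, one_mul]
    exact ha.2
  have hcases : ∀ a ∈ A, a ∈ A1 ∨ t⁻¹ * a ∈ A1 := by
    intro a ha
    rcases Int.units_eq_one_or (sg a) with h | h
    · exact Or.inl ((hmemA1 a).2 ⟨ha, h⟩)
    · refine Or.inr ((hmemA1 _).2 ⟨A.mul_mem (A.inv_mem htA) ha, ?_⟩)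
      rw [map_mul, map_inv, hsgt, h]
      simp
  -- index two
  have hidx : (A1.subgroupOf A).index = 2 := by
    rw [Subgroup.index_eq_two_iff]
    refine ⟨⟨t, htA⟩, fun b => ?_⟩
    have hb1 : b * ⟨t, htA⟩ ∈ A1.subgroupOf A ↔ sg ((b : B) * t) = 1 := by
      rw [Subgroup.mem_subgroupOf, hmemA1]
      constructor
      · intro h; exact h.2
      · intro h; exact ⟨A.mul_mem b.2 htA, h⟩
    have hb2 : b ∈ A1.subgroupOf A ↔ sg (b : B) = 1 := by
      rw [Subgroup.mem_subgroupOf, hmemA1]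
      constructor
      · intro h; exact h.2
      · intro h; exact ⟨b.2, h⟩
    rw [hb1, hb2, map_mul, hsgt]
    rcases Int.units_eq_one_or (sg (b : B)) with h | h
    · rw [h]; simp [Xor]
    · rw [h]; simp [Xor]
  have hcardA1 : Nat.card A1 = m * Nat.card Q := by
    have h1 := Subgroup.card_mul_index (A1.subgroupOf A)
    have h0 : Nat.card (A1.subgroupOf A) = Nat.card A1 :=
      Nat.card_congr (Subgroup.subgroupOfEquivOfLe hA1A).toEquiv
    rw [hidx, hcard, h0] at h1
    have : 2 * Nat.card A1 = 2 * (m * Nat.card Q) := by rw [mul_comm, h1]; ring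
    exact Nat.eq_of_mul_eq_mul_left (by norm_num) this
  -- Step 4: `A1` acts trivially
  have htriv : ∀ a1 ∈ A1, ∀ y : Φ, a1 • y = y := by
    by_contra hcon
    push Not at hcon
    obtain ⟨a1, ha1, y, hy⟩ := hcon
    have hT1 : Trans A1 Φ := by
      intro u v
      by_cases huv : u = v
      · exact ⟨1, A1.one_mem, by rw [one_smul, huv]⟩
      · obtain ⟨b, -, hb1, hb2⟩ := h2 (Ne.symm hy) huv
        refine ⟨b * a1 * b⁻¹, hA1normal a1 ha1 b, ?_⟩
        have : b⁻¹ • u = y := by rw [inv_smul_eq_iff, hb1]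
        rw [mul_smul, mul_smul, this, hb2]
    have hos1 := Cfsg.Agent.Helper93.Asch.card_eq_card_mul hT1 x
    have hQstab1 : Q ≤ stabIn A1 x := by
      intro q hq
      exact Subgroup.mem_inf.2 ⟨hQA1 hq, MulAction.mem_stabilizer_iff.2 (hQ q hq x)⟩
    obtain ⟨c1, hc1⟩ := Subgroup.card_dvd_of_le hQstab1
    have hm' : Fintype.card Φ * c1 = m := by
      have : Nat.card Q * (Fintype.card Φ * c1) = Nat.card Q * m := by
        rw [hcardA1, hc1] at hos1
        linarith [hos1]
      exact Nat.eq_of_mul_eq_mul_left hQpos this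
    have : Even m := by
      rw [← hm', hk]
      exact (even_two_mul k).mul_right c1
    exact (Nat.not_even_iff_odd.2 hm) this
  -- Step 5: `Φ ⊆ {x, t • x}`
  have hsub : (Finset.univ : Finset Φ) ⊆ {x, t • x} := by
    intro y _
    obtain ⟨a, ha, hay⟩ := hA x y
    rcases hcases a ha with h | h
    · rw [← hay, htriv a h x]; simp
    · have : a • x = t • x := by
        have h3 := htriv _ h x
        rw [mul_smul, inv_smul_eq_iff] at h3
        exact h3
      rw [← hay, this]; simp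
  calc Fintype.card Φ = (Finset.univ : Finset Φ).card := Finset.card_univ.symm
    _ ≤ ({x, t • x} : Finset Φ).card := Finset.card_le_card hsub
    _ ≤ 2 := Finset.card_le_two

end Cfsg.Agent.Helper38.Asch
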