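import Mathlib

/-!
# Brauer–Suzuki for `Q₈`: the lattice step

Abstract integer-vector combinatorics (Step 4 of helper66's proof, board post 1963).
Coefficient vectors are functions `ι → ℤ` on a finite index type `ι` (the index set of `Irr G`),
`o` is the index of the trivial character, `x i`, `y j` those of `X_i`, `Y_j`.
-/

namespace Cfsg.Agent.Helper38

open Finset

theorem int_abs_le_sq (a : ℤ) : |a| ≤ a ^ 2 := by
  rcases le_total 0 a with h | h
  · rw [abs_of_nonneg h]; nlinarith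
  · rw [abs_of_nonpos h]; nlinarith

theorem int_abs_sum3_le (a b c : ℤ) : |a + b + c| ≤ a ^ 2 + b ^ 2 + c ^ 2 := by
  have h1 := abs_add_le (a + b) c
  have h2 := abs_add_le a b
  have ha := int_abs_le_sq a
  have hb := int_abs_le_sq b
  have hc := int_abs_le_sq c
  linarith

/-- If `a² + b² + c² = |a + b + c|` then all of `a, b, c` lie in `{-1, 0, 1}`. -/
theorem int_tri_bound {a b c : ℤ} (h : a ^ 2 + b ^ 2 + c ^ 2 = |a + b + c|) :
    (-1 ≤ a ∧ a ≤ 1) ∧ (-1 ≤ b ∧ b ≤ 1) ∧ (-1 ≤ c ∧ c ≤ 1) := by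
  have h1 := abs_add_le (a + b) c
  have h2 := abs_add_le a b
  have ha := int_abs_le_sq a
  have hb := int_abs_le_sq b
  have hc := int_abs_le_sq c
  have ea : a ^ 2 = |a| := by linarith
  have eb : b ^ 2 = |b| := by linarith
  have ec : c ^ 2 = |c| := by linarith
  have key : ∀ t : ℤ, t ^ 2 = |t| → -1 ≤ t ∧ t ≤ 1 := by
    intro t ht
    rcases le_total 0 t with h | h
    · rw [abs_of_nonneg h] at ht
      constructor <;> nlinarith
    · rw [abs_of_nonpos h] at ht
      constructor <;> nlinarith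
  exact ⟨key a ea, key b eb, key c ec⟩

theorem int_tri_one {a b c d : ℤ} (hd : d = 1 ∨ d = -1)
    (h : a ^ 2 + b ^ 2 + c ^ 2 = |a + b + c|) (hs : a + b + c = -d) :
    (a = -d ∧ b = 0 ∧ c = 0) ∨ (a = 0 ∧ b = -d ∧ c = 0) ∨ (a = 0 ∧ b = 0 ∧ c = -d) := by
  obtain ⟨⟨a1, a2⟩, ⟨b1, b2⟩, ⟨c1, c2⟩⟩ := int_tri_bound h
  rw [hs] at h
  rcases hd with rfl | rfl <;> interval_cases a <;> interval_cases b <;> interval_cases c <;>
    simp_all

theorem int_tri_two {a b c e : ℤ} (he : e = 1 ∨ e = -1)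
    (h : a ^ 2 + b ^ 2 + c ^ 2 = |a + b + c|) (hs : a + b + c = -(2 * e)) :
    (a = 0 ∧ b = -e ∧ c = -e) ∨ (a = -e ∧ b = 0 ∧ c = -e) ∨ (a = -e ∧ b = -e ∧ c = 0) := by
  obtain ⟨⟨a1, a2⟩, ⟨b1, b2⟩, ⟨c1, c2⟩⟩ := int_tri_bound h
  rw [hs] at h
  rcases he with rfl | rfl <;> interval_cases a <;> interval_cases b <;> interval_cases c <;>
    simp_all

theorem int_tri_zero {a b c : ℤ}
    (h : a ^ 2 + b ^ 2 + c ^ 2 = |a + b + c|) (hs : a + b + c = 0) :
    a = 0 ∧ b = 0 ∧ c = 0 := by
  rw [hs, abs_zero] at h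
  refine ⟨?_, ?_, ?_⟩ <;> nlinarith [sq_nonneg a, sq_nonneg b, sq_nonneg c]

theorem fin3_col_one {f : Fin 3 → ℤ} {d : ℤ} (hd : d = 1 ∨ d = -1)
    (h : ∑ k, f k ^ 2 = |∑ k, f k|) (hs : ∑ k, f k = -d) :
    ∃ k0, ∀ k, f k = if k = k0 then -d else 0 := by
  rw [Fin.sum_univ_three, Fin.sum_univ_three] at h
  rw [Fin.sum_univ_three] at hs
  rcases int_tri_one hd h hs with ⟨h0, h1, h2⟩ | ⟨h0, h1, h2⟩ | ⟨h0, h1, h2⟩
  · refine ⟨0, fun k => ?_⟩
    fin_cases k <;> simp [h0, h1, h2]
  · refine ⟨1, fun k => ?_⟩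
    fin_cases k <;> simp [h0, h1, h2]
  · refine ⟨2, fun k => ?_⟩
    fin_cases k <;> simp [h0, h1, h2]

theorem fin3_col_two {f : Fin 3 → ℤ} {e : ℤ} (he : e = 1 ∨ e = -1)
    (h : ∑ k, f k ^ 2 = |∑ k, f k|) (hs : ∑ k, f k = -(2 * e)) :
    ∃ k0, ∀ k, f k = if k = k0 then 0 else -e := by
  rw [Fin.sum_univ_three, Fin.sum_univ_three] at h
  rw [Fin.sum_univ_three] at hs
  rcases int_tri_two he h hs with ⟨h0, h1, h2⟩ | ⟨h0, h1, h2⟩ | ⟨h0, h1, h2⟩
  · refine ⟨0, fun k => ?_⟩
    fin_cases k <;> simp [h0, h1, h2]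
  · refine ⟨1, fun k => ?_⟩
    fin_cases k <;> simp [h0, h1, h2]
  · refine ⟨2, fun k => ?_⟩
    fin_cases k <;> simp [h0, h1, h2]

theorem fin3_col_zero {f : Fin 3 → ℤ}
    (h : ∑ k, f k ^ 2 = |∑ k, f k|) (hs : ∑ k, f k = 0) :
    ∀ k, f k = 0 := by
  rw [Fin.sum_univ_three, Fin.sum_univ_three] at h
  rw [Fin.sum_univ_three] at hs
  obtain ⟨h0, h1, h2⟩ := int_tri_zero h hs
  intro k
  fin_cases k <;> simp [h0, h1, h2]

/-- A self-map of `Fin 3` all of whose fibres have exactly one element is bijective. -/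
theorem fin3_bijective_of_fibre {κ : Fin 3 → Fin 3}
    (h : ∀ k, ∑ i, (if κ i = k then (1 : ℤ) else 0) = 1) : Function.Bijective κ := by
  have hsurj : Function.Surjective κ := by
    intro k
    by_contra hk
    push Not at hk
    have := h k
    simp [hk] at this
  exact ⟨Finite.injective_iff_surjective.2 hsurj, hsurj⟩


section
variable {ι : Type*} [Fintype ι] [DecidableEq ι]
  (o : ι) (x y : Fin 3 → ι) (d e : Fin 3 → ℤ) (Θ : Fin 3 → ι → ℤ)

/-- the expected column sums -/
def bsS (z : ι) : ℤ :=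
  3 * (if z = o then 1 else 0) - (∑ i, if z = x i then d i else 0)
    - 2 * ∑ j, if z = y j then e j else 0

/-- absolute value of the expected column sums -/
def bsT (z : ι) : ℤ :=
  3 * (if z = o then 1 else 0) + (∑ i : Fin 3, if z = x i then 1 else 0)
    + 2 * ∑ j : Fin 3, if z = y j then 1 else 0

variable {o x y d e Θ}

theorem bsT_sum : ∑ z, bsT o x y z = 12 := by
  unfold bsT
  rw [Finset.sum_add_distrib, Finset.sum_add_distrib, ← Finset.mul_sum, ← Finset.mul_sum,
    Finset.sum_comm, Finset.sum_comm (s := univ) (t := univ) (f := fun z j => if z = y j then (1:ℤ) else 0)]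
  simp

omit [Fintype ι] in
theorem bs_abs_S (hx : Function.Injective x) (hy : Function.Injective y)
    (hxo : ∀ i, x i ≠ o) (hyo : ∀ j, y j ≠ o) (hxy : ∀ i j, x i ≠ y j)
    (hd : ∀ i, d i = 1 ∨ d i = -1) (he : ∀ j, e j = 1 ∨ e j = -1) (z : ι) :
    |bsS o x y d e z| = bsT o x y z := by
  unfold bsS bsT
  by_cases hzo : z = o
  · subst hzo
    have h1 : ∀ i, ¬ z = x i := fun i h => hxo i h.symm
    have h2 : ∀ j, ¬ z = y j := fun j h => hyo j h.symm
    simp [h1, h2]
  · by_cases hzx : ∃ i, z = x i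
    · obtain ⟨i, rfl⟩ := hzx
      have h2 : ∀ j, ¬ x i = y j := fun j => hxy i j
      have h3 : ∀ i', x i = x i' ↔ i = i' := fun i' => hx.eq_iff
      simp only [hzo, h2, h3, if_false, Finset.sum_ite_eq, Finset.mem_univ, if_true,
        Finset.sum_const_zero, mul_zero, zero_sub, sub_zero, zero_add, add_zero, abs_neg]
      rcases hd i with h | h <;> simp [h]
    · push Not at hzx
      by_cases hzy : ∃ j, z = y j
      · obtain ⟨j, rfl⟩ := hzy
        have h3 : ∀ j', y j = y j' ↔ j = j' := fun j' => hy.eq_iff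
        simp only [hzo, hzx, h3, if_false, Finset.sum_ite_eq, Finset.mem_univ, if_true,
          Finset.sum_const_zero, mul_zero, zero_sub, sub_zero, zero_add, add_zero, abs_neg,
          abs_mul]
        rcases he j with h | h <;> simp [h]
      · push Not at hzy
        simp [hzo, hzx, hzy]

end


section
variable {ι : Type*} [Fintype ι] [DecidableEq ι]
  {o : ι} {x y : Fin 3 → ι} {d e : Fin 3 → ℤ} {Θ : Fin 3 → ι → ℤ}

/-- Column equality: `∑ₖ Θₖ(z)² = |∑ₖ Θₖ(z)|` for every `z`. -/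
theorem bs_col_eq (hx : Function.Injective x) (hy : Function.Injective y)
    (hxo : ∀ i, x i ≠ o) (hyo : ∀ j, y j ≠ o) (hxy : ∀ i j, x i ≠ y j)
    (hd : ∀ i, d i = 1 ∨ d i = -1) (he : ∀ j, e j = 1 ∨ e j = -1)
    (hnorm : ∀ k, ∑ z, Θ k z ^ 2 = 4)
    (hsum : ∀ z, ∑ k, Θ k z = bsS o x y d e z) (z : ι) :
    ∑ k, Θ k z ^ 2 = |∑ k, Θ k z| := by
  have hle : ∀ z, |∑ k, Θ k z| ≤ ∑ k, Θ k z ^ 2 := by
    intro z
    rw [Fin.sum_univ_three, Fin.sum_univ_three]
    exact int_abs_sum3_le _ _ _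
  have hs1 : ∑ z, |∑ k, Θ k z| = 12 := by
    rw [← bsT_sum (o := o) (x := x) (y := y)]
    refine Finset.sum_congr rfl fun z _ => ?_
    rw [hsum z, bs_abs_S hx hy hxo hyo hxy hd he]
  have hs2 : ∑ z, ∑ k, Θ k z ^ 2 = 12 := by
    rw [Finset.sum_comm]
    simp [hnorm]
  have := (Finset.sum_eq_sum_iff_of_le (s := Finset.univ) (fun z _ => hle z)).1 (hs1.trans hs2.symm)
  exact (this z (Finset.mem_univ z)).symm

/-- **Lattice step of Brauer–Suzuki for `Q₈`** (function form). -/
theorem bs_structure_fun (hx : Function.Injective x) (hy : Function.Injective y)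
    (hxo : ∀ i, x i ≠ o) (hyo : ∀ j, y j ≠ o) (hxy : ∀ i j, x i ≠ y j)
    (hd : ∀ i, d i = 1 ∨ d i = -1) (he : ∀ j, e j = 1 ∨ e j = -1)
    (hΘo : ∀ k, Θ k o = 1)
    (hnorm : ∀ k, ∑ z, Θ k z ^ 2 = 4)
    (horth : ∀ k, Θ k o + ∑ i, d i * Θ k (x i) = 0)
    (hsum : ∀ z, ∑ k, Θ k z = bsS o x y d e z) :
    ∃ κ γ : Fin 3 → Fin 3, Function.Bijective κ ∧ Function.Bijective γ ∧
      ∀ k z, Θ k z = (if z = o then 1 else 0)
        - (∑ i, if z = x i then (if κ i = k then d i else 0) else 0)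
        - ∑ j, if z = y j then (if γ j = k then 0 else e j) else 0 := by
  have hcol := bs_col_eq hx hy hxo hyo hxy hd he hnorm hsum
  have hSx : ∀ i, bsS o x y d e (x i) = - d i := by
    intro i
    have h2 : ∀ j, ¬ x i = y j := fun j => hxy i j
    have h3 : ∀ i', x i = x i' ↔ i = i' := fun i' => hx.eq_iff
    simp [bsS, hxo, h2, h3]
  have hSy : ∀ j, bsS o x y d e (y j) = - (2 * e j) := by
    intro j
    have h2 : ∀ i, ¬ y j = x i := fun i h => hxy i j h.symm
    have h3 : ∀ j', y j = y j' ↔ j = j' := fun j' => hy.eq_iff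
    simp [bsS, hyo, h2, h3]
  have hSz : ∀ z, z ≠ o → (∀ i, z ≠ x i) → (∀ j, z ≠ y j) → bsS o x y d e z = 0 := by
    intro z h1 h2 h3
    simp [bsS, h1, h2, h3]
  have hX : ∀ i, ∃ k0, ∀ k, Θ k (x i) = if k = k0 then - d i else 0 := fun i =>
    fin3_col_one (f := fun k => Θ k (x i)) (hd i) (hcol (x i)) (by rw [hsum, hSx])
  have hY : ∀ j, ∃ k0, ∀ k, Θ k (y j) = if k = k0 then 0 else - e j := fun j =>
    fin3_col_two (f := fun k => Θ k (y j)) (he j) (hcol (y j)) (by rw [hsum, hSy])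
  have hZ : ∀ z, z ≠ o → (∀ i, z ≠ x i) → (∀ j, z ≠ y j) → ∀ k, Θ k z = 0 := fun z h1 h2 h3 =>
    fin3_col_zero (f := fun k => Θ k z) (hcol z) (by rw [hsum, hSz z h1 h2 h3])
  choose κ hκ using hX
  choose γ hγ using hY
  -- the pointwise formula
  have hpt : ∀ k z, Θ k z = (if z = o then 1 else 0)
        - (∑ i, if z = x i then (if κ i = k then d i else 0) else 0)
        - ∑ j, if z = y j then (if γ j = k then 0 else e j) else 0 := by
    intro k z
    by_cases hzo : z = o
    · subst hzo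
      have h1 : ∀ i, ¬ z = x i := fun i h => hxo i h.symm
      have h2 : ∀ j, ¬ z = y j := fun j h => hyo j h.symm
      simp [h1, h2, hΘo]
    · by_cases hzx : ∃ i, z = x i
      · obtain ⟨i, rfl⟩ := hzx
        have h2 : ∀ j, ¬ x i = y j := fun j => hxy i j
        have h3 : ∀ i', x i = x i' ↔ i = i' := fun i' => hx.eq_iff
        rw [hκ i k]
        simp only [hzo, h2, h3, if_false, Finset.sum_ite_eq, Finset.mem_univ, if_true,
          Finset.sum_const_zero, zero_sub, sub_zero]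
        by_cases hk : k = κ i
        · simp [hk]
        · have : ¬ κ i = k := fun h => hk h.symm
          simp [hk, this]
      · push Not at hzx
        by_cases hzy : ∃ j, z = y j
        · obtain ⟨j, rfl⟩ := hzy
          have h3 : ∀ j', y j = y j' ↔ j = j' := fun j' => hy.eq_iff
          rw [hγ j k]
          simp only [hzo, hzx, h3, if_false, Finset.sum_ite_eq, Finset.mem_univ, if_true,
            Finset.sum_const_zero, zero_sub, sub_zero]
          by_cases hk : k = γ j
          · simp [hk]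
          · have : ¬ γ j = k := fun h => hk h.symm
            simp [hk, this]
        · push Not at hzy
          rw [hZ z hzo hzx hzy k]
          simp [hzo, hzx, hzy]
  -- κ is bijective
  have hκfib : ∀ k, ∑ i, (if κ i = k then (1 : ℤ) else 0) = 1 := by
    intro k
    have h := horth k
    rw [hΘo] at h
    have h2 : ∑ i, d i * Θ k (x i) = - ∑ i, (if κ i = k then (1 : ℤ) else 0) := by
      rw [← Finset.sum_neg_distrib]
      refine Finset.sum_congr rfl fun i _ => ?_
      rw [hκ i k]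
      by_cases hk : k = κ i
      · rcases hd i with h | h <;> simp [hk, h]
      · have : ¬ κ i = k := fun h => hk h.symm
        simp [hk, this]
    rw [h2] at h
    linarith
  have hκb := fin3_bijective_of_fibre hκfib
  -- γ is bijective
  have hγfib : ∀ k, ∑ j, (if γ j = k then (1 : ℤ) else 0) = 1 := by
    intro k
    have hsq : ∀ z, Θ k z ^ 2 = (if z = o then 1 else 0)
        + (∑ i, if z = x i then (if κ i = k then (1 : ℤ) else 0) else 0)
        + ∑ j, if z = y j then (if γ j = k then (0 : ℤ) else 1) else 0 := by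
      intro z
      by_cases hzo : z = o
      · subst hzo
        have h1 : ∀ i, ¬ z = x i := fun i h => hxo i h.symm
        have h2 : ∀ j, ¬ z = y j := fun j h => hyo j h.symm
        simp [h1, h2, hΘo]
      · by_cases hzx : ∃ i, z = x i
        · obtain ⟨i, rfl⟩ := hzx
          have h2 : ∀ j, ¬ x i = y j := fun j => hxy i j
          have h3 : ∀ i', x i = x i' ↔ i = i' := fun i' => hx.eq_iff
          rw [hκ i k]
          simp only [hzo, h2, h3, if_false, Finset.sum_ite_eq, Finset.mem_univ, if_true,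
            Finset.sum_const_zero, zero_add, add_zero]
          by_cases hk : k = κ i
          · rcases hd i with h | h <;> simp [hk, h]
          · have : ¬ κ i = k := fun h => hk h.symm
            simp [hk, this]
        · push Not at hzx
          by_cases hzy : ∃ j, z = y j
          · obtain ⟨j, rfl⟩ := hzy
            have h3 : ∀ j', y j = y j' ↔ j = j' := fun j' => hy.eq_iff
            rw [hγ j k]
            simp only [hzo, hzx, h3, if_false, Finset.sum_ite_eq, Finset.mem_univ, if_true,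
              Finset.sum_const_zero, zero_add, add_zero]
            by_cases hk : k = γ j
            · simp [hk]
            · have : ¬ γ j = k := fun h => hk h.symm
              rcases he j with h | h <;> simp [hk, this, h]
          · push Not at hzy
            rw [hZ z hzo hzx hzy k]
            simp [hzo, hzx, hzy]
    have h := hnorm k
    rw [Finset.sum_congr rfl (fun z _ => hsq z), Finset.sum_add_distrib, Finset.sum_add_distrib,
      Finset.sum_comm, Finset.sum_comm (s := univ) (t := univ)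
        (f := fun z j => if z = y j then (if γ j = k then (0 : ℤ) else 1) else 0)] at h
    simp only [Finset.sum_ite_eq', Finset.mem_univ, if_true, hκfib k] at h
    have h3 : ∑ j : Fin 3, ((if γ j = k then (1 : ℤ) else 0) + (if γ j = k then (0 : ℤ) else 1)) = 3 := by
      have : ∀ j : Fin 3, ((if γ j = k then (1 : ℤ) else 0) + (if γ j = k then (0 : ℤ) else 1)) = 1 := by
        intro j; by_cases hj : γ j = k <;> simp [hj]
      simp [this]
    rw [Finset.sum_add_distrib] at h3
    linarith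
  have hγb := fin3_bijective_of_fibre hγfib
  exact ⟨κ, γ, hκb, hγb, hpt⟩


/-- **Lattice step of Brauer–Suzuki for `Q₈`** (permutation form): there are permutations
`σ, c` of `Fin 3` with `Θₖ = 1 - d_{σ k} X_{σ k} - ∑_{j ≠ c k} e_j Y_j`. -/
theorem bs_structure (hx : Function.Injective x) (hy : Function.Injective y)
    (hxo : ∀ i, x i ≠ o) (hyo : ∀ j, y j ≠ o) (hxy : ∀ i j, x i ≠ y j)
    (hd : ∀ i, d i = 1 ∨ d i = -1) (he : ∀ j, e j = 1 ∨ e j = -1)
    (hΘo : ∀ k, Θ k o = 1)
    (hnorm : ∀ k, ∑ z, Θ k z ^ 2 = 4)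
    (horth : ∀ k, Θ k o + ∑ i, d i * Θ k (x i) = 0)
    (hsum : ∀ z, ∑ k, Θ k z = bsS o x y d e z) :
    ∃ σ c : Equiv.Perm (Fin 3), ∀ k z, Θ k z = (if z = o then 1 else 0)
        - (if z = x (σ k) then d (σ k) else 0)
        - ∑ j, if z = y j then (if j = c k then 0 else e j) else 0 := by
  obtain ⟨κ, γ, hκ, hγ, h⟩ := bs_structure_fun hx hy hxo hyo hxy hd he hΘo hnorm horth hsum
  refine ⟨(Equiv.ofBijective κ hκ).symm, (Equiv.ofBijective γ hγ).symm, fun k z => ?_⟩
  rw [h k z]
  congr 1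
  · congr 1
    by_cases hz : z = x ((Equiv.ofBijective κ hκ).symm k)
    · rw [if_pos hz, Finset.sum_eq_single ((Equiv.ofBijective κ hκ).symm k)]
      · rw [if_pos hz, if_pos]
        exact (Equiv.ofBijective κ hκ).apply_symm_apply k
      · intro i _ hi
        rw [hz, if_neg]
        exact fun h => hi (hx h).symm
      · intro h; exact absurd (Finset.mem_univ _) h
    · rw [if_neg hz]
      refine Finset.sum_eq_zero fun i _ => ?_
      by_cases hzi : z = x i
      · rw [if_pos hzi, if_neg]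
        intro hk
        apply hz
        rw [hzi, ← hk]
        congr 1
        exact ((Equiv.ofBijective κ hκ).symm_apply_apply i).symm
      · rw [if_neg hzi]
  · refine Finset.sum_congr rfl fun j _ => ?_
    by_cases hzj : z = y j
    · rw [if_pos hzj, if_pos hzj]
      by_cases hj : γ j = k
      · rw [if_pos hj, if_pos]
        rw [← hj]
        exact ((Equiv.ofBijective γ hγ).symm_apply_apply j).symm
      · rw [if_neg hj, if_neg]
        intro h
        apply hj
        rw [h]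
        exact (Equiv.ofBijective γ hγ).apply_symm_apply k
    · rw [if_neg hzj, if_neg hzj]

/-- Pairing a vector of the shape given by `bs_structure` with a weight vector `w`. -/
theorem bs_pairing {R : Type*} [CommRing R] (σ c : Equiv.Perm (Fin 3))
    (h : ∀ k z, Θ k z = (if z = o then 1 else 0)
        - (if z = x (σ k) then d (σ k) else 0)
        - ∑ j, if z = y j then (if j = c k then 0 else e j) else 0)
    (w : ι → R) (k : Fin 3) :
    ∑ z, (Θ k z : R) * w z = w o - (d (σ k) : R) * w (x (σ k))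
      - ((∑ j, (e j : R) * w (y j)) - (e (c k) : R) * w (y (c k))) := by
  have h1 : ∀ z, (Θ k z : R) * w z = (if z = o then w z else 0)
      - (if z = x (σ k) then (d (σ k) : R) * w z else 0)
      - ∑ j, if z = y j then (if j = c k then 0 else (e j : R) * w z) else 0 := by
    intro z
    rw [h k z]
    push_cast
    rw [sub_mul, sub_mul, Finset.sum_mul]
    congr 1
    · congr 1
      · split_ifs <;> simp
      · split_ifs <;> simp
    · refine Finset.sum_congr rfl fun j _ => ?_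
      split_ifs <;> simp
  rw [Finset.sum_congr rfl (fun z _ => h1 z), Finset.sum_sub_distrib, Finset.sum_sub_distrib,
    Finset.sum_comm]
  simp only [Finset.sum_ite_eq', Finset.mem_univ, if_true]
  congr 1
  rw [eq_sub_iff_add_eq, ← Finset.sum_erase_add _ _ (Finset.mem_univ (c k)),
    ← Finset.sum_erase_add (f := fun j => (e j : R) * w (y j)) _ (Finset.mem_univ (c k))]
  simp only [if_true, add_zero]
  congr 1
  refine Finset.sum_congr rfl fun j hj => ?_
  rw [if_neg (Finset.ne_of_mem_erase hj)]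

/-- **LINK** (helper66, post 1963): with a degree vector `w` (`w o = 1`, `Θₖ(1) = 0`,
`P(1) = 2`) there is a permutation `τ` with `e_{τ i} g_{τ i} = d_i f_i + 1`. -/
theorem bs_link (hx : Function.Injective x) (hy : Function.Injective y)
    (hxo : ∀ i, x i ≠ o) (hyo : ∀ j, y j ≠ o) (hxy : ∀ i j, x i ≠ y j)
    (hd : ∀ i, d i = 1 ∨ d i = -1) (he : ∀ j, e j = 1 ∨ e j = -1)
    (hΘo : ∀ k, Θ k o = 1)
    (hnorm : ∀ k, ∑ z, Θ k z ^ 2 = 4)
    (horth : ∀ k, Θ k o + ∑ i, d i * Θ k (x i) = 0)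
    (hsum : ∀ z, ∑ k, Θ k z = bsS o x y d e z)
    (w : ι → ℤ) (hwo : w o = 1) (hΘw : ∀ k, ∑ z, Θ k z * w z = 0)
    (hPw : ∑ j, e j * w (y j) = 2) :
    ∃ τ : Equiv.Perm (Fin 3), ∀ i, e (τ i) * w (y (τ i)) = d i * w (x i) + 1 := by
  obtain ⟨σ, c, h⟩ := bs_structure hx hy hxo hyo hxy hd he hΘo hnorm horth hsum
  refine ⟨σ.symm.trans c, fun i => ?_⟩
  have h1 := bs_pairing (R := ℤ) σ c h w (σ.symm i)
  simp only [Int.cast_id, Equiv.apply_symm_apply] at h1
  rw [hΘw, hwo, hPw] at h1
  simp only [Equiv.trans_apply]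
  linarith

/-- Sign consequence of the LINK: if all degrees are positive then `e_{τ i} = d_i`; so the
sign patterns of `d` and `e` agree up to a permutation. -/
theorem bs_link_sign (hx : Function.Injective x) (hy : Function.Injective y)
    (hxo : ∀ i, x i ≠ o) (hyo : ∀ j, y j ≠ o) (hxy : ∀ i j, x i ≠ y j)
    (hd : ∀ i, d i = 1 ∨ d i = -1) (he : ∀ j, e j = 1 ∨ e j = -1)
    (hΘo : ∀ k, Θ k o = 1)
    (hnorm : ∀ k, ∑ z, Θ k z ^ 2 = 4)
    (horth : ∀ k, Θ k o + ∑ i, d i * Θ k (x i) = 0)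
    (hsum : ∀ z, ∑ k, Θ k z = bsS o x y d e z)
    (w : ι → ℤ) (hwo : w o = 1) (hΘw : ∀ k, ∑ z, Θ k z * w z = 0)
    (hPw : ∑ j, e j * w (y j) = 2) (hwx : ∀ i, 0 < w (x i)) (hwy : ∀ j, 0 < w (y j)) :
    ∃ τ : Equiv.Perm (Fin 3), ∀ i, e (τ i) = d i ∧ e (τ i) * w (y (τ i)) = d i * w (x i) + 1 := by
  obtain ⟨τ, hτ⟩ := bs_link hx hy hxo hyo hxy hd he hΘo hnorm horth hsum w hwo hΘw hPw
  refine ⟨τ, fun i => ⟨?_, hτ i⟩⟩
  have h := hτ i
  have h1 := hwx i
  have h2 := hwy (τ i)
  rcases hd i with hd' | hd' <;> rcases he (τ i) with he' | he' <;> rw [hd', he'] at h ⊢ <;>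
    first | rfl | (exfalso; linarith)


end

end Cfsg.Agent.Helper38
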