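import Cfsg.Agent.Helper78.Brandt.ClassMat

/-!
# (B-GC2) of helper78's WANTED #6521 for S4607 (Brandt): the block algebra `k G ε` and the reduced
matrix of right multiplication by the block idempotent (helper38)
-/

set_option autoImplicit false

namespace Cfsg.Agent.Helper38.BrandtGC2

open Module Cfsg Cfsg.Agent.Helper78 Cfsg.Agent.Helper78.Brandt

universe u

variable {G : Type u} [Group G] [Fintype G] (M : Ideal AlgInt) [M.IsPrime]

/-- right multiplication by `ε` on the group algebra corresponds, under the coefficient
isomorphism, to the matrix `(g, x) ↦ ε.coeff (x⁻¹ * g)`. -/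
theorem finrank_range_mulRight_eq_rank {k : Type*} [Field k] (ε : MonoidAlgebra k G)
    (E : Matrix G G k) (hE : ∀ g x, E g x = ε.coeff (x⁻¹ * g)) :
    finrank k (LinearMap.range (LinearMap.mulRight k ε)) = E.rank := by
  classical
  let Θ : MonoidAlgebra k G ≃ₗ[k] (G → k) :=
    (MonoidAlgebra.coeffLinearEquiv k).trans (Finsupp.linearEquivFunOnFinite k k G)
  have hΘ : ∀ (a : MonoidAlgebra k G) (g : G), Θ a g = a.coeff g := fun a g => rfl
  have hcomm : E.mulVecLin.comp Θ.toLinearMap = Θ.toLinearMap.comp (LinearMap.mulRight k ε) := by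
    apply LinearMap.ext
    intro a
    funext g
    show (E.mulVec (Θ a)) g = Θ (a * ε) g
    rw [hΘ, coeff_mul_eq_sum, Matrix.mulVec, dotProduct]
    refine Finset.sum_congr rfl (fun x _ => ?_)
    rw [hE, hΘ, mul_comm]
  have hrange : LinearMap.range E.mulVecLin =
      (LinearMap.range (LinearMap.mulRight k ε)).map Θ.toLinearMap := by
    rw [← LinearMap.range_comp, ← hcomm, LinearMap.range_comp, LinearEquiv.range, Submodule.map_top]
  unfold Matrix.rank
  rw [hrange]
  exact (LinearEquiv.finrank_map_eq Θ _).symm

/-- **(B-GC2)** the block algebra `k G ε` and the reduced matrix. -/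
theorem finrank_leftSpace_epsB_eq_rank {B : Set (IrrCharacter G)} (hB : IsPBlock M B) :
    finrank (ResField M) (leftSpace (ResField M) (epsB M B)) =
      ((regMat B).map (resMap M)).rank := by
  have _ := hB
  apply finrank_range_mulRight_eq_rank
  intro g x
  rw [Matrix.map_apply, coeff_epsB]
  rfl

end Cfsg.Agent.Helper38.BrandtGC2
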