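import Mathlib
import Cfsg.Agent.Helper78.Brandt.Defs

/-!
# (B-R7) of helper78's WANTED #6424 for S4607 (Brandt): lifting data for one simple component
(helper38)
-/

set_option autoImplicit false

namespace Cfsg.Agent.Helper38.BrandtR7

open Module Cfsg.Agent.Helper78.Brandt

variable {k : Type*} [Field k] {A : Type*} [Ring A] [Algebra k A]

/-- **(B-R7)** lifting data for one simple component. -/
theorem exists_lifting_data [FiniteDimensional k A] {n : ℕ} [NeZero n]
    (J : Ideal A) [J.IsTwoSided] (hJ : ∃ N : ℕ, J ^ N = ⊥)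
    (φ : (A ⧸ J) ≃ₐ[k] Matrix (Fin n) (Fin n) k) :
    ∃ (e : A) (x y : Fin n → A) (I : Submodule k A), IsIdempotentElem e ∧
      φ (Ideal.Quotient.mk J e) = Matrix.single 0 0 1 ∧ e ≠ 0 ∧
      ∑ i, x i * e * y i = 1 ∧
      I ≤ cornerSpace k e ∧ I * I ≤ I ∧ (∃ N : ℕ, I ^ N = ⊥) ∧
      cornerSpace k e ≤ Submodule.span k {e} ⊔ I := by
  classical
  obtain ⟨N, hN⟩ := hJ
  have hnil : ∀ j ∈ J, IsNilpotent j := by
    intro j hj
    refine ⟨N, ?_⟩
    have h1 := Ideal.pow_mem_pow hj N
    rw [hN] at h1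
    exact (Submodule.mem_bot A).mp h1
  have hker : ∀ x ∈ RingHom.ker (Ideal.Quotient.mk J), IsNilpotent x := by
    intro x hx
    rw [Ideal.mk_ker] at hx
    exact hnil x hx
  have hmkJ : ∀ a : A, Ideal.Quotient.mk J a = 0 ↔ a ∈ J := fun a =>
    Ideal.Quotient.eq_zero_iff_mem
  have hsmul : ∀ (α : k) (a : A), Ideal.Quotient.mk J (α • a) = α • Ideal.Quotient.mk J a := by
    intro α a
    exact map_smul (Ideal.Quotient.mkₐ k J) α a
  -- (1) the idempotent
  have hE : IsIdempotentElem (φ.symm (Matrix.single 0 0 (1 : k))) := by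
    show φ.symm _ * φ.symm _ = φ.symm _
    rw [← map_mul, Matrix.single_mul_single_same, mul_one]
  obtain ⟨e, he, hee⟩ := exists_isIdempotentElem_eq_of_ker_isNilpotent (Ideal.Quotient.mk J) hker _
    (by rw [RingHom.mem_range]; exact Ideal.Quotient.mk_surjective _) hE
  have hφe : φ (Ideal.Quotient.mk J e) = Matrix.single 0 0 1 := by
    rw [hee, AlgEquiv.apply_symm_apply]
  have he0 : e ≠ 0 := by
    intro h0
    rw [h0, map_zero, map_zero] at hφe
    have h1 := congrFun (congrFun hφe 0) 0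
    rw [Matrix.single_apply_same, Matrix.zero_apply] at h1
    exact zero_ne_one h1
  -- (2) the elements x, y
  have hsurj : ∀ M : Matrix (Fin n) (Fin n) k, ∃ a : A, φ (Ideal.Quotient.mk J a) = M := by
    intro M
    obtain ⟨a, ha⟩ := Ideal.Quotient.mk_surjective (φ.symm M)
    exact ⟨a, by rw [ha, AlgEquiv.apply_symm_apply]⟩
  choose u hu using fun i : Fin n => hsurj (Matrix.single i 0 1)
  choose v hv using fun i : Fin n => hsurj (Matrix.single 0 i 1)
  have hs1 : φ (Ideal.Quotient.mk J (∑ i, u i * e * v i)) = 1 := by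
    rw [map_sum, map_sum]
    have h1 : ∀ i : Fin n, φ (Ideal.Quotient.mk J (u i * e * v i)) = Matrix.single i i 1 := by
      intro i
      rw [map_mul, map_mul, map_mul, map_mul, hu, hv, hφe, Matrix.single_mul_single_same,
        Matrix.single_mul_single_same, mul_one, mul_one]
    rw [Finset.sum_congr rfl (fun i _ => h1 i)]
    exact Matrix.sum_single_one
  have hs2 : 1 - ∑ i, u i * e * v i ∈ J := by
    rw [← hmkJ, map_sub, map_one]
    have h1 : Ideal.Quotient.mk J (∑ i, u i * e * v i) = 1 := by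
      apply φ.injective
      rw [hs1, map_one]
    rw [h1, sub_self]
  have hs3 : IsUnit (∑ i, u i * e * v i) := by
    have h1 := (hnil _ hs2).isUnit_one_sub
    rwa [sub_sub_cancel] at h1
  obtain ⟨su, hsu⟩ := hs3
  have hxy : ∑ i, ((↑su⁻¹ : A) * u i) * e * v i = 1 := by
    have h1 : ∀ i : Fin n, ((↑su⁻¹ : A) * u i) * e * v i = (↑su⁻¹ : A) * (u i * e * v i) := by
      intro i; simp only [mul_assoc]
    rw [Finset.sum_congr rfl (fun i _ => h1 i), ← Finset.mul_sum, ← hsu, Units.inv_mul]
  -- (3) the radical of the corner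
  have hecorner : e ∈ cornerSpace k e := mem_cornerSpace.2 ⟨e, by rw [he.eq, he.eq]⟩
  have hcorner_mul : ∀ a ∈ cornerSpace k e, ∀ b ∈ cornerSpace k e, a * b ∈ cornerSpace k e := by
    intro a ha b hb
    obtain ⟨a', rfl⟩ := mem_cornerSpace.1 ha
    obtain ⟨b', rfl⟩ := mem_cornerSpace.1 hb
    refine mem_cornerSpace.2 ⟨a' * e * (e * (b' * e)), ?_⟩
    have h1 : e * (b' * e) * e = e * (b' * e) := by
      rw [mul_assoc, mul_assoc, he.eq]
    rw [mul_assoc (a' * e), h1]
    simp only [mul_assoc]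
  refine ⟨e, fun i => (↑su⁻¹ : A) * u i, v, cornerSpace k e ⊓ J.restrictScalars k, he, hφe, he0,
    hxy, inf_le_left, ?_, ?_, ?_⟩
  · -- I * I ≤ I
    rw [Submodule.mul_le]
    intro a ha b hb
    refine ⟨hcorner_mul a ha.1 b hb.1, ?_⟩
    show a * b ∈ J
    exact J.mul_mem_left a hb.2
  · -- nilpotent
    refine ⟨N, ?_⟩
    have h1 : ∀ m : ℕ, (cornerSpace k e ⊓ J.restrictScalars k) ^ m ≤ (J ^ m).restrictScalars k := by
      intro m
      induction m with
      | zero =>
        intro a _
        show a ∈ J ^ 0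
        rw [Submodule.pow_zero, Ideal.one_eq_top]
        exact Submodule.mem_top
      | succ m ih =>
        rw [pow_succ, Submodule.mul_le]
        intro a ha b hb
        show a * b ∈ J ^ (m + 1)
        rw [Submodule.pow_succ]
        exact Ideal.mul_mem_mul (ih ha) hb.2
    rw [eq_bot_iff]
    intro a ha
    have h2 := h1 N ha
    have h3 : a ∈ J ^ N := h2
    rw [hN] at h3
    rw [Submodule.mem_bot] at h3 ⊢
    exact h3
  · -- the corner is local
    intro w hw
    obtain ⟨a, rfl⟩ := mem_cornerSpace.1 hw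
    set α : k := (φ (Ideal.Quotient.mk J a)) 0 0 with hα
    have h1 : φ (Ideal.Quotient.mk J (e * (a * e))) = φ (Ideal.Quotient.mk J (α • e)) := by
      rw [hsmul, map_smul, map_mul, map_mul, map_mul, map_mul, hφe, ← mul_assoc,
        Matrix.single_mul_mul_single, Matrix.smul_single, one_mul, mul_one, smul_eq_mul, mul_one]
    have h2 : e * (a * e) - α • e ∈ J := by
      rw [← hmkJ, map_sub, sub_eq_zero]
      exact φ.injective h1
    have h3 : e * (a * e) - α • e ∈ cornerSpace k e :=
      Submodule.sub_mem _ hw (Submodule.smul_mem _ _ hecorner)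
    have h4 : e * (a * e) = α • e + (e * (a * e) - α • e) := by abel
    rw [h4]
    exact Submodule.add_mem_sup (Submodule.smul_mem _ _ (Submodule.mem_span_singleton_self e))
      ⟨h3, h2⟩

end Cfsg.Agent.Helper38.BrandtR7
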