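-- helper38: S2500 part (5), leaf (IR): `SU_3(q)`, `q ≥ 3`, contains an element with irreducible characteristic
-- polynomial (adapted from `Cfsg.Agent.Helper38.exists_psu3_order_four`).
import Mathlib
import Cfsg.Agent.Helper38.Cov2P5.Defs
import Cfsg.Agent.Helper38.SU3Elts
import Cfsg.Agent.S2588

set_option autoImplicit false

namespace Cfsg.Agent.Helper38.P5

open Matrix Polynomial Module Cfsg.Agent.S2587 Cfsg.Agent.S2578 Cfsg.Agent.Helper45.GU
  Cfsg.Agent.Helper38.Cov2 Cfsg.Agent.Helper38

variable {F : Type*} [Field F] [Fintype F] {q : ℕ}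

/-- (IR) `SU_3(q)`, `q ≥ 3`, contains an element with irreducible characteristic polynomial -/
theorem exists_irr (hF : Fintype.card F = q ^ 2) (hq3 : 3 ≤ q) :
    ∃ s : ↥(Cfsg.SU 3 F q), Irreducible (mat s).charpoly := by
  classical
  obtain ⟨p, hpc⟩ := CharP.exists F
  have hp : Fact p.Prime := ⟨CharP.char_is_prime F p⟩
  obtain ⟨bar, hbar⟩ := exists_bar hF
  let K := FiniteField.Extension F p 3
  have : Fintype K := Fintype.ofFinite K
  have hcardK : Nat.card K = (q ^ 2) ^ 3 := by
    rw [FiniteField.natCard_extension, Nat.card_eq_fintype_card, hF]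
  have hfr : Module.finrank F K = 3 := FiniteField.finrank_extension F p 3
  let b : Module.Basis (Fin 3) F K := (Module.finBasis F K).reindex (finCongr hfr)
  obtain ⟨ζ, hζ⟩ := IsCyclic.exists_ofOrder_eq_natCard (α := Kˣ)
  have hcardU : Nat.card Kˣ = (q ^ 2) ^ 3 - 1 := by
    rw [Nat.card_units, hcardK]
  set R := q ^ 2 - q + 1 with hR
  have hR7 : 7 ≤ R := by
    have : q * 3 ≤ q * q := Nat.mul_le_mul_left q hq3
    have h2 : q ^ 2 = q * q := sq q
    omega
  have hpos : 0 < (q ^ 2) ^ 3 - 1 := by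
    have : 1 < (q ^ 2) ^ 3 := Nat.one_lt_pow (by norm_num) (Nat.one_lt_pow (by norm_num) (by omega))
    omega
  obtain ⟨u, hu⟩ := Cfsg.Agent.S2476.exists_orderOf_of_dvd ζ _ R hpos (hζ.trans hcardU)
    (su3_torus_dvd q (by omega))
  have huK : orderOf (u : K) = R := by rw [orderOf_units, hu]
  have huR : (u : K) ^ R = 1 := by rw [← huK]; exact pow_orderOf_eq_one _
  have hu0 : (u : K) ≠ 0 := Units.ne_zero u
  let ψ : K →ₐ[F] Matrix (Fin 3) (Fin 3) F := Algebra.leftMulMatrix b
  have hψinj : Function.Injective ψ := Algebra.leftMulMatrix_injective b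
  have hscal : ∀ μ : F, ψ (algebraMap F K μ) = μ • (1 : Matrix (Fin 3) (Fin 3) F) := by
    intro μ
    rw [AlgHom.commutes, Algebra.algebraMap_eq_smul_one]
  set A := ψ (u : K) with hA
  -- determinant
  have hdet : A.det = 1 := by
    have h1 := FiniteField.algebraMap_norm_eq_pow (K := F) (K' := K) (x := (u : K))
    rw [hcardK, Nat.card_eq_fintype_card, hF, cube_sub_one_div (q ^ 2) (by nlinarith),
      su3_norm_factor q (by omega), pow_mul, huR, one_pow] at h1
    have h2 : Algebra.norm F (u : K) = 1 := by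
      apply (algebraMap F K).injective
      rw [h1, map_one]
    rw [hA, ← h2, Algebra.norm_eq_matrix_det b]
  -- scalar powers
  have hcrit : ∀ j : ℕ, (∃ μ : F, A ^ j = μ • (1 : Matrix (Fin 3) (Fin 3) F)) ↔
      R ∣ j * (q ^ 2 - 1) := by
    intro j
    have hpow : A ^ j = ψ ((u : K) ^ j) := (map_pow ψ _ j).symm
    rw [hpow]
    constructor
    · rintro ⟨μ, hμ⟩
      rw [← hscal] at hμ
      have h1 := hψinj hμ
      have hμ0 : μ ≠ 0 := by
        rintro rfl
        rw [map_zero] at h1
        exact (pow_ne_zero j hu0) h1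
      rw [← huK]
      apply orderOf_dvd_of_pow_eq_one
      rw [pow_mul, h1, ← map_pow, ← hF, FiniteField.pow_card_sub_one_eq_one μ hμ0, map_one]
    · intro h
      have h2 : ((u : K) ^ j) ^ (Fintype.card F - 1) = 1 := by
        rw [← pow_mul, hF]
        rw [← huK] at h
        exact orderOf_dvd_iff_pow_eq_one.1 h
      obtain ⟨μ, hμ⟩ := exists_algebraMap_eq_of_pow_card_sub_one (F := F) _ h2
      exact ⟨μ, by rw [← hμ, hscal]⟩
  -- the Frobenius of order two on `K`
  have hKcard : Fintype.card K = (q ^ 3) ^ 2 := by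
    rw [← Nat.card_eq_fintype_card, hcardK, ← pow_mul, ← pow_mul]
  obtain ⟨Φ, hΦ⟩ := exists_bar hKcard
  have hΦi : Φ.comp (algebraMap F K) = (algebraMap F K).comp bar := by
    ext c
    simp only [RingHom.comp_apply, hΦ, hbar]
    rw [← map_pow]
    congr 1
    rw [show q ^ 3 = q ^ 2 * q by ring, pow_mul, ← hF, FiniteField.pow_card]
  have hΦu : Φ (u : K) = (u : K)⁻¹ := by
    rw [hΦ]
    apply eq_inv_of_mul_eq_one_left
    rw [← pow_succ, su3_cube_add_one q (by omega), pow_mul, huR, one_pow]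
  -- characteristic polynomials
  have hmapbar : A.map (fun x : F => x ^ q) = A.map bar := by
    ext i l
    simp only [Matrix.map_apply, hbar]
  set M := (A.map bar).transpose with hM
  have hMdet : M.det = 1 := by
    rw [hM, det_transpose]
    have := RingHom.map_det bar A
    rw [hdet, map_one] at this
    rw [← RingHom.mapMatrix_apply]
    exact this.symm
  have hBM : M⁻¹ * M = 1 := Matrix.nonsing_inv_mul M (by rw [hMdet]; exact isUnit_one)
  have hBchar : (M⁻¹).charpoly = -((A.charpoly).map bar).reverse := by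
    have h := charpoly_mul_C_det_of_mul_eq_one M M⁻¹ hBM
    rw [hMdet, map_one, mul_one, Fintype.card_fin, hM, Matrix.charpoly_transpose,
      Matrix.charpoly_map] at h
    rw [h]
    ring
  have hAu : Polynomial.aeval (u : K) A.charpoly = 0 := by
    apply hψinj
    rw [← Polynomial.aeval_algHom_apply, map_zero]
    exact Matrix.aeval_self_charpoly A
  have hBu : Polynomial.aeval (u : K) (M⁻¹).charpoly = 0 := by
    rw [hBchar, map_neg, neg_eq_zero, Polynomial.aeval_def]
    have : Invertible ((u : K)⁻¹) := invertibleOfNonzero (inv_ne_zero hu0)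
    have h1 : Polynomial.eval₂ (algebraMap F K) ((u : K)⁻¹) ((A.charpoly).map bar) = 0 := by
      rw [Polynomial.eval₂_map, ← hΦi, ← hΦu, ← Polynomial.hom_eval₂, ← Polynomial.aeval_def, hAu,
        map_zero]
    have h2 := (Polynomial.eval₂_reverse_eq_zero_iff (algebraMap F K) ((u : K)⁻¹)
      ((A.charpoly).map bar)).2 h1
    rw [invOf_eq_inv, inv_inv] at h2
    exact h2
  -- the minimal polynomial has degree three
  have hint : IsIntegral F (u : K) := Algebra.IsIntegral.isIntegral _
  have hdeg : (minpoly F (u : K)).natDegree = 3 := by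
    have h1 := minpoly.degree_dvd (K := F) hint
    rw [hfr] at h1
    rcases (Nat.dvd_prime Nat.prime_three).1 h1 with h | h
    · exfalso
      rw [minpoly.natDegree_eq_one_iff] at h
      obtain ⟨c, hc⟩ := h
      have hc0 : c ≠ 0 := by
        rintro rfl
        rw [map_zero] at hc
        exact hu0 hc.symm
      have h2 : (u : K) ^ (q ^ 2 - 1) = 1 := by
        rw [← hc, ← map_pow, ← hF, FiniteField.pow_card_sub_one_eq_one c hc0, map_one]
      have h3 : R ∣ q ^ 2 - 1 := by rw [← huK]; exact orderOf_dvd_of_pow_eq_one h2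
      have h4 : R ∣ Nat.gcd 3 (q + 1) := by
        rw [← su3_gcd_torus q (by omega)]
        exact Nat.dvd_gcd dvd_rfl h3
      have h5 : Nat.gcd 3 (q + 1) ≤ 3 := Nat.le_of_dvd (by norm_num) (Nat.gcd_dvd_left _ _)
      have h6 := Nat.le_of_dvd (Nat.gcd_pos_of_pos_left _ (by norm_num)) h4
      omega
    · exact h
  have hAmin : A.charpoly = minpoly F (u : K) :=
    Polynomial.eq_of_monic_of_dvd_of_natDegree_le (minpoly.monic hint) (Matrix.charpoly_monic A)
      (minpoly.dvd F _ hAu) (by
        rw [Matrix.charpoly_natDegree_eq_dim, Fintype.card_fin, hdeg])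
  have hBmin : (M⁻¹).charpoly = minpoly F (u : K) :=
    Polynomial.eq_of_monic_of_dvd_of_natDegree_le (minpoly.monic hint) (Matrix.charpoly_monic _)
      (minpoly.dvd F _ hBu) (by
        rw [Matrix.charpoly_natDegree_eq_dim, Fintype.card_fin, hdeg])
  have hconj : IsConj A ((A.map (fun x : F => x ^ q)).transpose)⁻¹ := by
    rw [hmapbar]
    apply isConj_of_charpoly_irreducible A _ (by rw [hAmin, hBmin])
    rw [hAmin]
    exact minpoly.irreducible hint

  have hirrA : Irreducible A.charpoly := by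
    rw [hAmin]
    exact minpoly.irreducible hint
  have hdet0 : A.det ≠ 0 := by rw [hdet]; exact one_ne_zero
  let A' : GL (Fin 3) F := Matrix.GeneralLinearGroup.mkOfDetNeZero A hdet0
  have hA' : (A' : Matrix (Fin 3) (Fin 3) F) = A := rfl
  obtain ⟨B, hB⟩ := (Cfsg.Agent.S2588.result hF A').2 (by rw [hA']; exact hconj)
  obtain ⟨c, hc⟩ := isConj_iff.1 hB
  have hBch : ((B : GL (Fin 3) F) : Matrix (Fin 3) (Fin 3) F).charpoly = A.charpoly := by
    rw [← hc, Units.val_mul, Units.val_mul, Matrix.coe_units_inv, Matrix.charpoly_units_conj c, hA']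
  have hdetB : (((B : GL (Fin 3) F) : Matrix (Fin 3) (Fin 3) F)).det = 1 := by
    rw [← hBch] at hirrA
    have h1 : ((B : GL (Fin 3) F) : Matrix (Fin 3) (Fin 3) F) =
        (c : Matrix (Fin 3) (Fin 3) F) * A * ((c⁻¹ : GL (Fin 3) F) : Matrix (Fin 3) (Fin 3) F) := by
      rw [← hc, Units.val_mul, Units.val_mul, hA']
    rw [h1, Matrix.det_mul, Matrix.det_mul, hdet, mul_one, ← Matrix.det_mul, ← Units.val_mul,
      mul_inv_cancel]
    exact Matrix.det_one
  let X : SpecialLinearGroup (Fin 3) F := ⟨((B : GL (Fin 3) F) : Matrix (Fin 3) (Fin 3) F), hdetB⟩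
  have hX : X ∈ Cfsg.SU 3 F q := fun u v => B.2 u v
  refine ⟨⟨X, hX⟩, ?_⟩
  show Irreducible ((B : GL (Fin 3) F) : Matrix (Fin 3) (Fin 3) F).charpoly
  rw [hBch]
  rw [hAmin]
  exact minpoly.irreducible hint

end Cfsg.Agent.Helper38.P5
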