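-- helper38: S2500 part (5): `SU_3(3^a)` is covered by the conjugates of two proper subgroups containing the centre
-- (the stabiliser of a nonisotropic point and the normaliser of a cyclic Singer-type subgroup); assembly of the farmed
-- leaves (farm #12545; skeleton `tools/helper38_s2500p5/Skel.lean.txt`).
import Mathlib
import Cfsg.Agent.Helper38.Cov2P5.Defs
import Cfsg.Agent.Helper59.Cov2P1
import Cfsg.Agent.Helper70.Cov2CONJ
import Cfsg.Agent.Helper53.Cov2Main
import Cfsg.Agent.Helper73.GURegUnip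
import Cfsg.Agent.Helper13.UIwa3
import Cfsg.Agent.Helper13.UFrames
import Cfsg.Agent.Helper38.SU3Gen
import Cfsg.Agent.Helper38.SU3Elts
import Cfsg.Agent.S2588
import Cfsg.Agent.Helper29.P5_EV
import Cfsg.Agent.Helper29.P5_NS
import Cfsg.Agent.Helper29.P5_PS
import Cfsg.Agent.Helper34.P5_NC
import Cfsg.Agent.Helper34.P5_WT
import Cfsg.Agent.Helper38.P5_IR
import Cfsg.Agent.Helper47.P5_RK
import Cfsg.Agent.Helper47.P5_UN
import Cfsg.Agent.Helper49.P5_BN
import Cfsg.Agent.Helper49.P5_CH3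
import Cfsg.Agent.Helper49.P5_HJ
import Cfsg.Agent.Helper49.P5_RC
import Cfsg.Agent.Helper50.P5_BO
import Cfsg.Agent.Helper50.P5_PF
import Cfsg.Agent.Helper55.P5_G3
import Cfsg.Agent.Helper55.P5_NZ
import Cfsg.Agent.Helper63.P5_IT
import Cfsg.Agent.Helper63.P5_P2
import Cfsg.Agent.Helper75.P5_GU
import Cfsg.Agent.Helper75.P5_HB
import Cfsg.Agent.Helper76.P5_SC
import Cfsg.Agent.Helper87.Cov2P5IF
import Cfsg.Agent.Helper87.P5_P6
import Cfsg.Agent.Helper97.P5_CZ
import Cfsg.Agent.Helper97.P5_HT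

set_option autoImplicit false

namespace Cfsg.Agent.Helper38.Cov2

open Matrix Polynomial Module Cfsg.Agent.S2587 Cfsg.Agent.S2578 Cfsg.Agent.Helper45.GU
  Cfsg.Agent.Helper43.Cov2

variable {F : Type*} [Field F] [Fintype F] {q : ℕ}

/-! ## Glue -/

/-- `GL`-conjugate elements of `SU_3(3^a)` are `SU_3`-conjugate -/
theorem conj_of_GL_conj (a : ℕ) (ha : 1 ≤ a) (hq : q = 3 ^ a) (hF : Fintype.card F = q ^ 2)
    (bar : F →+* F) (hbar : ∀ x, bar x = x ^ q) (A B : ↥(Cfsg.SU 3 F q))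
    (y : Matrix (Fin 3) (Fin 3) F) (hy : IsUnit y.det) (h : y * mat A = mat B * y) :
    ∃ x : ↥(Cfsg.SU 3 F q), x * A * x⁻¹ = B := by
  obtain ⟨Y, hYU, hY⟩ := Cfsg.Agent.Helper75.P5.exists_unitary_conj hF bar hbar A B y hy h
  obtain ⟨x, μ, hμ, hx⟩ := Cfsg.Agent.Helper76.P5.exists_su_smul a ha hq bar hbar Y hYU
  refine ⟨x, ?_⟩
  have h1 : x * A = B * x := by
    apply mat_injective
    rw [mat_mul, mat_mul, hx, Matrix.smul_mul, hY, Matrix.mul_smul]
  rw [h1, mul_inv_cancel_right]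

/-- the normaliser of `⟨s⟩` is proper -/
theorem normalizer_zpowers_ne_top (hF : Fintype.card F = q ^ 2) (hq3 : 3 ≤ q)
    (s : ↥(Cfsg.SU 3 F q)) (hs : Irreducible (mat s).charpoly) :
    Subgroup.normalizer (Subgroup.zpowers s : Set ↥(Cfsg.SU 3 F q)) ≠ ⊤ := by
  intro htop
  have hperf : commutator ↥(Cfsg.SU 3 F q) = ⊤ :=
    Cfsg.Agent.Helper13.commutator_SU_eq_top hF le_rfl (by omega)
  have hc := Cfsg.Agent.Helper50.P5.mem_center_of_normalizer_zpowers_eq_top hperf s htop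
  obtain ⟨μ, hμ⟩ := (Cfsg.Agent.Helper38.mem_center_su_iff hF le_rfl s).1 hc
  apply Cfsg.Agent.Helper29.P5.not_irreducible_charpoly_smul_one μ
  rw [← hμ]
  exact hs

/-- a unitary matrix of determinant one in characteristic three with an eigenvector, all of whose
eigenvectors are isotropic, is regular unipotent -/
theorem regUnip_of_eigen [CharP F 3] (hF : Fintype.card F = q ^ 2) (bar : F →+* F)
    (hbar : ∀ x, bar x = x ^ q) (A : Matrix (Fin 3) (Fin 3) F) (hU : st bar A * A = 1)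
    (hdet : A.det = 1) (w : Fin 3 → F) (lam : F) (hw0 : w ≠ 0) (hAw : A *ᵥ w = lam • w)
    (hiso : ∀ (v : Fin 3 → F) (μ : F), v ≠ 0 → A *ᵥ v = μ • v → herm bar v v = 0) :
    IsRegUnipMat A := by
  have hw := hiso w lam hw0 hAw
  obtain ⟨P, P', hPP', hP'P, hPJ, hPe⟩ := Cfsg.Agent.Helper75.P5.exists_hyp_basis hF bar hbar w hw0 hw
  obtain ⟨B, hBdef⟩ : ∃ B : Matrix (Fin 3) (Fin 3) F, B = P' * A * P := ⟨_, rfl⟩
  have hPB : P * B = A * P := by
    rw [hBdef, ← mul_assoc, ← mul_assoc, hPP', one_mul]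
  have hA : A = P * B * P' := by rw [hPB, mul_assoc, hPP', mul_one]
  rw [hA]
  apply Cfsg.Agent.Helper49.P5.isRegUnipMat_of_conj P P' B hPP' hP'P
  have hst : st bar P' * st bar P = 1 := by rw [← st_mul, hPP', st_one]
  apply Cfsg.Agent.Helper50.P5.borel_regUnip bar B ?_ ?_ lam ?_ ?_
  · rw [hBdef, st_mul, st_mul, ← hPJ]
    calc st bar P * (st bar A * st bar P') * (st bar P * P) * (P' * A * P)
        = st bar P * st bar A * ((st bar P' * st bar P) * (P * P')) * A * P := by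
          simp only [mul_assoc]
      _ = st bar P * (st bar A * A) * P := by
          rw [hst, hPP', one_mul, mul_one]
          simp only [mul_assoc]
      _ = st bar P * P := by rw [hU, mul_one]
  · rw [hBdef, det_mul, det_mul, hdet, mul_one, ← det_mul, hP'P, det_one]
  · rw [hBdef, ← mulVec_mulVec, ← mulVec_mulVec, hPe, hAw, mulVec_smul, ← hPe, mulVec_mulVec, hP'P,
      one_mulVec]
  · intro v μ hv hBv
    have h1 : A *ᵥ (P *ᵥ v) = μ • (P *ᵥ v) := by
      rw [mulVec_mulVec, ← hPB, ← mulVec_mulVec, hBv, mulVec_smul]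
    have hPv : P *ᵥ v ≠ 0 := by
      intro h0
      apply hv
      have h2 := congrArg (fun x => P' *ᵥ x) h0
      simp only [mulVec_mulVec, hP'P, one_mulVec, mulVec_zero] at h2
      exact h2
    have h3 := hiso _ μ hPv h1
    rwa [Cfsg.Agent.Helper49.P5.herm_mulVec_J0 bar P hPJ] at h3

/-- (A) the trichotomy -/
theorem trichotomy [CharP F 3] (hF : Fintype.card F = q ^ 2) (bar : F →+* F)
    (hbar : ∀ x, bar x = x ^ q) (g : ↥(Cfsg.SU 3 F q)) :
    (∃ (v : Fin 3 → F) (μ : F), herm bar v v ≠ 0 ∧ mat g *ᵥ v = μ • v) ∨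
      Irreducible (mat g).charpoly ∨ IsRegUnipMat (mat g) := by
  by_cases h1 : ∃ (v : Fin 3 → F) (μ : F), herm bar v v ≠ 0 ∧ mat g *ᵥ v = μ • v
  · exact Or.inl h1
  by_cases h2 : Irreducible (mat g).charpoly
  · exact Or.inr (Or.inl h2)
  right
  right
  obtain ⟨w, lam, hw0, hw⟩ := Cfsg.Agent.Helper29.P5.exists_eigen_of_not_irreducible (mat g) h2
  refine regUnip_of_eigen hF bar hbar (mat g) (mat_isU bar hbar g) (mat_det g) w lam hw0 hw ?_
  intro v μ _ hv
  by_contra hne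
  exact h1 ⟨v, μ, hne, hv⟩

/-- (B) an element with a nonisotropic eigenvector is conjugate into the point stabiliser -/
theorem conj_into_ptStab (a : ℕ) (ha : 1 ≤ a) (hq : q = 3 ^ a) (hF : Fintype.card F = q ^ 2)
    (bar : F →+* F) (hbar : ∀ x, bar x = x ^ q) (g : ↥(Cfsg.SU 3 F q)) (v : Fin 3 → F) (lam : F)
    (hv : herm bar v v ≠ 0) (hg : mat g *ᵥ v = lam • v) :
    ∃ x : ↥(Cfsg.SU 3 F q), x * g * x⁻¹ ∈ ptStab F q := by
  obtain ⟨Y, c, hc, hYU, hYv⟩ := Cfsg.Agent.Helper34.P5.exists_unitary_map_e0 hF bar hbar v hv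
  obtain ⟨x, μ, hμ, hx⟩ := Cfsg.Agent.Helper76.P5.exists_su_smul a ha hq bar hbar Y hYU
  refine ⟨x, Cfsg.Agent.Helper29.P5.ptStab_of_eigen x g v lam (μ * c) (mul_ne_zero hμ hc) ?_ hg⟩
  rw [hx, Matrix.smul_mulVec, hYv, smul_smul]

/-- (INV) on the image of a cubic extension generated by a unitary element with irreducible
characteristic polynomial, the adjoint is `z ↦ z ^ (q ^ 3)` -/
theorem st_algHom_eq (hF : Fintype.card F = q ^ 2) (bar : F →+* F)
    (hbar : ∀ x, bar x = x ^ q) {E : Type*} [Field E] [Algebra F E] [Finite E]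
    (hE : finrank F E = 3) (ψ : E →ₐ[F] Matrix (Fin 3) (Fin 3) F) (e₀ : E)
    (hU : st bar (ψ e₀) * ψ e₀ = 1) (hirr : Irreducible (ψ e₀).charpoly) (z : E) :
    st bar (ψ z) = ψ (z ^ q ^ 3) := by
  classical
  obtain ⟨τ, hτ⟩ := Cfsg.Agent.Helper63.P5.exists_ringHom_st hF bar hbar hE ψ e₀ hU hirr
  have hψinj : Function.Injective ψ := ψ.toRingHom.injective
  have hbar2 : ∀ x, bar (bar x) = x := by
    intro x
    rw [hbar, hbar, ← pow_mul, ← sq, ← hF, FiniteField.pow_card]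
  have hτ2 : ∀ z, τ (τ z) = z := by
    intro z
    apply hψinj
    rw [hτ, hτ, st_st bar hbar2]
  have hτne : ∃ z, τ z ≠ z := by
    obtain ⟨c, hc⟩ := Cfsg.Agent.Helper49.P5.exists_bar_ne hF bar hbar
    refine ⟨algebraMap F E c, fun h => hc ?_⟩
    have h1 : ψ (τ (algebraMap F E c)) = ψ (algebraMap F E (bar c)) := by
      rw [hτ, AlgHom.commutes, AlgHom.commutes, Algebra.algebraMap_eq_smul_one,
        Algebra.algebraMap_eq_smul_one, st_smul, st_one]
    have h2 := hψinj h1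
    rw [h] at h2
    exact ((algebraMap F E).injective h2).symm
  have : Fintype E := Fintype.ofFinite E
  have hcard : Fintype.card E = (q ^ 3) ^ 2 := by
    have h1 := Module.card_eq_pow_finrank (K := F) (V := E)
    rw [h1, hE, hF]
    ring
  rw [← hτ, Cfsg.Agent.Helper87.Cov2.involution_eq_pow (q ^ 3) hcard τ hτ2 hτne z]

/-- (D2) an element with irreducible characteristic polynomial is conjugate to an element
commuting with `s` -/
theorem conj_commute (a : ℕ) (ha : 1 ≤ a) (hq : q = 3 ^ a) (hF : Fintype.card F = q ^ 2)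
    (bar : F →+* F) (hbar : ∀ x, bar x = x ^ q) (s g : ↥(Cfsg.SU 3 F q))
    (hs : Irreducible (mat s).charpoly) (hg : Irreducible (mat g).charpoly) :
    ∃ x : ↥(Cfsg.SU 3 F q), (x * g * x⁻¹) * s = s * (x * g * x⁻¹) := by
  classical
  obtain ⟨p, hp⟩ := CharP.exists F
  have : Fact p.Prime := ⟨CharP.char_is_prime F p⟩
  let E := FiniteField.Extension F p 3
  have hfr : finrank F E = 3 := FiniteField.finrank_extension F p 3
  obtain ⟨ψg, eg, hψg⟩ :=
    Cfsg.Agent.Helper59.Cov2.exists_algHom_of_irreducible_charpoly (E := E) hfr (mat g) hg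
  obtain ⟨ψs, es, hψs⟩ :=
    Cfsg.Agent.Helper59.Cov2.exists_algHom_of_irreducible_charpoly (E := E) hfr (mat s) hs
  have hψginj : Function.Injective ψg := ψg.toRingHom.injective
  have hUg : st bar (ψg eg) * ψg eg = 1 := by rw [hψg]; exact mat_isU bar hbar g
  have hUs : st bar (ψs es) * ψs es = 1 := by rw [hψs]; exact mat_isU bar hbar s
  have hirrg : Irreducible (ψg eg).charpoly := by rw [hψg]; exact hg
  have hirrs : Irreducible (ψs es).charpoly := by rw [hψs]; exact hs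
  have h1 : eg ^ q ^ 3 * eg = 1 := by
    apply hψginj
    rw [map_mul, map_one, ← st_algHom_eq hF bar hbar hfr ψg eg hUg hirrg eg]
    exact hUg
  obtain ⟨θ, hθ⟩ : ∃ θ : Matrix (Fin 3) (Fin 3) F, θ = ψs eg := ⟨_, rfl⟩
  have hθU : st bar θ * θ = 1 := by
    rw [hθ, st_algHom_eq hF bar hbar hfr ψs es hUs hirrs eg, ← map_mul, h1, map_one]
  have hθs : θ * mat s = mat s * θ := by
    rw [hθ, ← hψs, ← map_mul, ← map_mul, mul_comm]
  have haev : aeval θ (mat g).charpoly = 0 := by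
    have h2 : aeval eg (mat g).charpoly = 0 := by
      apply hψginj
      rw [← Polynomial.aeval_algHom_apply, hψg, map_zero]
      exact Matrix.aeval_self_charpoly (mat g)
    rw [hθ, Polynomial.aeval_algHom_apply, h2, map_zero]
  obtain ⟨y, hy, hyc⟩ := Cfsg.Agent.Helper70.Cov2.exists_conj_of_aeval_eq_zero (mat g).charpoly hg
    θ (mat g) haev (Matrix.aeval_self_charpoly _)
  have hdetθ : θ.det = 1 := by
    have h3 := congrArg Matrix.det hyc
    rw [det_mul, det_mul, mat_det, mul_one] at h3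
    have hy0 : y.det ≠ 0 := hy.ne_zero
    have h4 : θ.det * y.det = 1 * y.det := by rw [one_mul, ← h3]
    exact mul_right_cancel₀ hy0 h4
  obtain ⟨t, ht⟩ := exists_mat_eq bar hbar θ hθU hdetθ
  obtain ⟨x, hx⟩ := conj_of_GL_conj a ha hq hF bar hbar g t y hy (by rw [ht]; exact hyc)
  refine ⟨x, ?_⟩
  rw [hx]
  apply mat_injective
  rw [mat_mul, mat_mul, ht]
  exact hθs

/-- (D3) the normaliser of `⟨s⟩` contains a regular unipotent element -/
theorem exists_regUnip_normalizer [CharP F 3] (a : ℕ) (ha : 1 ≤ a) (hq : q = 3 ^ a)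
    (hF : Fintype.card F = q ^ 2) (bar : F →+* F) (hbar : ∀ x, bar x = x ^ q)
    (s : ↥(Cfsg.SU 3 F q)) (hs : Irreducible (mat s).charpoly) :
    ∃ d : ↥(Cfsg.SU 3 F q), d ∈ Subgroup.normalizer (Subgroup.zpowers s : Set ↥(Cfsg.SU 3 F q)) ∧
      IsRegUnipMat (mat d) := by
  have hch : (mat (s ^ (q ^ 2))).charpoly = (mat s).charpoly := by
    rw [mat_pow, ← hF]
    exact FiniteField.Matrix.charpoly_pow_card (mat s)
  obtain ⟨y, hy, hyc⟩ := Cfsg.Agent.Helper70.Cov2.exists_conj_of_aeval_eq_zero (mat s).charpoly hs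
    (mat (s ^ (q ^ 2))) (mat s) (by rw [← hch]; exact Matrix.aeval_self_charpoly _)
    (Matrix.aeval_self_charpoly _)
  obtain ⟨d₀, hd₀⟩ := conj_of_GL_conj a ha hq hF bar hbar s (s ^ (q ^ 2)) y hy hyc
  have hs6 : s ^ ((q ^ 2) ^ 3) = s := by
    apply mat_injective
    rw [mat_pow]
    exact Cfsg.Agent.Helper87.P5.pow_card_pow_three hF (mat s) hs
  obtain ⟨d, k, hdk, hds⟩ := Cfsg.Agent.Helper55.P5.exists_three_power_conj s d₀ (q ^ 2) hd₀ hs6
  refine ⟨d, Cfsg.Agent.Helper55.P5.mem_normalizer_zpowers s d (q ^ 2) hds, ?_⟩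
  have hD : mat d * mat s = mat s ^ (q ^ 2) * mat d := by
    rw [← mat_pow, ← mat_mul, ← mat_mul, ← hds]
    congr 1
    group
  have h1 := Cfsg.Agent.Helper47.P5.two_le_rank_sub_one (mat d) (mat s) (mat s ^ (q ^ 2)) hD (Cfsg.Agent.Helper63.P5.isUnit_pow_sub hF (mat s) hs)
  have h2 := Cfsg.Agent.Helper47.P5.unipotent_of_pow (mat d) k (by rw [← mat_pow, hdk, mat_one])
  exact ⟨h2.1, by omega⟩

/-- (C) regular unipotent elements of `SU_3(3^a)` are conjugate -/
theorem conj_regUnip (a : ℕ) (ha : 1 ≤ a) (hq : q = 3 ^ a) (hF : Fintype.card F = q ^ 2)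
    (bar : F →+* F) (hbar : ∀ x, bar x = x ^ q) (g d : ↥(Cfsg.SU 3 F q))
    (hg : IsRegUnipMat (mat g)) (hd : IsRegUnipMat (mat d)) :
    ∃ x : ↥(Cfsg.SU 3 F q), x * g * x⁻¹ = d := by
  have hconj := isConj_of_isRegUnipMat (Matrix.SpecialLinearGroup.toGL g.1)
    (Matrix.SpecialLinearGroup.toGL d.1) hg hd
  obtain ⟨c, hc⟩ := isConj_iff.1 hconj
  refine conj_of_GL_conj a ha hq hF bar hbar g d (c : Matrix (Fin 3) (Fin 3) F) ?_ ?_
  · exact (Matrix.isUnit_iff_isUnit_det _).1 c.isUnit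
  · have h1 : c * Matrix.SpecialLinearGroup.toGL g.1 = Matrix.SpecialLinearGroup.toGL d.1 * c := by
      rw [← hc]
      group
    exact congrArg Units.val h1

/-- **S2500 part (5).** -/
theorem part5 {F : Type*} [Field F] [Fintype F] (q a : ℕ) (hF : Fintype.card F = q ^ 2)
    (ha : 1 ≤ a) (hq : q = 3 ^ a) : Cover2Z (Cfsg.SU 3 F q) := by
  classical
  obtain ⟨bar, hbar⟩ := exists_bar hF
  have hch : CharP F 3 := Cfsg.Agent.Helper49.P5.charP_three a hF ha hq
  have hq3 : 3 ≤ q := by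
    rw [hq]
    calc 3 = 3 ^ 1 := by norm_num
      _ ≤ 3 ^ a := Nat.pow_le_pow_right (by norm_num) ha
  obtain ⟨s, hs⟩ := Cfsg.Agent.Helper38.P5.exists_irr hF hq3
  refine ⟨ptStab F q, Subgroup.normalizer (Subgroup.zpowers s : Set ↥(Cfsg.SU 3 F q)),
    Cfsg.Agent.Helper97.P5.center_le_ptStab hF, ?_,
    Cfsg.Agent.Helper97.P5.ptStab_ne_top bar hbar, normalizer_zpowers_ne_top hF hq3 s hs, ?_⟩
  · exact Subgroup.center_le_normalizer _
  intro g
  rcases trichotomy hF bar hbar g with ⟨v, μ, hv, hgv⟩ | hirr | hreg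
  · obtain ⟨x, hx⟩ := conj_into_ptStab a ha hq hF bar hbar g v μ hv hgv
    exact ⟨x, Or.inl hx⟩
  · obtain ⟨x, hx⟩ := conj_commute a ha hq hF bar hbar s g hs hirr
    exact ⟨x, Or.inr (Cfsg.Agent.Helper34.P5.mem_normalizer_of_commute s _ hx)⟩
  · obtain ⟨d, hd, hdreg⟩ := exists_regUnip_normalizer a ha hq hF bar hbar s hs
    obtain ⟨x, hx⟩ := conj_regUnip a ha hq hF bar hbar g d hreg hdreg
    exact ⟨x, Or.inr (by rw [hx]; exact hd)⟩

end Cfsg.Agent.Helper38.Cov2
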