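import Mathlib
import Cfsg.Agent.Helper38.MackeyTwo

/-!
# `SLₙ(F)`, `n ≥ 3`: the stabiliser of a point of projective space and its linear characters
-/

set_option autoImplicit false

namespace Cfsg.Agent.Helper38

open Matrix Cfsg
open scoped ComplexConjugate LinearAlgebra.Projectivization

section sln
variable {F : Type*} [Field F] {m : ℕ}

/-- the first basis vector -/
def e0 (F : Type*) [Field F] (m : ℕ) : Fin (m + 3) → F := Pi.single 0 1

/-- the second basis vector -/
def e1 (F : Type*) [Field F] (m : ℕ) : Fin (m + 3) → F := Pi.single 1 1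

theorem e0_ne_zero : e0 F m ≠ 0 := by
  intro h
  have := congrFun h 0
  simp [e0] at this

theorem e1_ne_zero : e1 F m ≠ 0 := by
  intro h
  have := congrFun h 1
  simp [e1] at this

theorem smul_e0 (g : SpecialLinearGroup (Fin (m + 3)) F) :
    g • e0 F m = fun i => g.1 i 0 := by
  rw [Matrix.SpecialLinearGroup.smul_def, smul_eq_mulVec, e0, mulVec_single_one]
  rfl

theorem apply_zero_zero_of_smul {g : SpecialLinearGroup (Fin (m + 3)) F} {c : F}
    (h : g • e0 F m = c • e0 F m) : g.1 0 0 = c := by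
  rw [smul_e0] at h
  have := congrFun h 0
  simpa [e0] using this

theorem smul_ne_zero_of_ne_zero (g : SpecialLinearGroup (Fin (m + 3)) F) {v : Fin (m + 3) → F}
    (hv : v ≠ 0) : g • v ≠ 0 := (smul_ne_zero_iff_ne g).mpr hv

theorem eig_ne_zero {g : SpecialLinearGroup (Fin (m + 3)) F} {c : F} {v : Fin (m + 3) → F}
    (hv : v ≠ 0) (h : g • v = c • v) : c ≠ 0 := by
  rintro rfl
  rw [zero_smul] at h
  exact smul_ne_zero_of_ne_zero g hv h

theorem eig_mul {g h : SpecialLinearGroup (Fin (m + 3)) F} {c d : F} {v : Fin (m + 3) → F}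
    (hg : g • v = c • v) (hh : h • v = d • v) : (g * h) • v = (c * d) • v := by
  rw [mul_smul, hh, smul_comm, hg, smul_smul, mul_comm]

theorem smul_inv_of_smul {y : SpecialLinearGroup (Fin (m + 3)) F} {t : F} {u w : Fin (m + 3) → F}
    (ht : t ≠ 0) (h : y • u = t • w) : y⁻¹ • w = t⁻¹ • u := by
  have : w = t⁻¹ • (y • u) := by rw [h, smul_smul, inv_mul_cancel₀ ht, one_smul]
  rw [this, smul_comm, inv_smul_smul]

theorem conj_eig {y D : SpecialLinearGroup (Fin (m + 3)) F} {t d : F} {u w : Fin (m + 3) → F}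
    (ht : t ≠ 0) (hy : y • u = t • w) (hD : D • u = d • u) :
    (y * D * y⁻¹) • w = d • w := by
  rw [mul_smul, mul_smul, smul_inv_of_smul ht hy, smul_comm D, hD, smul_comm y, smul_comm y, hy,
    smul_smul, smul_smul]
  congr 1
  field_simp

/-- the point `[e₀]` of projective space -/
noncomputable def pt0 (F : Type*) [Field F] (m : ℕ) : ℙ F (Fin (m + 3) → F) :=
  Projectivization.mk F (e0 F m) e0_ne_zero

/-- the point `[e₁]` of projective space -/
noncomputable def pt1 (F : Type*) [Field F] (m : ℕ) : ℙ F (Fin (m + 3) → F) :=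
  Projectivization.mk F (e1 F m) e1_ne_zero

theorem pt0_ne_pt1 : pt0 F m ≠ pt1 F m := by
  intro h
  unfold pt0 pt1 at h
  rw [Projectivization.mk_eq_mk_iff'] at h
  obtain ⟨a, ha⟩ := h
  have := congrFun ha 0
  simp [e0, e1] at this

/-- the stabiliser of the point `[e₀]` -/
noncomputable def ptStab (F : Type*) [Field F] (m : ℕ) :
    Subgroup (SpecialLinearGroup (Fin (m + 3)) F) :=
  MulAction.stabilizer (SpecialLinearGroup (Fin (m + 3)) F) (pt0 F m)

theorem smul_pt0 (g : SpecialLinearGroup (Fin (m + 3)) F) :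
    g • pt0 F m = Projectivization.mk F (g • e0 F m) (smul_ne_zero_of_ne_zero g e0_ne_zero) := rfl

theorem mem_ptStab_iff (g : SpecialLinearGroup (Fin (m + 3)) F) :
    g ∈ ptStab F m ↔ ∃ c : F, g • e0 F m = c • e0 F m := by
  unfold ptStab
  rw [MulAction.mem_stabilizer_iff, smul_pt0]
  unfold pt0
  rw [Projectivization.mk_eq_mk_iff']
  constructor
  · rintro ⟨a, ha⟩
    exact ⟨a, ha.symm⟩
  · rintro ⟨c, hc⟩
    exact ⟨c, hc.symm⟩

theorem smul_e0_of_mem {g : SpecialLinearGroup (Fin (m + 3)) F} (hg : g ∈ ptStab F m) :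
    g • e0 F m = (g.1 0 0) • e0 F m := by
  obtain ⟨c, hc⟩ := (mem_ptStab_iff g).1 hg
  rw [apply_zero_zero_of_smul hc, hc]

theorem apply_zero_zero_ne_zero {g : SpecialLinearGroup (Fin (m + 3)) F} (hg : g ∈ ptStab F m) :
    g.1 0 0 ≠ 0 := eig_ne_zero e0_ne_zero (smul_e0_of_mem hg)

/-- the linear character `b ↦ α(b₀₀)` of the point stabiliser -/
noncomputable def thetaP (α : MulChar F ℂ) : ptStab F m →* ℂ where
  toFun b := α (b.1.1 0 0)
  map_one' := by simp
  map_mul' a b := by
    have h := eig_mul (smul_e0_of_mem a.2) (smul_e0_of_mem b.2)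
    have h2 : ((a * b : ptStab F m) : SpecialLinearGroup (Fin (m + 3)) F).1 0 0
        = a.1.1 0 0 * b.1.1 0 0 := apply_zero_zero_of_smul h
    rw [h2, map_mul]

theorem thetaP_apply (α : MulChar F ℂ) (b : ptStab F m) : thetaP α b = α (b.1.1 0 0) := rfl

theorem thetaP_of_smul (α : MulChar F ℂ) {g : SpecialLinearGroup (Fin (m + 3)) F} {c : F}
    (h : g • e0 F m = c • e0 F m) (hg : g ∈ ptStab F m) : thetaP α ⟨g, hg⟩ = α c := by
  rw [thetaP_apply, apply_zero_zero_of_smul h]

theorem thetaP_one (b : ptStab F m) : thetaP (1 : MulChar F ℂ) b = 1 := by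
  rw [thetaP_apply, MulChar.one_apply (apply_zero_zero_ne_zero b.2).isUnit]

end sln

end Cfsg.Agent.Helper38
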