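import Mathlib
import Cfsg.Agent.Helper38.SLnPoint

/-!
# `SLₙ(F)`, `n ≥ 3`: transitivity facts
-/

set_option autoImplicit false

namespace Cfsg.Agent.Helper38

open Matrix Cfsg
open scoped ComplexConjugate LinearAlgebra.Projectivization

section sln
variable {F : Type*} [Field F] {m : ℕ}

theorem fin02 : (0 : Fin (m + 3)) ≠ 2 := by
  intro h
  have := congrArg Fin.val h
  rw [Fin.val_zero] at this
  have h2 : ((2 : Fin (m + 3)) : ℕ) = 2 := by
    change 2 % (m + 3) = 2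
    exact Nat.mod_eq_of_lt (by omega)
  omega

theorem fin12 : (1 : Fin (m + 3)) ≠ 2 := by
  intro h
  have := congrArg Fin.val h
  have h1 : ((1 : Fin (m + 3)) : ℕ) = 1 := by
    change 1 % (m + 3) = 1
    exact Nat.mod_eq_of_lt (by omega)
  have h2 : ((2 : Fin (m + 3)) : ℕ) = 2 := by
    change 2 % (m + 3) = 2
    exact Nat.mod_eq_of_lt (by omega)
  omega

theorem fin01 : (0 : Fin (m + 3)) ≠ 1 := by
  intro h
  have := congrArg Fin.val h
  have h1 : ((1 : Fin (m + 3)) : ℕ) = 1 := by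
    change 1 % (m + 3) = 1
    exact Nat.mod_eq_of_lt (by omega)
  rw [Fin.val_zero] at this
  omega

theorem diag2n_smul_single {i j : Fin (m + 3)} (hij : i ≠ j) (a : F) (ha : a ≠ 0)
    (k : Fin (m + 3)) :
    SpecialLinearGroup.diag2n hij a ha • (Pi.single k 1 : Fin (m + 3) → F)
      = (if k = i then a else if k = j then a⁻¹ else 1) • (Pi.single k 1 : Fin (m + 3) → F) := by
  rw [Matrix.SpecialLinearGroup.smul_def, smul_eq_mulVec, SpecialLinearGroup.diag2n_coe,
    diagonal_mulVec_single, mul_one]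
  ext l
  by_cases hl : l = k
  · subst hl; simp
  · simp [hl]

/-- the diagonal element with entries `a, d, (ad)⁻¹, 1, …, 1` -/
noncomputable def dg3 (a d : F) (ha : a ≠ 0) (hd : d ≠ 0) :
    SpecialLinearGroup (Fin (m + 3)) F :=
  SpecialLinearGroup.diag2n (fin02 (m := m)) a ha * SpecialLinearGroup.diag2n (fin12 (m := m)) d hd

theorem dg3_smul_e0 (a d : F) (ha : a ≠ 0) (hd : d ≠ 0) :
    dg3 (m := m) a d ha hd • e0 F m = a • e0 F m := by
  have h01 : (0 : Fin (m + 3)) ≠ 1 := fin01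
  have h02 : (0 : Fin (m + 3)) ≠ 2 := fin02
  unfold dg3 e0
  rw [mul_smul, diag2n_smul_single, if_neg h01, if_neg h02, one_smul, diag2n_smul_single,
    if_pos rfl]

theorem dg3_smul_e1 (a d : F) (ha : a ≠ 0) (hd : d ≠ 0) :
    dg3 (m := m) a d ha hd • e1 F m = d • e1 F m := by
  have h10 : (1 : Fin (m + 3)) ≠ 0 := fun h => fin01 h.symm
  have h12 : (1 : Fin (m + 3)) ≠ 2 := fin12
  unfold dg3 e1
  rw [mul_smul, diag2n_smul_single, if_pos rfl, smul_comm, diag2n_smul_single, if_neg h10,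
    if_neg h12, one_smul]

theorem dg3_mem (a d : F) (ha : a ≠ 0) (hd : d ≠ 0) : dg3 (m := m) a d ha hd ∈ ptStab F m :=
  (mem_ptStab_iff _).2 ⟨a, dg3_smul_e0 a d ha hd⟩

/-- `SLₙ` is transitive on the non-zero vectors -/
theorem exists_smul_e0_eq {v : Fin (m + 3) → F} (hv : v ≠ 0) :
    ∃ x : SpecialLinearGroup (Fin (m + 3)) F, x • e0 F m = v := by
  have htr : MulAction.IsPretransitive (SpecialLinearGroup (Fin (m + 3)) F)
      (ℙ F (Fin (m + 3) → F)) := MulAction.isPretransitive_of_is_two_pretransitive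
  obtain ⟨g, hg⟩ := MulAction.exists_smul_eq (SpecialLinearGroup (Fin (m + 3)) F) (pt0 F m)
    (Projectivization.mk F v hv)
  rw [smul_pt0, Projectivization.mk_eq_mk_iff'] at hg
  obtain ⟨a, ha⟩ := hg
  have ha0 : a ≠ 0 := by
    rintro rfl
    rw [zero_smul] at ha
    exact smul_ne_zero_of_ne_zero g e0_ne_zero ha.symm
  refine ⟨g * dg3 a⁻¹ 1 (inv_ne_zero ha0) one_ne_zero, ?_⟩
  rw [mul_smul, dg3_smul_e0, smul_comm, ← ha, smul_smul, inv_mul_cancel₀ ha0, one_smul]

/-- the separating elements for Mackey's criterion -/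
theorem exists_sep (a d : F) (ha : a ≠ 0) (hd : d ≠ 0) {x : SpecialLinearGroup (Fin (m + 3)) F}
    (hx : x ∉ ptStab F m) :
    ∃ b₀ : SpecialLinearGroup (Fin (m + 3)) F, b₀ • e0 F m = a • e0 F m ∧
      (x⁻¹ * b₀ * x) • e0 F m = d • e0 F m := by
  have h2 : MulAction.IsMultiplyPretransitive (SpecialLinearGroup (Fin (m + 3)) F)
      (ℙ F (Fin (m + 3) → F)) 2 := inferInstance
  rw [MulAction.is_two_pretransitive_iff] at h2
  have hw0 : x • e0 F m ≠ 0 := smul_ne_zero_of_ne_zero x e0_ne_zero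
  have hne : pt0 F m ≠ Projectivization.mk F (x • e0 F m) hw0 := by
    intro h
    apply hx
    unfold ptStab
    rw [MulAction.mem_stabilizer_iff, smul_pt0]
    exact h.symm
  obtain ⟨y, hy0, hy1⟩ := h2 (pt0_ne_pt1 (F := F) (m := m)) hne
  rw [smul_pt0] at hy0
  unfold pt0 at hy0
  rw [Projectivization.mk_eq_mk_iff'] at hy0
  obtain ⟨s, hs⟩ := hy0
  have hs0 : s ≠ 0 := by
    rintro rfl
    rw [zero_smul] at hs
    exact smul_ne_zero_of_ne_zero y e0_ne_zero hs.symm
  have hy1' : Projectivization.mk F (y • e1 F m) (smul_ne_zero_of_ne_zero y e1_ne_zero)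
      = Projectivization.mk F (x • e0 F m) hw0 := hy1
  rw [Projectivization.mk_eq_mk_iff'] at hy1'
  obtain ⟨t, ht⟩ := hy1'
  have ht0 : t ≠ 0 := by
    rintro rfl
    rw [zero_smul] at ht
    exact smul_ne_zero_of_ne_zero y e1_ne_zero ht.symm
  refine ⟨y * dg3 a d ha hd * y⁻¹, ?_, ?_⟩
  · exact conj_eig hs0 hs.symm (dg3_smul_e0 a d ha hd)
  · rw [mul_smul, mul_smul, conj_eig ht0 ht.symm (dg3_smul_e1 a d ha hd), smul_comm,
      inv_smul_smul]

end sln

end Cfsg.Agent.Helper38
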