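import Mathlib
import Cfsg.Agent.Helper38.SLnTrans

/-!
# `SLₙ(F)`, `n ≥ 3`: the abelian group of transvections with centre `e₀`
-/

set_option autoImplicit false

namespace Cfsg.Agent.Helper38

open Matrix Cfsg
open scoped LinearAlgebra.Projectivization

section sln
variable {F : Type*} [Field F] {m : ℕ}

/-- the vectors with vanishing first coordinate -/
def rowSub (F : Type*) [Field F] (m : ℕ) : Submodule F (Fin (m + 3) → F) where
  carrier := {r | r 0 = 0}
  add_mem' := by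
    intro a b ha hb
    simp only [Set.mem_ofPred_eq, Pi.add_apply] at *
    rw [ha, hb, add_zero]
  zero_mem' := rfl
  smul_mem' := by
    intro c a ha
    simp only [Set.mem_ofPred_eq, Pi.smul_apply, smul_eq_mul] at *
    rw [ha, mul_zero]

theorem mem_rowSub (r : Fin (m + 3) → F) : r ∈ rowSub F m ↔ r 0 = 0 := Iff.rfl

theorem dot_e0 (r : Fin (m + 3) → F) : r ⬝ᵥ e0 F m = r 0 := by
  unfold e0
  rw [dotProduct_single, mul_one]

/-- the matrix `1 + e₀ rᵀ` -/
def Tmat (r : Fin (m + 3) → F) : Matrix (Fin (m + 3)) (Fin (m + 3)) F :=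
  1 + vecMulVec (e0 F m) r

theorem det_Tmat (r : Fin (m + 3) → F) (hr : r 0 = 0) : (Tmat r).det = 1 := by
  unfold Tmat
  rw [vecMulVec_eq (ι := Fin 1), det_one_add_replicateCol_mul_replicateRow, dot_e0, hr, add_zero]

/-- the transvection `1 + e₀ rᵀ` as an element of `SLₙ` -/
def Tsl (r : rowSub F m) : SpecialLinearGroup (Fin (m + 3)) F :=
  ⟨Tmat r.1, det_Tmat r.1 r.2⟩

theorem Tsl_coe (r : rowSub F m) : (Tsl r).1 = 1 + vecMulVec (e0 F m) r.1 := rfl

theorem Tsl_zero : Tsl (0 : rowSub F m) = 1 := by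
  apply Subtype.ext
  rw [Tsl_coe]
  simp

theorem Tsl_add (r r' : rowSub F m) : Tsl (r + r') = Tsl r * Tsl r' := by
  apply Subtype.ext
  rw [Matrix.SpecialLinearGroup.coe_mul, Tsl_coe, Tsl_coe, Tsl_coe, Matrix.add_mul, Matrix.mul_add,
    Matrix.mul_add, vecMulVec_mul_vecMulVec, dot_e0, r.2, zero_smul]
  simp only [Submodule.coe_add, one_mul, mul_one]
  have : vecMulVec (e0 F m) (0 : Fin (m + 3) → F) = 0 := by
    ext i j; simp [vecMulVec_apply]
  rw [this, add_zero]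
  have h2 : vecMulVec (e0 F m) (r.1 + r'.1) = vecMulVec (e0 F m) r.1 + vecMulVec (e0 F m) r'.1 := by
    ext i j; simp [vecMulVec_apply, mul_add]
  rw [h2]
  abel

theorem mulVec_e0_of_smul {g : SpecialLinearGroup (Fin (m + 3)) F} (hg : g • e0 F m = e0 F m) :
    g.1 *ᵥ e0 F m = e0 F m := hg

theorem vecMul_mem_rowSub {g : SpecialLinearGroup (Fin (m + 3)) F} (hg : g • e0 F m = e0 F m)
    (r : rowSub F m) : r.1 ᵥ* g.1 ∈ rowSub F m := by
  rw [mem_rowSub, ← dot_e0 (r.1 ᵥ* g.1), ← dotProduct_mulVec, mulVec_e0_of_smul hg, dot_e0]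
  exact r.2

/-- `g T(r g) = T(r) g` for `g` fixing `e₀` -/
theorem mul_Tsl_vecMul {g : SpecialLinearGroup (Fin (m + 3)) F} (hg : g • e0 F m = e0 F m)
    (r : rowSub F m) :
    g * Tsl ⟨r.1 ᵥ* g.1, vecMul_mem_rowSub hg r⟩ = Tsl r * g := by
  apply Subtype.ext
  rw [Matrix.SpecialLinearGroup.coe_mul, Matrix.SpecialLinearGroup.coe_mul, Tsl_coe, Tsl_coe, Matrix.mul_add,
    Matrix.add_mul, mul_one, one_mul, mul_vecMulVec, vecMulVec_mul, mulVec_e0_of_smul hg]

theorem smul_e0_inv {g : SpecialLinearGroup (Fin (m + 3)) F} (hg : g • e0 F m = e0 F m) :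
    g⁻¹ • e0 F m = e0 F m := by
  rw [inv_smul_eq_iff, hg]

/-- the action of the stabiliser of `e₀` on the row vectors -/
noncomputable def rowEquiv {g : SpecialLinearGroup (Fin (m + 3)) F} (hg : g • e0 F m = e0 F m) :
    rowSub F m ≃ rowSub F m where
  toFun r := ⟨r.1 ᵥ* g.1, vecMul_mem_rowSub hg r⟩
  invFun r := ⟨r.1 ᵥ* (g⁻¹).1, vecMul_mem_rowSub (smul_e0_inv hg) r⟩
  left_inv r := by
    apply Subtype.ext
    simp only
    rw [vecMul_vecMul, ← Matrix.SpecialLinearGroup.coe_mul, mul_inv_cancel, Matrix.SpecialLinearGroup.coe_one,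
      vecMul_one]
  right_inv r := by
    apply Subtype.ext
    simp only
    rw [vecMul_vecMul, ← Matrix.SpecialLinearGroup.coe_mul, inv_mul_cancel, Matrix.SpecialLinearGroup.coe_one,
      vecMul_one]

theorem rowEquiv_apply {g : SpecialLinearGroup (Fin (m + 3)) F} (hg : g • e0 F m = e0 F m)
    (r : rowSub F m) : (rowEquiv hg r).1 = r.1 ᵥ* g.1 := rfl

/-- conjugation of the transvections by the stabiliser of `e₀` -/
theorem conj_Tsl {g : SpecialLinearGroup (Fin (m + 3)) F} (hg : g • e0 F m = e0 F m)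
    (r : rowSub F m) : g * Tsl (rowEquiv hg r) * g⁻¹ = Tsl r := by
  rw [mul_inv_eq_iff_eq_mul]
  exact mul_Tsl_vecMul hg r

/-- `SLₙ`, `n ≥ 3`, is transitive on pairs `(e₀, b)` with `b ∉ F e₀` -/
theorem exists_fix_e0_smul_e1 {b : Fin (m + 3) → F} (hb0 : b 0 = 0) (hb : b ≠ 0) :
    ∃ g : SpecialLinearGroup (Fin (m + 3)) F, g • e0 F m = e0 F m ∧ g • e1 F m = b := by
  have h2 : MulAction.IsMultiplyPretransitive (SpecialLinearGroup (Fin (m + 3)) F)
      (ℙ F (Fin (m + 3) → F)) 2 := inferInstance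
  rw [MulAction.is_two_pretransitive_iff] at h2
  have hne : pt0 F m ≠ Projectivization.mk F b hb := by
    intro h
    unfold pt0 at h
    rw [Projectivization.mk_eq_mk_iff'] at h
    obtain ⟨a, ha⟩ := h
    have h0 := congrFun ha 0
    simp [e0, hb0] at h0
  obtain ⟨y, hy0, hy1⟩ := h2 (pt0_ne_pt1 (F := F) (m := m)) hne
  rw [smul_pt0] at hy0
  unfold pt0 at hy0
  rw [Projectivization.mk_eq_mk_iff'] at hy0
  obtain ⟨s, hs⟩ := hy0
  have hs0 : s ≠ 0 := by
    rintro rfl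
    rw [zero_smul] at hs
    exact smul_ne_zero_of_ne_zero y e0_ne_zero hs.symm
  have hy1' : Projectivization.mk F (y • e1 F m) (smul_ne_zero_of_ne_zero y e1_ne_zero)
      = Projectivization.mk F b hb := hy1
  rw [Projectivization.mk_eq_mk_iff'] at hy1'
  obtain ⟨t, ht⟩ := hy1'
  have ht0 : t ≠ 0 := by
    rintro rfl
    rw [zero_smul] at ht
    exact smul_ne_zero_of_ne_zero y e1_ne_zero ht.symm
  refine ⟨y * dg3 s⁻¹ t⁻¹ (inv_ne_zero hs0) (inv_ne_zero ht0), ?_, ?_⟩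
  · rw [mul_smul, dg3_smul_e0, smul_comm, ← hs, smul_smul, inv_mul_cancel₀ hs0, one_smul]
  · rw [mul_smul, dg3_smul_e1, smul_comm, ← ht, smul_smul, inv_mul_cancel₀ ht0, one_smul]

/-- the stabiliser of `e₀` is transitive on the non-zero vectors with vanishing first
coordinate -/
theorem exists_fix_e0_smul {b b' : Fin (m + 3) → F} (hb0 : b 0 = 0) (hb : b ≠ 0)
    (hb0' : b' 0 = 0) (hb' : b' ≠ 0) :
    ∃ g : SpecialLinearGroup (Fin (m + 3)) F, g • e0 F m = e0 F m ∧ g • b = b' := by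
  obtain ⟨g₁, h1, h1'⟩ := exists_fix_e0_smul_e1 hb0 hb
  obtain ⟨g₂, h2, h2'⟩ := exists_fix_e0_smul_e1 hb0' hb'
  refine ⟨g₂ * g₁⁻¹, ?_, ?_⟩
  · rw [mul_smul, smul_e0_inv h1, h2]
  · rw [mul_smul, ← h1', inv_smul_smul, h2']

end sln

end Cfsg.Agent.Helper38
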