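import Mathlib
import Cfsg.Agent.Helper38.SLnUnip

/-!
# Cross-characteristic representations of `SLₙ(F)`, `n ≥ 3`: the idempotents of the
transvection group with centre `e₀`
-/

set_option autoImplicit false

namespace Cfsg.Agent.Helper38

open Matrix Cfsg

section cross
variable {F : Type*} [Field F] {m : ℕ} {K' : Type*} [Field K'] {d : ℕ}

/-- the character `r ↦ ψ(-(r ⋅ b))` of the row vectors -/
def chiR (ψ : AddChar F K') (r : rowSub F m) (b : Fin (m + 3) → F) : K' := ψ (-(r.1 ⬝ᵥ b))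

theorem chiR_zero_left (ψ : AddChar F K') (b : Fin (m + 3) → F) : chiR ψ (0 : rowSub F m) b = 1 := by
  unfold chiR
  simp

theorem chiR_zero_right (ψ : AddChar F K') (r : rowSub F m) : chiR ψ r 0 = 1 := by
  unfold chiR
  simp

theorem chiR_add_left (ψ : AddChar F K') (r r' : rowSub F m) (b : Fin (m + 3) → F) :
    chiR ψ (r + r') b = chiR ψ r b * chiR ψ r' b := by
  unfold chiR
  rw [← AddChar.map_add_eq_mul, Submodule.coe_add, add_dotProduct, neg_add]

theorem chiR_shift (ψ : AddChar F K') (r s : rowSub F m) (b b' : Fin (m + 3) → F) :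
    chiR ψ r b * chiR ψ (s - r) b' = chiR ψ r (b - b') * chiR ψ s b' := by
  unfold chiR
  rw [← AddChar.map_add_eq_mul, ← AddChar.map_add_eq_mul, Submodule.coe_sub, sub_dotProduct,
    dotProduct_sub]
  congr 1
  ring

variable [Fintype (rowSub F m)]

/-- orthogonality for the characters of the row vectors -/
theorem sum_chiR (ψ : AddChar F K') (hψ : ψ ≠ 1) (c : rowSub F m) [Decidable (c = 0)] :
    ∑ r : rowSub F m, chiR ψ r c.1 = if c = 0 then (Fintype.card (rowSub F m) : K') else 0 := by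
  split_ifs with h
  · subst h
    simp [chiR_zero_right]
  · -- find a coordinate where `c` does not vanish
    have hc : ∃ j, c.1 j ≠ 0 := by
      by_contra hcon
      push Not at hcon
      apply h
      apply Subtype.ext
      funext j
      exact hcon j
    obtain ⟨j, hj⟩ := hc
    have hj0 : j ≠ 0 := by
      rintro rfl
      exact hj c.2
    obtain ⟨y, hy⟩ := AddChar.ne_one_iff.1 hψ
    have hmem : (Pi.single j (-y / c.1 j) : Fin (m + 3) → F) ∈ rowSub F m := by
      rw [mem_rowSub, Pi.single_eq_of_ne hj0.symm]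
    set r₀ : rowSub F m := ⟨Pi.single j (-y / c.1 j), hmem⟩ with hr₀
    have hval : chiR ψ r₀ c.1 = ψ y := by
      unfold chiR
      rw [hr₀]
      simp only
      rw [single_dotProduct]
      congr 1
      field_simp
    have hsum : ∑ r : rowSub F m, chiR ψ r c.1 = ψ y * ∑ r : rowSub F m, chiR ψ r c.1 := by
      rw [Finset.mul_sum, ← hval,
        ← Fintype.sum_equiv (Equiv.addLeft r₀) (fun r => chiR ψ (r₀ + r) c.1)
          (fun r => chiR ψ r c.1) (fun r => rfl)]
      exact Finset.sum_congr rfl (fun r _ => chiR_add_left ψ r₀ r c.1)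
    have : (1 - ψ y) * ∑ r : rowSub F m, chiR ψ r c.1 = 0 := by
      rw [sub_mul, one_mul, ← hsum, sub_self]
    rcases mul_eq_zero.1 this with h' | h'
    · exact absurd (sub_eq_zero.1 h').symm hy
    · exact h'

/-- the idempotent attached to the character `b` -/
noncomputable def idemR (ψ : AddChar F K')
    (τ : SpecialLinearGroup (Fin (m + 3)) F →* Matrix (Fin d) (Fin d) K')
    (b : Fin (m + 3) → F) : Matrix (Fin d) (Fin d) K' :=
  (Fintype.card (rowSub F m) : K')⁻¹ • ∑ r : rowSub F m, chiR ψ r b • τ (Tsl r)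

theorem idemR_mul (ψ : AddChar F K') (hψ : ψ ≠ 1) (hR : (Fintype.card (rowSub F m) : K') ≠ 0)
    (τ : SpecialLinearGroup (Fin (m + 3)) F →* Matrix (Fin d) (Fin d) K')
    (b b' : rowSub F m) [Decidable (b - b' = 0)] :
    idemR ψ τ b.1 * idemR ψ τ b'.1 = if b - b' = 0 then idemR ψ τ b'.1 else 0 := by
  unfold idemR
  rw [smul_mul_smul_comm, Finset.sum_mul]
  have h1 : ∀ r : rowSub F m, (chiR ψ r b.1 • τ (Tsl r)) * ∑ r' : rowSub F m, chiR ψ r' b'.1 • τ (Tsl r')
      = ∑ s : rowSub F m, (chiR ψ r (b.1 - b'.1) * chiR ψ s b'.1) • τ (Tsl s) := by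
    intro r
    rw [Finset.mul_sum]
    rw [← Fintype.sum_equiv (Equiv.addLeft r)
      (fun r' => (chiR ψ r b.1 • τ (Tsl r)) * (chiR ψ r' b'.1 • τ (Tsl r')))
      (fun s => (chiR ψ r (b.1 - b'.1) * chiR ψ s b'.1) • τ (Tsl s))]
    intro r'
    rw [smul_mul_smul_comm, ← map_mul, ← Tsl_add, Equiv.coe_addLeft]
    congr 1
    have := chiR_shift ψ r (r + r') b.1 b'.1
    rw [add_sub_cancel_left] at this
    exact this
  rw [Finset.sum_congr rfl (fun r _ => h1 r), Finset.sum_comm]
  have h2 : ∀ s : rowSub F m, ∑ r : rowSub F m, (chiR ψ r (b.1 - b'.1) * chiR ψ s b'.1) • τ (Tsl s)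
      = (if b - b' = 0 then (Fintype.card (rowSub F m) : K') else 0) •
          (chiR ψ s b'.1 • τ (Tsl s)) := by
    intro s
    rw [← Finset.sum_smul, ← Finset.sum_mul]
    have := sum_chiR ψ hψ (b - b')
    rw [Submodule.coe_sub] at this
    rw [this, mul_smul]
  rw [Finset.sum_congr rfl (fun s _ => h2 s), ← Finset.smul_sum]
  split_ifs with h
  · rw [smul_smul]
    congr 1
    field_simp
  · rw [zero_smul, smul_zero]

theorem sum_idemR (ψ : AddChar F K') (hψ : ψ ≠ 1) (hR : (Fintype.card (rowSub F m) : K') ≠ 0)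
    (τ : SpecialLinearGroup (Fin (m + 3)) F →* Matrix (Fin d) (Fin d) K') :
    ∑ b : rowSub F m, idemR ψ τ b.1 = 1 := by
  classical
  unfold idemR
  rw [← Finset.smul_sum, Finset.sum_comm]
  have h1 : ∀ r : rowSub F m, ∑ b : rowSub F m, chiR ψ r b.1 • τ (Tsl r)
      = (if r = 0 then (Fintype.card (rowSub F m) : K') else 0) • τ (Tsl r) := by
    intro r
    rw [← Finset.sum_smul]
    congr 1
    have hsymm : ∀ b : rowSub F m, chiR ψ r b.1 = chiR ψ b r.1 := by
      intro b
      unfold chiR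
      rw [dotProduct_comm]
    rw [Finset.sum_congr rfl (fun b _ => hsymm b), sum_chiR ψ hψ r]
  rw [Finset.sum_congr rfl (fun r _ => h1 r)]
  simp only [ite_smul, zero_smul, Finset.sum_ite_eq', Finset.mem_univ, if_true]
  rw [Tsl_zero, map_one, smul_smul, inv_mul_cancel₀ hR, one_smul]

theorem conj_idemR (ψ : AddChar F K')
    (τ : SpecialLinearGroup (Fin (m + 3)) F →* Matrix (Fin d) (Fin d) K')
    {g : SpecialLinearGroup (Fin (m + 3)) F} (hg : g • e0 F m = e0 F m) (b : Fin (m + 3) → F) :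
    τ g * idemR ψ τ b * τ g⁻¹ = idemR ψ τ (g • b) := by
  unfold idemR
  rw [Matrix.mul_smul, Matrix.smul_mul, Finset.mul_sum, Finset.sum_mul]
  congr 1
  rw [← Fintype.sum_equiv (rowEquiv hg)
    (fun r' => τ g * (chiR ψ (rowEquiv hg r') b • τ (Tsl (rowEquiv hg r'))) * τ g⁻¹)
    (fun r => τ g * (chiR ψ r b • τ (Tsl r)) * τ g⁻¹) (fun r => rfl)]
  apply Finset.sum_congr rfl
  intro r' _
  rw [Matrix.mul_smul, Matrix.smul_mul, ← map_mul, ← map_mul, conj_Tsl hg r']
  congr 1
  unfold chiR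
  rw [rowEquiv_apply, ← dotProduct_mulVec]
  rfl

end cross

end Cfsg.Agent.Helper38
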