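import Mathlib
import Cfsg.Agent.Helper38.CrossChar

/-!
# The Landazuri–Seitz bound for `SLₙ(F)`, `n ≥ 3`
-/

set_option autoImplicit false

namespace Cfsg.Agent.Helper38

open Matrix Cfsg

section cross
variable {F : Type*} [Field F] {m : ℕ} {K' : Type*} [Field K'] {d : ℕ}
variable [Fintype (rowSub F m)]

theorem tau_Tsl_eq_one_of_idem_zero (ψ : AddChar F K') (hψ : ψ ≠ 1)
    (hR : (Fintype.card (rowSub F m) : K') ≠ 0)
    (τ : SpecialLinearGroup (Fin (m + 3)) F →* Matrix (Fin d) (Fin d) K')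
    (hzero : ∀ b : rowSub F m, b ≠ 0 → idemR ψ τ b.1 = 0) (r' : rowSub F m) :
    τ (Tsl r') = 1 := by
  classical
  have h0 : idemR ψ τ (0 : rowSub F m).1 = 1 := by
    rw [← sum_idemR ψ hψ hR τ]
    symm
    apply Finset.sum_eq_single_of_mem (0 : rowSub F m) (Finset.mem_univ _)
    intro b _ hb
    exact hzero b hb
  have h1 : τ (Tsl r') * idemR ψ τ (0 : rowSub F m).1 = idemR ψ τ (0 : rowSub F m).1 := by
    unfold idemR
    rw [Matrix.mul_smul, Finset.mul_sum]
    congr 1
    rw [← Fintype.sum_equiv (Equiv.addLeft r')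
      (fun r => τ (Tsl r') * (chiR ψ r (0 : rowSub F m).1 • τ (Tsl r)))
      (fun s => chiR ψ s (0 : rowSub F m).1 • τ (Tsl s))]
    intro r
    rw [Matrix.mul_smul, ← map_mul, ← Tsl_add, Equiv.coe_addLeft]
    simp only [Submodule.coe_zero, chiR_zero_right]
  rw [h0, mul_one] at h1
  exact h1

theorem card_le_of_idem_ne_zero (ψ : AddChar F K') (hψ : ψ ≠ 1)
    (hR : (Fintype.card (rowSub F m) : K') ≠ 0)
    (τ : SpecialLinearGroup (Fin (m + 3)) F →* Matrix (Fin d) (Fin d) K')
    (hne : ∀ b : rowSub F m, b ≠ 0 → idemR ψ τ b.1 ≠ 0) :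
    Fintype.card (rowSub F m) - 1 ≤ d := by
  classical
  -- choose a vector in the image of each idempotent
  have hex : ∀ b : {b : rowSub F m // b ≠ 0}, ∃ w : Fin d → K', idemR ψ τ b.1.1 *ᵥ w ≠ 0 := by
    intro b
    by_contra hcon
    push Not at hcon
    apply hne b.1 b.2
    ext i j
    have := congrFun (hcon (Pi.single j 1)) i
    rw [mulVec_single_one] at this
    simpa using this
  choose w hw using hex
  set v : {b : rowSub F m // b ≠ 0} → (Fin d → K') := fun b => idemR ψ τ b.1.1 *ᵥ w b with hv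
  have hmul : ∀ b b' : {b : rowSub F m // b ≠ 0},
      idemR ψ τ b'.1.1 *ᵥ v b = if b' = b then v b else 0 := by
    intro b b'
    rw [hv]
    simp only
    rw [mulVec_mulVec, idemR_mul ψ hψ hR τ b'.1 b.1]
    by_cases h : b' = b
    · subst h
      rw [if_pos (sub_self _), if_pos rfl]
    · have : ¬ (b'.1 - b.1 = 0) := by
        intro h'
        apply h
        apply Subtype.ext
        exact sub_eq_zero.1 h'
      rw [if_neg this, if_neg h, zero_mulVec]
  have hli : LinearIndependent K' v := by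
    rw [linearIndependent_iff']
    intro s g hsum b₀ hb₀
    have h1 := congrArg (fun x => idemR ψ τ b₀.1.1 *ᵥ x) hsum
    simp only [mulVec_zero] at h1
    rw [mulVec_sum] at h1
    have h2 : ∀ b ∈ s, idemR ψ τ b₀.1.1 *ᵥ (g b • v b) = if b₀ = b then g b • v b else 0 := by
      intro b _
      rw [mulVec_smul, hmul b b₀]
      split_ifs <;> simp
    rw [Finset.sum_congr rfl h2, Finset.sum_ite_eq, if_pos hb₀] at h1
    rcases smul_eq_zero.1 h1 with h | h
    · exact h
    · exact absurd h (hw b₀)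
  have hcard := hli.fintype_card_le_finrank
  rw [Module.finrank_fin_fun] at hcard
  have hS : Fintype.card {b : rowSub F m // b ≠ 0} = Fintype.card (rowSub F m) - 1 := by
    rw [Fintype.card_subtype_compl, Fintype.card_subtype_eq]
  rw [← hS]
  exact hcard

/-- the degree bound in terms of the transvection group -/
theorem crosschar_bound (ψ : AddChar F K') (hψ : ψ ≠ 1)
    (hR : (Fintype.card (rowSub F m) : K') ≠ 0)
    (τ : SpecialLinearGroup (Fin (m + 3)) F →* Matrix (Fin d) (Fin d) K')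
    (hτ : ∃ r : rowSub F m, τ (Tsl r) ≠ 1) :
    Fintype.card (rowSub F m) - 1 ≤ d := by
  classical
  by_cases hall : ∀ b : rowSub F m, b ≠ 0 → idemR ψ τ b.1 = 0
  · obtain ⟨r, hr⟩ := hτ
    exact absurd (tau_Tsl_eq_one_of_idem_zero ψ hψ hR τ hall r) hr
  · push Not at hall
    obtain ⟨b₀, hb₀, hne₀⟩ := hall
    apply card_le_of_idem_ne_zero ψ hψ hR τ
    intro b hb hzero
    have hb₀' : b₀.1 ≠ 0 := fun h => hb₀ (Subtype.ext h)
    have hb' : b.1 ≠ 0 := fun h => hb (Subtype.ext h)
    obtain ⟨g, hg, hgb⟩ := exists_fix_e0_smul b.2 hb' b₀.2 hb₀'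
    have := conj_idemR ψ τ hg b.1
    rw [hzero, mul_zero, zero_mul, hgb] at this
    exact hne₀ this.symm

end cross

end Cfsg.Agent.Helper38
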