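import Mathlib

set_option autoImplicit false

namespace Cfsg.Agent.Helper38

open Equiv Finset

section
variable {α : Type*} [Fintype α] [DecidableEq α]

/-- number of fixed points of a permutation -/
def fixc (π : Perm α) : ℕ := (univ.filter fun x => π x = x).card

theorem fixc_eq_sub (π : Perm α) : fixc π = Fintype.card α - π.support.card := by
  have h := Finset.card_filter_add_card_filter_not (s := (univ : Finset α)) (fun x => π x = x)
  have hs : π.support = univ.filter fun x => ¬ π x = x := by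
    ext x; simp [Perm.mem_support]
  rw [fixc, hs, ← Finset.card_univ (α := α)]
  omega

theorem fixc_conj (g π : Perm α) : fixc (g * π * g⁻¹) = fixc π := by
  rw [fixc_eq_sub, fixc_eq_sub, Perm.card_support_conj]

theorem fixc_inv (π : Perm α) : fixc π⁻¹ = fixc π := by
  rw [fixc_eq_sub, fixc_eq_sub, Perm.support_inv]

theorem fixc_eq_natCard (π : Perm α) : fixc π = Nat.card (Function.fixedPoints ⇑π) := by
  rw [Nat.card_eq_fintype_card, Perm.card_fixedPoints, Perm.sum_cycleType, fixc_eq_sub]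

/-- even permutations extending a partial injection, when two points are left over -/
theorem exists_even_extending {ι : Type*} [Fintype ι] (x y : ι → α)
    (hx : Function.Injective x) (hy : Function.Injective y)
    (hcard : Fintype.card ι + 2 ≤ Fintype.card α) :
    ∃ σ : Perm α, Perm.sign σ = 1 ∧ ∀ i, σ (x i) = y i := by
  classical
  obtain ⟨σ₀, hσ₀⟩ := Equiv.Perm.exists_extending_pair x y hx hy
  rcases Int.units_eq_one_or (Perm.sign σ₀) with h | h
  · exact ⟨σ₀, h, hσ₀⟩
  · have hc : 1 < (univ \ (univ.image y)).card := by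
      rw [Finset.card_sdiff_of_subset (Finset.subset_univ _), Finset.card_univ,
        Finset.card_image_of_injective _ hy, Finset.card_univ]
      omega
    obtain ⟨c, hc1, d, hd1, hcd⟩ := Finset.one_lt_card.1 hc
    have hc2 : ∀ i, y i ≠ c := by
      intro i hi
      rw [Finset.mem_sdiff] at hc1
      exact hc1.2 (Finset.mem_image.2 ⟨i, Finset.mem_univ _, hi⟩)
    have hd2 : ∀ i, y i ≠ d := by
      intro i hi
      rw [Finset.mem_sdiff] at hd1
      exact hd1.2 (Finset.mem_image.2 ⟨i, Finset.mem_univ _, hi⟩)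
    refine ⟨Equiv.swap c d * σ₀, ?_, ?_⟩
    · rw [Perm.sign_mul, h, Perm.sign_swap hcd]; rfl
    · intro i
      rw [Perm.mul_apply, hσ₀, Equiv.swap_apply_of_ne_of_ne (hc2 i) (hd2 i)]

omit [Fintype α] [DecidableEq α] in
theorem inj2 {a b : α} (h : a ≠ b) : Function.Injective ![a, b] := by
  intro i j hij
  fin_cases i <;> fin_cases j <;> simp_all

omit [Fintype α] [DecidableEq α] in
theorem inj4 {a b c d : α} (hab : a ≠ b) (hac : a ≠ c) (had : a ≠ d) (hbc : b ≠ c) (hbd : b ≠ d)
    (hcd : c ≠ d) : Function.Injective ![a, b, c, d] := by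
  intro i j hij
  fin_cases i <;> fin_cases j <;> simp_all

/-- the even permutations -/
def evens : Finset (Perm α) := univ.filter fun h => Perm.sign h = 1

theorem mem_evens {h : Perm α} : h ∈ (evens : Finset (Perm α)) ↔ Perm.sign h = 1 := by
  simp [evens]

/-- even permutations sending `k ↦ i`, `l ↦ j` -/
def T (k l i j : α) : Finset (Perm α) := evens.filter fun h => h k = i ∧ h l = j

theorem mem_T {k l i j : α} {h : Perm α} : h ∈ T k l i j ↔ Perm.sign h = 1 ∧ h k = i ∧ h l = j := by
  simp [T, mem_evens]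

theorem card_T_eq (hn : 4 ≤ Fintype.card α) {k l i j k' l' i' j' : α} (hkl : k ≠ l) (hij : i ≠ j)
    (hkl' : k' ≠ l') (hij' : i' ≠ j') : (T k l i j).card = (T k' l' i' j').card := by
  obtain ⟨σ, hσs, hσ⟩ := exists_even_extending ![k', l'] ![k, l] (inj2 hkl') (inj2 hkl) (by simpa using hn)
  obtain ⟨ρ, hρs, hρ⟩ := exists_even_extending ![i, j] ![i', j'] (inj2 hij) (inj2 hij') (by simpa using hn)
  have hσ0 : σ k' = k := hσ 0
  have hσ1 : σ l' = l := hσ 1
  have hρ0 : ρ i = i' := hρ 0
  have hρ1 : ρ j = j' := hρ 1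
  apply Finset.card_nbij' (fun h => ρ * h * σ) (fun h => ρ⁻¹ * h * σ⁻¹)
  · intro h hh
    rw [Finset.mem_coe, mem_T] at hh ⊢
    obtain ⟨h1, h2, h3⟩ := hh
    refine ⟨by simp [Perm.sign_mul, h1, hσs, hρs], ?_, ?_⟩
    · simp [Perm.mul_apply, hσ0, h2, hρ0]
    · simp [Perm.mul_apply, hσ1, h3, hρ1]
  · intro h hh
    rw [Finset.mem_coe, mem_T] at hh ⊢
    obtain ⟨h1, h2, h3⟩ := hh
    refine ⟨by simp [Perm.sign_mul, h1, hσs, hρs], ?_, ?_⟩
    · have : σ⁻¹ k = k' := by rw [← hσ0]; simp
      simp only [Perm.mul_apply, this, h2]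
      rw [← hρ0]; simp
    · have : σ⁻¹ l = l' := by rw [← hσ1]; simp
      simp only [Perm.mul_apply, this, h3]
      rw [← hρ1]; simp
  · intro h _
    simp [mul_assoc]
  · intro h _
    simp [mul_assoc]

/-- the even permutations split according to the images of two points -/
theorem card_evens_eq (hn : 4 ≤ Fintype.card α) {k l i₀ j₀ : α} (hkl : k ≠ l) (hij : i₀ ≠ j₀) :
    (evens : Finset (Perm α)).card
      = Fintype.card α * (Fintype.card α - 1) * (T k l i₀ j₀).card := by
  have hmaps : Set.MapsTo (fun h : Perm α => (h k, h l)) (evens : Finset (Perm α))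
      ((univ : Finset α).offDiag : Finset (α × α)) := by
    intro h _
    simp only [Finset.coe_offDiag, Set.mem_offDiag, Finset.coe_univ, Set.mem_univ, true_and]
    exact fun e => hkl (h.injective e)
  rw [Finset.card_eq_sum_card_fiberwise hmaps]
  have : ∀ p ∈ (univ : Finset α).offDiag,
      (evens.filter fun h : Perm α => (h k, h l) = p).card = (T k l i₀ j₀).card := by
    intro p hp
    rw [Finset.mem_offDiag] at hp
    have e : (evens.filter fun h : Perm α => (h k, h l) = p) = T k l p.1 p.2 := by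
      ext h
      simp [T, Prod.ext_iff]
    rw [e]
    exact card_T_eq hn hkl hp.2.2 hkl hij
  rw [Finset.sum_congr rfl this, Finset.sum_const, Finset.offDiag_card, Finset.card_univ, smul_eq_mul]
  congr 1
  rw [Nat.mul_sub, mul_one]

theorem card_semi_eq (hn : 4 ≤ Fintype.card α) (a : Perm α) (ha : ∀ x, a x ≠ x) {k l i₀ j₀ : α}
    (hkl : k ≠ l) (hij : i₀ ≠ j₀) :
    (evens.filter fun h : Perm α => a (h l) = h k).card
      = Fintype.card α * (T k l i₀ j₀).card := by
  have hmaps : Set.MapsTo (fun h : Perm α => h l)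
      (evens.filter fun h : Perm α => a (h l) = h k : Finset (Perm α)) (univ : Finset α) := by
    intro h _; simp
  rw [Finset.card_eq_sum_card_fiberwise hmaps]
  have : ∀ j ∈ (univ : Finset α),
      ((evens.filter fun h : Perm α => a (h l) = h k).filter fun h => h l = j).card
        = (T k l i₀ j₀).card := by
    intro j _
    have e : ((evens.filter fun h : Perm α => a (h l) = h k).filter fun h => h l = j)
        = T k l (a j) j := by
      ext h
      simp only [T, Finset.mem_filter]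
      constructor
      · rintro ⟨⟨h1, h2⟩, h3⟩
        exact ⟨h1, by rw [← h2, h3], h3⟩
      · rintro ⟨h1, h2, h3⟩
        exact ⟨⟨h1, by rw [h3, h2]⟩, h3⟩
    rw [e]
    exact card_T_eq hn hkl (ha j) hkl hij
  rw [Finset.sum_congr rfl this, Finset.sum_const, Finset.card_univ, smul_eq_mul]

theorem fixc_prod_conj (a b h : Perm α) :
    fixc (a * (h * b * h⁻¹)) = (univ.filter fun k => a (h (b k)) = h k).card := by
  rw [fixc]
  apply Finset.card_bij' (fun x _ => h⁻¹ x) (fun k _ => h k)
  · intro x hx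
    rw [Finset.mem_filter] at hx ⊢
    refine ⟨Finset.mem_univ _, ?_⟩
    have := hx.2
    simp only [Perm.mul_apply] at this
    rw [this]; simp
  · intro k hk
    rw [Finset.mem_filter] at hk ⊢
    refine ⟨Finset.mem_univ _, ?_⟩
    simpa [Perm.mul_apply] using hk.2
  · intro x _; simp
  · intro k _; simp

/-- the averaging identity for a fixed-point-free `a` -/
theorem sum_fixc_eq (hn : 4 ≤ Fintype.card α) (a b : Perm α) (ha : ∀ x, a x ≠ x) {i₀ j₀ k₀ l₀ : α}
    (hkl : k₀ ≠ l₀) (hij : i₀ ≠ j₀) :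
    ∑ h ∈ (evens : Finset (Perm α)), fixc (a * (h * b * h⁻¹))
      = b.support.card * (Fintype.card α * (T k₀ l₀ i₀ j₀).card) := by
  simp_rw [fixc_prod_conj, Finset.card_filter]
  rw [Finset.sum_comm]
  simp_rw [← Finset.card_filter]
  have hterm : ∀ k ∈ (univ : Finset α), (evens.filter fun h : Perm α => a (h (b k)) = h k).card
      = if k ∈ b.support then Fintype.card α * (T k₀ l₀ i₀ j₀).card else 0 := by
    intro k _
    split_ifs with hk
    · rw [Perm.mem_support] at hk
      rw [card_semi_eq hn a ha (Ne.symm hk) hij]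
      congr 1
      exact card_T_eq hn (Ne.symm hk) hij hkl hij
    · rw [Perm.mem_support, not_not] at hk
      rw [Finset.card_eq_zero, Finset.filter_eq_empty_iff]
      intro h _
      rw [hk]
      exact ha _
  rw [Finset.sum_congr rfl hterm, Finset.sum_ite_mem, Finset.univ_inter, Finset.sum_const, smul_eq_mul]

/-- Case B: `a` fixed-point-free, at least 6 points -/
theorem caseB (hn : 6 ≤ Fintype.card α) (a b : Perm α) (ha : ∀ x, a x ≠ x) (hb : b ≠ 1) :
    ∃ h₁ h₂ : Perm α, Perm.sign h₁ = 1 ∧ Perm.sign h₂ = 1 ∧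
      fixc (a * (h₁ * b * h₁⁻¹)) ≠ fixc (a * (h₂ * b * h₂⁻¹)) := by
  by_contra hcon
  push Not at hcon
  set c := fixc (a * ((1 : Perm α) * b * (1 : Perm α)⁻¹)) with hc
  have hconst : ∀ h : Perm α, Perm.sign h = 1 → fixc (a * (h * b * h⁻¹)) = c :=
    fun h hh => hcon h 1 hh (by simp)
  obtain ⟨k₁, hk₁⟩ : ∃ k, b k ≠ k := by
    by_contra hall
    push Not at hall
    exact hb (Equiv.ext hall)
  set l₁ := b k₁ with hl₁
  have hn4 : 4 ≤ Fintype.card α := by omega
  have hsum := sum_fixc_eq hn4 a b ha (i₀ := l₁) (j₀ := k₁) (k₀ := l₁) (l₀ := k₁) hk₁ hk₁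
  have hcardE := card_evens_eq hn4 (k := l₁) (l := k₁) (i₀ := l₁) (j₀ := k₁) hk₁ hk₁
  set t := (T l₁ k₁ l₁ k₁).card with ht
  set n := Fintype.card α with hn'
  set r := b.support.card with hr
  have hsum2 : ∑ h ∈ (evens : Finset (Perm α)), fixc (a * (h * b * h⁻¹)) = (evens : Finset (Perm α)).card * c := by
    rw [Finset.sum_congr rfl (fun h hh => hconst h (mem_evens.1 hh)), Finset.sum_const, smul_eq_mul]
  have hEpos : 0 < (evens : Finset (Perm α)).card :=
    Finset.card_pos.2 ⟨1, mem_evens.2 (by simp)⟩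
  have htpos : 0 < t := by
    rcases Nat.eq_zero_or_pos t with h0 | h0
    · rw [h0, mul_zero] at hcardE; omega
    · exact h0
  have hr2 : 2 ≤ r := Perm.two_le_card_support_of_ne_one hb
  have hrn : r ≤ n := by
    rw [hr, hn', ← Finset.card_univ]; exact Finset.card_le_card (Finset.subset_univ _)
  -- (n - 1) * c = r
  have hkey : (n - 1) * c = r := by
    have h1 : n * (n - 1) * t * c = r * (n * t) := by
      rw [← hcardE, ← hsum2, hsum]
    have hnpos : 0 < n := by omega
    have h2 : (n * t) * ((n - 1) * c) = (n * t) * r := by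
      calc (n * t) * ((n - 1) * c) = n * (n - 1) * t * c := by ring
        _ = r * (n * t) := h1
        _ = (n * t) * r := by ring
    exact Nat.eq_of_mul_eq_mul_left (Nat.mul_pos hnpos htpos) h2
  have hc1 : c = 1 := by
    have hcle : c ≤ 1 := by
      by_contra h
      rw [not_le] at h
      have : (n - 1) * 2 ≤ (n - 1) * c := Nat.mul_le_mul_left _ h
      omega
    have hcpos : 0 < c := by
      rcases Nat.eq_zero_or_pos c with h0 | h0
      · rw [h0, mul_zero] at hkey; omega
      · exact h0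
    omega
  have hr5 : 5 ≤ r := by rw [← hkey, hc1]; omega
  -- pattern C
  set j₁ := k₁ with hj₁
  set i₁ := a j₁ with hi₁
  obtain ⟨j₂, hj₂⟩ : ∃ j₂, j₂ ∉ ({j₁, i₁, a⁻¹ j₁} : Finset α) := by
    by_contra hall
    push Not at hall
    have : (univ : Finset α) ⊆ {j₁, i₁, a⁻¹ j₁} := fun x _ => hall x
    have := Finset.card_le_card this
    have h3 : ({j₁, i₁, a⁻¹ j₁} : Finset α).card ≤ 3 := Finset.card_le_three
    rw [Finset.card_univ] at this
    omega
  simp only [Finset.mem_insert, Finset.mem_singleton, not_or] at hj₂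
  obtain ⟨hj21, hj22, hj23⟩ := hj₂
  set i₂ := a j₂ with hi₂
  obtain ⟨k₂, hk₂s, hk₂⟩ : ∃ k₂ ∈ b.support, k₂ ∉ ({k₁, l₁, b⁻¹ k₁} : Finset α) := by
    by_contra hall
    push Not at hall
    have : b.support ⊆ {k₁, l₁, b⁻¹ k₁} := fun x hx => hall x hx
    have := Finset.card_le_card this
    have h3 : ({k₁, l₁, b⁻¹ k₁} : Finset α).card ≤ 3 := Finset.card_le_three
    omega
  simp only [Finset.mem_insert, Finset.mem_singleton, not_or] at hk₂
  obtain ⟨hk21, hk22, hk23⟩ := hk₂
  rw [Perm.mem_support] at hk₂s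
  set l₂ := b k₂ with hl₂
  have d1 : k₁ ≠ l₁ := Ne.symm hk₁
  have d2 : k₁ ≠ k₂ := Ne.symm hk21
  have d3 : k₁ ≠ l₂ := by
    intro h; apply hk23; rw [h, hl₂]; simp
  have d4 : l₁ ≠ k₂ := Ne.symm hk22
  have d5 : l₁ ≠ l₂ := by
    intro h; exact d2 (b.injective h)
  have d6 : k₂ ≠ l₂ := Ne.symm hk₂s
  have e1 : i₁ ≠ j₁ := ha j₁
  have e2 : i₁ ≠ i₂ := by
    intro h; exact hj21 (a.injective h).symm
  have e3 : i₁ ≠ j₂ := Ne.symm hj22
  have e4 : j₁ ≠ i₂ := by
    intro h; apply hj23; rw [h, hi₂]; simp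
  have e5 : j₁ ≠ j₂ := Ne.symm hj21
  have e6 : i₂ ≠ j₂ := ha j₂
  obtain ⟨h, hhs, hh⟩ := exists_even_extending ![k₁, l₁, k₂, l₂] ![i₁, j₁, i₂, j₂]
    (inj4 d1 d2 d3 d4 d5 d6) (inj4 e1 e2 e3 e4 e5 e6) (by simpa using hn)
  have hh0 : h k₁ = i₁ := hh 0
  have hh1 : h l₁ = j₁ := hh 1
  have hh2 : h k₂ = i₂ := hh 2
  have hh3 : h l₂ = j₂ := hh 3
  have := hconst h hhs
  rw [fixc_prod_conj, hc1] at this
  have hsub : ({k₁, k₂} : Finset α) ⊆ univ.filter fun k => a (h (b k)) = h k := by
    intro x hx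
    rw [Finset.mem_insert, Finset.mem_singleton] at hx
    rw [Finset.mem_filter]
    refine ⟨Finset.mem_univ _, ?_⟩
    rcases hx with rfl | rfl
    · rw [← hl₁, hh1, hh0]
    · rw [← hl₂, hh3, hh2]
  have := Finset.card_le_card hsub
  rw [Finset.card_pair d2] at this
  omega

end

end Cfsg.Agent.Helper38
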