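import Mathlib
import Cfsg.Agent.Helper38.FixProd

set_option autoImplicit false

namespace Cfsg.Agent.Helper38

open Equiv Finset

/-- fast lookup in a 5-tuple -/
def look5 (a0 a1 a2 a3 a4 : Fin 5) (i : Fin 5) : Fin 5 :=
  match i.val with
  | 0 => a0
  | 1 => a1
  | 2 => a2
  | 3 => a3
  | _ => a4

/-- seven even permutations of `Fin 5` (with their inverses), as vectors -/
def H5p : List ((Fin 5 → Fin 5) × (Fin 5 → Fin 5)) :=
  [(look5 1 2 3 4 0, look5 4 0 1 2 3),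
   (look5 2 0 4 1 3, look5 1 3 0 4 2),
   (look5 0 2 3 1 4, look5 0 3 1 2 4),
   (look5 0 3 1 2 4, look5 0 2 3 1 4),
   (look5 0 2 1 4 3, look5 0 2 1 4 3),
   (look5 4 1 2 0 3, look5 3 1 2 4 0),
   (look5 3 2 0 4 1, look5 2 4 1 0 3)]

def allFin5 (P : Fin 5 → Bool) : Bool := P 0 && P 1 && P 2 && P 3 && P 4

theorem allFin5_spec {P : Fin 5 → Bool} (h : allFin5 P = true) (x : Fin 5) : P x = true := by
  simp only [allFin5, Bool.and_eq_true] at h
  obtain ⟨⟨⟨⟨h0, h1⟩, h2⟩, h3⟩, h4⟩ := h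
  fin_cases x <;> assumption

def cnt5 (f : Fin 5 → Fin 5) : Nat :=
  (if f 0 = 0 then 1 else 0) + (if f 1 = 1 then 1 else 0) + (if f 2 = 2 then 1 else 0)
    + (if f 3 = 3 then 1 else 0) + (if f 4 = 4 then 1 else 0)

theorem cnt5_eq (f : Fin 5 → Fin 5) : cnt5 f = (univ.filter fun x => f x = x).card := by
  rw [Finset.card_filter, Fin.sum_univ_five]; rfl

def goodB (f g : Fin 5 → Fin 5) : Bool :=
  H5p.any fun p => cnt5 (fun x => f (g x)) != cnt5 (fun x => f (p.1 (g (p.2 x))))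

/-- enumerate all injective 5-tuples -/
def enumPerms (k : Fin 5 → Fin 5 → Fin 5 → Fin 5 → Fin 5 → Bool) : Bool :=
  allFin5 fun a0 => allFin5 fun a1 => (a1 == a0) ||
    allFin5 fun a2 => (a2 == a0 || a2 == a1) ||
      allFin5 fun a3 => (a3 == a0 || a3 == a1 || a3 == a2) ||
        allFin5 fun a4 => (a4 == a0 || a4 == a1 || a4 == a2 || a4 == a3) || k a0 a1 a2 a3 a4

theorem enumPerms_spec {k : Fin 5 → Fin 5 → Fin 5 → Fin 5 → Fin 5 → Bool} (h : enumPerms k = true)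
    (f : Fin 5 → Fin 5) (hf : Function.Injective f) : k (f 0) (f 1) (f 2) (f 3) (f 4) = true := by
  have h0 := allFin5_spec h (f 0)
  have h1 := allFin5_spec h0 (f 1)
  have n10 : f 1 ≠ f 0 := hf.ne (by decide)
  have n20 : f 2 ≠ f 0 := hf.ne (by decide)
  have n21 : f 2 ≠ f 1 := hf.ne (by decide)
  have n30 : f 3 ≠ f 0 := hf.ne (by decide)
  have n31 : f 3 ≠ f 1 := hf.ne (by decide)
  have n32 : f 3 ≠ f 2 := hf.ne (by decide)
  have n40 : f 4 ≠ f 0 := hf.ne (by decide)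
  have n41 : f 4 ≠ f 1 := hf.ne (by decide)
  have n42 : f 4 ≠ f 2 := hf.ne (by decide)
  have n43 : f 4 ≠ f 3 := hf.ne (by decide)
  simp only [Bool.or_eq_true, beq_iff_eq, n10, false_or] at h1
  have h2 := allFin5_spec h1 (f 2)
  simp only [Bool.or_eq_true, beq_iff_eq, n20, n21, false_or, or_self] at h2
  have h3 := allFin5_spec h2 (f 3)
  simp only [Bool.or_eq_true, beq_iff_eq, n30, n31, n32, false_or, or_self] at h3
  have h4 := allFin5_spec h3 (f 4)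
  simpa only [Bool.or_eq_true, beq_iff_eq, n40, n41, n42, n43, false_or, or_self] using h4

def isId5 (a0 a1 a2 a3 a4 : Fin 5) : Bool := a0 == 0 && a1 == 1 && a2 == 2 && a3 == 3 && a4 == 4

def check5 : Bool :=
  enumPerms fun a0 a1 a2 a3 a4 => (a0 != 1) ||
    enumPerms fun b0 b1 b2 b3 b4 => isId5 b0 b1 b2 b3 b4 ||
      goodB (look5 a0 a1 a2 a3 a4) (look5 b0 b1 b2 b3 b4)

set_option maxRecDepth 1000000 in
theorem check5_true : check5 = true := by decide +kernel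

set_option maxRecDepth 100000 in
theorem H5p_corr : ∀ p ∈ H5p, ∃ h : Perm (Fin 5), Perm.sign h = 1 ∧ (∀ x, h x = p.1 x) ∧
    (∀ x, h⁻¹ x = p.2 x) := by
  intro p hp
  simp only [H5p, List.mem_cons, List.not_mem_nil, or_false] at hp
  rcases hp with rfl | rfl | rfl | rfl | rfl | rfl | rfl
  · exact ⟨swap 0 1 * swap 1 2 * swap 2 3 * swap 3 4, by decide, by decide, by decide⟩
  · exact ⟨swap 0 2 * swap 2 4 * swap 4 3 * swap 3 1, by decide, by decide, by decide⟩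
  · exact ⟨swap 1 2 * swap 2 3, by decide, by decide, by decide⟩
  · exact ⟨swap 1 3 * swap 3 2, by decide, by decide, by decide⟩
  · exact ⟨swap 1 2 * swap 3 4, by decide, by decide, by decide⟩
  · exact ⟨swap 0 4 * swap 4 3, by decide, by decide, by decide⟩
  · exact ⟨swap 0 3 * swap 3 4 * swap 4 1 * swap 1 2, by decide, by decide, by decide⟩

theorem look5_eq (f : Fin 5 → Fin 5) : look5 (f 0) (f 1) (f 2) (f 3) (f 4) = f := by
  funext i
  fin_cases i <;> rfl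

/-- the computational base case, normalised so that `a 0 = 1` -/
theorem base5_aux (a b : Perm (Fin 5)) (ha : a 0 = 1) (hb : b ≠ 1) :
    ∃ h : Perm (Fin 5), Perm.sign h = 1 ∧ fixc (a * b) ≠ fixc (a * (h * b * h⁻¹)) := by
  have h1 := enumPerms_spec check5_true (⇑a) a.injective
  have hne : ((a 0 != 1) = false) := by simp [ha]
  rw [hne, Bool.false_or] at h1
  have h2 := enumPerms_spec h1 (⇑b) b.injective
  have hid : isId5 (b 0) (b 1) (b 2) (b 3) (b 4) = false := by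
    rw [Bool.eq_false_iff]
    intro hh
    simp only [isId5, Bool.and_eq_true, beq_iff_eq] at hh
    obtain ⟨⟨⟨⟨h0, h1⟩, h2⟩, h3⟩, h4⟩ := hh
    apply hb
    ext x
    fin_cases x <;> simp [h0, h1, h2, h3, h4]
  rw [hid, Bool.false_or, look5_eq, look5_eq] at h2
  simp only [goodB, List.any_eq_true, bne_iff_ne] at h2
  obtain ⟨p, hp, hne⟩ := h2
  obtain ⟨h, hs, hh1, hh2⟩ := H5p_corr p hp
  refine ⟨h, hs, ?_⟩
  rw [cnt5_eq, cnt5_eq] at hne
  simp only [fixc, Perm.mul_apply, hh1, hh2]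
  exact hne

/-- the base case `n = 5` on `Fin 5` -/
theorem base5 (a b : Perm (Fin 5)) (ha : a ≠ 1) (hb : b ≠ 1) :
    ∃ h₁ h₂ : Perm (Fin 5), Perm.sign h₁ = 1 ∧ Perm.sign h₂ = 1 ∧
      fixc (a * (h₁ * b * h₁⁻¹)) ≠ fixc (a * (h₂ * b * h₂⁻¹)) := by
  obtain ⟨x, hx⟩ : ∃ x, a x ≠ x := by
    by_contra hall
    push Not at hall
    exact ha (Equiv.ext hall)
  obtain ⟨σ, hσ⟩ := Equiv.Perm.exists_extending_pair ![x, a x] ![(0 : Fin 5), 1]
    (inj2 (Ne.symm hx)) (inj2 (by decide))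
  have hσ0 : σ x = 0 := hσ 0
  have hσ1 : σ (a x) = 1 := hσ 1
  have ha' : (σ * a * σ⁻¹) 0 = 1 := by
    rw [← hσ0]; simp [Perm.mul_apply, hσ1]
  have hb' : σ * b * σ⁻¹ ≠ 1 := by
    intro h
    apply hb
    have := congrArg (fun t => σ⁻¹ * t * σ) h
    simpa [mul_assoc] using this
  obtain ⟨h, hs, hne⟩ := base5_aux (σ * a * σ⁻¹) (σ * b * σ⁻¹) ha' hb'
  refine ⟨1, σ⁻¹ * h * σ, by simp, by simp [Perm.sign_mul, hs], ?_⟩
  have e1 : σ * a * σ⁻¹ * (σ * b * σ⁻¹) = σ * (a * (1 * b * 1⁻¹)) * σ⁻¹ := by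
    simp [mul_assoc]
  have e2 : σ * a * σ⁻¹ * (h * (σ * b * σ⁻¹) * h⁻¹)
      = σ * (a * (σ⁻¹ * h * σ * b * (σ⁻¹ * h * σ)⁻¹)) * σ⁻¹ := by
    simp [mul_assoc]
  rw [e1, e2, fixc_conj, fixc_conj] at hne
  exact hne

end Cfsg.Agent.Helper38
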