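import Mathlib
import Cfsg.Agent.Helper38.FixBase

set_option autoImplicit false

namespace Cfsg.Agent.Helper38

open Equiv Finset

/-- products of `A`-conjugates of two nontrivial permutations do not have a constant number of
fixed points -/
def Q (α : Type*) [Fintype α] [DecidableEq α] : Prop :=
  ∀ a b : Perm α, a ≠ 1 → b ≠ 1 → ∃ h₁ h₂ : Perm α, Perm.sign h₁ = 1 ∧ Perm.sign h₂ = 1 ∧
    fixc (a * (h₁ * b * h₁⁻¹)) ≠ fixc (a * (h₂ * b * h₂⁻¹))

section
variable {α : Type*} [Fintype α] [DecidableEq α]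

theorem fixc_permCongr {β : Type*} [Fintype β] [DecidableEq β] (e : α ≃ β) (π : Perm α) :
    fixc (e.permCongr π) = fixc π := by
  rw [fixc, fixc]
  symm
  apply Finset.card_equiv e
  intro x
  rw [Finset.mem_filter, Finset.mem_filter]
  simp only [Finset.mem_univ, true_and, Equiv.permCongr_apply,
    Equiv.symm_apply_apply, EmbeddingLike.apply_eq_iff_eq]

theorem Q_of_equiv {β : Type*} [Fintype β] [DecidableEq β] (e : α ≃ β) (hβ : Q β) : Q α := by
  intro a b ha hb
  have ha' : e.permCongrHom a ≠ 1 := by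
    intro h; exact ha ((MulEquiv.map_eq_one_iff e.permCongrHom).1 h)
  have hb' : e.permCongrHom b ≠ 1 := by
    intro h; exact hb ((MulEquiv.map_eq_one_iff e.permCongrHom).1 h)
  obtain ⟨h₁, h₂, hs₁, hs₂, hne⟩ := hβ _ _ ha' hb'
  refine ⟨e.permCongrHom.symm h₁, e.permCongrHom.symm h₂, ?_, ?_, ?_⟩
  · have := Perm.sign_permCongr e (e.permCongrHom.symm h₁)
    rw [← this, ← hs₁]
    congr 1
    exact e.permCongrHom.apply_symm_apply h₁
  · have := Perm.sign_permCongr e (e.permCongrHom.symm h₂)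
    rw [← this, ← hs₂]
    congr 1
    exact e.permCongrHom.apply_symm_apply h₂
  · intro heq
    apply hne
    have key : ∀ h : Perm β, fixc (e.permCongrHom a * (h * e.permCongrHom b * h⁻¹))
        = fixc (a * (e.permCongrHom.symm h * b * (e.permCongrHom.symm h)⁻¹)) := by
      intro h
      rw [← fixc_permCongr e (a * (e.permCongrHom.symm h * b * (e.permCongrHom.symm h)⁻¹))]
      congr 1
      change _ = e.permCongrHom (a * (e.permCongrHom.symm h * b * (e.permCongrHom.symm h)⁻¹))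
      simp only [map_mul, map_inv, MulEquiv.apply_symm_apply]
    rw [key, key]
    exact heq

theorem fixc_swap_roles (a b h : Perm α) :
    fixc (a * (h⁻¹ * b * h⁻¹⁻¹)) = fixc (b⁻¹ * (h * a⁻¹ * h⁻¹)) := by
  rw [← fixc_inv (b⁻¹ * (h * a⁻¹ * h⁻¹)), ← fixc_conj h (a * (h⁻¹ * b * h⁻¹⁻¹))]
  congr 1
  group

theorem fixc_ofSubtype (p : α) (σ : Perm {x // x ≠ p}) :
    fixc (Perm.ofSubtype σ) = fixc σ + 1 := by
  rw [fixc_eq_sub, fixc_eq_sub, Perm.support_ofSubtype, Finset.card_map]
  have h1 : Fintype.card {x // x ≠ p} = Fintype.card α - 1 := by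
    rw [Fintype.card_subtype_compl, Fintype.card_subtype_eq]
  have h2 : σ.support.card ≤ Fintype.card {x // x ≠ p} := by
    rw [← Finset.card_univ]; exact Finset.card_le_card (Finset.subset_univ _)
  have h3 : 0 < Fintype.card α := Fintype.card_pos_iff.2 ⟨p⟩
  omega

end

/-- the inductive step when both permutations have a fixed point -/
theorem caseA {α : Type} [Fintype α] [DecidableEq α] (hn : 6 ≤ Fintype.card α)
    (IH : ∀ (β : Type) [Fintype β] [DecidableEq β], Fintype.card β + 1 = Fintype.card α → Q β)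
    (a b : Perm α) (ha : a ≠ 1) (hb : b ≠ 1) (p q : α) (hp : a p = p) (hq : b q = q) :
    ∃ h₁ h₂ : Perm α, Perm.sign h₁ = 1 ∧ Perm.sign h₂ = 1 ∧
      fixc (a * (h₁ * b * h₁⁻¹)) ≠ fixc (a * (h₂ * b * h₂⁻¹)) := by
  obtain ⟨h₀, hs₀, hh₀⟩ := exists_even_extending (fun _ : Fin 1 => q) (fun _ : Fin 1 => p)
    (fun i j _ => Subsingleton.elim i j) (fun i j _ => Subsingleton.elim i j) (by simpa using by omega)
  have hh₀' : h₀ q = p := hh₀ 0
  set b₀ := h₀ * b * h₀⁻¹ with hb₀
  have hb₀p : b₀ p = p := by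
    rw [hb₀, ← hh₀']; simp [Perm.mul_apply, hq]
  have hb₀1 : b₀ ≠ 1 := by
    intro h
    apply hb
    have := congrArg (fun t => h₀⁻¹ * t * h₀) h
    simpa [hb₀, mul_assoc] using this
  have hmem : ∀ (f : Perm α), f p = p → ∀ x, f x ≠ p ↔ x ≠ p := by
    intro f hf x
    constructor
    · intro h hx; exact h (hx ▸ hf)
    · intro h hx; exact h (f.injective (hx.trans hf.symm))
  have hsupp : ∀ (f : Perm α), f p = p → ∀ x, f x ≠ x → x ≠ p := by
    intro f hf x hx hxp; exact hx (hxp ▸ hf)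
  set a' : Perm {x // x ≠ p} := Perm.subtypePerm (p := fun x => x ≠ p) a (hmem a hp) with ha'
  set b' : Perm {x // x ≠ p} := Perm.subtypePerm (p := fun x => x ≠ p) b₀ (hmem b₀ hb₀p) with hb'
  have hoa : Perm.ofSubtype a' = a :=
    Perm.ofSubtype_subtypePerm (p := fun x => x ≠ p) (hmem a hp) (hsupp a hp)
  have hob : Perm.ofSubtype b' = b₀ :=
    Perm.ofSubtype_subtypePerm (p := fun x => x ≠ p) (hmem b₀ hb₀p) (hsupp b₀ hb₀p)
  have ha'1 : a' ≠ 1 := by
    intro h; apply ha; rw [← hoa, h, map_one]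
  have hb'1 : b' ≠ 1 := by
    intro h; apply hb₀1; rw [← hob, h, map_one]
  have hcard : Fintype.card {x // x ≠ p} + 1 = Fintype.card α := by
    rw [Fintype.card_subtype_compl, Fintype.card_subtype_eq]
    have : 0 < Fintype.card α := Fintype.card_pos_iff.2 ⟨p⟩
    omega
  obtain ⟨h₁', h₂', hs₁, hs₂, hne⟩ := IH {x // x ≠ p} hcard a' b' ha'1 hb'1
  refine ⟨Perm.ofSubtype h₁' * h₀, Perm.ofSubtype h₂' * h₀, ?_, ?_, ?_⟩
  · rw [Perm.sign_mul, Perm.sign_ofSubtype, hs₁, hs₀]; rfl
  · rw [Perm.sign_mul, Perm.sign_ofSubtype, hs₂, hs₀]; rfl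
  · have key : ∀ h' : Perm {x // x ≠ p},
        a * (Perm.ofSubtype h' * h₀ * b * (Perm.ofSubtype h' * h₀)⁻¹)
          = Perm.ofSubtype (a' * (h' * b' * h'⁻¹)) := by
      intro h'
      rw [map_mul, map_mul, map_mul, map_inv, hoa, hob, hb₀]
      simp [mul_assoc]
    rw [key, key, fixc_ofSubtype, fixc_ofSubtype]
    omega

/-- the main induction -/
theorem Q_of_card : ∀ n, 5 ≤ n → ∀ (α : Type) [Fintype α] [DecidableEq α],
    Fintype.card α = n → Q α := by
  intro n hn
  induction n, hn using Nat.le_induction with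
  | base =>
    intro α _ _ hcard
    exact Q_of_equiv (Fintype.equivFinOfCardEq hcard) (fun a b ha hb => base5 a b ha hb)
  | succ n hn ih =>
    intro α _ _ hcard
    intro a b ha hb
    have h6 : 6 ≤ Fintype.card α := by omega
    by_cases hfa : ∃ p, a p = p
    · by_cases hfb : ∃ q, b q = q
      · obtain ⟨p, hp⟩ := hfa
        obtain ⟨q, hq⟩ := hfb
        exact caseA h6 (fun β _ _ hβ => ih β (by omega)) a b ha hb p q hp hq
      · push Not at hfb
        -- b fixed-point-free: apply case B to (b⁻¹, a⁻¹)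
        have hb' : ∀ x, b⁻¹ x ≠ x := by
          intro x hx
          apply hfb x
          have := congrArg b hx
          simpa using this.symm
        have ha' : a⁻¹ ≠ 1 := by
          intro h; apply ha; simpa using h
        obtain ⟨h₁, h₂, hs₁, hs₂, hne⟩ := caseB h6 b⁻¹ a⁻¹ hb' ha'
        refine ⟨h₁⁻¹, h₂⁻¹, by simpa using hs₁, by simpa using hs₂, ?_⟩
        rw [fixc_swap_roles, fixc_swap_roles]
        exact hne
    · push Not at hfa
      exact caseB h6 a b hfa hb

end Cfsg.Agent.Helper38
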