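import Mathlib

/-!
# Fourier idempotents of a matrix representation of the additive group `ι → F`
-/

set_option autoImplicit false

namespace Cfsg.Agent.Helper38

open Matrix

section fourier
variable {F : Type*} [Field F] [Fintype F] {ι : Type*} [Fintype ι] [DecidableEq ι]
  {K' : Type*} [Field K'] {d : ℕ}

/-- the character `v ↦ ψ(-(v ⋅ b))` -/
def chiV (ψ : AddChar F K') (v b : ι → F) : K' := ψ (-(v ⬝ᵥ b))

omit [Fintype F] [DecidableEq ι] in
theorem chiV_zero_right (ψ : AddChar F K') (v : ι → F) : chiV ψ v 0 = 1 := by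
  unfold chiV; simp

omit [Fintype F] [DecidableEq ι] in
theorem chiV_add_left (ψ : AddChar F K') (v w b : ι → F) :
    chiV ψ (v + w) b = chiV ψ v b * chiV ψ w b := by
  unfold chiV
  rw [← AddChar.map_add_eq_mul, add_dotProduct, neg_add]

omit [Fintype F] [DecidableEq ι] in
theorem chiV_shift (ψ : AddChar F K') (v s b b' : ι → F) :
    chiV ψ v b * chiV ψ (s - v) b' = chiV ψ v (b - b') * chiV ψ s b' := by
  unfold chiV
  rw [← AddChar.map_add_eq_mul, ← AddChar.map_add_eq_mul, sub_dotProduct, dotProduct_sub]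
  congr 1
  ring

omit [Fintype F] [DecidableEq ι] in
theorem chiV_symm (ψ : AddChar F K') (v b : ι → F) : chiV ψ v b = chiV ψ b v := by
  unfold chiV
  rw [dotProduct_comm]

omit [Fintype F] [DecidableEq ι] in
theorem chiV_neg_left (ψ : AddChar F K') (v b : ι → F) : chiV ψ (-v) b = ψ (v ⬝ᵥ b) := by
  unfold chiV
  rw [neg_dotProduct, neg_neg]

/-- orthogonality -/
theorem sum_chiV [DecidableEq F] (ψ : AddChar F K') (hψ : ψ ≠ 1) (c : ι → F) :
    ∑ v : ι → F, chiV ψ v c = if c = 0 then (Fintype.card (ι → F) : K') else 0 := by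
  split_ifs with h
  · subst h
    simp [chiV_zero_right]
  · have hc : ∃ j, c j ≠ 0 := by
      by_contra hcon
      push Not at hcon
      exact h (funext hcon)
    obtain ⟨j, hj⟩ := hc
    obtain ⟨y, hy⟩ := AddChar.ne_one_iff.1 hψ
    set r₀ : ι → F := Pi.single j (-y / c j) with hr₀
    have hval : chiV ψ r₀ c = ψ y := by
      unfold chiV
      rw [hr₀, single_dotProduct]
      congr 1
      field_simp
    have hsum : ∑ v : ι → F, chiV ψ v c = ψ y * ∑ v : ι → F, chiV ψ v c := by
      rw [Finset.mul_sum, ← hval,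
        ← Fintype.sum_equiv (Equiv.addLeft r₀) (fun v => chiV ψ (r₀ + v) c)
          (fun v => chiV ψ v c) (fun v => rfl)]
      exact Finset.sum_congr rfl (fun v _ => chiV_add_left ψ r₀ v c)
    have : (1 - ψ y) * ∑ v : ι → F, chiV ψ v c = 0 := by
      rw [sub_mul, one_mul, ← hsum, sub_self]
    rcases mul_eq_zero.1 this with h' | h'
    · exact absurd (sub_eq_zero.1 h').symm hy
    · exact h'

/-- the Fourier idempotent attached to `b` -/
noncomputable def fIdem (ψ : AddChar F K') (T : (ι → F) → Matrix (Fin d) (Fin d) K')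
    (b : ι → F) : Matrix (Fin d) (Fin d) K' :=
  (Fintype.card (ι → F) : K')⁻¹ • ∑ v : ι → F, chiV ψ v b • T v

theorem fIdem_mul [DecidableEq F] (ψ : AddChar F K') (hψ : ψ ≠ 1)
    (hR : (Fintype.card (ι → F) : K') ≠ 0)
    (T : (ι → F) → Matrix (Fin d) (Fin d) K') (hTadd : ∀ v w, T (v + w) = T v * T w)
    (b b' : ι → F) :
    fIdem ψ T b * fIdem ψ T b' = if b - b' = 0 then fIdem ψ T b' else 0 := by
  unfold fIdem
  rw [smul_mul_smul_comm, Finset.sum_mul]
  have h1 : ∀ v : ι → F, (chiV ψ v b • T v) * ∑ w : ι → F, chiV ψ w b' • T w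
      = ∑ s : ι → F, (chiV ψ v (b - b') * chiV ψ s b') • T s := by
    intro v
    rw [Finset.mul_sum]
    rw [← Fintype.sum_equiv (Equiv.addLeft v)
      (fun w => (chiV ψ v b • T v) * (chiV ψ w b' • T w))
      (fun s => (chiV ψ v (b - b') * chiV ψ s b') • T s)]
    intro w
    rw [smul_mul_smul_comm, ← hTadd, Equiv.coe_addLeft]
    congr 1
    have := chiV_shift ψ v (v + w) b b'
    rw [add_sub_cancel_left] at this
    exact this
  rw [Finset.sum_congr rfl (fun v _ => h1 v), Finset.sum_comm]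
  have h2 : ∀ s : ι → F, ∑ v : ι → F, (chiV ψ v (b - b') * chiV ψ s b') • T s
      = (if b - b' = 0 then (Fintype.card (ι → F) : K') else 0) • (chiV ψ s b' • T s) := by
    intro s
    rw [← Finset.sum_smul, ← Finset.sum_mul, sum_chiV ψ hψ (b - b'), mul_smul]
  rw [Finset.sum_congr rfl (fun s _ => h2 s), ← Finset.smul_sum]
  split_ifs with h
  · rw [smul_smul]
    congr 1
    field_simp
  · rw [zero_smul, smul_zero]

theorem sum_fIdem [DecidableEq F] (ψ : AddChar F K') (hψ : ψ ≠ 1)
    (hR : (Fintype.card (ι → F) : K') ≠ 0)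
    (T : (ι → F) → Matrix (Fin d) (Fin d) K') (hT0 : T 0 = 1) :
    ∑ b : ι → F, fIdem ψ T b = 1 := by
  unfold fIdem
  rw [← Finset.smul_sum, Finset.sum_comm]
  have h1 : ∀ v : ι → F, ∑ b : ι → F, chiV ψ v b • T v
      = (if v = 0 then (Fintype.card (ι → F) : K') else 0) • T v := by
    intro v
    rw [← Finset.sum_smul]
    congr 1
    rw [Finset.sum_congr rfl (fun b _ => chiV_symm ψ v b), sum_chiV ψ hψ v]
  rw [Finset.sum_congr rfl (fun v _ => h1 v)]
  simp only [ite_smul, zero_smul, Finset.sum_ite_eq', Finset.mem_univ, if_true]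
  rw [hT0, smul_smul, inv_mul_cancel₀ hR, one_smul]

theorem T_mul_fIdem (ψ : AddChar F K')
    (T : (ι → F) → Matrix (Fin d) (Fin d) K') (hTadd : ∀ v w, T (v + w) = T v * T w)
    (w b : ι → F) :
    T w * fIdem ψ T b = ψ (w ⬝ᵥ b) • fIdem ψ T b := by
  unfold fIdem
  rw [Matrix.mul_smul, smul_comm (ψ (w ⬝ᵥ b))]
  congr 1
  rw [Finset.mul_sum, Finset.smul_sum]
  rw [← Fintype.sum_equiv (Equiv.addLeft w)
    (fun v => T w * (chiV ψ v b • T v))
    (fun s => ψ (w ⬝ᵥ b) • (chiV ψ s b • T s))]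
  intro v
  rw [Matrix.mul_smul, ← hTadd, Equiv.coe_addLeft, smul_smul]
  congr 1
  rw [chiV_add_left, ← mul_assoc]
  have : ψ (w ⬝ᵥ b) * chiV ψ w b = 1 := by
    unfold chiV
    rw [← AddChar.map_add_eq_mul, add_neg_cancel, AddChar.map_zero_eq_one]
  rw [this, one_mul]

/-- there are at most `d` non-zero Fourier idempotents -/
theorem card_le_of_fIdem_ne_zero [DecidableEq F] (ψ : AddChar F K') (hψ : ψ ≠ 1)
    (hR : (Fintype.card (ι → F) : K') ≠ 0)
    (T : (ι → F) → Matrix (Fin d) (Fin d) K') (hTadd : ∀ v w, T (v + w) = T v * T w)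
    (S : Finset (ι → F)) (hne : ∀ b ∈ S, fIdem ψ T b ≠ 0) :
    S.card ≤ d := by
  classical
  have hex : ∀ b : S, ∃ w : Fin d → K', fIdem ψ T b.1 *ᵥ w ≠ 0 := by
    intro b
    by_contra hcon
    push Not at hcon
    apply hne b.1 b.2
    ext i j
    have := congrFun (hcon (Pi.single j 1)) i
    rw [mulVec_single_one] at this
    simpa using this
  choose w hw using hex
  set v : S → (Fin d → K') := fun b => fIdem ψ T b.1 *ᵥ w b with hv
  have hmul : ∀ b b' : S, fIdem ψ T b'.1 *ᵥ v b = if b' = b then v b else 0 := by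
    intro b b'
    rw [hv]
    simp only
    rw [mulVec_mulVec, fIdem_mul ψ hψ hR T hTadd b'.1 b.1]
    by_cases h : b' = b
    · subst h
      rw [if_pos (sub_self _), if_pos rfl]
    · have : ¬ (b'.1 - b.1 = 0) := by
        intro h'
        apply h
        apply Subtype.ext
        exact sub_eq_zero.1 h'
      rw [if_neg this, if_neg h, zero_mulVec]
  have hli : LinearIndependent K' v := by
    rw [linearIndependent_iff']
    intro s g hsum b₀ hb₀
    have h1 := congrArg (fun x => fIdem ψ T b₀.1 *ᵥ x) hsum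
    simp only [mulVec_zero] at h1
    rw [mulVec_sum] at h1
    have h2 : ∀ b ∈ s, fIdem ψ T b₀.1 *ᵥ (g b • v b) = if b₀ = b then g b • v b else 0 := by
      intro b _
      rw [mulVec_smul, hmul b b₀]
      split_ifs <;> simp
    rw [Finset.sum_congr rfl h2, Finset.sum_ite_eq, if_pos hb₀] at h1
    rcases smul_eq_zero.1 h1 with h | h
    · exact h
    · exact absurd h (hw b₀)
  have hcard := hli.fintype_card_le_finrank
  rw [Module.finrank_fin_fun, Fintype.card_coe] at hcard
  exact hcard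

end fourier

end Cfsg.Agent.Helper38
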