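/-
helper38 (for helper81, WANTED #4127 GA-B1, S4840): a finite group acting faithfully on `V` by semilinear maps
`v ↦ a σ(v)` of a finite field `F ≅ V` has a normal `p`-complement and commutative Sylow `p`-subgroups.
-/
import Mathlib
import Cfsg.Agent.Helper81.GA0

set_option autoImplicit false

namespace Cfsg.Agent.Helper38.GAB1

open Cfsg Cfsg.Agent.Helper81.GA

universe u

section field

variable {F : Type*} [Field F] [Finite F]

/-- the automorphism group of a finite field is commutative (as in `Helper37.Bal.ringAut_comm`; restated here to keep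
the imports of this file light) -/
theorem ringAut_comm (ρ τ : F ≃+* F) : ρ * τ = τ * ρ := by
  classical
  have : Fintype F := Fintype.ofFinite F
  obtain ⟨ζ, hζ⟩ := IsCyclic.exists_generator (α := Fˣ)
  have key : ∀ σ : F ≃+* F, ∃ a : ℕ, σ (ζ : F) = (ζ : F) ^ a := by
    intro σ
    have h1 : Units.map (σ : F →* F) ζ ∈ Subgroup.zpowers ζ := hζ _
    obtain ⟨a, ha⟩ := (mem_powers_iff_mem_zpowers.2 h1)
    refine ⟨a, ?_⟩
    have h2 := congrArg (fun u : Fˣ => (u : F)) ha
    simp only [Units.val_pow_eq_pow_val] at h2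
    rw [h2]
    rfl
  obtain ⟨a, ha⟩ := key ρ
  obtain ⟨b, hb⟩ := key τ
  have hgen : ∀ σ σ' : F ≃+* F, σ (ζ : F) = σ' (ζ : F) → σ = σ' := by
    intro σ σ' h
    ext x
    by_cases hx : x = 0
    · rw [hx, map_zero, map_zero]
    · have h1 : Units.mk0 x hx ∈ Subgroup.zpowers ζ := hζ _
      obtain ⟨n, hn⟩ := (mem_powers_iff_mem_zpowers.2 h1)
      have h2 : x = (ζ : F) ^ n := by
        have := congrArg (fun u : Fˣ => (u : F)) hn
        simp only [Units.val_pow_eq_pow_val, Units.val_mk0] at this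
        exact this.symm
      rw [h2, map_pow, map_pow, h]
  apply hgen
  show ρ (τ (ζ : F)) = τ (ρ (ζ : F))
  rw [ha, hb, map_pow, map_pow, ha, hb, ← pow_mul, ← pow_mul, mul_comm]

end field

/-- A normal subgroup of order prime to `p` and `p`-power index is a normal `p`-complement
(as in `Helper4.hasNormalPComplement_of_coprime_of_index`; restated to keep the imports light). -/
theorem hasNormalPComplement_of_coprime_of_index {X : Type*} [Group X] [Finite X] (p : ℕ)
    [hp : Fact p.Prime] (N : Subgroup X) [hN : N.Normal] (hc : (Nat.card N).Coprime p) (m : ℕ)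
    (hm : N.index = p ^ m) : Cfsg.HasNormalPComplement p X := by
  obtain ⟨P⟩ : Nonempty (Sylow p X) := inferInstance
  refine ⟨P, N, hN, ?_⟩
  have hcardP : Nat.card P = p ^ m := by
    rw [Sylow.card_eq_multiplicity, ← Subgroup.card_mul_index N, hm]
    have hN0 : Nat.card N ≠ 0 := Nat.card_pos.ne'
    rw [Nat.factorization_mul hN0 (pow_ne_zero _ hp.out.ne_zero), Finsupp.add_apply,
      Nat.factorization_eq_zero_of_not_dvd ((Nat.Prime.coprime_iff_not_dvd hp.out).mp hc.symm),
      zero_add, Nat.factorization_pow, Finsupp.smul_apply, hp.out.factorization_self, smul_eq_mul,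
      mul_one]
  apply Subgroup.isComplement'_of_coprime
  · rw [hcardP, ← hm]
    exact Subgroup.card_mul_index N
  · rw [hcardP]
    exact hc.pow_right m

section main

variable (p : ℕ) [Fact p.Prime] {V : Type*} [AddCommGroup V] [Module (ZMod p) V]
  {Γ : Type u} [Group Γ] (ρ : Γ →* (V ≃ₗ[ZMod p] V)) {F : Type} [Field F] (e : V ≃+ F)

/-- `g` acts as `x ↦ a σ(x)` -/
def Rel (g : Γ) (a : F) (σ : F ≃+* F) : Prop := ∀ v : V, e (ρ g v) = a * σ (e v)

variable {p ρ e}

theorem Rel.apply {g : Γ} {a : F} {σ : F ≃+* F} (h : Rel p ρ e g a σ) (x : F) :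
    e (ρ g (e.symm x)) = a * σ x := by
  have := h (e.symm x)
  rwa [AddEquiv.apply_symm_apply] at this

theorem Rel.fst_eq {g : Γ} {a : F} {σ : F ≃+* F} (h : Rel p ρ e g a σ) : a = e (ρ g (e.symm 1)) := by
  rw [h.apply, map_one, mul_one]

theorem Rel.fst_ne_zero {g : Γ} {a : F} {σ : F ≃+* F} (h : Rel p ρ e g a σ) : a ≠ 0 := by
  intro ha
  have h1 : e (ρ g (e.symm 1)) = 0 := by rw [h.apply, ha, zero_mul]
  have h2 : ρ g (e.symm 1) = 0 := (AddEquiv.map_eq_zero_iff e).mp h1
  have h3 : e.symm (1 : F) = 0 := (LinearEquiv.map_eq_zero_iff (ρ g)).mp h2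
  have h4 : (1 : F) = 0 := (AddEquiv.map_eq_zero_iff e.symm).mp h3
  exact one_ne_zero h4

theorem Rel.unique {g : Γ} {a a' : F} {σ σ' : F ≃+* F} (h : Rel p ρ e g a σ) (h' : Rel p ρ e g a' σ') :
    a = a' ∧ σ = σ' := by
  have haa : a = a' := by rw [h.fst_eq, h'.fst_eq]
  refine ⟨haa, ?_⟩
  ext x
  have h1 := h.apply x
  have h2 := h'.apply x
  rw [h1, ← haa] at h2
  exact mul_left_cancel₀ h.fst_ne_zero h2

theorem Rel.mul {g h : Γ} {a b : F} {σ τ : F ≃+* F} (hg : Rel p ρ e g a σ) (hh : Rel p ρ e h b τ) :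
    Rel p ρ e (g * h) (a * σ b) (σ * τ) := by
  intro v
  rw [map_mul]
  show e (ρ g (ρ h v)) = a * σ b * σ (τ (e v))
  rw [hg (ρ h v), hh v, map_mul, mul_assoc]

theorem Rel.one_pow {g : Γ} {a : F} (hg : Rel p ρ e g a 1) (k : ℕ) : Rel p ρ e (g ^ k) (a ^ k) 1 := by
  induction k with
  | zero =>
    intro v
    rw [pow_zero, pow_zero, map_one, one_mul]
    rfl
  | succ k ih =>
    have := ih.mul hg
    rw [pow_succ, pow_succ]
    simpa using this

end main

theorem linConcl_of_semilinear (p : ℕ) [Fact p.Prime] {V : Type*} [AddCommGroup V] [Module (ZMod p) V]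
    [Finite V] [Nontrivial V] {Γ : Type u} [Group Γ] [Finite Γ] (ρ : Γ →* (V ≃ₗ[ZMod p] V))
    (hρ : Function.Injective ρ) (F : Type) [Field F] [Fintype F] (e : V ≃+ F)
    (hsl : ∀ g : Γ, ∃ (a : F) (σ : F ≃+* F), ∀ v : V, e (ρ g v) = a * σ (e v)) : LinConcl p Γ := by
  classical
  have hp : p.Prime := Fact.out
  -- the two components
  choose af sf hrel using hsl
  have hrel' : ∀ g, Rel p ρ e g (af g) (sf g) := hrel
  -- the homomorphism `g ↦ σ_g`
  let sg : Γ →* (F ≃+* F) := MonoidHom.mk' sf (fun g h =>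
    (((hrel' (g * h)).unique ((hrel' g).mul (hrel' h))).2))
  have hsg : ∀ g, sg g = sf g := fun g => rfl
  have hcomm : ∀ x y : F ≃+* F, Commute x y := fun x y => ringAut_comm x y
  -- the characteristic
  have hpF : (p : F) = 0 := by
    have h1 : (p : ZMod p) • e.symm (1 : F) = 0 := by
      rw [ZMod.natCast_self, zero_smul]
    have h2 : p • e.symm (1 : F) = 0 := by
      rw [← h1, Nat.cast_smul_eq_nsmul]
    have h3 : e (p • e.symm (1 : F)) = 0 := by rw [h2, map_zero]
    rw [map_nsmul, AddEquiv.apply_symm_apply, nsmul_eq_mul, mul_one] at h3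
    exact h3
  have : CharP F p := (CharP.charP_iff_prime_eq_zero hp).mpr hpF
  obtain ⟨n, hn⟩ := FiniteField.card F p
  set q := Fintype.card F with hq
  have hqp : Nat.Coprime (q - 1) p := by
    rw [hn.2]
    have h1 : 1 ≤ p ^ (n : ℕ) := Nat.one_le_pow _ _ hp.pos
    have h2 : p ∣ p ^ (n : ℕ) := dvd_pow_self p n.ne_zero
    rw [Nat.coprime_comm, Nat.Prime.coprime_iff_not_dvd hp]
    intro h3
    have : p ∣ 1 := by
      have h4 := Nat.dvd_sub h2 h3
      rwa [Nat.sub_sub_self h1] at h4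
    exact hp.one_lt.ne' (Nat.dvd_one.mp this)
  -- elements of the kernel of `sg` have order dividing `q - 1`
  have hker : ∀ g : Γ, sg g = 1 → g ^ (q - 1) = 1 := by
    intro g hg
    have h1 : Rel p ρ e g (af g) 1 := by
      have := hrel' g
      rw [← hsg, hg] at this
      exact this
    have h2 := h1.one_pow (q - 1)
    have h3 : af g ^ (q - 1) = 1 := FiniteField.pow_card_sub_one_eq_one (af g) h1.fst_ne_zero
    apply hρ
    rw [map_one]
    ext v
    apply e.injective
    rw [h2 v, h3, one_mul]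
    rfl
  -- the range of `sg`
  have hfin : Finite (F ≃+* F) := DFunLike.finite _
  obtain ⟨k, m, hm, hkm⟩ := Nat.exists_eq_pow_mul_and_not_dvd (Nat.card_pos (α := sg.range)).ne' p
    hp.ne_one
  have hpow : ∀ g : Γ, sg g ^ (p ^ k * m) = 1 := by
    intro g
    have h1 : (⟨sg g, g, rfl⟩ : sg.range) ^ Nat.card sg.range = 1 := pow_card_eq_one'
    have h2 := congrArg Subtype.val h1
    rw [Subgroup.coe_pow, Subgroup.coe_one, hkm] at h2
    exact h2
  -- the normal `p`-complement
  let B : Subgroup Γ :=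
    { carrier := {g | sg g ^ m = 1}
      mul_mem' := by
        intro a b ha hb
        show sg (a * b) ^ m = 1
        rw [map_mul, (hcomm _ _).mul_pow, ha, hb, mul_one]
      one_mem' := by
        show sg 1 ^ m = 1
        rw [map_one, one_pow]
      inv_mem' := by
        intro a ha
        show sg a⁻¹ ^ m = 1
        rw [map_inv, inv_pow, ha, inv_one] }
  have hBmem : ∀ g, g ∈ B ↔ sg g ^ m = 1 := fun g => Iff.rfl
  have hBn : B.Normal := by
    constructor
    intro g hg h
    rw [hBmem] at hg ⊢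
    rw [map_mul, map_mul, map_inv, (hcomm (sg h) (sg g)).eq, mul_assoc, mul_inv_cancel, mul_one]
    exact hg
  have hBord : ∀ g ∈ B, g ^ (m * (q - 1)) = 1 := by
    intro g hg
    rw [pow_mul]
    apply hker
    rw [map_pow]
    exact hg
  have hBcop : (Nat.card B).Coprime p := by
    rw [Nat.coprime_comm, Nat.Prime.coprime_iff_not_dvd hp]
    intro hdvd
    obtain ⟨x, hx⟩ := exists_prime_orderOf_dvd_card' p hdvd
    have h1 : (x : Γ) ^ (m * (q - 1)) = 1 := hBord x x.2
    have h2 : orderOf (x : Γ) ∣ m * (q - 1) := orderOf_dvd_of_pow_eq_one h1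
    rw [Subgroup.orderOf_coe, hx] at h2
    rcases (Nat.Prime.dvd_mul hp).mp h2 with h3 | h3
    · exact hm h3
    · exact (Nat.Prime.coprime_iff_not_dvd hp).mp hqp.symm h3
  have hBidx : ∃ j : ℕ, B.index = p ^ j := by
    have hPG : IsPGroup p (Γ ⧸ B) := by
      intro x
      obtain ⟨g, rfl⟩ := QuotientGroup.mk_surjective x
      refine ⟨k, ?_⟩
      rw [← QuotientGroup.mk_pow, QuotientGroup.eq_one_iff, hBmem, map_pow, ← pow_mul]
      exact hpow g
    obtain ⟨j, hj⟩ := IsPGroup.iff_card.mp hPG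
    exact ⟨j, by rw [Subgroup.index_eq_card, hj]⟩
  obtain ⟨j, hj⟩ := hBidx
  refine ⟨hasNormalPComplement_of_coprime_of_index p B hBcop j hj, ?_⟩
  -- Sylow `p`-subgroups are commutative
  intro Q
  refine ⟨⟨fun x y => ?_⟩⟩
  apply Subtype.ext
  show (x : Γ) * (y : Γ) = (y : Γ) * (x : Γ)
  set c : Γ := (x : Γ) * (y : Γ) * (x : Γ)⁻¹ * (y : Γ)⁻¹ with hc
  have hcQ : c ∈ (Q : Subgroup Γ) :=
    Subgroup.mul_mem _ (Subgroup.mul_mem _ (Subgroup.mul_mem _ x.2 y.2) (Subgroup.inv_mem _ x.2))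
      (Subgroup.inv_mem _ y.2)
  have hcker : sg c = 1 := by
    rw [hc, map_mul, map_mul, map_mul, map_inv, map_inv, (hcomm (sg x) (sg y)).eq]
    group
  have hc1 : c ^ (q - 1) = 1 := hker c hcker
  obtain ⟨i, hi⟩ := (IsPGroup.iff_orderOf.mp Q.isPGroup') ⟨c, hcQ⟩
  rw [Subgroup.orderOf_mk] at hi
  have hc2 : orderOf c ∣ q - 1 := orderOf_dvd_of_pow_eq_one hc1
  have hc3 : orderOf c = 1 := by
    have h1 : Nat.Coprime (orderOf c) (orderOf c) := by
      refine Nat.Coprime.coprime_dvd_left hc2 ?_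
      rw [hi]
      exact hqp.pow_right i
    exact (Nat.coprime_self _).mp h1
  have hc4 : c = 1 := orderOf_eq_one_iff.mp hc3
  have : (x : Γ) * (y : Γ) = c * ((y : Γ) * (x : Γ)) := by
    rw [hc]
    group
  rw [this, hc4, one_mul]

end Cfsg.Agent.Helper38.GAB1
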