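/-
helper38 (for helper37, WANTED #4194 (GR-B), S2733): a similarity `g` of a non-degenerate quadratic space of
dimension `2(2k+1)` over a finite field `F` of odd order with `g² = lam` (the multiplier, a non-square) makes the
space a `(2k+1)`-dimensional space over `E = F(√lam)`, and `Q` is the real part of `c` times the standard odd form
over `E` in a suitable `E`-basis.
-/
import Mathlib
import Cfsg.Agent.Helper44.Classify2
import Cfsg.Agent.Helper44.StdForms

set_option autoImplicit false
set_option linter.unusedSectionVars false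
set_option linter.unusedVariables false

open Matrix

namespace Cfsg.Agent.Helper38.GRB

open QuadraticMap Cfsg.Agent.Helper44

section space

variable {F : Type*} [Field F] {ι : Type} [Fintype ι] [DecidableEq ι]

/-- The space `ι → F`, to be viewed as a module over `F(√lam)` via the matrix `g` with `g² = lam`. -/
def XS (lam : F) (_g : Matrix ι ι F) : Type _ := ι → F

variable (lam : F) (g : Matrix ι ι F)

instance : AddCommGroup (XS lam g) := inferInstanceAs (AddCommGroup (ι → F))

instance : Module F (XS lam g) := inferInstanceAs (Module F (ι → F))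

instance : FiniteDimensional F (XS lam g) := inferInstanceAs (FiniteDimensional F (ι → F))

/-- the identity, as an `F`-linear equivalence -/
def ofX : XS lam g ≃ₗ[F] (ι → F) := LinearEquiv.refl F (ι → F)

/-- multiplication by `g`, as an `F`-linear endomorphism of `XS lam g` -/
def gX : XS lam g →ₗ[F] XS lam g := Matrix.mulVecLin g

theorem ofX_gX (v : XS lam g) : ofX lam g (gX lam g v) = g *ᵥ (ofX lam g v) := rfl

variable {lam g}

theorem gX_gX [hg : Fact (g * g = lam • (1 : Matrix ι ι F))] (v : XS lam g) :
    gX lam g (gX lam g v) = lam • v := by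
  show g *ᵥ (g *ᵥ (ofX lam g v)) = lam • (ofX lam g v)
  rw [Matrix.mulVec_mulVec, hg.out, Matrix.smul_mulVec, Matrix.one_mulVec]

instance instModuleE [hg : Fact (g * g = lam • (1 : Matrix ι ι F))] :
    Module (QuadraticAlgebra F lam 0) (XS lam g) where
  smul z v := z.re • v + z.im • gX lam g v
  one_smul v := by
    show (1 : QuadraticAlgebra F lam 0).re • v + (1 : QuadraticAlgebra F lam 0).im • gX lam g v = v
    rw [QuadraticAlgebra.re_one, QuadraticAlgebra.im_one, one_smul, zero_smul, add_zero]
  mul_smul z w v := by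
    show (z * w).re • v + (z * w).im • gX lam g v =
      z.re • (w.re • v + w.im • gX lam g v) + z.im • gX lam g (w.re • v + w.im • gX lam g v)
    rw [QuadraticAlgebra.re_mul, QuadraticAlgebra.im_mul, map_add, map_smul, map_smul, gX_gX]
    module
  smul_zero z := by
    show z.re • (0 : XS lam g) + z.im • gX lam g 0 = 0
    rw [map_zero, smul_zero, smul_zero, add_zero]
  smul_add z v w := by
    show z.re • (v + w) + z.im • gX lam g (v + w) =
      (z.re • v + z.im • gX lam g v) + (z.re • w + z.im • gX lam g w)
    rw [map_add]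
    module
  add_smul z w v := by
    show (z + w).re • v + (z + w).im • gX lam g v =
      (z.re • v + z.im • gX lam g v) + (w.re • v + w.im • gX lam g v)
    rw [QuadraticAlgebra.re_add, QuadraticAlgebra.im_add]
    module
  zero_smul v := by
    show (0 : QuadraticAlgebra F lam 0).re • v + (0 : QuadraticAlgebra F lam 0).im • gX lam g v = 0
    rw [QuadraticAlgebra.re_zero, QuadraticAlgebra.im_zero, zero_smul, zero_smul, add_zero]

theorem smul_def [Fact (g * g = lam • (1 : Matrix ι ι F))] (z : QuadraticAlgebra F lam 0) (v : XS lam g) :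
    z • v = z.re • v + z.im • gX lam g v := rfl

instance [Fact (g * g = lam • (1 : Matrix ι ι F))] :
    IsScalarTower F (QuadraticAlgebra F lam 0) (XS lam g) where
  smul_assoc c z v := by
    rw [smul_def, smul_def, QuadraticAlgebra.re_smul, QuadraticAlgebra.im_smul]
    module

theorem omega_smul [Fact (g * g = lam • (1 : Matrix ι ι F))] (v : XS lam g) :
    (⟨0, 1⟩ : QuadraticAlgebra F lam 0) • v = gX lam g v := by
  rw [smul_def]
  show (0 : F) • v + (1 : F) • gX lam g v = gX lam g v
  rw [zero_smul, one_smul, zero_add]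

theorem finrank_E [Fact (g * g = lam • (1 : Matrix ι ι F))] [Fact (∀ r : F, r ^ 2 ≠ lam + 0 * r)]
    (n : ℕ) (hcard : Fintype.card ι = 2 * n) :
    Module.finrank (QuadraticAlgebra F lam 0) (XS lam g) = n := by
  have h1 := Module.finrank_mul_finrank F (QuadraticAlgebra F lam 0) (XS lam g)
  rw [QuadraticAlgebra.finrank_eq_two] at h1
  have h2 : Module.finrank F (XS lam g) = Fintype.card ι := Module.finrank_fintype_fun_eq_card F
  rw [h2, hcard] at h1
  omega

end space

section general

variable {F : Type*} [Field F] {X : Type*} [AddCommGroup X] [Module F X]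

theorem q_lin (q : QuadraticForm F X) (a b : F) (v w : X) :
    q (a • v + b • w) = a * a * q v + b * b * q w + a * b * polar q v w := by
  rw [QuadraticMap.map_add q, QuadraticMap.map_smul, QuadraticMap.map_smul, polar_smul_left,
    polar_smul_right]
  simp only [smul_eq_mul]
  ring

theorem polar_lin (q : QuadraticForm F X) (a b c d : F) (v w x y : X) :
    polar q (a • v + b • w) (c • x + d • y) =
      a * c * polar q v x + a * d * polar q v y + b * c * polar q w x + b * d * polar q w y := by
  simp only [polar_add_left, polar_add_right, polar_smul_left, polar_smul_right, smul_eq_mul]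
  ring

variable (q : QuadraticForm F X) (G : X →ₗ[F] X) (lam : F)

theorem polar_G_G (hGq : ∀ v, q (G v) = lam * q v) (v w : X) :
    polar q (G v) (G w) = lam * polar q v w := by
  unfold polar
  rw [← map_add, hGq, hGq, hGq]
  ring

theorem polar_G_left (hlam : lam ≠ 0) (hG2 : ∀ v, G (G v) = lam • v) (hGq : ∀ v, q (G v) = lam * q v)
    (v w : X) : polar q (G v) w = polar q v (G w) := by
  have h1 : polar q (G v) (G (G w)) = lam * polar q v (G w) := polar_G_G q G lam hGq v (G w)
  rw [hG2, polar_smul_right, smul_eq_mul] at h1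
  exact mul_left_cancel₀ hlam h1

end general

section form

variable {F : Type*} [Field F] {ι : Type} [Fintype ι] [DecidableEq ι] {lam : F} {g : Matrix ι ι F}
  [hg : Fact (g * g = lam • (1 : Matrix ι ι F))]

/-- the function `v ↦ Q v + ω B(v, g v)/(2 lam)` -/
def extFun (q : QuadraticForm F (XS lam g)) (v : XS lam g) : QuadraticAlgebra F lam 0 :=
  ⟨q v, polar q v (gX lam g v) / (2 * lam)⟩

theorem extFun_re (q : QuadraticForm F (XS lam g)) (v : XS lam g) : (extFun q v).re = q v := rfl

theorem extFun_im (q : QuadraticForm F (XS lam g)) (v : XS lam g) :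
    (extFun q v).im = polar q v (gX lam g v) / (2 * lam) := rfl

variable (h2 : (2 : F) ≠ 0) (hlam : lam ≠ 0) (q : QuadraticForm F (XS lam g))
  (hGq : ∀ v, q (gX lam g v) = lam * q v)

include h2 hlam hGq in
theorem polar_extFun (x y : XS lam g) :
    polar (extFun q) x y = ⟨polar q x y, polar q x (gX lam g y) / lam⟩ := by
  apply QuadraticAlgebra.ext
  · show (extFun q (x + y) - extFun q x - extFun q y).re = _
    simp only [QuadraticAlgebra.re_sub, extFun_re]
    rfl
  · show (extFun q (x + y) - extFun q x - extFun q y).im = _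
    simp only [QuadraticAlgebra.im_sub, extFun_im]
    rw [map_add]
    have h := polar_lin q 1 1 1 1 x y (gX lam g x) (gX lam g y)
    simp only [one_smul, one_mul] at h
    rw [h]
    have h1 : polar q y (gX lam g x) = polar q x (gX lam g y) := by
      rw [polar_comm, polar_G_left q (gX lam g) lam hlam gX_gX hGq]
    rw [h1]
    field_simp
    ring

include h2 hlam hGq in
theorem extFun_smul (z : QuadraticAlgebra F lam 0) (v : XS lam g) :
    extFun q (z • v) = (z * z) • extFun q v := by
  have hP1 : polar q v v = 2 * q v := by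
    rw [polar_self, two_nsmul, two_mul]
  have hP2 : polar q (gX lam g v) (gX lam g v) = lam * (2 * q v) := by
    rw [polar_G_G q (gX lam g) lam hGq, hP1]
  have hP3 : polar q (gX lam g v) v = polar q v (gX lam g v) := polar_comm _ _ _
  rw [smul_eq_mul, smul_def]
  apply QuadraticAlgebra.ext
  · rw [extFun_re, QuadraticAlgebra.re_mul, QuadraticAlgebra.re_mul, QuadraticAlgebra.im_mul, extFun_re,
      extFun_im, q_lin, hGq]
    field_simp
    ring
  · rw [extFun_im, QuadraticAlgebra.im_mul, QuadraticAlgebra.re_mul, QuadraticAlgebra.im_mul, extFun_re,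
      extFun_im, map_add, map_smul, map_smul, gX_gX, smul_smul, polar_lin, hP1, hP2, hP3]
    field_simp
    ring

include h2 hlam hGq in
theorem polar_extFun_add_left (x x' y : XS lam g) :
    polar (extFun q) (x + x') y = polar (extFun q) x y + polar (extFun q) x' y := by
  rw [polar_extFun h2 hlam q hGq, polar_extFun h2 hlam q hGq, polar_extFun h2 hlam q hGq]
  apply QuadraticAlgebra.ext
  · show polar q (x + x') y = polar q x y + polar q x' y
    rw [polar_add_left]
  · show polar q (x + x') (gX lam g y) / lam = polar q x (gX lam g y) / lam + polar q x' (gX lam g y) / lam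
    rw [polar_add_left, add_div]

include h2 hlam hGq in
theorem polar_extFun_smul_left (z : QuadraticAlgebra F lam 0) (x y : XS lam g) :
    polar (extFun q) (z • x) y = z • polar (extFun q) x y := by
  rw [polar_extFun h2 hlam q hGq, polar_extFun h2 hlam q hGq, smul_eq_mul, smul_def]
  have h1 : polar q (gX lam g x) y = polar q x (gX lam g y) :=
    polar_G_left q (gX lam g) lam hlam gX_gX hGq x y
  have h3 : polar q (gX lam g x) (gX lam g y) = lam * polar q x y := polar_G_G q (gX lam g) lam hGq x y
  apply QuadraticAlgebra.ext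
  · rw [QuadraticAlgebra.re_mul]
    show polar q (z.re • x + z.im • gX lam g x) y = z.re * polar q x y + lam * z.im * (polar q x (gX lam g y) / lam)
    rw [polar_add_left, polar_smul_left, polar_smul_left, h1, smul_eq_mul, smul_eq_mul]
    field_simp
  · rw [QuadraticAlgebra.im_mul]
    show polar q (z.re • x + z.im • gX lam g x) (gX lam g y) / lam =
      z.re * (polar q x (gX lam g y) / lam) + z.im * polar q x y + 0 * z.im * (polar q x (gX lam g y) / lam)
    rw [polar_add_left, polar_smul_left, polar_smul_left, h3, smul_eq_mul, smul_eq_mul]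
    field_simp
    ring

/-- the `E`-quadratic form `v ↦ Q v + ω B(v, g v)/(2 lam)` -/
def extForm : QuadraticForm (QuadraticAlgebra F lam 0) (XS lam g) :=
  QuadraticMap.ofPolar (extFun q) (extFun_smul h2 hlam q hGq) (polar_extFun_add_left h2 hlam q hGq)
    (polar_extFun_smul_left h2 hlam q hGq)

theorem extForm_apply (v : XS lam g) : extForm h2 hlam q hGq v = extFun q v := rfl

theorem extForm_re (v : XS lam g) : (extForm h2 hlam q hGq v).re = q v := rfl

theorem polar_extForm_re (x y : XS lam g) : (polar (extForm h2 hlam q hGq) x y).re = polar q x y := by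
  have : polar (extForm h2 hlam q hGq) x y = polar (extFun q) x y := rfl
  rw [this, polar_extFun h2 hlam q hGq]

end form

section basis

theorem form_eq_of_basis {E : Type*} [Field E] {X : Type*} [AddCommGroup X] [Module E X] (k : ℕ)
    (Q' : QuadraticForm E X) (b' : Module.Basis (Unit ⊕ (Fin k ⊕ Fin k)) E X) (c : E)
    (h0 : Q' (b' (.inl ())) = c)
    (he : ∀ i, Q' (b' (.inr (.inl i))) = 0) (hf : ∀ i, Q' (b' (.inr (.inr i))) = 0)
    (h0e : ∀ i, polar Q' (b' (.inl ())) (b' (.inr (.inl i))) = 0)
    (h0f : ∀ i, polar Q' (b' (.inl ())) (b' (.inr (.inr i))) = 0)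
    (hee : ∀ i j, polar Q' (b' (.inr (.inl i))) (b' (.inr (.inl j))) = 0)
    (hff : ∀ i j, polar Q' (b' (.inr (.inr i))) (b' (.inr (.inr j))) = 0)
    (hef : ∀ i j, polar Q' (b' (.inr (.inl i))) (b' (.inr (.inr j))) = if i = j then c else 0)
    (v : Unit ⊕ (Fin k ⊕ Fin k) → E) :
    Q' (b'.equivFun.symm v) = c * Cfsg.quadFormOdd k E v := by
  classical
  let Q₂ : QuadraticForm E X := (c • oddForm k E).comp (b'.equivFun : X →ₗ[E] _)
  have hQ₂ : ∀ x, Q₂ x = c * Cfsg.quadFormOdd k E (b'.equivFun x) := fun x => rfl
  have hsingle : ∀ i, b'.equivFun (b' i) = Pi.single i 1 := by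
    intro i
    funext j
    rw [Module.Basis.equivFun_self, Pi.single_apply]
    simp only [eq_comm]
  have hpolQ₂ : ∀ x y, polar Q₂ x y =
      c * polar (Cfsg.quadFormOdd k E) (b'.equivFun x) (b'.equivFun y) := by
    intro x y
    unfold polar
    rw [hQ₂, hQ₂, hQ₂, map_add]
    ring
  have h0e' : ∀ i, polar Q' (b' (.inr (.inl i))) (b' (.inl ())) = 0 := fun i => by
    rw [polar_comm]; exact h0e i
  have h0f' : ∀ i, polar Q' (b' (.inr (.inr i))) (b' (.inl ())) = 0 := fun i => by
    rw [polar_comm]; exact h0f i
  have hfe : ∀ i j, polar Q' (b' (.inr (.inr i))) (b' (.inr (.inl j))) = if j = i then c else 0 :=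
    fun i j => by rw [polar_comm]; exact hef j i
  have key : Q' = Q₂ := by
    apply quadraticForm_ext_basis b'
    · intro i j
      rw [hpolQ₂, hsingle, hsingle, polar_quadFormOdd, polar_quadFormPlus]
      rcases i with ⟨⟩ | i | i <;> rcases j with ⟨⟩ | j | j
      · rw [polar_self, h0]
        simp
        ring
      · rw [h0e]
        simp
      · rw [h0f]
        simp
      · rw [h0e']
        simp
      · rw [hee]
        simp
      · rw [hef]
        simp [Pi.single_apply]
        rcases eq_or_ne i j with rfl | h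
        · simp
        · simp [h, h.symm]
      · rw [h0f']
        simp
      · rw [hfe]
        simp [Pi.single_apply]
        rcases eq_or_ne i j with rfl | h
        · simp
        · simp [h, h.symm]
      · rw [hff]
        simp
    · intro i
      rw [hQ₂, hsingle, quadFormOdd_eq]
      unfold Cfsg.quadFormPlus
      rcases i with ⟨⟩ | i | i
      · rw [h0]
        simp
      · rw [he]
        simp
      · rw [hf]
        simp
  rw [key, hQ₂, LinearEquiv.apply_symm_apply]

end basis

section main

theorem exists_split_ext {F : Type*} [Field F] [Fintype F] (h2 : (2 : F) ≠ 0) {ι : Type} [Fintype ι]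
    [DecidableEq ι] (Q : QuadraticForm F (ι → F)) (hQ : (QuadraticMap.polarBilin Q).Nondegenerate) (lam : F)
    [Fact (∀ r : F, r ^ 2 ≠ lam + 0 * r)] (g : Matrix ι ι F) (hg2 : g * g = lam • (1 : Matrix ι ι F))
    (hgQ : ∀ v, Q (g *ᵥ v) = lam * Q v) (k : ℕ) (hcard : Fintype.card ι = 2 * (2 * k + 1)) :
    ∃ (c : QuadraticAlgebra F lam 0)
      (C : ((Unit ⊕ (Fin k ⊕ Fin k)) → QuadraticAlgebra F lam 0) ≃ₗ[F] (ι → F)), c ≠ 0 ∧
      (∀ v, Q (C v) = (c * Cfsg.quadFormOdd k (QuadraticAlgebra F lam 0) v).re) ∧
      (∀ v, g *ᵥ (C v) = C ((⟨0, 1⟩ : QuadraticAlgebra F lam 0) • v)) := by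
  classical
  have : Fact (g * g = lam • (1 : Matrix ι ι F)) := ⟨hg2⟩
  have hlam : lam ≠ 0 := by
    intro h
    apply (Fact.out : ∀ r : F, r ^ 2 ≠ lam + 0 * r) 0
    rw [h]
    ring
  let _ : Fintype (QuadraticAlgebra F lam 0) :=
    Fintype.ofEquiv (F × F) (QuadraticAlgebra.equivProd lam 0).symm
  have : FiniteDimensional (QuadraticAlgebra F lam 0) (XS lam g) :=
    Module.Finite.right F (QuadraticAlgebra F lam 0) (XS lam g)
  -- the form on `XS lam g`
  let q : QuadraticForm F (XS lam g) := Q.comp ((ofX lam g : XS lam g ≃ₗ[F] (ι → F)) : XS lam g →ₗ[F] (ι → F))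
  have hq : ∀ v, q v = Q (ofX lam g v) := fun v => rfl
  have hGq : ∀ v, q (gX lam g v) = lam * q v := fun v => hgQ (ofX lam g v)
  let Q' : QuadraticForm (QuadraticAlgebra F lam 0) (XS lam g) := extForm h2 hlam q hGq
  have hQ're : ∀ v, (Q' v).re = Q (ofX lam g v) := fun v => rfl
  have hnd : ∀ x : XS lam g, (∀ y, polar Q' x y = 0) → x = 0 := by
    intro x hx
    have h0 : ofX lam g x = 0 := by
      apply hQ.1
      intro y
      have h1 := congrArg QuadraticAlgebra.re (hx ((ofX lam g).symm y))
      rw [polar_extForm_re] at h1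
      exact h1
    exact (ofX lam g).injective (by rw [h0, map_zero])
  have hfr : Module.finrank (QuadraticAlgebra F lam 0) (XS lam g) = 2 * k + 1 :=
    finrank_E (2 * k + 1) hcard
  obtain ⟨k', d, e, f, r, hkd, hd, hdata, -⟩ := exists_wittData (2 * k + 1) Q' hfr hnd
  have hd1 : d = 1 := by omega
  subst hd1
  have hk : k' = k := by omega
  subst hk
  -- the anisotropic vector
  set c : QuadraticAlgebra F lam 0 := Q' (r 0) with hc
  have hc0 : c ≠ 0 := by
    intro h
    have h1 := hdata.aniso (fun _ => 1) (by
      rw [Fin.sum_univ_one, one_smul]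
      exact h)
    have h2 := congrFun h1 0
    exact one_ne_zero h2
  obtain ⟨b, hb⟩ := hdata.exists_basis (by omega)
  -- the new basis
  let σ : (Fin k' ⊕ Fin k') ⊕ Fin 1 ≃ Unit ⊕ (Fin k' ⊕ Fin k') :=
    { toFun := fun x => Sum.elim (fun y => Sum.inr y) (fun _ => Sum.inl ()) x
      invFun := fun x => Sum.elim (fun _ => Sum.inr 0) (fun y => Sum.inl y) x
      left_inv := by
        rintro (x | x)
        · rfl
        · have : x = 0 := Subsingleton.elim _ _
          subst this
          rfl
      right_inv := by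
        rintro (x | x)
        · rfl
        · rfl }
  let u : Unit ⊕ (Fin k' ⊕ Fin k') → (QuadraticAlgebra F lam 0)ˣ :=
    fun x => Sum.elim (fun _ => 1) (Sum.elim (fun _ => Units.mk0 c hc0) (fun _ => 1)) x
  let b' : Module.Basis (Unit ⊕ (Fin k' ⊕ Fin k')) (QuadraticAlgebra F lam 0) (XS lam g) :=
    (b.reindex σ).unitsSMul u
  have hb0 : b' (Sum.inl ()) = r 0 := by
    show (b.reindex σ).unitsSMul u (Sum.inl ()) = r 0
    rw [Module.Basis.unitsSMul_apply, Module.Basis.reindex_apply, hb]
    show (1 : (QuadraticAlgebra F lam 0)ˣ) • r 0 = r 0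
    rw [one_smul]
  have hbe : ∀ i, b' (Sum.inr (Sum.inl i)) = c • e i := by
    intro i
    show (b.reindex σ).unitsSMul u (Sum.inr (Sum.inl i)) = c • e i
    rw [Module.Basis.unitsSMul_apply, Module.Basis.reindex_apply, hb]
    rfl
  have hbf : ∀ i, b' (Sum.inr (Sum.inr i)) = f i := by
    intro i
    show (b.reindex σ).unitsSMul u (Sum.inr (Sum.inr i)) = f i
    rw [Module.Basis.unitsSMul_apply, Module.Basis.reindex_apply, hb]
    show (1 : (QuadraticAlgebra F lam 0)ˣ) • f i = f i
    rw [one_smul]
  have hre : ∀ i, polar Q' (r 0) (e i) = 0 := fun i => by rw [polar_comm]; exact hdata.er i 0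
  have hrf : ∀ i, polar Q' (r 0) (f i) = 0 := fun i => by rw [polar_comm]; exact hdata.fr i 0
  have hform : ∀ v : Unit ⊕ (Fin k' ⊕ Fin k') → QuadraticAlgebra F lam 0,
      Q' (b'.equivFun.symm v) = c * Cfsg.quadFormOdd k' (QuadraticAlgebra F lam 0) v := by
    apply form_eq_of_basis k' Q' b' c
    · rw [hb0]
    · intro i
      rw [hbe, QuadraticMap.map_smul, (hdata.sing i).1, smul_zero]
    · intro i
      rw [hbf, (hdata.sing i).2]
    · intro i
      rw [hb0, hbe, polar_smul_right, hre, smul_zero]
    · intro i
      rw [hb0, hbf, hrf]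
    · intro i j
      rw [hbe, hbe, polar_smul_left, polar_smul_right, hdata.ee, smul_zero, smul_zero]
    · intro i j
      rw [hbf, hbf, hdata.ff]
    · intro i j
      rw [hbe, hbf, polar_smul_left, hdata.pair, smul_eq_mul]
      split_ifs
      · rw [mul_one]
      · rw [mul_zero]
  -- the map
  let C : ((Unit ⊕ (Fin k' ⊕ Fin k')) → QuadraticAlgebra F lam 0) ≃ₗ[F] (ι → F) :=
    (b'.equivFun.symm.restrictScalars F).trans (ofX lam g)
  have hC : ∀ v, C v = ofX lam g (b'.equivFun.symm v) := fun v => rfl
  refine ⟨c, C, hc0, fun v => ?_, fun v => ?_⟩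
  · rw [hC, ← hQ're, hform]
  · rw [hC, hC, map_smul, omega_smul, ofX_gX]

end main

end Cfsg.Agent.Helper38.GRB
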