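import Mathlib

/-!
# A Sylow 19-subgroup is normal in a group with a normal subgroup of index 19 and order
dividing 9240 (for helper61, S4274, WANTED #3779 (LX))
-/

set_option autoImplicit false
set_option linter.unnecessarySeqFocus false

namespace Cfsg.Agent.Helper38.J1LX

open Subgroup

/-- A prime power dividing `9240 = 2^3 * 3 * 5 * 7 * 11` is smaller than `19`. -/
theorem prime_pow_dvd_9240_lt {r k : ℕ} (hr : r.Prime) (h : r ^ k ∣ 9240) : r ^ k < 19 := by
  rcases Nat.eq_zero_or_pos k with rfl | hk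
  · norm_num
  have hr9240 : r ∣ 9240 := (dvd_pow_self r hk.ne').trans h
  have h9240 : (9240 : ℕ) = 2 ^ 3 * 3 * 5 * 7 * 11 := by norm_num
  have hcases : r = 2 ∨ r = 3 ∨ r = 5 ∨ r = 7 ∨ r = 11 := by
    rw [h9240] at hr9240
    rcases (Nat.Prime.dvd_mul hr).1 hr9240 with h1 | h1
    · rcases (Nat.Prime.dvd_mul hr).1 h1 with h2 | h2
      · rcases (Nat.Prime.dvd_mul hr).1 h2 with h3 | h3
        · rcases (Nat.Prime.dvd_mul hr).1 h3 with h4 | h4
          · left
            exact (Nat.prime_dvd_prime_iff_eq hr Nat.prime_two).1 (hr.dvd_of_dvd_pow h4)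
          · right; left
            exact (Nat.prime_dvd_prime_iff_eq hr Nat.prime_three).1 h4
        · right; right; left
          exact (Nat.prime_dvd_prime_iff_eq hr (by norm_num)).1 h3
      · right; right; right; left
        exact (Nat.prime_dvd_prime_iff_eq hr (by norm_num)).1 h2
    · right; right; right; right
      exact (Nat.prime_dvd_prime_iff_eq hr (by norm_num)).1 h1
  rcases hcases with rfl | rfl | rfl | rfl | rfl
  · have hk3 : k ≤ 3 := by
      by_contra hk4
      have : 2 ^ 4 ∣ 9240 := (pow_dvd_pow 2 (by omega : 4 ≤ k)).trans h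
      norm_num at this
    interval_cases k <;> norm_num
  · have hk3 : k ≤ 1 := by
      by_contra hk4
      have : 3 ^ 2 ∣ 9240 := (pow_dvd_pow 3 (by omega : 2 ≤ k)).trans h
      norm_num at this
    interval_cases k <;> norm_num
  · have hk3 : k ≤ 1 := by
      by_contra hk4
      have : 5 ^ 2 ∣ 9240 := (pow_dvd_pow 5 (by omega : 2 ≤ k)).trans h
      norm_num at this
    interval_cases k <;> norm_num
  · have hk3 : k ≤ 1 := by
      by_contra hk4
      have : 7 ^ 2 ∣ 9240 := (pow_dvd_pow 7 (by omega : 2 ≤ k)).trans h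
      norm_num at this
    interval_cases k <;> norm_num
  · have hk3 : k ≤ 1 := by
      by_contra hk4
      have : 11 ^ 2 ∣ 9240 := (pow_dvd_pow 11 (by omega : 2 ≤ k)).trans h
      norm_num at this
    interval_cases k <;> norm_num

/-- An element of order dividing `19` normalizing a subgroup with fewer than `19` elements
centralizes it. -/
theorem commute_of_mem_normalizer_of_card_lt {H : Type*} [Group H] (S : Subgroup H) [Finite S]
    (x : H) (hx : x ∈ Subgroup.normalizer (S : Set H)) (hx19 : x ^ 19 = 1)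
    (hS : Nat.card S < 19) (s : H) (hs : s ∈ S) : x * s = s * x := by
  by_contra hne
  have hmem : ∀ i : ℕ, x ^ i * s * (x ^ i)⁻¹ ∈ S := by
    intro i
    have hxi : x ^ i ∈ Subgroup.normalizer (S : Set H) := pow_mem hx i
    exact (Subgroup.mem_normalizer_iff.mp hxi s).mp hs
  have hlt : ∀ i j : ℕ, i < j → j < 19 → x ^ i * s * (x ^ i)⁻¹ ≠ x ^ j * s * (x ^ j)⁻¹ := by
    intro i j hij hj heq
    obtain ⟨d, rfl⟩ := Nat.exists_eq_add_of_lt hij
    -- j = i + d + 1
    set e := d + 1 with he
    have hje : i + d + 1 = i + e := by omega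
    rw [hje, pow_add, mul_inv_rev] at heq
    have h1 : s = x ^ e * s * (x ^ e)⁻¹ := by
      have := congrArg (fun y => (x ^ i)⁻¹ * y * x ^ i) heq
      simp only [mul_assoc, inv_mul_cancel_left, inv_mul_cancel, mul_one] at this
      simpa [mul_assoc] using this
    have hcomm : Commute (x ^ e) s := by
      have : x ^ e * s = s * x ^ e := by
        conv_rhs => rw [h1]
        simp [mul_assoc]
      exact this
    have hcop : Nat.Coprime e 19 := by
      have h19 : Nat.Prime 19 := by norm_num
      exact (Nat.Coprime.symm ((Nat.Prime.coprime_iff_not_dvd h19).mpr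
        (Nat.not_dvd_of_pos_of_lt (by omega) (by omega))))
    obtain ⟨m, -, hm⟩ := Nat.exists_mul_mod_eq_one_of_coprime hcop (by norm_num : 1 < 19)
    have hx1 : x = (x ^ e) ^ m := by
      rw [← pow_mul, pow_eq_pow_mod (e * m) hx19, hm, pow_one]
    apply hne
    have := hcomm.pow_left m
    rw [← hx1] at this
    exact this
  let f : Fin 19 → S := fun i => ⟨x ^ (i : ℕ) * s * (x ^ (i : ℕ))⁻¹, hmem i⟩
  have hf : Function.Injective f := by
    intro i j hij
    have hval : x ^ (i : ℕ) * s * (x ^ (i : ℕ))⁻¹ = x ^ (j : ℕ) * s * (x ^ (j : ℕ))⁻¹ :=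
      congrArg Subtype.val hij
    rcases lt_trichotomy (i : ℕ) (j : ℕ) with h | h | h
    · exact absurd hval (hlt i j h j.isLt)
    · exact Fin.ext h
    · exact absurd hval.symm (hlt j i h i.isLt)
  have := Nat.card_le_card_of_injective f hf
  rw [Nat.card_fin] at this
  omega

theorem sylow19_normal_of_index {H : Type*} [Group H] [Finite H] (N : Subgroup H) [N.Normal]
    (hN : Nat.card N ∣ 9240) (hidx : N.index = 19) (P : Sylow 19 H) :
    (P : Subgroup H).Normal := by
  have : Fact (Nat.Prime 19) := ⟨by norm_num⟩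
  have h19 : Nat.Prime 19 := by norm_num
  have hcardH : Nat.card H = 19 * Nat.card N := by
    rw [← hidx]
    exact (N.index_mul_card).symm
  have hNpos : 0 < Nat.card N := Nat.card_pos
  have h19N : ¬ 19 ∣ Nat.card N := fun h => absurd (h.trans hN) (by norm_num)
  have hP19 : Nat.card P = 19 := by
    rw [Sylow.card_eq_multiplicity, hcardH, Nat.factorization_mul (by norm_num) hNpos.ne',
      Finsupp.add_apply, Nat.Prime.factorization_self h19,
      Nat.factorization_eq_zero_of_not_dvd h19N, add_zero, pow_one]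
  have hPpow : ∀ x ∈ (P : Subgroup H), x ^ 19 = 1 := by
    intro x hx
    have : (⟨x, hx⟩ : (P : Subgroup H)) ^ Nat.card (P : Subgroup H) = 1 := pow_card_eq_one'
    rw [hP19] at this
    exact congrArg Subtype.val this
  have hPcomm : ∀ a ∈ (P : Subgroup H), ∀ b ∈ (P : Subgroup H), a * b = b * a := by
    have : IsCyclic (P : Subgroup H) := isCyclic_of_prime_card hP19
    obtain ⟨g, hg⟩ := IsCyclic.exists_generator (α := (P : Subgroup H))
    intro a ha b hb
    obtain ⟨i, hi⟩ := Subgroup.mem_zpowers_iff.mp (hg ⟨a, ha⟩)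
    obtain ⟨j, hj⟩ := Subgroup.mem_zpowers_iff.mp (hg ⟨b, hb⟩)
    have : (⟨a, ha⟩ : (P : Subgroup H)) * ⟨b, hb⟩ = ⟨b, hb⟩ * ⟨a, ha⟩ := by
      rw [← hi, ← hj, ← zpow_add, ← zpow_add, add_comm]
    exact congrArg Subtype.val this
  set C : Subgroup H := Subgroup.centralizer ((P : Subgroup H) : Set H) with hC
  have key : ∀ r : ℕ, ∀ hr : r.Prime, ∃ S' : Sylow r H, (S' : Subgroup H) ≤ C := by
    intro r hr
    have : Fact r.Prime := ⟨hr⟩
    by_cases hr19 : r = 19
    · subst hr19
      refine ⟨P, ?_⟩
      intro y hy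
      rw [hC, Subgroup.mem_centralizer_iff]
      intro h hh
      exact hPcomm h hh y hy
    -- every Sylow `r`-subgroup lies in `N`
    have hSN : ∀ S : Sylow r H, (S : Subgroup H) ≤ N := by
      intro S s hs
      obtain ⟨k, hk⟩ := S.isPGroup' ⟨s, hs⟩
      have hk' : s ^ r ^ k = 1 := by
        have := congrArg Subtype.val hk
        simpa using this
      have h1 : (QuotientGroup.mk s : H ⧸ N) ^ r ^ k = 1 := by
        rw [← QuotientGroup.mk_pow, hk', QuotientGroup.mk_one]
      have h2 : (QuotientGroup.mk s : H ⧸ N) ^ 19 = 1 := by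
        have : (QuotientGroup.mk s : H ⧸ N) ^ Nat.card (H ⧸ N) = 1 := pow_card_eq_one'
        rwa [← Subgroup.index_eq_card, hidx] at this
      have hcop : Nat.Coprime (r ^ k) 19 :=
        Nat.Coprime.pow_left k ((Nat.coprime_primes hr h19).mpr hr19)
      have h3 : orderOf (QuotientGroup.mk s : H ⧸ N) ∣ 1 := by
        rw [← hcop.gcd_eq_one]
        exact Nat.dvd_gcd (orderOf_dvd_of_pow_eq_one h1) (orderOf_dvd_of_pow_eq_one h2)
      have h4 : (QuotientGroup.mk s : H ⧸ N) = 1 := by
        rw [← orderOf_eq_one_iff]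
        exact Nat.dvd_one.mp h3
      exact (QuotientGroup.eq_one_iff s).mp h4
    -- sizes
    have hSlt : ∀ S : Sylow r H, Nat.card (S : Subgroup H) < 19 := by
      intro S
      obtain ⟨k, hk⟩ := IsPGroup.iff_card.mp S.isPGroup'
      rw [hk]
      apply prime_pow_dvd_9240_lt hr
      rw [← hk]
      exact (Subgroup.card_dvd_of_le (hSN S)).trans hN
    -- `19` does not divide the number of Sylow `r`-subgroups
    obtain ⟨S⟩ : Nonempty (Sylow r H) := inferInstance
    have hnot : ¬ 19 ∣ Nat.card (Sylow r H) := by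
      rw [Sylow.card_eq_index_normalizer S]
      intro hdvd
      have hF : Subgroup.normalizer ((S : Subgroup H) : Set H) ⊔ N = ⊤ :=
        Sylow.normalizer_sup_eq_top' S (hSN S)
      have h1 : N.relIndex (Subgroup.normalizer ((S : Subgroup H) : Set H)) = 19 := by
        rw [← Subgroup.relIndex_sup_right, hF, Subgroup.relIndex_top_right, hidx]
      have h2 : 19 ∣ Nat.card (Subgroup.normalizer ((S : Subgroup H) : Set H)) := by
        rw [← h1]
        exact Subgroup.relIndex_dvd_card _ _
      have h3 : 19 * 19 ∣ Nat.card H := by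
        rw [← Subgroup.index_mul_card (Subgroup.normalizer ((S : Subgroup H) : Set H))]
        exact Nat.mul_dvd_mul hdvd h2
      rw [hcardH] at h3
      exact h19N (Nat.dvd_of_mul_dvd_mul_left (by norm_num) h3)
    -- fixed point of `P`
    have hmod := IsPGroup.card_modEq_card_fixedPoints (p := 19) (G := (P : Subgroup H))
      P.isPGroup' (Sylow r H)
    have hne : Nat.card (MulAction.fixedPoints (P : Subgroup H) (Sylow r H)) ≠ 0 := by
      intro h0
      rw [h0] at hmod
      exact hnot ((Nat.modEq_zero_iff_dvd).mp hmod)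
    obtain ⟨⟨S', hS'⟩⟩ := (Nat.card_ne_zero.mp hne).1
    refine ⟨S', ?_⟩
    intro s hs
    rw [hC, Subgroup.mem_centralizer_iff]
    intro x hx
    have hxn : x ∈ Subgroup.normalizer ((S' : Subgroup H) : Set H) :=
      (Sylow.smul_eq_iff_mem_normalizer (g := x) (P := S')).mp (hS' ⟨x, hx⟩)
    exact commute_of_mem_normalizer_of_card_lt (S' : Subgroup H) x hxn (hPpow x hx)
      (hSlt S') s hs
  -- the centralizer is everything
  have hidx1 : C.index = 1 := by
    rw [Nat.eq_one_iff_not_exists_prime_dvd]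
    intro r hr hdvd
    have : Fact r.Prime := ⟨hr⟩
    obtain ⟨S', hS'⟩ := key r hr
    exact S'.not_dvd_index (hdvd.trans (Subgroup.index_dvd_of_le hS'))
  have hCtop : C = ⊤ := Subgroup.index_eq_one.mp hidx1
  constructor
  intro n hn g
  have hg : g ∈ C := by rw [hCtop]; exact Subgroup.mem_top g
  rw [hC, Subgroup.mem_centralizer_iff] at hg
  have := hg n hn
  rw [← this, mul_inv_cancel_right]
  exact hn

end Cfsg.Agent.Helper38.J1LX
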