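import Mathlib
import Cfsg.Agent.Helper15.MixDefs
import Cfsg.Agent.Helper15.MixBasic
import Cfsg.Agent.Helper38.MixC5
import Cfsg.Agent.Helper72.MixC1
import Cfsg.Agent.Helper91.MixC2
import Cfsg.Agent.Helper65.MixC3
import Cfsg.Agent.Helper72.MixC4

/-!
# (C5) of WANTED #5926 (helper15, S4017): the exact hypothesis-free statement

(C1) = `Helper72.Mix.Cfg.mem_centralizer_of_commute`, (C2) = `Helper91.Mix.isPGroup_W'`,
(C3) = `Helper65.Mix.le_normalizer_of_ge`, (C4) = `Helper72.Mix.Cfg.normalizer_le_centralizer_Y`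
are on main.
-/

set_option autoImplicit false
set_option linter.unusedSectionVars false

namespace Cfsg.Agent.Helper38.Mix

open Subgroup Cfsg.Agent.Helper15.Mix

variable {G : Type*} [Group G] [Finite G] {p a : ℕ} {Q : Subgroup G} {x : G}

/-- (C5) with only (C4) as a hypothesis. -/
theorem W_le_centralizer_of_Y_ne_bot_of_C4 (h : Cfg G p a Q x)
    (hC4 : normalizer (Q : Set G) ≤ centralizer ((Y p Q : Subgroup G) : Set G))
    (hY : Y p Q ≠ ⊥) {t : G} (ht : t ∈ Q) (ht1 : t ≠ 1) :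
    W p t ≤ centralizer (Q : Set G) :=
  W_le_centralizer_of_Y_ne_bot' h
    (fun hg ht ht1 hgt => Cfsg.Agent.Helper72.Mix.Cfg.mem_centralizer_of_commute h hg ht ht1 hgt)
    (fun ht ht1 => Cfsg.Agent.Helper91.Mix.isPGroup_W' h
      (fun _ _ hg ht ht1 hgt =>
        Cfsg.Agent.Helper72.Mix.Cfg.mem_centralizer_of_commute h hg ht ht1 hgt) ht ht1)
    (Cfsg.Agent.Helper65.Mix.le_normalizer_of_ge h) hC4 hY ht ht1

/-- (C5), the exact skeleton statement. -/
theorem W_le_centralizer_of_Y_ne_bot (h : Cfg G p a Q x) (hY : Y p Q ≠ ⊥) {t : G}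
    (ht : t ∈ Q) (ht1 : t ≠ 1) : W p t ≤ centralizer (Q : Set G) :=
  W_le_centralizer_of_Y_ne_bot_of_C4 h
    (Cfsg.Agent.Helper72.Mix.Cfg.normalizer_le_centralizer_Y h) hY ht ht1

end Cfsg.Agent.Helper38.Mix
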