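/-
helper38 (for helper86, WANTED #3990 (OR-11)): the canonical subsystem of index prime to `p` determined by the
subgroup `O^{p'}(Aut_F(T)) Aut_E(T)` is carried to itself by every `g` carrying `F` to `F` and `E` to `E`.
-/
import Cfsg.Agent.Helper4.OliverOR3
import Cfsg.Agent.Helper41.OR6
import Cfsg.Agent.Helper67.OliverConj
import Cfsg.Agent.Helper67.OliverPI
import Cfsg.Agent.Helper86.ORSub

set_option autoImplicit false

namespace Cfsg.Agent.Helper38.OR11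

open Cfsg Cfsg.FusionSystem Cfsg.Agent.Helper85 Cfsg.Agent.Helper86.OR

variable {Ω : Type*} [Group Ω]

/-- `MulAut.congr ε` is conjugation by `ε`. -/
theorem congr_eq_conj {S : Subgroup Ω} (ε α : MulAut S) : MulAut.congr ε α = ε * α * ε⁻¹ := by
  ext x
  rfl

theorem isImgF_of_primeIndex {S T : Subgroup Ω} [Finite S] (p : ℕ) [Fact p.Prime] (hS : IsPGroup p S)
    (F : FusionSystem S) (hF : F.IsSaturated p) (E : FusionSystem T) (hTS : T ≤ S)
    (hEF : E.IsSubsystemOf F) (F₁ : FusionSystem S) (hF₁ : F₁.IsSaturated p)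
    (hidx : F₁.HasPrimeToPIndexIn F p)
    (haut : ∀ α : MulAut S, α ∈ F₁.autGroup S ↔ ∃ hα : α ∈ F.autGroup S, ∃ β ∈ primeSub p F E,
      ∀ t : T, ((β t : T) : Ω) = ((α ⟨t, hTS t.2⟩ : S) : Ω))
    (g : Ω → Ω) (hgF : IsImgF g F F) (hgE : IsImgF g E E) : IsImgF g F₁ F₁ := by
  obtain ⟨S', F₁', h₁⟩ := exists_isImgF hgF.hom F₁
  have hSS : S = S' := hgF.im.eq_right h₁.im
  subst hSS
  have hsat' : F₁'.IsSaturated p := isSaturated_img hS h₁ hF₁
  have hidx' : F₁'.HasPrimeToPIndexIn F p :=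
    Cfsg.Agent.Helper4.OliverOR3.hasPrimeToPIndexIn_img hgF h₁ hidx
  have : Finite T := Finite.of_injective (Subgroup.inclusion hTS) (Subgroup.inclusion_injective hTS)
  have : Finite (MulAut S) := MulEquiv.finite_left
  -- the automorphism of `S` induced by `g`
  set ε : MulAut S := Cfsg.Agent.Helper4.OliverOR3.resEquiv (h₁.hom.mono le_rfl) h₁.im with hεdef
  have hε : ∀ x : S, ((ε x : S) : Ω) = g x := fun x =>
    Cfsg.Agent.Helper4.OliverOR3.resEquiv_apply (h₁.hom.mono le_rfl) h₁.im x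
  have hmap : (F₁.autGroup S).map (MulAut.congr ε).toMonoidHom = F₁'.autGroup S :=
    Cfsg.Agent.Helper4.OliverOR3.map_autGroup h₁ le_rfl h₁.im
  -- the automorphism of `T` induced by `g`
  obtain ⟨γ, hγ⟩ := Cfsg.Agent.Helper41.OR6.exists_mulAut_of_isIm hgE.hom hgE.im
  have hA : ∀ a, γ * a * γ⁻¹ ∈ F.autGroup T ↔ a ∈ F.autGroup T :=
    Cfsg.Agent.Helper41.OR6.conj_mem_autGroup_iff hgF hTS γ hγ
  have hA₀ : ∀ a, γ * a * γ⁻¹ ∈ E.autGroup T ↔ a ∈ E.autGroup T :=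
    Cfsg.Agent.Helper41.OR6.conj_mem_autGroup_iff hgE le_rfl γ hγ
  have key : ∀ α ∈ F₁.autGroup S, MulAut.congr ε α ∈ F₁.autGroup S := by
    intro α hα₁
    obtain ⟨hα, β, hβ, hβt⟩ := (haut α).mp hα₁
    rw [congr_eq_conj]
    refine (haut _).mpr ⟨(Cfsg.Agent.Helper41.OR6.conj_mem_autGroup_iff hgF le_rfl ε hε α).mpr hα,
      γ * β * γ⁻¹, ?_, ?_⟩
    · have := (Cfsg.Agent.Helper67.OliverFN.conj_mem_sup_iff p (F.autGroup T) (E.autGroup T) γ hA hA₀ β).1
      exact this.mpr hβ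
    · intro t
      -- `u = γ⁻¹ t`
      set u : T := γ⁻¹ t with hu
      have hγu : γ u = t := by rw [hu, MulAut.apply_inv_self]
      have hgu : g (u : Ω) = (t : Ω) := by rw [← hγ u, hγu]
      have hεu : ε ⟨u, hTS u.2⟩ = ⟨t, hTS t.2⟩ := by
        apply Subtype.ext
        rw [hε]
        exact hgu
      have hεinv : ε⁻¹ ⟨t, hTS t.2⟩ = ⟨u, hTS u.2⟩ := by
        rw [← hεu, MulAut.inv_apply_self]
      show ((γ (β (γ⁻¹ t)) : T) : Ω) = ((ε (α (ε⁻¹ ⟨t, hTS t.2⟩)) : S) : Ω)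
      rw [hεinv, hε, hγ, ← hu, hβt u]
  have hle : F₁'.autGroup S ≤ F₁.autGroup S := by
    rw [← hmap]
    rintro _ ⟨α, hα, rfl⟩
    exact key α hα
  have hauteq : F₁'.autGroup S = F₁.autGroup S := by
    apply Subgroup.eq_of_le_of_card_ge hle
    rw [← hmap, Subgroup.card_map_of_injective (MulAut.congr ε).injective]
  have hFF : F₁' = F₁ := Cfsg.Agent.Helper87.fusionSystem_ext (fun P =>
    Cfsg.Agent.Helper67.OliverFN.hom_eq_of_primeIndex_of_autGroup_eq p hS F F₁' F₁ hF hsat' hF₁ hidx' hidx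
      hauteq P)
  rw [hFF] at h₁
  exact h₁

end Cfsg.Agent.Helper38.OR11
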