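-- (OR-5b) of WANTED #3881 for helper86 (S5202): a saturated subsystem of `F` over `H` lies in
-- every subsystem over `H` of `p`-power index in `F`.
import Cfsg.Agent.Helper85.PPowerIndex
import Cfsg.Agent.Helper85.ResidualLimit

set_option autoImplicit false

namespace Cfsg.Agent.Helper38.OR5b

open Cfsg Cfsg.FusionSystem Cfsg.Agent.Helper87 Cfsg.Agent.Helper85

variable {Ω : Type*} [Group Ω]

theorem le_of_pPowerIndex {S H : Subgroup Ω} [Finite S] (p : ℕ) [Fact p.Prime] (hS : IsPGroup p S)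
    (F : FusionSystem S) (D Z : FusionSystem H) (hDi : D.HasPPowerIndexIn F p)
    (hZ : Z.IsSaturated p) (hZF : Z.IsSubsystemOf F) : Z.IsSubsystemOf D := by
  have hHS : H ≤ S := le_of_isSubsystemOf F D hDi.1
  have : Finite H := finite_of_le hHS
  have hH : IsPGroup p H := hS.to_le hHS
  apply hom_subset_of_autGroup_le hH Z D hZ
  intro R hRa _ _
  obtain ⟨hRH, P, hP⟩ := hRa
  have hRS : R ≤ S := hRH.trans hHS
  have : Finite (MulAut R) := finite_mulAut_of_le hRS
  have hAF : Z.autGroup R ≤ F.autGroup R := autGroup_le_of_isSubsystemOf F Z hZF hRH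
  have hq : IsPGroup p (Z.autGroup R ⧸ pResidual p (Z.autGroup R)) :=
    Cfsg.Agent.Lib.isPGroup_quotient_pResidual p
  intro a ha
  obtain ⟨t, ht, n, hn, hatn⟩ :=
    exists_mul_of_sylow_of_isPGroup_quotient (pResidual p (Z.autGroup R)) hq P ⟨a, ha⟩
  have hat : a = (t : MulAut R) * (n : MulAut R) := congrArg Subtype.val hatn
  rw [hat]
  apply Subgroup.mul_mem
  · rw [hP, Subgroup.mem_subgroupOf] at ht
    exact autInducedBy_le_autGroup D hRH ht
  · have h0 : (pResidual p (Z.autGroup R)).map (Z.autGroup R).subtype ≤ F.autGroup R := by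
      rintro m ⟨b, -, rfl⟩
      exact hAF b.2
    have h1 := pResidual_map_subtype_mono h0
    exact hDi.2.2 R hRH (h1 (Subgroup.mem_map_of_mem _ hn))

end Cfsg.Agent.Helper38.OR5b
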