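-- (OR-5c) of WANTED #3881 for helper86 (S5202): the diamond
--   Z of p-power index in Y, Y of index prime to p in F, D of p-power index in F (D, Z over the
--   same H)  ==>  Z has index prime to p in D.
import Cfsg.Agent.Helper38.OR5b
import Cfsg.Agent.Helper97.OR5a
import Cfsg.Agent.Helper67.OliverFN

set_option autoImplicit false

namespace Cfsg.Agent.Helper38.OR5c

open Cfsg Cfsg.FusionSystem Cfsg.Agent.Helper87 Cfsg.Agent.Helper85

variable {Ω : Type*} [Group Ω]

theorem diamond {S H : Subgroup Ω} [Finite S] (p : ℕ) [Fact p.Prime] (hS : IsPGroup p S)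
    (F Y : FusionSystem S) (hF : F.IsSaturated p) (hY : Y.IsSaturated p)
    (hidx : Y.HasPrimeToPIndexIn F p) (D Z : FusionSystem H) (hD : D.IsSaturated p)
    (hDi : D.HasPPowerIndexIn F p) (hZ : Z.IsSaturated p) (hZi : Z.HasPPowerIndexIn Y p) :
    Z.HasPrimeToPIndexIn D p := by
  have hHS : H ≤ S := le_of_isSubsystemOf F D hDi.1
  have : Finite H := finite_of_le hHS
  have hH : IsPGroup p H := hS.to_le hHS
  have hZF : Z.IsSubsystemOf F := fun P => (hZi.1 P).trans (hidx.1 P)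
  have hZD : Z.IsSubsystemOf D := Cfsg.Agent.Helper38.OR5b.le_of_pPowerIndex p hS F D Z hDi hZ hZF
  apply Cfsg.Agent.Helper67.OliverFN.hasPrimeToPIndexIn_of_fullyNormalized p hH D hD Z hZD
  intro P _ hPn
  have hPH : P ≤ H := hPn.1
  have hPS : P ≤ S := hPH.trans hHS
  have : Finite (MulAut P) := finite_mulAut_of_le hPS
  obtain ⟨-, R, hR⟩ := (fullyAutomized_fullyCentralized_of_fullyNormalized hH D hD hPn).2
  have hQD : autInducedBy H P ≤ D.autGroup P := autInducedBy_le_autGroup D hPH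
  have hmemR : ∀ (g : MulAut P) (hg : g ∈ D.autGroup P),
      (⟨g, hg⟩ : D.autGroup P) ∈ (R : Subgroup (D.autGroup P)) ↔ g ∈ autInducedBy H P := by
    intro g hg
    rw [hR, Subgroup.mem_subgroupOf]
  have hQp : IsPGroup p (autInducedBy H P) := by
    intro g
    have hgR : (⟨(g : MulAut P), hQD g.2⟩ : D.autGroup P) ∈ (R : Subgroup (D.autGroup P)) :=
      (hmemR _ _).mpr g.2
    obtain ⟨k, hk⟩ := R.isPGroup' ⟨_, hgR⟩
    refine ⟨k, ?_⟩
    have h1 := congrArg (fun x : (R : Subgroup (D.autGroup P)) => ((x : D.autGroup P) : MulAut P)) hk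
    apply Subtype.ext
    simpa using h1
  have hQsyl : ∀ Q₁ : Subgroup (MulAut P), autInducedBy H P ≤ Q₁ → Q₁ ≤ D.autGroup P →
      IsPGroup p Q₁ → Q₁ = autInducedBy H P := by
    intro Q₁ hQQ₁ hQ₁D hQ₁p
    have hp1 : IsPGroup p (Q₁.subgroupOf (D.autGroup P)) := hQ₁p.comap_subtype
    have hle : (R : Subgroup (D.autGroup P)) ≤ Q₁.subgroupOf (D.autGroup P) := by
      rw [hR]
      intro x hx
      rw [Subgroup.mem_subgroupOf] at hx ⊢
      exact hQQ₁ hx
    have heq : Q₁.subgroupOf (D.autGroup P) = (R : Subgroup (D.autGroup P)) :=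
      R.is_maximal' hp1 hle
    rw [hR, Subgroup.subgroupOf_inj, inf_of_le_left hQ₁D, inf_of_le_left hQD] at heq
    exact heq
  exact Cfsg.Agent.Helper97.OR5a.oPrime_le_of_sylow p (F.autGroup P) (D.autGroup P) (Y.autGroup P)
    (Z.autGroup P) (autInducedBy H P)
    (autGroup_le_of_isSubsystemOf F D hDi.1 hPH) (hDi.2.2 P hPH) hQD hQp hQsyl
    (autGroup_le_of_isSubsystemOf F Y hidx.1 hPS) (hidx.2 P hPS) (hZi.2.2 P hPH)
    (autInducedBy_le_autGroup Z hPH)

end Cfsg.Agent.Helper38.OR5c
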