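import Mathlib
import Cfsg.Agent.Helper99.P4Defs

/-!
# (K2s) for S6000 (helper99, WANTED #8930): `x ∈ SL₄(p)`, `p ≡ 1 mod 4`, `x² = z` scalar ⇒ `z` is a
square.
-/

set_option autoImplicit false
open scoped MatrixGroups

namespace Cfsg.Agent.Helper38.P4

open Matrix Polynomial Cfsg.Agent.Helper99.P4 Cfsg.Geo

variable {F : Type*} [Field F]

/-- `charpoly x ∣ (X² - z)⁴` when `x * x = z • 1`. -/
theorem K2s_charpoly_dvd (x : Matrix (Fin 4) (Fin 4) F) (z : F) (hx : x * x = z • 1) :
    x.charpoly ∣ (X ^ 2 - C z) ^ 4 := by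
  set N : Matrix (Fin 4) (Fin 4) F[X] := x.map C with hN
  have hNN : N * N = (C z) • (1 : Matrix (Fin 4) (Fin 4) F[X]) := by
    have h1 := congrArg (fun A : Matrix (Fin 4) (Fin 4) F => A.map (C : F → F[X])) hx
    simp only [Matrix.map_mul] at h1
    rw [hN, h1]
    ext i j
    simp [Matrix.map_apply, Matrix.smul_apply, Matrix.one_apply]
    split_ifs <;> simp
  have hcm : x.charmatrix = (X : F[X]) • (1 : Matrix (Fin 4) (Fin 4) F[X]) - N := by
    rw [Matrix.charmatrix]
    congr 1
    ext i j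
    simp [Matrix.scalar_apply, Matrix.smul_apply, Matrix.one_apply, Matrix.diagonal_apply]
  have hprod : ((X : F[X]) • (1 : Matrix (Fin 4) (Fin 4) F[X]) - N) *
      ((X : F[X]) • (1 : Matrix (Fin 4) (Fin 4) F[X]) + N)
      = (X ^ 2 - C z) • (1 : Matrix (Fin 4) (Fin 4) F[X]) := by
    rw [Matrix.sub_mul, Matrix.mul_add, Matrix.mul_add, hNN]
    simp only [Matrix.smul_mul, Matrix.mul_smul, Matrix.one_mul, Matrix.mul_one, smul_smul]
    rw [sub_smul, pow_two]
    abel
  have hdet := congrArg Matrix.det hprod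
  rw [Matrix.det_mul, Matrix.det_smul, Matrix.det_one, mul_one, Fintype.card_fin, ← hcm] at hdet
  exact ⟨_, hdet.symm⟩

/-- (K2s) -/
theorem square_of_sq_scalar [Fintype F] {p : ℕ} [Fact p.Prime] [CharP F p]
    (hF : Fintype.card F = p) (hp4 : p % 4 = 1)
    (x : Matrix (Fin 4) (Fin 4) F) (hdet : x.det = 1) (z : F) (hx : x * x = z • 1) :
    ∃ c : F, c ^ 2 = z := by
  by_contra hns
  push Not at hns
  -- `f = X² - z` is irreducible
  set f : F[X] := X ^ 2 - C z with hf
  have hfm : f.Monic := monic_X_pow_sub_C z (by norm_num)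
  have hfd : f.natDegree = 2 := natDegree_X_pow_sub_C
  have hfirr : Irreducible f := by
    rw [hfm.irreducible_iff_roots_eq_zero_of_degree_le_three (by rw [hfd]) (by rw [hfd]; norm_num)]
    apply Multiset.eq_zero_of_forall_notMem
    intro c hc
    rw [mem_roots hfm.ne_zero, IsRoot.def, hf, eval_sub, eval_pow, eval_X, eval_C, sub_eq_zero] at hc
    exact hns c hc
  have hdvd : x.charpoly ∣ f ^ 4 := K2s_charpoly_dvd x z hx
  obtain ⟨i, -, hi⟩ := (dvd_prime_pow hfirr.prime 4).1 hdvd
  have hcp : x.charpoly = f ^ i :=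
    eq_of_monic_of_associated (Matrix.charpoly_monic x) (hfm.pow i) hi
  have hdeg : x.charpoly.natDegree = 4 := by
    rw [Matrix.charpoly_natDegree_eq_dim]; simp
  have hi2 : i = 2 := by
    rw [hcp, hfm.natDegree_pow, hfd] at hdeg
    omega
  subst hi2
  have hdetz : x.det = z ^ 2 := by
    rw [Matrix.det_eq_sign_charpoly_coeff, hcp, coeff_zero_eq_eval_zero, eval_pow, hf, eval_sub,
      eval_pow, eval_X, eval_C, Fintype.card_fin]
    ring
  rw [hdet] at hdetz
  have hz : (z - 1) * (z + 1) = 0 := by linear_combination -hdetz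
  rcases mul_eq_zero.1 hz with h | h
  · exact hns 1 (by rw [one_pow]; exact (sub_eq_zero.1 h).symm)
  · have hz1 : z = -1 := eq_neg_of_add_eq_zero_left h
    have hsq : IsSquare (-1 : F) := by
      rw [FiniteField.isSquare_neg_one_iff, hF, hp4]
      norm_num
    obtain ⟨r, hr⟩ := hsq
    exact hns r (by rw [hz1, hr, pow_two])

end Cfsg.Agent.Helper38.P4
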