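import Mathlib
import Cfsg.Agent.Helper38.FinFieldRoot

/-!
# Matrices with irreducible characteristic polynomial: the field they generate

* `charpoly_irreducible_of_ppd`: a matrix of prime order `r` over a finite field, where the order of
  `q` modulo `r` is the size of the matrix, has irreducible characteristic polynomial;
* `exists_field_structure`: for a matrix `M` with irreducible characteristic polynomial `χ` the
  evaluation `AdjoinRoot χ → Matrix`, its commutant property and `det = norm`.
-/

set_option autoImplicit false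

namespace Cfsg.Agent.Helper38

open Polynomial Module

section irr
variable {F : Type*} [Field F] [Fintype F] {n : ℕ}

/-- a matrix of prime order `r`, `ord_r(q) ≥ n`, has irreducible characteristic polynomial -/
theorem charpoly_irreducible_of_ppd (H : Matrix (Fin n) (Fin n) F) (r : ℕ) (hr : r.Prime)
    (hHr : H ^ r = 1) (hH1 : H ≠ 1) (hr0 : (r : F) ≠ 0)
    (hord : ∀ k : ℕ, 0 < k → k < n → ¬ r ∣ Fintype.card F ^ k - 1) : Irreducible H.charpoly := by
  classical
  have : Fact r.Prime := ⟨hr⟩
  have : Nontrivial (Matrix (Fin n) (Fin n) F) := ⟨⟨H, 1, hH1⟩⟩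
  set μ := minpoly F H with hμ
  set Φ : F[X] := ∑ i ∈ Finset.range r, X ^ i with hΦ
  have hΦmul : Φ * (X - 1) = X ^ r - 1 := geom_sum_mul X r
  have hint : IsIntegral F H := Algebra.IsIntegral.isIntegral H
  have hμ0 : μ ≠ 0 := minpoly.ne_zero hint
  have hμdvd : μ ∣ Φ * (X - 1) := by
    rw [hΦmul]
    apply minpoly.dvd
    rw [map_sub, map_pow, aeval_X, map_one, hHr, sub_self]
  have hX1 : (X - 1 : F[X]) = X - C 1 := by rw [map_one]
  have hirrX : Irreducible (X - 1 : F[X]) := by rw [hX1]; exact irreducible_X_sub_C 1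
  -- an irreducible factor of `μ` dividing `Φ`
  obtain ⟨f, hf, hfμ, hfΦ⟩ : ∃ f : F[X], Irreducible f ∧ f ∣ μ ∧ f ∣ Φ := by
    by_cases hdvd : (X - 1 : F[X]) ∣ μ
    · obtain ⟨ν, hν⟩ := hdvd
      have hν0 : ν ≠ 0 := by
        rintro rfl
        rw [mul_zero] at hν
        exact hμ0 hν
      have hνΦ : ν ∣ Φ := by
        rw [hν, mul_comm] at hμdvd
        exact (mul_dvd_mul_iff_right hirrX.ne_zero).1 hμdvd
      have hνu : ¬ IsUnit ν := by
        intro hu
        apply hH1
        have h1 : aeval H μ = 0 := minpoly.aeval F H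
        rw [hν, map_mul, map_sub, aeval_X, map_one] at h1
        obtain ⟨c, hc0, hc⟩ : ∃ c : F, c ≠ 0 ∧ ν = C c := by
          have := Polynomial.isUnit_iff.1 hu
          obtain ⟨c, hcu, hc⟩ := this
          exact ⟨c, hcu.ne_zero, hc.symm⟩
        rw [hc, aeval_C, Algebra.algebraMap_eq_smul_one, mul_smul_comm, mul_one] at h1
        have h2 : H - 1 = 0 := by
          have := congrArg (fun Z => c⁻¹ • Z) h1
          simpa [smul_smul, inv_mul_cancel₀ hc0] using this
        exact sub_eq_zero.1 h2
      obtain ⟨f, hf, hfν⟩ := WfDvdMonoid.exists_irreducible_factor hνu hν0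
      exact ⟨f, hf, hfν.trans (Dvd.intro_left _ hν.symm), hfν.trans hνΦ⟩
    · have hcop : IsCoprime (X - 1 : F[X]) μ := (hirrX.coprime_iff_not_dvd).2 hdvd
      have hμΦ : μ ∣ Φ := hcop.symm.dvd_of_dvd_mul_right hμdvd
      have hμu : ¬ IsUnit μ := minpoly.not_isUnit F H
      obtain ⟨f, hf, hfμ⟩ := WfDvdMonoid.exists_irreducible_factor hμu hμ0
      exact ⟨f, hf, hfμ, hfμ.trans hμΦ⟩
  have hfχ : f ∣ H.charpoly := hfμ.trans (Matrix.minpoly_dvd_charpoly H)
  have : Fact (Irreducible f) := ⟨hf⟩
  have hne : f ≠ 0 := hf.ne_zero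
  -- the root of `f` has order `r`
  set α := AdjoinRoot.root f with hα
  have hfd : FiniteDimensional F (AdjoinRoot f) := (AdjoinRoot.powerBasis hne).finite
  have hfin : Finite (AdjoinRoot f) := Module.finite_of_finite F
  have hfr : finrank F (AdjoinRoot f) = f.natDegree := by
    rw [(AdjoinRoot.powerBasis hne).finrank, AdjoinRoot.powerBasis_dim]
  have hcard : Nat.card (AdjoinRoot f) = Fintype.card F ^ f.natDegree := by
    rw [Module.natCard_eq_pow_finrank (K := F), hfr, Nat.card_eq_fintype_card]
  have hΦα : aeval α Φ = 0 := by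
    obtain ⟨g, hg⟩ := hfΦ
    rw [hg, map_mul, AdjoinRoot.aeval_eq, AdjoinRoot.mk_self, zero_mul]
  have hαr : α ^ r = 1 := by
    have := congrArg (aeval α) hΦmul
    rw [map_mul, hΦα, zero_mul, map_sub, map_pow, aeval_X, map_one] at this
    exact (sub_eq_zero.1 this.symm)
  have hα1 : α ≠ 1 := by
    intro h1
    rw [hΦ, map_sum, h1] at hΦα
    simp only [map_pow, aeval_X, one_pow, Finset.sum_const, Finset.card_range, nsmul_eq_mul,
      mul_one] at hΦα
    have : algebraMap F (AdjoinRoot f) (r : F) = 0 := by rw [map_natCast]; exact hΦα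
    exact hr0 ((map_eq_zero _).1 this)
  have hα0 : α ≠ 0 := by
    intro h0
    rw [h0, zero_pow hr.ne_zero] at hαr
    exact zero_ne_one hαr
  have hord' : orderOf (Units.mk0 α hα0) = r := by
    apply orderOf_eq_prime
    · apply Units.ext
      rw [Units.val_pow_eq_pow_val, Units.val_mk0, hαr, Units.val_one]
    · intro h
      apply hα1
      have := congrArg Units.val h
      rwa [Units.val_mk0, Units.val_one] at this
  have hrdvd : r ∣ Fintype.card F ^ f.natDegree - 1 := by
    have h1 := orderOf_dvd_natCard (Units.mk0 α hα0)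
    rwa [hord', Nat.card_units, hcard] at h1
  have hdeg1 : 0 < f.natDegree := hf.natDegree_pos
  have hχdeg : H.charpoly.natDegree = n := by
    rw [Matrix.charpoly_natDegree_eq_dim, Fintype.card_fin]
  have hχ0 : H.charpoly ≠ 0 := (Matrix.charpoly_monic H).ne_zero
  have hdeg2 : f.natDegree ≤ n := by
    rw [← hχdeg]
    exact natDegree_le_of_dvd hfχ hχ0
  have hdeg3 : f.natDegree = n := by
    by_contra hlt
    exact hord f.natDegree hdeg1 (lt_of_le_of_ne hdeg2 hlt) hrdvd
  obtain ⟨c, hc⟩ := hfχ
  have hc0 : c ≠ 0 := by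
    rintro rfl
    rw [mul_zero] at hc
    exact hχ0 hc
  have hcdeg : c.natDegree = 0 := by
    have := congrArg natDegree hc
    rw [natDegree_mul hne hc0, hχdeg, hdeg3] at this
    omega
  have hcu : IsUnit c := by
    rw [natDegree_eq_zero] at hcdeg
    obtain ⟨a, rfl⟩ := hcdeg
    have ha : a ≠ 0 := by
      rintro rfl
      exact hc0 (map_zero _)
    exact Polynomial.isUnit_C.2 ha.isUnit
  rw [hc]
  exact (irreducible_mul_isUnit hcu).2 hf

end irr

section field
variable {F : Type*} [Field F] {n : ℕ}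

/-- commuting with `M` implies commuting with polynomials in `M` -/
theorem mul_aeval_comm (G M : Matrix (Fin n) (Fin n) F) (h : G * M = M * G) (p : F[X]) :
    G * aeval M p = aeval M p * G := by
  have h1 : aeval M p ∈ Algebra.adjoin F {M} := aeval_mem_adjoin_singleton F M
  have h2 : Algebra.adjoin F {M} ≤ Subalgebra.centralizer F {G} := by
    apply Algebra.adjoin_le
    intro x hx
    rw [Set.mem_singleton_iff] at hx
    subst hx
    rw [SetLike.mem_coe, Subalgebra.mem_centralizer_iff]
    intro g hg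
    rw [Set.mem_singleton_iff] at hg
    subst hg
    exact h
  have h3 := h2 h1
  rw [Subalgebra.mem_centralizer_iff] at h3
  exact h3 G (Set.mem_singleton G)

/-- **The field generated by a matrix with irreducible characteristic polynomial.** -/
theorem exists_field_structure (M : Matrix (Fin n) (Fin n) F) [hirr : Fact (Irreducible M.charpoly)] :
    ∃ ev : AdjoinRoot M.charpoly →ₐ[F] Matrix (Fin n) (Fin n) F,
      ev (AdjoinRoot.root M.charpoly) = M ∧
      (∀ G : Matrix (Fin n) (Fin n) F, G * M = M * G → ∃ γ, G = ev γ) ∧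
      (∀ γ, (ev γ).det = Algebra.norm F γ) := by
  classical
  set f := M.charpoly with hfdef
  have hf : Irreducible f := hirr.out
  have hne : f ≠ 0 := hf.ne_zero
  have hdeg : f.natDegree = n := by
    rw [hfdef, Matrix.charpoly_natDegree_eq_dim, Fintype.card_fin]
  have hfd : FiniteDimensional F (AdjoinRoot f) := (AdjoinRoot.powerBasis hne).finite
  have hfr : finrank F (AdjoinRoot f) = n := by
    rw [(AdjoinRoot.powerBasis hne).finrank, AdjoinRoot.powerBasis_dim, hdeg]
  let ev : AdjoinRoot f →ₐ[F] Matrix (Fin n) (Fin n) F :=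
    Ideal.Quotient.liftₐ (Ideal.span {f}) (aeval M) (by
      intro a ha
      rw [Ideal.mem_span_singleton] at ha
      obtain ⟨c, rfl⟩ := ha
      rw [map_mul, hfdef, Matrix.aeval_self_charpoly, zero_mul])
  have hevmk : ∀ p : F[X], ev (AdjoinRoot.mk f p) = aeval M p := fun p => rfl
  have hevα : ev (AdjoinRoot.root f) = M := by
    rw [AdjoinRoot.root, hevmk, aeval_X]
  have hn : 0 < n := by
    rw [← hdeg]
    exact hf.natDegree_pos
  let v : Fin n → F := Pi.single ⟨0, hn⟩ 1
  have hv : v ≠ 0 := by
    intro h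
    have := congrFun h ⟨0, hn⟩
    simp [v] at this
  let L : AdjoinRoot f →ₗ[F] (Fin n → F) :=
    { toFun := fun x => (ev x).mulVec v
      map_add' := fun x y => by rw [map_add, Matrix.add_mulVec]
      map_smul' := fun c x => by rw [map_smul, Matrix.smul_mulVec, RingHom.id_apply] }
  have hL : ∀ x, L x = (ev x).mulVec v := fun x => rfl
  have hinj : Function.Injective L := by
    rw [← LinearMap.ker_eq_bot, LinearMap.ker_eq_bot']
    intro x hx
    by_contra hx0
    apply hv
    have h1 : ev x⁻¹ * ev x = 1 := by rw [← map_mul, inv_mul_cancel₀ hx0, map_one]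
    calc v = (ev x⁻¹ * ev x).mulVec v := by rw [h1, Matrix.one_mulVec]
      _ = (ev x⁻¹).mulVec ((ev x).mulVec v) := by rw [Matrix.mulVec_mulVec]
      _ = 0 := by rw [← hL, hx, Matrix.mulVec_zero]
  have hdim : finrank F (AdjoinRoot f) = finrank F (Fin n → F) := by
    rw [hfr, finrank_fin_fun]
  let E : AdjoinRoot f ≃ₗ[F] (Fin n → F) := LinearEquiv.ofInjectiveOfFinrankEq L hinj hdim
  have hE : ∀ x, E x = (ev x).mulVec v := fun x => rfl
  have hEmul : ∀ y x, E (y * x) = (ev y).mulVec (E x) := by
    intro y x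
    rw [hE, hE, map_mul, Matrix.mulVec_mulVec]
  refine ⟨ev, hevα, ?_, ?_⟩
  · intro G hG
    have hcomm : ∀ x, G * ev x = ev x * G := by
      intro x
      obtain ⟨p, rfl⟩ := AdjoinRoot.mk_surjective x
      rw [hevmk]
      exact mul_aeval_comm G M hG p
    obtain ⟨γ, hγ⟩ := E.surjective (G.mulVec v)
    refine ⟨γ, ?_⟩
    apply Matrix.toLin'.injective
    apply LinearMap.ext
    intro w
    obtain ⟨x, rfl⟩ := E.surjective w
    rw [Matrix.toLin'_apply, Matrix.toLin'_apply, hE x, Matrix.mulVec_mulVec, hcomm,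
      ← Matrix.mulVec_mulVec, ← hγ, hE γ, Matrix.mulVec_mulVec, Matrix.mulVec_mulVec, ← map_mul,
      ← map_mul, mul_comm]
  · intro γ
    rw [Algebra.norm_apply, ← LinearMap.det_toLin', ← LinearMap.det_conj (Algebra.lmul F _ γ) E]
    congr 1
    apply LinearMap.ext
    intro w
    obtain ⟨x, rfl⟩ := E.surjective w
    rw [Matrix.toLin'_apply, LinearMap.comp_apply, LinearMap.comp_apply]
    simp only [LinearEquiv.coe_coe, LinearEquiv.symm_apply_apply,
      Algebra.coe_lmul_eq_mul, LinearMap.mul_apply_apply]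
    rw [hEmul]

end field

end Cfsg.Agent.Helper38
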