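import Mathlib
import Cfsg.Agent.Helper99.P4Defs
import Cfsg.Agent.Helper38.TorusField

/-!
# (K5) for S6000 (helper99, WANTED #8930): elements of order 5 in `GL₄(p)`, `ord₅(p) = 4`, all have
characteristic polynomial `Φ₅`.
-/

set_option autoImplicit false
open scoped MatrixGroups

namespace Cfsg.Agent.Helper38.P4

open Matrix Polynomial Cfsg.Agent.Helper99.P4 Cfsg.Geo

variable {F : Type*} [Field F]

theorem K5_aux5 : ((5 : ℕ) : ZMod 5) ^ 4 ≠ 1 := by decide

theorem K5_aux0 : ((0 : ℕ) : ZMod 5) ^ 4 ≠ 1 := by decide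

theorem K5_not_dvd {p : ℕ} (hord : orderOf (p : ZMod 5) = 4) (k : ℕ) (hk0 : 0 < k) (hk4 : k < 4) :
    ¬ 5 ∣ p ^ k - 1 := by
  intro h
  have h4 : (p : ZMod 5) ^ 4 = 1 := by rw [← hord]; exact pow_orderOf_eq_one _
  have hp0 : 0 < p := by
    rcases Nat.eq_zero_or_pos p with h0 | h0
    · subst h0
      exfalso
      exact K5_aux0 h4
    · exact h0
  have h1 : 1 ≤ p ^ k := Nat.one_le_pow _ _ hp0
  have h2 : ((p ^ k - 1 : ℕ) : ZMod 5) = 0 := (ZMod.natCast_eq_zero_iff _ _).2 h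
  rw [Nat.cast_sub h1, Nat.cast_pow, Nat.cast_one, sub_eq_zero] at h2
  have h3 := orderOf_dvd_of_pow_eq_one h2
  rw [hord] at h3
  have := Nat.le_of_dvd hk0 h3
  omega

theorem K5_five_ne_zero [Fintype F] {p : ℕ} [Fact p.Prime] [CharP F p]
    (hord : orderOf (p : ZMod 5) = 4) : ((5 : ℕ) : F) ≠ 0 := by
  intro h
  have h1 : p ∣ 5 := (CharP.cast_eq_zero_iff F p 5).1 h
  have h2 : p = 5 := (Nat.prime_dvd_prime_iff_eq (Fact.out : p.Prime) (by norm_num)).1 h1
  subst h2
  have h4 : ((5 : ℕ) : ZMod 5) ^ 4 = 1 := by rw [← hord]; exact pow_orderOf_eq_one _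
  exact K5_aux5 h4

/-- an element of order 5 has characteristic polynomial `Φ₅`. -/
theorem K5_charpoly_eq [Fintype F] {p : ℕ} [Fact p.Prime] [CharP F p]
    (hF : Fintype.card F = p) (hord : orderOf (p : ZMod 5) = 4) (y : Matrix (Fin 4) (Fin 4) F)
    (hy : y ^ 5 = 1) (hy1 : y ≠ 1) : y.charpoly = cyclotomic 5 F := by
  have hirr : Irreducible y.charpoly := by
    apply Cfsg.Agent.Helper38.charpoly_irreducible_of_ppd y 5 (by norm_num) hy hy1
      (K5_five_ne_zero hord)
    intro k hk0 hk4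
    rw [hF]
    exact K5_not_dvd hord k hk0 hk4
  have hdvd : y.charpoly ∣ X ^ 5 - 1 := by
    have h1 : minpoly F y ∣ y.charpoly := Matrix.minpoly_dvd_charpoly y
    have h2 : minpoly F y ∣ X ^ 5 - 1 := by
      apply minpoly.dvd
      rw [map_sub, map_pow, aeval_X, map_one, hy, sub_self]
    have h3 : ¬ IsUnit (minpoly F y) := minpoly.not_isUnit F y
    rcases (hirr.dvd_iff).1 h1 with h | h
    · exact absurd h h3
    · have h4 : y.charpoly = minpoly F y :=
        eq_of_monic_of_associated (Matrix.charpoly_monic y)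
          (minpoly.monic (Algebra.IsIntegral.isIntegral y)) h
      rw [h4]; exact h2
  have hfac : (X ^ 5 - 1 : F[X]) = cyclotomic 5 F * (X - 1) := by
    have : Fact (Nat.Prime 5) := ⟨by norm_num⟩
    exact (cyclotomic_prime_mul_X_sub_one F 5).symm
  rw [hfac] at hdvd
  have hdeg : y.charpoly.natDegree = 4 := by
    rw [Matrix.charpoly_natDegree_eq_dim]; simp
  have hdegΦ : (cyclotomic 5 F).natDegree = 4 := by
    rw [natDegree_cyclotomic]; decide
  rcases (hirr.prime.dvd_mul).1 hdvd with h | h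
  · exact (eq_of_monic_of_dvd_of_natDegree_le (Matrix.charpoly_monic y) (cyclotomic.monic 5 F) h
      (by rw [hdeg, hdegΦ])).symm
  · exfalso
    have := natDegree_le_of_dvd h (X_sub_C_ne_zero (1 : F))
    rw [hdeg] at this
    have h1 : (X - 1 : F[X]).natDegree = 1 := by
      have : (X - 1 : F[X]) = X - C 1 := by rw [map_one]
      rw [this, natDegree_X_sub_C]
    have h2 : (X - 1 : F[X]) = X - C 1 := by rw [map_one]
    rw [h2, natDegree_X_sub_C] at this
    omega

/-- (K5) -/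
theorem fifth_class [Fintype F] {p : ℕ} [Fact p.Prime] [CharP F p]
    (hF : Fintype.card F = p) (hord : orderOf (p : ZMod 5) = 4) (y z : Matrix (Fin 4) (Fin 4) F)
    (hy : y ^ 5 = 1) (hz : z ^ 5 = 1) (hy1 : y ≠ 1) (hz1 : z ≠ 1) :
    y.charpoly = z.charpoly := by
  rw [K5_charpoly_eq hF hord y hy hy1, K5_charpoly_eq hF hord z hz hz1]

end Cfsg.Agent.Helper38.P4
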