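import Mathlib

/-!
# The `p`-cycles (`p` an odd prime) generate the alternating group

For helper88 (S5165, piece W2 of WANTED #4006).
-/

set_option autoImplicit false

namespace Cfsg.Agent.Helper38

open Equiv Equiv.Perm

/-- There is a cycle of any length `2 ≤ m ≤ card β`. -/
theorem exists_isCycle_card_support {β : Type*} [Fintype β] [DecidableEq β] (m : ℕ) (hm : 2 ≤ m)
    (hβ : m ≤ Fintype.card β) : ∃ c : Perm β, c.IsCycle ∧ c.support.card = m := by
  have hle : m ≤ (Finset.univ : Finset β).card := by rw [Finset.card_univ]; exact hβ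
  obtain ⟨s, -, hs⟩ := Finset.exists_subset_card_eq (s := (Finset.univ : Finset β)) (n := m) hle
  have hnd : s.toList.Nodup := Finset.nodup_toList s
  have hlen : s.toList.length = m := by rw [Finset.length_toList, hs]
  refine ⟨s.toList.formPerm, List.isCycle_formPerm hnd (by omega), ?_⟩
  rw [List.support_formPerm_of_nodup _ hnd, Finset.toList_toFinset, hs]
  intro x hx
  rw [hx, List.length_singleton] at hlen
  omega

theorem closure_p_cycles_eq_alternating (p : ℕ) [Fact p.Prime] (hp2 : p ≠ 2) {β : Type*}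
    [Fintype β] [DecidableEq β] (hβ : p ≤ Fintype.card β) :
    Subgroup.closure {σ : Perm β | σ.IsCycle ∧ σ.support.card = p} = alternatingGroup β := by
  have hp : p.Prime := Fact.out
  have hodd : Odd p := hp.odd_of_ne_two hp2
  set T : Set (Perm β) := {σ : Perm β | σ.IsCycle ∧ σ.support.card = p} with hT
  set K : Subgroup (Perm β) := Subgroup.closure T with hK
  -- `T` is invariant under conjugation
  have hTconj : ∀ g σ : Perm β, σ ∈ T → g * σ * g⁻¹ ∈ T := by
    rintro g σ ⟨hσ, hc⟩
    exact ⟨hσ.conj, by rw [Equiv.Perm.card_support_conj, hc]⟩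
  have hKconj : ∀ g σ : Perm β, σ ∈ K → g * σ * g⁻¹ ∈ K := by
    intro g σ hσ
    induction hσ using Subgroup.closure_induction with
    | mem a ha => exact Subgroup.subset_closure (hTconj g a ha)
    | one => simp
    | mul a b _ _ ha hb =>
      have : g * (a * b) * g⁻¹ = (g * a * g⁻¹) * (g * b * g⁻¹) := by group
      rw [this]
      exact K.mul_mem ha hb
    | inv a _ ha =>
      have : g * a⁻¹ * g⁻¹ = (g * a * g⁻¹)⁻¹ := by group
      rw [this]
      exact K.inv_mem ha
  apply le_antisymm
  · rw [hK, Subgroup.closure_le]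
    rintro σ ⟨hσ, hc⟩
    rw [SetLike.mem_coe, Equiv.Perm.mem_alternatingGroup, hσ.sign, hc, hodd.neg_one_pow, neg_neg]
  · -- one 3-cycle in `K`
    obtain ⟨c, hc, hcard⟩ := exists_isCycle_card_support (β := β) p hp.two_le hβ
    have hcT : c ∈ T := ⟨hc, hcard⟩
    obtain ⟨x, hx⟩ : ∃ x, c x ≠ x := by
      obtain ⟨x, hx, -⟩ := hc
      exact ⟨x, hx⟩
    have hy : c (c x) ≠ c x := fun h => hx (c.injective h)
    have hz : c (c x) ≠ x := by
      intro h
      have h2 : (c ^ 2) x = x := by rw [pow_two, Equiv.Perm.mul_apply, h]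
      have h1 : c ^ 2 = 1 := (hc.pow_eq_one_iff' hx).2 h2
      have hdvd : orderOf c ∣ 2 := orderOf_dvd_of_pow_eq_one h1
      rw [hc.orderOf, hcard] at hdvd
      exact hp2 ((Nat.prime_dvd_prime_iff_eq hp Nat.prime_two).1 hdvd)
    have h3 : Equiv.Perm.IsThreeCycle (Equiv.swap (c x) (c (c x)) * Equiv.swap (c x) x) :=
      Equiv.Perm.isThreeCycle_swap_mul_swap_same hy.symm hx hz
    have hmem : Equiv.swap (c x) (c (c x)) * Equiv.swap (c x) x ∈ K := by
      have e : Equiv.swap (c x) (c (c x)) * Equiv.swap (c x) x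
          = c * (Equiv.swap x (c x) * c * (Equiv.swap x (c x))⁻¹)⁻¹ := by
        rw [Equiv.swap_apply_apply c x (c x), Equiv.swap_comm (c x) x]
        simp only [mul_inv_rev, Equiv.swap_inv, mul_assoc]
      rw [e]
      exact K.mul_mem (Subgroup.subset_closure hcT)
        (K.inv_mem (Subgroup.subset_closure (hTconj _ c hcT)))
    rw [← Equiv.Perm.closure_three_cycles_eq_alternating, Subgroup.closure_le]
    intro τ hτ
    have hconj : IsConj (Equiv.swap (c x) (c (c x)) * Equiv.swap (c x) x) τ := by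
      rw [Equiv.Perm.isConj_iff_cycleType_eq, h3.cycleType, Equiv.Perm.IsThreeCycle.cycleType hτ]
    obtain ⟨g, hg⟩ := isConj_iff.mp hconj
    rw [SetLike.mem_coe, ← hg]
    exact hKconj g _ hmem

end Cfsg.Agent.Helper38
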