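import Mathlib

/-!
# Central quotients by a group of "scalars": lifts of elements of prime order

Abstract version of the bookkeeping for `G / Z(G)` where `Z(G)` is the injective image of a
commutative group `E` of scalars (`G = GL_n`, `E = Fˣ`, or `G = GU_n`, `E` the norm-one group).
-/

set_option autoImplicit false

namespace Cfsg.Agent.Helper38.PG

variable {G E : Type*} [Group G] [CommGroup E]

/-- `s` identifies `E` with the centre of `G`. -/
structure IsCentralScalar (s : E →* G) : Prop where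
  inj : Function.Injective s
  center : ∀ z : G, z ∈ Subgroup.center G ↔ ∃ e, z = s e

/-- the central quotient -/
abbrev PQuot (G : Type*) [Group G] := G ⧸ Subgroup.center G

variable {s : E →* G} (hs : IsCentralScalar s) {r : ℕ}

include hs

theorem s_comm (e : E) (g : G) : s e * g = g * s e := by
  have h : s e ∈ Subgroup.center G := (hs.center _).2 ⟨e, rfl⟩
  exact (Subgroup.mem_center_iff.1 h g).symm

theorem mk_eq_mk_iff (g h : G) :
    (QuotientGroup.mk g : PQuot G) = QuotientGroup.mk h ↔ ∃ e : E, h = g * s e := by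
  rw [QuotientGroup.eq, hs.center]
  constructor
  · rintro ⟨e, he⟩
    exact ⟨e, by rw [← he]; group⟩
  · rintro ⟨e, rfl⟩
    exact ⟨e, by group⟩

theorem mk_eq_one_iff (g : G) : (QuotientGroup.mk g : PQuot G) = 1 ↔ ∃ e : E, g = s e := by
  rw [QuotientGroup.eq_one_iff, hs.center]

theorem mul_s_pow (g : G) (e : E) (k : ℕ) : (g * s e) ^ k = g ^ k * s (e ^ k) := by
  have hcomm : Commute g (s e) := (s_comm hs e g).symm
  rw [hcomm.mul_pow, map_pow]

theorem conj_s (c : G) (e : E) : c * s e * c⁻¹ = s e := by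
  rw [← s_comm hs e c, mul_assoc, mul_inv_cancel, mul_one]

omit hs in
theorem conj_pow' (c g : G) (k : ℕ) : (c * g * c⁻¹) ^ k = c * g ^ k * c⁻¹ :=
  _root_.conj_pow

theorem orderOf_mk_eq_prime_iff (hr : r.Prime) (g : G) :
    orderOf (QuotientGroup.mk g : PQuot G) = r ↔ (∃ c : E, g ^ r = s c) ∧ ¬ ∃ c : E, g = s c := by
  have : Fact r.Prime := ⟨hr⟩
  rw [orderOf_eq_prime_iff, ← QuotientGroup.mk_pow, mk_eq_one_iff hs, Ne, mk_eq_one_iff hs]

omit hs in
/-- The subgroup of `r`-th powers. -/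
abbrev Pr (E : Type*) [CommGroup E] (r : ℕ) : Subgroup E := (powMonoidHom r : E →* E).range

omit hs in
open scoped Classical in
/-- Class of the scalar `g^r` modulo `r`-th powers (`1` if `g^r` is not scalar). -/
noncomputable def kap' (s : E →* G) (r : ℕ) (g : G) : E ⧸ Pr E r :=
  if h : ∃ c : E, g ^ r = s c then QuotientGroup.mk (Classical.choose h) else 1

theorem kap'_eq (g : G) (c : E) (hg : g ^ r = s c) : kap' s r g = QuotientGroup.mk c := by
  have h : ∃ c : E, g ^ r = s c := ⟨c, hg⟩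
  unfold kap'
  rw [dif_pos h]
  have h1 := Classical.choose_spec h
  have h2 : s c = s (Classical.choose h) := hg.symm.trans h1
  rw [← hs.inj h2]

omit hs in
/-- The invariant of a class in `G / Z(G)`: the class of `g^r` for a lift `g`. -/
noncomputable def kap (s : E →* G) (r : ℕ) (x : PQuot G) : E ⧸ Pr E r := kap' s r (Quotient.out x)

theorem kap_mk (g : G) (c : E) (hg : g ^ r = s c) :
    kap s r (QuotientGroup.mk g : PQuot G) = QuotientGroup.mk c := by
  unfold kap
  have h1 : (QuotientGroup.mk (Quotient.out (QuotientGroup.mk g : PQuot G)) : PQuot G) =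
      QuotientGroup.mk g := QuotientGroup.out_eq' _
  obtain ⟨e, he⟩ := (mk_eq_mk_iff hs _ _).mp h1.symm
  have h2 : (Quotient.out (QuotientGroup.mk g : PQuot G)) ^ r = s (c * e ^ r) := by
    rw [he, mul_s_pow hs, hg, ← map_mul]
  rw [kap'_eq hs _ _ h2, QuotientGroup.eq]
  refine ⟨e⁻¹, ?_⟩
  rw [powMonoidHom_apply, _root_.mul_inv_rev, inv_pow, mul_assoc, inv_mul_cancel, mul_one]

theorem kap_conj (x c : PQuot G) (hx : x ^ r = 1) : kap s r (c * x * c⁻¹) = kap s r x := by
  obtain ⟨g, rfl⟩ := QuotientGroup.mk_surjective x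
  obtain ⟨c, rfl⟩ := QuotientGroup.mk_surjective c
  rw [← QuotientGroup.mk_pow, mk_eq_one_iff hs] at hx
  obtain ⟨e, he⟩ := hx
  have h1 : (c * g * c⁻¹) ^ r = s e := by
    rw [conj_pow', he, conj_s hs]
  have h2 : (QuotientGroup.mk c * QuotientGroup.mk g * (QuotientGroup.mk c)⁻¹ : PQuot G) =
      QuotientGroup.mk (c * g * c⁻¹) := rfl
  rw [h2, kap_mk hs _ e h1, kap_mk hs _ e he]

omit hs in
/-- `x` has a lift `g` with `g^r = 1`. -/
def IsSplit (r : ℕ) (x : PQuot G) : Prop :=
  ∃ g : G, (QuotientGroup.mk g : PQuot G) = x ∧ g ^ r = 1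

theorem isSplit_iff_kap (x : PQuot G) (hx : x ^ r = 1) : IsSplit r x ↔ kap s r x = 1 := by
  constructor
  · rintro ⟨g, rfl, hg⟩
    rw [kap_mk hs g 1 (by rw [hg, map_one])]
    rfl
  · intro hk
    obtain ⟨g, rfl⟩ := QuotientGroup.mk_surjective x
    rw [← QuotientGroup.mk_pow, mk_eq_one_iff hs] at hx
    obtain ⟨e, he⟩ := hx
    rw [kap_mk hs g e he, QuotientGroup.eq_one_iff] at hk
    obtain ⟨d, hd⟩ := hk
    rw [powMonoidHom_apply] at hd
    refine ⟨g * s d⁻¹, ((mk_eq_mk_iff hs g _).mpr ⟨_, rfl⟩).symm, ?_⟩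
    rw [mul_s_pow hs, he, ← map_mul, inv_pow, hd, mul_inv_cancel, map_one]

omit hs in
theorem isSplit_conj (x c : PQuot G) (hx : IsSplit r x) : IsSplit r (c * x * c⁻¹) := by
  obtain ⟨g, rfl, hg⟩ := hx
  obtain ⟨c, rfl⟩ := QuotientGroup.mk_surjective c
  exact ⟨c * g * c⁻¹, rfl, by rw [conj_pow', hg, mul_one, mul_inv_cancel]⟩

omit hs in
theorem isSplit_conj_iff (x c : PQuot G) : IsSplit r (c * x * c⁻¹) ↔ IsSplit r x := by
  constructor
  · intro h
    have := isSplit_conj (c * x * c⁻¹) c⁻¹ h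
    have e : c⁻¹ * (c * x * c⁻¹) * c⁻¹⁻¹ = x := by group
    rwa [e] at this
  · exact isSplit_conj x c

end Cfsg.Agent.Helper38.PG
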