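import Mathlib
import Cfsg.Agent.Helper5.Card

set_option autoImplicit false

namespace Cfsg.Agent.Helper38

open Matrix Polynomial

section
variable {F : Type*} [Field F] {d : ℕ}

/-- every element of `F[M]` is a combination of `M^i`, `i < d` -/
theorem adjoin_le_range (M : Matrix (Fin d) (Fin d) F) (a : Matrix (Fin d) (Fin d) F)
    (ha : a ∈ Algebra.adjoin F {M}) :
    ∃ c : Fin d → F, a = ∑ i : Fin d, c i • M ^ (i : ℕ) := by
  rw [Algebra.adjoin_singleton_eq_range_aeval] at ha
  obtain ⟨f, rfl⟩ := ha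
  have hmonic : M.charpoly.Monic := Matrix.charpoly_monic M
  have hdeg : M.charpoly.natDegree = d := by
    rw [Matrix.charpoly_natDegree_eq_dim, Fintype.card_fin]
  rcases Nat.eq_zero_or_pos d with hd0 | hd0
  · subst hd0
    exact ⟨fun _ => 0, Subsingleton.elim _ _⟩
  have hne1 : M.charpoly ≠ 1 := by
    intro h; rw [h, natDegree_one] at hdeg; omega
  set r := f %ₘ M.charpoly with hr
  have hrdeg : r.natDegree < d := by
    rw [← hdeg]; exact natDegree_modByMonic_lt f hmonic hne1
  have hf : aeval M f = aeval M r := by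
    conv_lhs => rw [← modByMonic_add_div f M.charpoly]
    rw [map_add, map_mul, Matrix.aeval_self_charpoly, zero_mul, add_zero]
  refine ⟨fun i => r.coeff i, ?_⟩
  change aeval M f = _
  rw [hf, aeval_eq_sum_range' hrdeg, Finset.sum_range]

theorem card_adjoin_le [Fintype F] (M : Matrix (Fin d) (Fin d) F) :
    Nat.card (Algebra.adjoin F {M}) ≤ Fintype.card F ^ d := by
  have hsurj : Function.Surjective (fun c : {c : Fin d → F // ∑ i : Fin d, c i • M ^ (i : ℕ) ∈ Algebra.adjoin F {M}} =>
      (⟨∑ i : Fin d, c.1 i • M ^ (i : ℕ), c.2⟩ : Algebra.adjoin F {M})) := by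
    rintro ⟨a, ha⟩
    obtain ⟨c, hc⟩ := adjoin_le_range M a ha
    exact ⟨⟨c, hc ▸ ha⟩, Subtype.ext hc.symm⟩
  calc Nat.card (Algebra.adjoin F {M}) ≤ Nat.card {c : Fin d → F // ∑ i : Fin d, c i • M ^ (i : ℕ) ∈ Algebra.adjoin F {M}} :=
        Nat.card_le_card_of_surjective _ hsurj
    _ ≤ Nat.card (Fin d → F) := Nat.card_le_card_of_injective _ Subtype.val_injective
    _ = Fintype.card F ^ d := by
        rw [Nat.card_eq_fintype_card, Fintype.card_fun, Fintype.card_fin]

/-- the elements of `GL` which, together with their inverses, lie in a subalgebra `A` -/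
def unitsIn (A : Subalgebra F (Matrix (Fin d) (Fin d) F)) : Subgroup (GL (Fin d) F) where
  carrier := {h | (h : Matrix (Fin d) (Fin d) F) ∈ A ∧ ((h⁻¹ : GL (Fin d) F) : Matrix (Fin d) (Fin d) F) ∈ A}
  mul_mem' := by
    rintro a b ⟨ha, ha'⟩ ⟨hb, hb'⟩
    refine ⟨?_, ?_⟩
    · rw [Units.val_mul]; exact A.mul_mem ha hb
    · rw [_root_.mul_inv_rev, Units.val_mul]; exact A.mul_mem hb' ha'
  one_mem' := by
    refine ⟨?_, ?_⟩
    · rw [Units.val_one]; exact A.one_mem
    · rw [inv_one, Units.val_one]; exact A.one_mem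
  inv_mem' := by
    rintro a ⟨ha, ha'⟩
    exact ⟨ha', by rwa [inv_inv]⟩

theorem mem_unitsIn {A : Subalgebra F (Matrix (Fin d) (Fin d) F)} {h : GL (Fin d) F} :
    h ∈ unitsIn A ↔ (h : Matrix (Fin d) (Fin d) F) ∈ A ∧
      ((h⁻¹ : GL (Fin d) F) : Matrix (Fin d) (Fin d) F) ∈ A := Iff.rfl

theorem card_unitsIn_succ_le [Fintype F] (hd : 0 < d) (A : Subalgebra F (Matrix (Fin d) (Fin d) F)) :
    Nat.card (unitsIn A) + 1 ≤ Nat.card A := by
  have : Nonempty (Fin d) := ⟨⟨0, hd⟩⟩
  have : Nontrivial (Matrix (Fin d) (Fin d) F) := inferInstance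
  let f : Option (unitsIn A) → A := fun o =>
    match o with
    | none => 0
    | some h => ⟨(h.1 : Matrix (Fin d) (Fin d) F), h.2.1⟩
  have hf : Function.Injective f := by
    rintro (_ | a) (_ | b) h
    · rfl
    · exfalso
      have h' : (0 : Matrix (Fin d) (Fin d) F) = (b.1 : Matrix (Fin d) (Fin d) F) := congrArg Subtype.val h
      exact (Units.ne_zero b.1) h'.symm
    · exfalso
      have h' : (a.1 : Matrix (Fin d) (Fin d) F) = 0 := congrArg Subtype.val h
      exact (Units.ne_zero a.1) h'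
    · have h' : (a.1 : Matrix (Fin d) (Fin d) F) = (b.1 : Matrix (Fin d) (Fin d) F) := congrArg Subtype.val h
      exact congrArg some (Subtype.ext (Units.ext h'))
  have := Nat.card_le_card_of_injective f hf
  rwa [Finite.card_option] at this

/-- Upper bound for element orders in `PGL_d(q)`. -/
theorem pgl_order_le [Fintype F] (hd : 0 < d) (g : GL (Fin d) F) :
    (Fintype.card F - 1) *
      orderOf (QuotientGroup.mk g : GL (Fin d) F ⧸ Subgroup.center (GL (Fin d) F))
      ≤ Fintype.card F ^ d - 1 := by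
  have : Nonempty (Fin d) := ⟨⟨0, hd⟩⟩
  set Z := Subgroup.center (GL (Fin d) F) with hZ
  set A := Algebra.adjoin F {(g : Matrix (Fin d) (Fin d) F)} with hA
  set K := Z ⊔ Subgroup.zpowers g with hK
  -- |K| = (q-1) * order
  have hcardZ : Nat.card Z = Fintype.card F - 1 := Cfsg.Agent.Helper5.card_center_GL
  have h1 : Nat.card Z * Z.relIndex K = Nat.card K := by
    have := Subgroup.relIndex_mul_relIndex ⊥ Z K bot_le le_sup_left
    rwa [Subgroup.relIndex_bot_left, Subgroup.relIndex_bot_left] at this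
  have h2 : Z.relIndex K = orderOf (QuotientGroup.mk g : GL (Fin d) F ⧸ Z) := by
    have hker : (QuotientGroup.mk' Z).ker = Z := QuotientGroup.ker_mk' Z
    have := Subgroup.relIndex_ker K (QuotientGroup.mk' Z)
    rw [hker] at this
    rw [this, hK, Subgroup.map_sup, MonoidHom.map_zpowers]
    have hbot : Subgroup.map (QuotientGroup.mk' Z) Z = ⊥ := by
      rw [Subgroup.map_eq_bot_iff, hker]
    rw [hbot, bot_sup_eq, Nat.card_zpowers]
    rfl
  -- K ≤ unitsIn A
  have hKle : K ≤ unitsIn A := by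
    apply sup_le
    · intro z hz
      rw [hZ, Matrix.GeneralLinearGroup.center_eq_range_scalar] at hz
      obtain ⟨c, rfl⟩ := hz
      rw [mem_unitsIn]
      refine ⟨?_, ?_⟩
      · have : ((Matrix.GeneralLinearGroup.scalar (Fin d) c : GL (Fin d) F) : Matrix (Fin d) (Fin d) F)
            = algebraMap F (Matrix (Fin d) (Fin d) F) (c : F) := by
          ext i j
          simp [Matrix.algebraMap_matrix_apply, Matrix.GeneralLinearGroup.scalar, Matrix.scalar_apply,
            Matrix.diagonal_apply]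
        rw [this]; exact A.algebraMap_mem _
      · rw [← map_inv]
        have : ((Matrix.GeneralLinearGroup.scalar (Fin d) c⁻¹ : GL (Fin d) F) : Matrix (Fin d) (Fin d) F)
            = algebraMap F (Matrix (Fin d) (Fin d) F) ((c⁻¹ : Fˣ) : F) := by
          ext i j
          simp [Matrix.algebraMap_matrix_apply, Matrix.GeneralLinearGroup.scalar, Matrix.scalar_apply,
            Matrix.diagonal_apply]
        rw [this]; exact A.algebraMap_mem _
    · rw [Subgroup.zpowers_le, mem_unitsIn]
      have hgA : (g : Matrix (Fin d) (Fin d) F) ∈ A := Algebra.subset_adjoin (Set.mem_singleton _)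
      refine ⟨hgA, ?_⟩
      have hinv : g⁻¹ ∈ Submonoid.powers g :=
        mem_powers_iff_mem_zpowers.2 (inv_mem (Subgroup.mem_zpowers g))
      obtain ⟨n, hn⟩ := hinv
      rw [← hn, Units.val_pow_eq_pow_val]
      exact A.pow_mem hgA n
  have h3 : Nat.card K ≤ Nat.card (unitsIn A) :=
    Nat.card_le_card_of_injective _ (Subgroup.inclusion_injective hKle)
  have h4 := card_unitsIn_succ_le hd A
  have h5 : Nat.card A ≤ Fintype.card F ^ d := card_adjoin_le (g : Matrix (Fin d) (Fin d) F)
  rw [← hcardZ, ← h2, h1]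
  omega

/-- Existence of a Singer cycle: an element of `PGL_d(q)` of order `(q^d - 1)/(q - 1)`. -/
theorem exists_pgl_order_eq [Fintype F] (hd : 0 < d) :
    ∃ g : GL (Fin d) F ⧸ Subgroup.center (GL (Fin d) F),
      (Fintype.card F - 1) * orderOf g = Fintype.card F ^ d - 1 := by
  classical
  have : Nonempty (Fin d) := ⟨⟨0, hd⟩⟩
  have : NeZero d := ⟨hd.ne'⟩
  set p := ringChar F with hp
  have hpp : Fact p.Prime := ⟨CharP.char_is_prime F p⟩
  let E := FiniteField.Extension F p d
  have hfin : Module.finrank F E = d := FiniteField.finrank_extension F p d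
  have hcardE : Nat.card E = Fintype.card F ^ d := by
    rw [← Nat.card_eq_fintype_card]; exact FiniteField.natCard_extension F p d
  let b : Module.Basis (Fin d) F E := Module.finBasisOfFinrankEq F E hfin
  let L : E →ₐ[F] Matrix (Fin d) (Fin d) F := Algebra.leftMulMatrix b
  have hL : Function.Injective L := Algebra.leftMulMatrix_injective b
  let ψ : Eˣ →* GL (Fin d) F := Units.map (L : E →* Matrix (Fin d) (Fin d) F)
  have hψ : Function.Injective ψ := Units.map_injective hL
  set Z := Subgroup.center (GL (Fin d) F) with hZ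
  let Ψ : Eˣ →* GL (Fin d) F ⧸ Z := (QuotientGroup.mk' Z).comp ψ
  obtain ⟨ζ, hζ⟩ := IsCyclic.exists_generator (α := Eˣ)
  refine ⟨Ψ ζ, ?_⟩
  have hrange : Ψ.range = Subgroup.zpowers (Ψ ζ) := by
    rw [← MonoidHom.map_zpowers, MonoidHom.range_eq_map]
    congr 1
    exact (Subgroup.eq_top_iff' _).2 hζ |>.symm
  have h1 : Nat.card Ψ.ker * orderOf (Ψ ζ) = Nat.card Eˣ := by
    rw [← Nat.card_zpowers, ← hrange, ← Subgroup.index_ker, Subgroup.card_mul_index]
  have hcardEu : Nat.card Eˣ = Fintype.card F ^ d - 1 := by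
    rw [Nat.card_units, hcardE]
  have hker : Nat.card Ψ.ker ≤ Fintype.card F - 1 := by
    rw [← Cfsg.Agent.Helper5.card_center_GL (n := Fin d) (F := F)]
    let f : Ψ.ker → Z := fun x => ⟨ψ x.1, by
      have := x.2
      rw [MonoidHom.mem_ker] at this
      exact (QuotientGroup.eq_one_iff _).1 this⟩
    apply Nat.card_le_card_of_injective f
    intro x y hxy
    have : ψ x.1 = ψ y.1 := congrArg Subtype.val hxy
    exact Subtype.ext (hψ this)
  have h2 : (Fintype.card F - 1) * orderOf (Ψ ζ) ≤ Fintype.card F ^ d - 1 := pgl_order_le hd (ψ ζ)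
  have h3 : Nat.card Ψ.ker * orderOf (Ψ ζ) ≤ (Fintype.card F - 1) * orderOf (Ψ ζ) :=
    Nat.mul_le_mul_right _ hker
  rw [h1, hcardEu] at h3
  exact le_antisymm h2 h3

end

end Cfsg.Agent.Helper38
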