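import Mathlib
import Cfsg.Agent.Helper38.PGAbs
import Cfsg.Agent.Helper45.GUBasic
import Cfsg.Agent.Helper45.SUBasic
import Cfsg.Agent.Helper43.PGLInv

/-!
# `PGU_n(q)` as a central quotient of `GU_n(q)` by the norm-one scalars
-/

set_option autoImplicit false

namespace Cfsg.Agent.Helper38.PGU

open Matrix Cfsg.Agent.Helper45.GU Cfsg.Agent.Helper43.PGLInv Cfsg.Agent.Helper38.PG

variable {K : Type*} [Field K] {q : ℕ} (n : ℕ) (bar : K →+* K) (hbar : ∀ x, bar x = x ^ q)

theorem sc_eq_dgGL (e : Kˣ) : (sc n e : GL (Fin n) K) = dgGL n (fun _ => e) := by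
  apply Units.ext
  rw [Matrix.GeneralLinearGroup.coe_scalar, Matrix.scalar_apply, dgGL_coe]

include hbar in
theorem sc_mem (e : Kˣ) (he : e ∈ U1 K q) : (sc n e : GL (Fin n) K) ∈ Cfsg.GU n K q := by
  rw [sc_eq_dgGL]
  exact dgGL_mem n bar hbar _ (fun _ => he)

/-- scalar matrices of norm one, as a homomorphism into `GU_n` -/
noncomputable def scU : ↥(U1 K q) →* ↥(Cfsg.GU n K q) :=
  ((sc n (F := K)).comp (U1 K q).subtype).codRestrict (Cfsg.GU n K q)
    (fun e => sc_mem n bar hbar e.1 e.2)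

theorem scU_coe (e : ↥(U1 K q)) :
    ((scU n bar hbar e : ↥(Cfsg.GU n K q)) : GL (Fin n) K) = sc n (e : Kˣ) := rfl

theorem scU_val (e : ↥(U1 K q)) :
    (((scU n bar hbar e : ↥(Cfsg.GU n K q)) : GL (Fin n) K) : Matrix (Fin n) (Fin n) K) =
      Matrix.scalar (Fin n) ((e : Kˣ) : K) := by
  rw [scU_coe, Matrix.GeneralLinearGroup.coe_scalar]

theorem val_mul_scU (g : ↥(Cfsg.GU n K q)) (e : ↥(U1 K q)) :
    (((g * scU n bar hbar e : ↥(Cfsg.GU n K q)) : GL (Fin n) K) : Matrix (Fin n) (Fin n) K) =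
      ((e : Kˣ) : K) • ((g : GL (Fin n) K) : Matrix (Fin n) (Fin n) K) := by
  rw [Subgroup.coe_mul, Units.val_mul, scU_val, Matrix.scalar_apply, ← Matrix.smul_eq_mul_diagonal]

/-- `scU` identifies the norm-one group with the centre of `GU_n`. -/
theorem isCentralScalar (hn : 1 ≤ n) (hu : ∃ u : Kˣ, u ∈ U1 K q ∧ u ≠ 1) :
    IsCentralScalar (scU n bar hbar) := by
  obtain ⟨u, hu, hu1⟩ := hu
  constructor
  · intro a b hab
    have h1 : sc n (a : Kˣ) = sc n (b : Kˣ) := congrArg Subtype.val hab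
    exact Subtype.ext (sc_injective hn h1)
  · intro z
    constructor
    · intro hz
      obtain ⟨l, hl, hzl⟩ := center_scalar n bar hbar hn u hu hu1 z hz
      refine ⟨⟨l, hl⟩, ?_⟩
      apply Subtype.ext
      apply Units.ext
      rw [hzl, scU_val, Matrix.scalar_apply]
    · rintro ⟨e, rfl⟩
      rw [Subgroup.mem_center_iff]
      intro g
      apply Subtype.ext
      rw [Subgroup.coe_mul, Subgroup.coe_mul, scU_coe]
      exact (Matrix.GeneralLinearGroup.scalar_commute (e : Kˣ) (g : GL (Fin n) K)).symm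

end Cfsg.Agent.Helper38.PGU
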