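import Mathlib
import Cfsg.Agent.Helper38.PGUBasic
import Cfsg.Agent.Helper38.PGUExist
import Cfsg.Agent.Helper43.PGLPrimeE

/-!
# Elements of prime order `r ∣ q + 1` of `PGU_n(q)` with a lift of order `r`
-/

set_option autoImplicit false
set_option linter.unusedSectionVars false

namespace Cfsg.Agent.Helper38.PGU

open Matrix Polynomial MulAction
open Cfsg.Agent.Helper43.SS Cfsg.Agent.Helper43.PGLInv Cfsg.Agent.Helper43.PGLPrime
open Cfsg.Agent.Helper43.GUPrime Cfsg.Agent.Helper45.GU Cfsg.Agent.Helper38.PG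

variable {K : Type*} [Field K] {q n r : ℕ} [NeZero r] (bar : K →+* K) (hbar : ∀ x, bar x = x ^ q)

/-- the group `GU_n(q)` -/
abbrev GUn (n : ℕ) (K : Type*) [Field K] (q : ℕ) := ↥(Cfsg.GU n K q)

/-- underlying matrix -/
abbrev mat (g : GUn n K q) : Matrix (Fin n) (Fin n) K := ((g : GL (Fin n) K) : Matrix (Fin n) (Fin n) K)

open scoped Classical in
/-- The rotation orbit of the multiplicity vector of a lift of order dividing `r`. -/
noncomputable def orbU (ζ : K) (r : ℕ) [NeZero r] (x : PQuot (GUn n K q)) : Om n r :=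
  if h : IsSplit r x then Quotient.mk _ (mvec ζ (mat (Classical.choose h)))
  else Quotient.mk _ (dlt n r 0)

omit [NeZero r] in
theorem mat_pow_eq_one (g : GUn n K q) (hg : g ^ r = 1) : mat g ^ r = 1 := by
  have h1 : (g : GL (Fin n) K) ^ r = 1 := by rw [← Subgroup.coe_pow, hg, Subgroup.coe_one]
  rw [mat, ← Units.val_pow_eq_pow_val, h1, Units.val_one]

omit [NeZero r] in
theorem coe_pow_eq_one (g : GUn n K q) (k : ℕ) (hg : g ^ k = 1) : (g : GL (Fin n) K) ^ k = 1 := by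
  rw [← Subgroup.coe_pow, hg, Subgroup.coe_one]

theorem mat_conj (c g : GUn n K q) : (mat (c * g * c⁻¹)).charpoly = (mat g).charpoly := by
  show (((c * g * c⁻¹ : GUn n K q) : GL (Fin n) K) : Matrix (Fin n) (Fin n) K).charpoly = _
  rw [Subgroup.coe_mul, Subgroup.coe_mul, Subgroup.coe_inv]
  exact charpoly_conj (c : GL (Fin n) K) (g : GL (Fin n) K)

section

variable {ζ : K} (hr : r.Prime) (hζ : orderOf ζ = r) (hrF : (r : K) ≠ 0) (hrq : r ∣ q + 1)

include hζ hrq in
omit [NeZero r] in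
theorem zeta_mem : ζ ^ (q + 1) = 1 := by
  obtain ⟨m, hm⟩ := hrq
  rw [hm, pow_mul, ← hζ, pow_orderOf_eq_one, one_pow]

include hζ hrq in
/-- `ζ^j` as an element of the norm-one group -/
noncomputable def zpU (j : ZMod r) : ↥(U1 K q) :=
  ⟨Units.mk0 (zp ζ r j) (zp_ne_zero (NeZero.ne r) (by rw [← hζ]; exact pow_orderOf_eq_one ζ) j), by
    rw [U1, MonoidHom.mem_ker, powMonoidHom_apply]
    apply Units.ext
    rw [Units.val_pow_eq_pow_val, Units.val_mk0, Units.val_one]
    unfold zp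
    rw [← pow_mul, mul_comm, pow_mul, zeta_mem hζ hrq, one_pow]⟩

theorem zpU_val (j : ZMod r) : (((zpU hζ hrq j : ↥(U1 K q)) : Kˣ) : K) = zp ζ r j := rfl

variable (hs : IsCentralScalar (scU n bar hbar))

include hr hζ hrF hs

theorem orbU_mk (g : GUn n K q) (hg : g ^ r = 1) :
    orbU ζ r (QuotientGroup.mk g : PQuot (GUn n K q)) = Quotient.mk _ (mvec ζ (mat g)) := by
  have h : IsSplit r (QuotientGroup.mk g : PQuot (GUn n K q)) := ⟨g, rfl, hg⟩
  unfold orbU
  rw [dif_pos h]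
  obtain ⟨h1, h2⟩ := Classical.choose_spec h
  obtain ⟨e, he⟩ := (mk_eq_mk_iff hs _ _).mp h1.symm
  have h3 : e ^ r = 1 := by
    have h4 := h2
    rw [he, mul_s_pow hs, hg, one_mul] at h4
    exact hs.inj (h4.trans (map_one _).symm)
  have h3' : (((e : ↥(U1 K q)) : Kˣ) : K) ^ r = 1 := by
    have := congrArg (fun x : ↥(U1 K q) => ((x : Kˣ) : K)) h3
    simpa using this
  obtain ⟨i, hi⟩ := eq_zp_of_pow_eq_one hζ _ h3'
  have h4 : mat (Classical.choose h) = zp ζ r i • mat g := by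
    rw [he, mat, val_mul_scU, hi]
  apply Quotient.sound
  show _ ∈ orbit _ _
  rw [h4, mvec_smul hr hζ hrF i _ (mat_pow_eq_one g hg)]
  exact MulAction.mem_orbit _ _

theorem orbU_conj (x c : PQuot (GUn n K q)) : orbU ζ r (c * x * c⁻¹) = orbU ζ r x := by
  by_cases h : IsSplit r x
  · obtain ⟨g, rfl, hg⟩ := h
    obtain ⟨c, rfl⟩ := QuotientGroup.mk_surjective c
    have h2 : (QuotientGroup.mk c * QuotientGroup.mk g * (QuotientGroup.mk c)⁻¹ :
        PQuot (GUn n K q)) = QuotientGroup.mk (c * g * c⁻¹) := rfl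
    rw [h2, orbU_mk bar hbar hr hζ hrF hs (c * g * c⁻¹)
      (by rw [_root_.conj_pow, hg, mul_one, mul_inv_cancel]),
      orbU_mk bar hbar hr hζ hrF hs g hg, mvec_congr ζ _ _ (mat_conj c g)]
  · have h' : ¬ IsSplit r (c * x * c⁻¹) := fun h' => h ((isSplit_conj_iff x c).mp h')
    unfold orbU
    rw [dif_neg h, dif_neg h']


include hrq hbar

omit hs in
theorem scU_zpU_val (j : ZMod r) :
    mat (scU n bar hbar (zpU hζ hrq j)) = zp ζ r j • (1 : Matrix (Fin n) (Fin n) K) := by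
  rw [mat, scU_val, zpU_val, Matrix.scalar_apply, Matrix.smul_one_eq_diagonal]

omit hs in
theorem zpU_pow (j : ZMod r) : (zpU hζ hrq j : ↥(U1 K q)) ^ r = 1 := by
  have hζr : ζ ^ r = 1 := by rw [← hζ]; exact pow_orderOf_eq_one ζ
  apply Subtype.ext
  apply Units.ext
  rw [Subgroup.coe_pow, Units.val_pow_eq_pow_val, zpU_val, zp_pow hζr]
  rfl

theorem isConj_of_mvec_orbit_eq [Fintype K] (hK : Fintype.card K = q ^ 2) (g h : GUn n K q)
    (hg : g ^ r = 1) (hh : h ^ r = 1)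
    (heq : (Quotient.mk _ (mvec ζ (mat g)) : Om n r) = Quotient.mk _ (mvec ζ (mat h))) :
    IsConj (QuotientGroup.mk g : PQuot (GUn n K q)) (QuotientGroup.mk h) := by
  obtain ⟨i, hi⟩ := Quotient.exact heq
  set e : ↥(U1 K q) := zpU hζ hrq (Multiplicative.toAdd i) with he
  have h2 : mat (h * scU n bar hbar e) = zp ζ r (Multiplicative.toAdd i) • mat h := by
    rw [mat, val_mul_scU, he, zpU_val]
  have h3 : (mvec ζ (mat (h * scU n bar hbar e)) : Bn n r) = mvec ζ (mat g) := by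
    rw [h2, mvec_smul hr hζ hrF _ _ (mat_pow_eq_one h hh), ← hi]
    rfl
  have h4 : (h * scU n bar hbar e) ^ r = 1 := by
    rw [mul_s_pow hs, hh, one_mul, he, zpU_pow bar hbar hr hζ hrF hrq, map_one]
  have hcp := charpoly_eq_of_mvec_eq hr hζ hrF _ _ (mat_pow_eq_one _ h4) (mat_pow_eq_one g hg) h3
  have hc : IsConj ((h * scU n bar hbar e : GUn n K q) : GL (Fin n) K) (g : GL (Fin n) K) :=
    isConj_GL_of_charpoly_eq _ _ r r hrF hrF (coe_pow_eq_one _ r h4) (coe_pow_eq_one g r hg) hcp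
  have hc' : IsConj (h * scU n bar hbar e) g := (Cfsg.Agent.S2587.result hK _ _).2 hc
  have h5 := (QuotientGroup.mk' (Subgroup.center (GUn n K q))).map_isConj hc'
  have h6 : (QuotientGroup.mk (h * scU n bar hbar e) : PQuot (GUn n K q)) = QuotientGroup.mk h :=
    ((mk_eq_mk_iff hs h _).mpr ⟨e, rfl⟩).symm
  have h7 : IsConj (QuotientGroup.mk (h * scU n bar hbar e) : PQuot (GUn n K q))
      (QuotientGroup.mk g) := h5
  rw [h6] at h7
  exact h7.symm

omit hs in
theorem mvec_orbit_ne_dlt (g : GUn n K q) (hg : g ^ r = 1)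
    (hns : ¬ ∃ c : ↥(U1 K q), g = scU n bar hbar c) :
    (Quotient.mk _ (mvec ζ (mat g)) : Om n r) ≠ Quotient.mk _ (dlt n r 0) := by
  intro heq
  obtain ⟨i, hi⟩ := Quotient.exact heq
  have hi' : i • dlt n r 0 = mvec ζ (mat g) := hi
  rw [smul_dlt, zero_add] at hi'
  have h1 := eq_scalar_of_mvec_eq_dlt hr hζ hrF _ (mat_pow_eq_one g hg) _ hi'.symm
  apply hns
  refine ⟨zpU hζ hrq (Multiplicative.toAdd i), ?_⟩
  apply Subtype.ext
  apply Units.ext
  show mat g = mat (scU n bar hbar (zpU hζ hrq (Multiplicative.toAdd i)))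
  rw [h1, mat, scU_val, zpU_val]

omit hr hrF hs in
theorem zp_mul_bar (j : ZMod r) : zp ζ r j * bar (zp ζ r j) = 1 := by
  have := (mem_U1_iff bar hbar ((zpU hζ hrq j : ↥(U1 K q)) : Kˣ)).1 (zpU hζ hrq j).2
  exact this

theorem exists_split_class [Fintype K] (hK : Fintype.card K = q ^ 2) (t : Om n r)
    (ht : t ≠ Quotient.mk _ (dlt n r 0)) :
    ∃ x : PQuot (GUn n K q), orderOf x = r ∧ IsSplit r x ∧ orbU ζ r x = t := by
  classical
  have hζr : ζ ^ r = 1 := by rw [← hζ]; exact pow_orderOf_eq_one ζ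
  obtain ⟨a, rfl⟩ := Quotient.exists_rep t
  obtain ⟨p, hp⟩ := CharP.exists K
  have : CharP K p := hp
  have : Fact p.Prime := ⟨CharP.char_is_prime K p⟩
  have hpp : p.Prime := Fact.out
  set f : K[X] := ∏ k : ZMod r, (X - C (zp ζ r k)) ^ a.1 k with hf
  have hfm : f.Monic := monic_prod_of_monic _ _ (fun k _ => (monic_X_sub_C _).pow _)
  have hfd : f.natDegree = n := by
    rw [hf, natDegree_prod_of_monic _ _ (fun k _ => (monic_X_sub_C _).pow _)]
    simp only [natDegree_pow, natDegree_X_sub_C, mul_one]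
    exact a.2
  have hf0 : f.coeff 0 ≠ 0 := by
    rw [coeff_zero_eq_eval_zero, hf, eval_prod]
    apply Finset.prod_ne_zero_iff.mpr
    intro k _
    rw [eval_pow, eval_sub, eval_X, eval_C, zero_sub]
    exact pow_ne_zero _ (neg_ne_zero.mpr (zp_ne_zero (NeZero.ne r) hζr k))
  have hfu : utilde bar f = f := by
    rw [hf, ← utildeHom_apply, map_prod]
    apply Finset.prod_congr rfl
    intro k _
    rw [map_pow, utildeHom_apply, utilde_X_sub_C bar _ (zp_mul_bar bar hbar hζ hrq k)]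
  obtain ⟨B, hB, k, hk0, hkp, hBk⟩ := exists_GU_charpoly p hK bar hbar n f hfm hfd hf0 hfu
  have hkF : (k : K) ≠ 0 := by
    intro h0
    rw [CharP.cast_eq_zero_iff K p k] at h0
    have : p ∣ Nat.gcd k p := Nat.dvd_gcd h0 dvd_rfl
    rw [hkp] at this
    exact hpp.one_lt.ne' (Nat.dvd_one.mp this)
  have h0 : (X ^ r - 1 : K[X]) ≠ 0 := by
    have := X_pow_sub_C_ne_zero hr.pos (1 : K)
    rwa [C_1] at this
  have hBr : aeval (mat B) (X ^ r - 1 : K[X]) = 0 := by
    apply aeval_eq_zero_of_factors (mat B) k hkF (mat_pow_eq_one B hBk) _ h0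
    intro P _ hPi hP
    rw [mat, hB, hf] at hP
    obtain ⟨j, _, hj⟩ := (Prime.dvd_finsetProd_iff hPi.prime _).mp hP
    have h1 := hPi.prime.dvd_of_dvd_pow hj
    refine h1.trans ?_
    rw [dvd_iff_isRoot, IsRoot.def, eval_sub, eval_pow, eval_X, eval_one, zp_pow hζr, sub_self]
  have hBr' : mat B ^ r = 1 := by
    rw [map_sub, map_pow, aeval_X, map_one, sub_eq_zero] at hBr
    exact hBr
  have hg : B ^ r = 1 := by
    apply Subtype.ext
    apply Units.ext
    rw [Subgroup.coe_pow, Units.val_pow_eq_pow_val]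
    exact hBr'
  have hBa : (mvec ζ (mat B) : Bn n r) = a := by
    apply Subtype.ext
    rw [mvec_val hr hζ hrF _ hBr']
    funext j
    unfold mult
    rw [mat, hB, hf, rootMultiplicity_prod hζ]
  refine ⟨QuotientGroup.mk B, ?_, ⟨B, rfl, hg⟩, ?_⟩
  · rw [orderOf_mk_eq_prime_iff hs hr]
    refine ⟨⟨1, by rw [hg, map_one]⟩, ?_⟩
    rintro ⟨c, hc⟩
    have hc1 : c ^ r = 1 := by
      have h4 := hg
      rw [hc, ← map_pow] at h4
      exact hs.inj (h4.trans (map_one _).symm)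
    have hc1' : (((c : ↥(U1 K q)) : Kˣ) : K) ^ r = 1 := by
      have := congrArg (fun x : ↥(U1 K q) => ((x : Kˣ) : K)) hc1
      simpa using this
    obtain ⟨j, hj⟩ := eq_zp_of_pow_eq_one hζ _ hc1'
    have h5 : mat B = zp ζ r j • (1 : Matrix (Fin n) (Fin n) K) := by
      rw [hc, mat, scU_val, hj, Matrix.scalar_apply, Matrix.smul_one_eq_diagonal]
    have h6 : (mvec ζ (mat B) : Bn n r) = Multiplicative.ofAdd j • dlt n r 0 := by
      rw [h5, mvec_smul hr hζ hrF j _ (one_pow r), mvec_one hζ]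
    apply ht
    apply Quotient.sound
    show _ ∈ orbit _ _
    rw [← hBa, h6]
    exact MulAction.mem_orbit _ _
  · rw [orbU_mk bar hbar hr hζ hrF hs B hg, hBa]

end

end Cfsg.Agent.Helper38.PGU
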