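import Mathlib
import Cfsg.Agent.Helper38.PGUSplit

/-!
# Elements of prime order `r ∣ q + 1` of `PGU_n(q)` without a lift of order `r`
-/

set_option autoImplicit false
set_option linter.unusedSectionVars false

namespace Cfsg.Agent.Helper38.PGU

open Matrix Polynomial MulAction
open Cfsg.Agent.Helper43.SS Cfsg.Agent.Helper43.PGLInv Cfsg.Agent.Helper43.PGLPrime
open Cfsg.Agent.Helper43.GUPrime Cfsg.Agent.Helper45.GU Cfsg.Agent.Helper38.PG

variable {K : Type*} [Field K] [Fintype K] {q n r : ℕ} (bar : K →+* K)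
  (hbar : ∀ x, bar x = x ^ q) (hK : Fintype.card K = q ^ 2)

include hK in
/-- an element of `Kˣ` whose `r`-th power has norm one has norm one, when `r` is prime to `q - 1` -/
theorem mem_U1_of_pow_mem (hrc : r.Coprime (q - 1)) (b : Kˣ) (hb : b ^ r ∈ U1 K q) :
    b ∈ U1 K q := by
  classical
  have hq1 : 1 ≤ q := by
    rcases Nat.eq_zero_or_pos q with rfl | h
    · have := Fintype.card_pos (α := K)
      rw [hK] at this
      simp at this
    · exact h
  rw [U1, MonoidHom.mem_ker, powMonoidHom_apply] at hb ⊢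
  have h1 : orderOf b ∣ r * (q + 1) := orderOf_dvd_of_pow_eq_one (by rw [pow_mul]; exact hb)
  have h2 : orderOf b ∣ (q - 1) * (q + 1) := by
    apply orderOf_dvd_of_pow_eq_one
    have h3 : (q - 1) * (q + 1) = Fintype.card Kˣ := by
      rw [Fintype.card_units, hK]
      have : q ^ 2 = (q - 1) * (q + 1) + 1 := by
        obtain ⟨m, rfl⟩ : ∃ m, q = m + 1 := ⟨q - 1, by omega⟩
        simp only [Nat.add_sub_cancel]
        ring
      omega
    rw [h3]
    exact pow_card_eq_one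
  have h4 := Nat.dvd_gcd h1 h2
  rw [Nat.gcd_mul_right, hrc, one_mul] at h4
  exact orderOf_dvd_iff_pow_eq_one.1 h4

include hK in
theorem irreducible_of_not_mem_Pr (hr : r.Prime) (hrc : r.Coprime (q - 1)) (d : ↥(U1 K q))
    (hd : (QuotientGroup.mk d : ↥(U1 K q) ⧸ Pr ↥(U1 K q) r) ≠ 1) :
    Irreducible (X ^ r - C (((d : ↥(U1 K q)) : Kˣ) : K) : K[X]) := by
  apply X_pow_sub_C_irreducible_of_prime hr
  intro b hb
  apply hd
  rw [QuotientGroup.eq_one_iff]
  have hb0 : b ≠ 0 := by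
    rintro rfl
    rw [zero_pow hr.ne_zero] at hb
    exact (d : Kˣ).ne_zero hb.symm
  have hbd : (Units.mk0 b hb0) ^ r = (d : Kˣ) := by
    apply Units.ext
    rw [Units.val_pow_eq_pow_val, Units.val_mk0, hb]
  have hbU : Units.mk0 b hb0 ∈ U1 K q := by
    apply mem_U1_of_pow_mem hK hrc
    rw [hbd]
    exact d.2
  refine ⟨⟨Units.mk0 b hb0, hbU⟩, ?_⟩
  apply Subtype.ext
  rw [powMonoidHom_apply, Subgroup.coe_pow]
  exact hbd

include hK in
theorem charpoly_of_pow_nonsplit (hr : r.Prime) (hrc : r.Coprime (q - 1)) (g : GUn n K q)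
    (d : ↥(U1 K q)) (hd : (QuotientGroup.mk d : ↥(U1 K q) ⧸ Pr ↥(U1 K q) r) ≠ 1)
    (hg : g ^ r = scU n bar hbar d) :
    ∃ m : ℕ, (mat g).charpoly = (X ^ r - C (((d : ↥(U1 K q)) : Kˣ) : K)) ^ m ∧ n = m * r := by
  have hm : (X ^ r - C (((d : ↥(U1 K q)) : Kˣ) : K) : K[X]).Monic := monic_X_pow_sub_C _ hr.ne_zero
  have hdeg : (X ^ r - C (((d : ↥(U1 K q)) : Kˣ) : K) : K[X]).natDegree = r := natDegree_X_pow_sub_C
  have hAh : aeval (mat g) (X ^ r - C (((d : ↥(U1 K q)) : Kˣ) : K) : K[X]) = 0 := by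
    have h1 : mat g ^ r = mat (scU n bar hbar d) := by
      rw [← hg, mat, mat, Subgroup.coe_pow, Units.val_pow_eq_pow_val]
    rw [map_sub, map_pow, aeval_X, aeval_C, h1, mat, scU_val]
    exact sub_self _
  obtain ⟨m, h1, h2⟩ := charpoly_of_irreducible _ _ hm (irreducible_of_not_mem_Pr hK hr hrc d hd) hAh
  rw [hdeg] at h2
  exact ⟨m, h1, h2⟩

include hK in
theorem q_cast_eq_zero : (q : K) = 0 := by
  have h1 : ((q ^ 2 : ℕ) : K) = 0 := by
    rw [← hK]
    exact FiniteField.cast_card_eq_zero K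
  rw [Nat.cast_pow] at h1
  exact pow_eq_zero_iff (two_ne_zero) |>.1 h1

include hK in
theorem cast_mul_succ_ne_zero (hrF : (r : K) ≠ 0) : ((r * (q + 1) : ℕ) : K) ≠ 0 := by
  rw [Nat.cast_mul, Nat.cast_add, q_cast_eq_zero hK, zero_add, Nat.cast_one, mul_one]
  exact hrF

variable (hs : IsCentralScalar (scU n bar hbar))

include hs in
theorem pow_eq_one_of_pow_scalar (g : GUn n K q) (c : ↥(U1 K q))
    (hg : g ^ r = scU n bar hbar c) : g ^ (r * (q + 1)) = 1 := by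
  rw [pow_mul, hg, ← map_pow]
  have : c ^ (q + 1) = 1 := by
    apply Subtype.ext
    have h1 : ((c : ↥(U1 K q)) : Kˣ) ^ (q + 1) = 1 := c.2
    rw [Subgroup.coe_pow, h1]
    rfl
  rw [this, map_one]

include hK hs in
theorem isConj_of_kap_eq (hr : r.Prime) (hrc : r.Coprime (q - 1)) (hrF : (r : K) ≠ 0)
    (x y : PQuot (GUn n K q)) (hx : orderOf x = r) (hy : orderOf y = r)
    (hk : kap (scU n bar hbar) r x = kap (scU n bar hbar) r y)
    (hk1 : kap (scU n bar hbar) r x ≠ 1) : IsConj x y := by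
  obtain ⟨g, rfl⟩ := QuotientGroup.mk_surjective x
  obtain ⟨h, rfl⟩ := QuotientGroup.mk_surjective y
  obtain ⟨⟨c, hc⟩, -⟩ := (orderOf_mk_eq_prime_iff hs hr g).mp hx
  obtain ⟨⟨d, hd⟩, -⟩ := (orderOf_mk_eq_prime_iff hs hr h).mp hy
  rw [kap_mk hs g c hc] at hk hk1
  rw [kap_mk hs h d hd] at hk
  obtain ⟨e, he⟩ := QuotientGroup.eq.mp hk
  rw [powMonoidHom_apply] at he
  have hg' : (g * scU n bar hbar e) ^ r = scU n bar hbar d := by
    rw [mul_s_pow hs, hc, ← map_mul, he, mul_inv_cancel_left]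
  have hd1 : (QuotientGroup.mk d : ↥(U1 K q) ⧸ Pr ↥(U1 K q) r) ≠ 1 := hk ▸ hk1
  obtain ⟨m, hm1, hm2⟩ := charpoly_of_pow_nonsplit bar hbar hK hr hrc (g * scU n bar hbar e) d hd1 hg'
  obtain ⟨m', hm1', hm2'⟩ := charpoly_of_pow_nonsplit bar hbar hK hr hrc h d hd1 hd
  have hmm : m = m' := Nat.eq_of_mul_eq_mul_right hr.pos (hm2.symm.trans hm2')
  have hcp : (mat (g * scU n bar hbar e)).charpoly = (mat h).charpoly := by rw [hm1, hm1', hmm]
  have hcj : IsConj ((g * scU n bar hbar e : GUn n K q) : GL (Fin n) K) (h : GL (Fin n) K) :=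
    isConj_GL_of_charpoly_eq _ _ _ _ (cast_mul_succ_ne_zero hK hrF) (cast_mul_succ_ne_zero hK hrF)
      (coe_pow_eq_one _ _ (pow_eq_one_of_pow_scalar bar hbar hs _ d hg'))
      (coe_pow_eq_one _ _ (pow_eq_one_of_pow_scalar bar hbar hs _ d hd)) hcp
  have hcj' : IsConj (g * scU n bar hbar e) h := (Cfsg.Agent.S2587.result hK _ _).2 hcj
  have h5 := (QuotientGroup.mk' (Subgroup.center (GUn n K q))).map_isConj hcj'
  have h6 : (QuotientGroup.mk (g * scU n bar hbar e) : PQuot (GUn n K q)) = QuotientGroup.mk g :=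
    ((mk_eq_mk_iff hs g _).mpr ⟨e, rfl⟩).symm
  have h7 : IsConj (QuotientGroup.mk (g * scU n bar hbar e) : PQuot (GUn n K q))
      (QuotientGroup.mk h) := h5
  rw [h6] at h7
  exact h7

include hK hs in
theorem dvd_of_kap_ne_one (hr : r.Prime) (hrc : r.Coprime (q - 1)) (x : PQuot (GUn n K q))
    (hx : orderOf x = r) (hk1 : kap (scU n bar hbar) r x ≠ 1) : r ∣ n := by
  obtain ⟨g, rfl⟩ := QuotientGroup.mk_surjective x
  obtain ⟨⟨c, hc⟩, -⟩ := (orderOf_mk_eq_prime_iff hs hr g).mp hx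
  rw [kap_mk hs g c hc] at hk1
  obtain ⟨m, -, hm2⟩ := charpoly_of_pow_nonsplit bar hbar hK hr hrc g c hk1 hc
  exact ⟨m, by rw [hm2, mul_comm]⟩

include hK hs in
theorem exists_nonsplit_class (hr : r.Prime) (hrn : r ∣ n)
    (k : ↥(U1 K q) ⧸ Pr ↥(U1 K q) r) (hk : k ≠ 1) :
    ∃ x : PQuot (GUn n K q), orderOf x = r ∧ kap (scU n bar hbar) r x = k := by
  classical
  obtain ⟨d, rfl⟩ := QuotientGroup.mk_surjective k
  obtain ⟨p, hp⟩ := CharP.exists K
  have : CharP K p := hp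
  have : Fact p.Prime := ⟨CharP.char_is_prime K p⟩
  have hpp : p.Prime := Fact.out
  set δ : K := (((d : ↥(U1 K q)) : Kˣ) : K) with hδ
  have hδU : δ * bar δ = 1 := (mem_U1_iff bar hbar (d : Kˣ)).1 d.2
  have hδ0 : δ ≠ 0 := (d : Kˣ).ne_zero
  set h : K[X] := X ^ r - C δ with hh
  have hm : h.Monic := monic_X_pow_sub_C _ hr.ne_zero
  have hdeg : h.natDegree = r := natDegree_X_pow_sub_C
  have hfm : (h ^ (n / r)).Monic := hm.pow _
  have hfd : (h ^ (n / r)).natDegree = n := by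
    rw [natDegree_pow, hdeg]
    exact Nat.div_mul_cancel hrn
  have hf0 : (h ^ (n / r)).coeff 0 ≠ 0 := by
    rw [coeff_zero_eq_eval_zero, eval_pow, hh, eval_sub, eval_pow, eval_X, eval_C,
      zero_pow hr.ne_zero, zero_sub]
    exact pow_ne_zero _ (neg_ne_zero.mpr hδ0)
  have hfu : utilde bar (h ^ (n / r)) = h ^ (n / r) := by
    rw [utilde_pow, hh, utilde_X_pow_sub_C bar hr.pos δ hδU]
  obtain ⟨B, hB, k, hk0, hkp, hBk⟩ := exists_GU_charpoly p hK bar hbar n _ hfm hfd hf0 hfu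
  have hkF : (k : K) ≠ 0 := by
    intro h0
    rw [CharP.cast_eq_zero_iff K p k] at h0
    have : p ∣ Nat.gcd k p := Nat.dvd_gcd h0 dvd_rfl
    rw [hkp] at this
    exact hpp.one_lt.ne' (Nat.dvd_one.mp this)
  have hAh : aeval (mat B) h = 0 := by
    apply aeval_eq_zero_of_factors (mat B) k hkF (mat_pow_eq_one B hBk) h hm.ne_zero
    intro P _ hPi hP
    rw [mat, hB] at hP
    exact hPi.prime.dvd_of_dvd_pow hP
  have hAA : mat B ^ r = Matrix.scalar (Fin n) δ := by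
    rw [hh, map_sub, map_pow, aeval_X, aeval_C, sub_eq_zero] at hAh
    exact hAh
  have hg : B ^ r = scU n bar hbar d := by
    apply Subtype.ext
    apply Units.ext
    rw [Subgroup.coe_pow, Units.val_pow_eq_pow_val, scU_val]
    exact hAA
  refine ⟨QuotientGroup.mk B, ?_, kap_mk hs B d hg⟩
  rw [orderOf_mk_eq_prime_iff hs hr]
  refine ⟨⟨d, hg⟩, ?_⟩
  rintro ⟨c, hc⟩
  rw [hc, ← map_pow] at hg
  have := hs.inj hg
  apply hk
  rw [QuotientGroup.eq_one_iff]
  exact ⟨c, this⟩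

end Cfsg.Agent.Helper38.PGU
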