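import Cfsg.Agent.Helper88.PSp4Hyp

/-!
Helper38 (for helper88, S5320): piece (E1) — the elements of `E = Q ∘ D₈ ≤ Sp₄(F)`.
-/

set_option autoImplicit false

namespace Cfsg.Agent.Helper38.PSp4

open Matrix Equiv Cfsg.Agent.Helper42 Cfsg.Agent.Helper85 Cfsg.Agent.Helper84
  Cfsg.Agent.Helper88.PSp4F

variable {F : Type*} [Field F]

theorem negOneSL_comm (a : SL2 F) : a * negOneSL F = negOneSL F * a :=
  (Subgroup.mem_center_iff.1 negOneSL_mem_center) a

/-- the signs `±1` of `SL₂(F)` -/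
def IsSign (e : SL2 F) : Prop := e = 1 ∨ e = negOneSL F

theorem IsSign.comm {e : SL2 F} (he : IsSign e) (a : SL2 F) : a * e = e * a := by
  rcases he with rfl | rfl
  · rw [mul_one, one_mul]
  · exact negOneSL_comm a

theorem IsSign.mul_self {e : SL2 F} (he : IsSign e) : e * e = 1 := by
  rcases he with rfl | rfl
  · rw [mul_one]
  · exact negOneSL_mul_self

theorem IsSign.inv {e : SL2 F} (he : IsSign e) : e⁻¹ = e :=
  inv_eq_of_mul_eq_one_right he.mul_self

theorem IsSign.mul {e f : SL2 F} (he : IsSign e) (hf : IsSign f) : IsSign (e * f) := by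
  rcases he with rfl | rfl <;> rcases hf with rfl | rfl
  · left; rw [mul_one]
  · right; rw [one_mul]
  · right; rw [mul_one]
  · left; exact negOneSL_mul_self

theorem IsSign.mem {Q : Subgroup (SL2 F)} (hneg : negOneSL F ∈ Q) {e : SL2 F} (he : IsSign e) :
    e ∈ Q := by
  rcases he with rfl | rfl
  · exact Q.one_mem
  · exact hneg

/-- the set of the elements `ι(a, ±a)`, `ι(a, ±a) tw`, `a ∈ Q`, as a subgroup -/
def ESub (Q : Subgroup (SL2 F)) (hneg : negOneSL F ∈ Q) : Subgroup (Sp4 F) where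
  carrier := {g | ∃ a ∈ Q, ∃ e : SL2 F, IsSign e ∧ (g = io a (e * a) ∨ g = io a (e * a) * tw)}
  one_mem' := ⟨1, Q.one_mem, 1, Or.inl rfl, Or.inl (by rw [mul_one, io_one])⟩
  mul_mem' := by
    rintro g h ⟨a, ha, e, he, hg⟩ ⟨b, hb, f, hf, hh⟩
    have key1 : io a (e * a) * io b (f * b) = io (a * b) ((e * f) * (a * b)) := by
      rw [io_mul]
      congr 1
      calc e * a * (f * b) = e * (a * f) * b := by group
        _ = e * (f * a) * b := by rw [hf.comm a]
        _ = e * f * (a * b) := by group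
    have key2 : io a (e * a) * tw * io b (f * b)
        = io (f * a * b) ((e * f) * (f * a * b)) * tw := by
      rw [mul_assoc, tw_io, ← mul_assoc, io_mul]
      congr 2
      · calc a * (f * b) = (a * f) * b := by group
          _ = f * a * b := by rw [hf.comm a]
      · calc e * a * b = e * (f * f) * a * b := by rw [hf.mul_self, mul_one]
          _ = e * f * (f * a * b) := by group
    rcases hg with rfl | rfl <;> rcases hh with rfl | rfl
    · exact ⟨a * b, Q.mul_mem ha hb, e * f, he.mul hf, Or.inl key1⟩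
    · refine ⟨a * b, Q.mul_mem ha hb, e * f, he.mul hf, Or.inr ?_⟩
      rw [← mul_assoc, key1]
    · exact ⟨f * a * b, Q.mul_mem (Q.mul_mem (hf.mem hneg) ha) hb, e * f, he.mul hf, Or.inr key2⟩
    · refine ⟨f * a * b, Q.mul_mem (Q.mul_mem (hf.mem hneg) ha) hb, e * f, he.mul hf, Or.inl ?_⟩
      rw [← mul_assoc, key2, mul_assoc, tw_mul_tw, mul_one]
  inv_mem' := by
    rintro g ⟨a, ha, e, he, hg⟩
    rcases hg with rfl | rfl
    · refine ⟨a⁻¹, Q.inv_mem ha, e, he, Or.inl ?_⟩
      rw [io_inv]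
      congr 1
      rw [_root_.mul_inv_rev, he.inv, he.comm]
    · refine ⟨e * a⁻¹, Q.mul_mem (he.mem hneg) (Q.inv_mem ha), e, he, Or.inr ?_⟩
      rw [_root_.mul_inv_rev, tw_inv, io_inv, tw_io]
      congr 2
      · rw [_root_.mul_inv_rev, he.inv, he.comm]
      · rw [← mul_assoc, he.mul_self, one_mul]

/-- (E1) -/
theorem mem_EQ {Q : Subgroup (SL2 F)} (hneg : negOneSL F ∈ Q) (g : Sp4 F) :
    g ∈ EQ Q ↔ ∃ a ∈ Q, ∃ e : SL2 F, (e = 1 ∨ e = negOneSL F) ∧ (g = io a (e * a) ∨ g = io a (e * a) * tw) := by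
  constructor
  · intro hg
    have hle : EQ Q ≤ ESub Q hneg := by
      unfold EQ
      apply sup_le
      · rintro _ ⟨a, ha, rfl⟩
        exact ⟨a, ha, 1, Or.inl rfl, Or.inl (by rw [one_mul]; rfl)⟩
      · rw [Subgroup.closure_le]
        rintro x hx
        rcases hx with rfl | hx
        · refine ⟨negOneSL F, hneg, negOneSL F, Or.inr rfl, Or.inl ?_⟩
          rw [negOneSL_mul_self]
          rfl
        · rw [Set.mem_singleton_iff] at hx
          subst hx
          exact ⟨1, Q.one_mem, 1, Or.inl rfl, Or.inr (by rw [mul_one, io_one, one_mul])⟩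
    exact hle hg
  · rintro ⟨a, ha, e, he, hg⟩
    have ht0 : t0 F ∈ EQ Q :=
      Subgroup.mem_sup_right (Subgroup.subset_closure (Set.mem_insert _ _))
    have htw : (tw : Sp4 F) ∈ EQ Q :=
      Subgroup.mem_sup_right (Subgroup.subset_closure (Set.mem_insert_of_mem _ rfl))
    have hd : ∀ b ∈ Q, io b b ∈ EQ Q := fun b hb => Subgroup.mem_sup_left ⟨b, hb, rfl⟩
    have h1 : io a (e * a) ∈ EQ Q := by
      rcases he with rfl | rfl
      · rw [one_mul]
        exact hd a ha
      · have h2 : io a (negOneSL F * a) = io 1 (negOneSL F) * io a a := by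
          rw [io_mul, one_mul]
        rw [h2, ← nI_mul_t0, ← io_neg_neg]
        exact (EQ Q).mul_mem ((EQ Q).mul_mem (hd _ hneg) ht0) (hd a ha)
    rcases hg with rfl | rfl
    · exact h1
    · exact (EQ Q).mul_mem h1 htw

end Cfsg.Agent.Helper38.PSp4
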