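import Cfsg.Agent.Helper88.PSp4Hyp
import Cfsg.Agent.Helper37.SL2Sylow2

/-!
Helper38 (for helper88, S5320): pieces (Qc) and (Qe1) — a Sylow 2-subgroup `Q` of `SL₂(F)`,
`|F|` odd, is generated by the quotients of its elements of square `-1`; and if `|Q| = 8` it is
`{±1, ±x, ±y, ±xy}`.
-/

set_option autoImplicit false
set_option linter.unusedSectionVars false

namespace Cfsg.Agent.Helper38.PSp4

open Matrix Equiv Cfsg.Agent.Helper42 Cfsg.Agent.Helper85 Cfsg.Agent.Helper84
  Cfsg.Agent.Helper88.PSp4F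

variable {F : Type*} [Field F]

section quat

variable {n : ℕ} [NeZero n]

theorem natCast_add_self : ((n : ZMod (2 * n)) + n) = 0 := by
  have h : ((2 * n : ℕ) : ZMod (2 * n)) = 0 := ZMod.natCast_self (2 * n)
  rw [← h]
  push_cast
  ring

theorem natCast_ne_zero' : (n : ZMod (2 * n)) ≠ 0 := by
  intro h
  rw [ZMod.natCast_eq_zero_iff] at h
  have hn : 0 < n := Nat.pos_of_ne_zero (NeZero.ne n)
  have := Nat.le_of_dvd hn h
  omega

theorem orderOf_a_n : orderOf (QuaternionGroup.a (n : ZMod (2 * n))) = 2 := by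
  apply orderOf_eq_prime
  · rw [sq, QuaternionGroup.a_mul_a, natCast_add_self, QuaternionGroup.a_zero]
  · rw [QuaternionGroup.one_def]
    intro h
    exact natCast_ne_zero' (QuaternionGroup.a.inj h)

theorem orderOf_negOneSL (h2 : (2 : F) ≠ 0) : orderOf (negOneSL F) = 2 := by
  apply orderOf_eq_prime
  · rw [sq, negOneSL_mul_self]
  · exact negOneSL_ne_one h2

/-- the central involution of the quaternion group goes to `-1` -/
theorem symm_a_n (h2 : (2 : F) ≠ 0) (Q : Subgroup (SL2 F)) (e : ↥Q ≃* QuaternionGroup n) :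
    ((e.symm (QuaternionGroup.a (n : ZMod (2 * n))) : ↥Q) : SL2 F) = negOneSL F := by
  apply Cfsg.Agent.Helper37.SL2Q.eq_of_orderOf_two h2
  · rw [Subgroup.orderOf_coe, MulEquiv.orderOf_eq, orderOf_a_n]
  · exact orderOf_negOneSL h2

theorem symm_mul_self (h2 : (2 : F) ≠ 0) (Q : Subgroup (SL2 F)) (e : ↥Q ≃* QuaternionGroup n)
    {u : QuaternionGroup n} (hu : u * u = QuaternionGroup.a (n : ZMod (2 * n))) :
    ((e.symm u : ↥Q) : SL2 F) * ((e.symm u : ↥Q) : SL2 F) = negOneSL F := by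
  rw [← Subgroup.coe_mul, ← map_mul, hu, symm_a_n h2 Q e]

theorem xa_mul_self (i : ZMod (2 * n)) :
    QuaternionGroup.xa i * QuaternionGroup.xa i = QuaternionGroup.a (n : ZMod (2 * n)) := by
  rw [QuaternionGroup.xa_mul_xa, add_sub_cancel_right]

/-- (Qc) for a quaternion group -/
theorem hQc_of_equiv (h2 : (2 : F) ≠ 0) (hn : Even n) (Q : Subgroup (SL2 F))
    (e : ↥Q ≃* QuaternionGroup n) : HQc Q := by
  obtain ⟨m, hm⟩ := hn
  have hmm : QuaternionGroup.a (m : ZMod (2 * n)) * QuaternionGroup.a (m : ZMod (2 * n))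
      = QuaternionGroup.a (n : ZMod (2 * n)) := by
    rw [QuaternionGroup.a_mul_a]
    congr 1
    rw [hm]
    push_cast
    ring
  refine ⟨⟨((e.symm (QuaternionGroup.xa 0) : ↥Q) : SL2 F), (e.symm (QuaternionGroup.xa 0)).2,
    symm_mul_self h2 Q e (xa_mul_self 0)⟩, ?_⟩
  intro H hH
  have key : ∀ u v : QuaternionGroup n, u * u = QuaternionGroup.a (n : ZMod (2 * n)) →
      v * v = QuaternionGroup.a (n : ZMod (2 * n)) → ((e.symm (u * v⁻¹) : ↥Q) : SL2 F) ∈ H := by
    intro u v hu hv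
    rw [map_mul, map_inv, Subgroup.coe_mul, Subgroup.coe_inv]
    exact hH _ (e.symm u).2 _ (e.symm v).2 (symm_mul_self h2 Q e hu) (symm_mul_self h2 Q e hv)
  have good : ∀ u : QuaternionGroup n, ((e.symm u : ↥Q) : SL2 F) ∈ H := by
    intro u
    cases u with
    | a i =>
      have h1 : QuaternionGroup.a i = QuaternionGroup.xa 0 * (QuaternionGroup.xa i)⁻¹ := by
        apply eq_mul_inv_of_mul_eq
        rw [QuaternionGroup.a_mul_xa, sub_self]
      rw [h1]
      exact key _ _ (xa_mul_self 0) (xa_mul_self i)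
    | xa i =>
      have h1 : QuaternionGroup.xa i = QuaternionGroup.a (m : ZMod (2 * n))
          * (QuaternionGroup.xa ((m : ZMod (2 * n)) + i - (n : ZMod (2 * n))))⁻¹ := by
        apply eq_mul_inv_of_mul_eq
        rw [QuaternionGroup.xa_mul_xa]
        congr 1
        ring
      rw [h1]
      exact key _ _ hmm (xa_mul_self _)
  intro g hg
  have h1 := good (e ⟨g, hg⟩)
  rw [e.symm_apply_apply] at h1
  exact h1

end quat

/-- (Qc) -/
theorem hQc [Fintype F] (hF : Odd (Fintype.card F)) (Q : Sylow 2 (SL2 F)) :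
    HQc (Q : Subgroup (SL2 F)) := by
  have h2 : (2 : F) ≠ 0 := Cfsg.Agent.Helper37.two_ne_zero_of_odd_card hF
  obtain ⟨k, hk, ⟨e⟩⟩ := Cfsg.Agent.Helper37.SL2Q.sylow_two_quaternion hF Q
  have hn : Even (2 ^ k) := by
    obtain ⟨j, rfl⟩ : ∃ j, k = j + 1 := ⟨k - 1, by omega⟩
    exact ⟨2 ^ j, by ring⟩
  exact hQc_of_equiv h2 hn (Q : Subgroup (SL2 F)) e

end Cfsg.Agent.Helper38.PSp4
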