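import Cfsg.Agent.Helper38.PSp4Qc

/-!
Helper38 (for helper88, S5320): piece (Qe1) — a Sylow 2-subgroup `Q` of `SL₂(F)` of order `8` is
`{±1, ±x, ±y, ±xy}`.
-/

set_option autoImplicit false

namespace Cfsg.Agent.Helper38.PSp4

open Matrix Equiv Cfsg.Agent.Helper42 Cfsg.Agent.Helper85 Cfsg.Agent.Helper84
  Cfsg.Agent.Helper88.PSp4F

variable {F : Type*} [Field F]

theorem zmod4_cases (i : ZMod (2 * 2)) : i = 0 ∨ i = 1 ∨ i = 2 ∨ i = 3 := by
  revert i
  decide

/-- the quaternion data of a subgroup of `SL₂(F)` isomorphic to `Q₈` -/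
theorem q8Data_of_equiv (h2 : (2 : F) ≠ 0) (Q : Subgroup (SL2 F))
    (e : ↥Q ≃* QuaternionGroup 2) :
    Q8Data Q ((e.symm (QuaternionGroup.a 1) : ↥Q) : SL2 F)
      ((e.symm (QuaternionGroup.xa 0) : ↥Q) : SL2 F) := by
  have hneg : ((e.symm (QuaternionGroup.a 2) : ↥Q) : SL2 F) = negOneSL F := by
    have h := symm_a_n h2 Q e
    have h' : ((2 : ℕ) : ZMod (2 * 2)) = 2 := by decide
    rw [h'] at h
    exact h
  have hxx : QuaternionGroup.a (1 : ZMod (2 * 2)) * QuaternionGroup.a 1 = QuaternionGroup.a 2 := by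
    rw [QuaternionGroup.a_mul_a]
    congr 1
  have hyy : QuaternionGroup.xa (0 : ZMod (2 * 2)) * QuaternionGroup.xa 0 = QuaternionGroup.a 2 := by
    rw [QuaternionGroup.xa_mul_xa]
    congr 1
  have hyx : QuaternionGroup.xa (0 : ZMod (2 * 2)) * QuaternionGroup.a 1
      = QuaternionGroup.a 2 * (QuaternionGroup.a 1 * QuaternionGroup.xa 0) := by
    rw [QuaternionGroup.xa_mul_a, QuaternionGroup.a_mul_xa, QuaternionGroup.a_mul_xa]
    congr 1
  have e3 : QuaternionGroup.a (3 : ZMod (2 * 2)) = QuaternionGroup.a 2 * QuaternionGroup.a 1 := by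
    rw [QuaternionGroup.a_mul_a]
    congr 1
  have ex2 : QuaternionGroup.xa (2 : ZMod (2 * 2)) = QuaternionGroup.a 2 * QuaternionGroup.xa 0 := by
    rw [QuaternionGroup.a_mul_xa]
    congr 1
  have ex3 : QuaternionGroup.xa (3 : ZMod (2 * 2)) = QuaternionGroup.a 1 * QuaternionGroup.xa 0 := by
    rw [QuaternionGroup.a_mul_xa]
    congr 1
  have ex1 : QuaternionGroup.xa (1 : ZMod (2 * 2))
      = QuaternionGroup.a 2 * (QuaternionGroup.a 1 * QuaternionGroup.xa 0) := by
    rw [QuaternionGroup.a_mul_xa, QuaternionGroup.a_mul_xa]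
    congr 1
  have hnegQ : negOneSL F ∈ Q := by
    rw [← hneg]
    exact (e.symm _).2
  refine ⟨?_, ?_, ?_, ?_⟩
  · rw [← Subgroup.coe_mul, ← map_mul, hxx, hneg]
  · rw [← Subgroup.coe_mul, ← map_mul, hyy, hneg]
  · rw [← Subgroup.coe_mul, ← map_mul, hyx, map_mul, map_mul, Subgroup.coe_mul, Subgroup.coe_mul,
      hneg]
  · intro g
    constructor
    · intro hg
      have hge : g = ((e.symm (e ⟨g, hg⟩) : ↥Q) : SL2 F) := by rw [e.symm_apply_apply]
      rw [hge]
      cases hu : e ⟨g, hg⟩ with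
      | a i =>
        rcases zmod4_cases i with rfl | rfl | rfl | rfl
        · left
          rw [QuaternionGroup.a_zero, map_one]
          rfl
        · right; right; left
          rfl
        · right; left
          exact hneg
        · right; right; right; left
          rw [e3, map_mul, Subgroup.coe_mul, hneg]
      | xa i =>
        rcases zmod4_cases i with rfl | rfl | rfl | rfl
        · right; right; right; right; left
          rfl
        · right; right; right; right; right; right; right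
          rw [ex1, map_mul, map_mul, Subgroup.coe_mul, Subgroup.coe_mul, hneg]
        · right; right; right; right; right; left
          rw [ex2, map_mul, Subgroup.coe_mul, hneg]
        · right; right; right; right; right; right; left
          rw [ex3, map_mul, Subgroup.coe_mul]
    · have hx := (e.symm (QuaternionGroup.a 1)).2
      have hy := (e.symm (QuaternionGroup.xa 0)).2
      rintro (rfl | rfl | rfl | rfl | rfl | rfl | rfl | rfl)
      · exact Q.one_mem
      · exact hnegQ
      · exact hx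
      · exact Q.mul_mem hnegQ hx
      · exact hy
      · exact Q.mul_mem hnegQ hy
      · exact Q.mul_mem hx hy
      · exact Q.mul_mem hnegQ (Q.mul_mem hx hy)

/-- (Qe1) -/
theorem exists_q8Data [Fintype F] (hF : Odd (Fintype.card F)) (Q : Sylow 2 (SL2 F))
    (h8 : ¬ 16 ∣ Nat.card (Q : Subgroup (SL2 F))) :
    ∃ x y : SL2 F, Q8Data (Q : Subgroup (SL2 F)) x y := by
  have h2 : (2 : F) ≠ 0 := Cfsg.Agent.Helper37.two_ne_zero_of_odd_card hF
  obtain ⟨k, hk, ⟨e⟩⟩ := Cfsg.Agent.Helper37.SL2Q.sylow_two_quaternion hF Q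
  have hcard : Nat.card (Q : Subgroup (SL2 F)) = 4 * 2 ^ k := by
    rw [Nat.card_congr e.toEquiv, Nat.card_eq_fintype_card, QuaternionGroup.card]
  have hk1 : k = 1 := by
    by_contra hne
    apply h8
    obtain ⟨j, rfl⟩ : ∃ j, k = j + 2 := ⟨k - 2, by omega⟩
    rw [hcard]
    exact ⟨2 ^ j, by ring⟩
  subst hk1
  have e' : ↥(Q : Subgroup (SL2 F)) ≃* QuaternionGroup 2 := e
  exact ⟨_, _, q8Data_of_equiv h2 (Q : Subgroup (SL2 F)) e'⟩

end Cfsg.Agent.Helper38.PSp4
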