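import Mathlib
import Cfsg.Agent.Helper12.GFN
import Cfsg.Agent.Helper37.EvFG

/-!
Helper38 (for helper12, S2715): field automorphisms of prime order of `PΩ⁺_{2m}(q)`.
Part A: the similarity `diag(ν₀ I, I)` over `F₀` with non-square multiplier, read over the
quadratic extension `F`: it induces an inner automorphism of `PΩ⁺_{2m}(F)` iff
`¬ (Odd m ∧ |F₀| ≡ 1 (mod 4))`.
-/

set_option autoImplicit false
set_option linter.unusedSectionVars false

namespace Cfsg.Agent.Helper38.PlusField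

open Matrix Cfsg Cfsg.Agent.Helper44 Cfsg.Agent.Helper37.OddF

theorem ringChar_ne_two_of_ne {K : Type*} [Field K] (h2 : (2 : K) ≠ 0) : ringChar K ≠ 2 := by
  intro h
  have : CharP K 2 := by rw [← h]; exact ringChar.charP K
  exact h2 (CharTwo.two_eq_zero)

theorem neg_one_pow_eq_one_iff_even {K : Type*} [Field K] (h2 : (2 : K) ≠ 0) (n : ℕ) :
    (-1 : K) ^ n = 1 ↔ Even n := by
  constructor
  · intro h
    by_contra hn
    rw [Nat.not_even_iff_odd] at hn
    rw [hn.neg_one_pow] at h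
    apply h2
    linear_combination -h
  · intro h
    exact h.neg_one_pow

/-- the square-class arithmetic: `λ² = ν₀` non-square of `F₀`, `|F| = |F₀|²`; then `λ` is a square
in `F` iff `|F₀| ≡ 3 (mod 4)` -/
theorem isSquare_sqrt_iff {F₀ F : Type*} [Field F₀] [Fintype F₀] [Field F] [Fintype F]
    (h2 : (2 : F) ≠ 0) (i : F₀ →+* F) (hcard : Fintype.card F = Fintype.card F₀ ^ 2)
    {ν₀ : F₀} (hν₀ : ¬ IsSquare ν₀) {lam : F} (hlam : lam ^ 2 = i ν₀) :
    IsSquare lam ↔ Fintype.card F₀ % 4 = 3 := by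
  have h2₀ : (2 : F₀) ≠ 0 := by
    intro h
    apply h2
    have := congrArg i h
    rwa [map_ofNat, map_zero] at this
  have hc : ringChar F ≠ 2 := ringChar_ne_two_of_ne h2
  have hc₀ : ringChar F₀ ≠ 2 := ringChar_ne_two_of_ne h2₀
  have hodd₀ : Fintype.card F₀ % 2 = 1 := FiniteField.odd_card_of_char_ne_two hc₀
  obtain ⟨n, hn⟩ : ∃ n, Fintype.card F₀ = 2 * n + 1 := ⟨Fintype.card F₀ / 2, by omega⟩
  have hq2 : Fintype.card F / 2 = 2 * n * (n + 1) := by
    rw [hcard, hn]
    have : (2 * n + 1) ^ 2 = 2 * (2 * n * (n + 1)) + 1 := by ring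
    rw [this]
    omega
  have hn2 : Fintype.card F₀ / 2 = n := by
    rw [hn]
    omega
  have hν0 : ν₀ ≠ 0 := by
    rintro rfl
    exact hν₀ ⟨0, by simp⟩
  have hiν0 : i ν₀ ≠ 0 := by
    intro h
    apply hν0
    apply i.injective
    rw [h, map_zero]
  have hE₀ : ν₀ ^ n = -1 := by
    rcases FiniteField.pow_dichotomy hc₀ hν0 with h | h
    · exact absurd ((FiniteField.isSquare_iff hc₀ hν0).2 h) hν₀
    · rw [hn2] at h
      exact h
  have hE : (i ν₀) ^ n = -1 := by
    rw [← map_pow, hE₀, map_neg, map_one]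
  have hlam0 : lam ≠ 0 := by
    rintro rfl
    apply hiν0
    rw [← hlam]
    simp
  have hχlam : lam ^ (2 * n * (n + 1)) = (-1) ^ (n + 1) := by
    rw [mul_assoc, pow_mul, hlam, pow_mul, hE]
  rw [FiniteField.isSquare_iff hc hlam0, hq2, hχlam,
    neg_one_pow_eq_one_iff_even h2, hn]
  constructor
  · intro h
    obtain ⟨j, hj⟩ := h
    omega
  · intro h
    refine ⟨(n + 1) / 2, ?_⟩
    omega

/-- `diag(ν I, I)` over `F₀`, read over `F` where `ν = λ²`, is `λ · diag(λ I, λ⁻¹ I)` -/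
theorem goIncl_deltaGO {F₀ F : Type*} [Field F₀] [Field F] (i : F₀ →+* F) (m : ℕ) (c₀ : F₀ˣ)
    (cl : Fˣ) (hcl : (cl : F) * (cl : F) = i (c₀ : F₀)) :
    goIncl i (plusForm m F₀) (plusForm m F) (Cfsg.Agent.Helper12.ClassPres.plusForm_vmap i m)
        (deltaGO m c₀)
      = scalarGO (plusForm m F) cl
        * toGO (plusForm m F) (plusEmbed (Matrix.GeneralLinearGroup.scalar (Fin m) cl)) := by
  apply Subtype.ext
  apply Units.ext
  apply Matrix.mulVec_injective
  funext v
  have hL : ((((goIncl i (plusForm m F₀) (plusForm m F)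
      (Cfsg.Agent.Helper12.ClassPres.plusForm_vmap i m) (deltaGO m c₀) :
      ↥(Cfsg.Geo.quadSimilarityGroup (F := F) ⇑(plusForm m F))) : GL (Fin m ⊕ Fin m) F) :
      Matrix (Fin m ⊕ Fin m) (Fin m ⊕ Fin m) F)) = deltaMat m (i (c₀ : F₀)) := by
    rw [goIncl_coe]
    show (deltaMat m (c₀ : F₀)).map i = deltaMat m (i (c₀ : F₀))
    ext a b
    rcases a with a | a <;> rcases b with b | b
    · simp [deltaMat, Matrix.map_apply, Matrix.fromBlocks, Matrix.smul_apply, Matrix.one_apply,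
        apply_ite]
      intro h h'
      exact absurd h h'
    · simp [deltaMat, Matrix.map_apply, Matrix.fromBlocks]
    · simp [deltaMat, Matrix.map_apply, Matrix.fromBlocks]
    · simp [deltaMat, Matrix.map_apply, Matrix.fromBlocks, Matrix.one_apply, apply_ite]
  have hinv : (((Matrix.GeneralLinearGroup.scalar (Fin m) cl)⁻¹ : GL (Fin m) F) :
      Matrix (Fin m) (Fin m) F) = Matrix.diagonal (fun _ => ((cl⁻¹ : Fˣ) : F)) := by
    rw [← map_inv, Matrix.GeneralLinearGroup.coe_scalar]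
    rfl
  show _ = (((scalarGO (plusForm m F) cl).1
      * (plusEmbed (Matrix.GeneralLinearGroup.scalar (Fin m) cl)).1
      : GL (Fin m ⊕ Fin m) F) : Matrix (Fin m ⊕ Fin m) (Fin m ⊕ Fin m) F) *ᵥ v
  rw [hL, Units.val_mul, ← Matrix.mulVec_mulVec, deltaMat_mulVec, scalarGO_mulVec, plusEmbed_coe,
    plusEmbedMat, Matrix.fromBlocks_mulVec, hinv, Matrix.diagonal_transpose,
    Matrix.GeneralLinearGroup.coe_scalar]
  have hs : (Matrix.scalar (Fin m)) (cl : F) = Matrix.diagonal (fun _ => (cl : F)) := rfl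
  rw [hs, ← hcl]
  ext j
  rcases j with j | j
  · simp [mul_assoc]
  · simp

/-- **(LB+)** a similarity of the plus form over `F₀` with `dHom = 1` and non-square multiplier,
and the criterion for its base change to the quadratic extension `F` to be inner -/
theorem exists_nonsquare_sim_plus {F₀ F : Type*} [Field F₀] [Fintype F₀] [Field F] [Fintype F]
    (h2 : (2 : F) ≠ 0) (i : F₀ →+* F) (hcard : Fintype.card F = Fintype.card F₀ ^ 2) {m : ℕ}
    (hm : 4 ≤ m) {t₀ : Fin m ⊕ Fin m → F₀} (ht₀ : plusForm m F₀ t₀ ≠ 0) :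
    ∃ g₀ : ↥(Cfsg.Geo.quadSimilarityGroup (F := F₀) ⇑(plusForm m F₀)),
      dHom (plusForm m F₀) ht₀ m g₀ = 1 ∧
      ¬ IsSquare ((multHom ⇑(plusForm m F₀) ht₀ g₀ : F₀ˣ) : F₀) ∧
      (conjAut ⇑(plusForm m F) (goIncl i (plusForm m F₀) (plusForm m F)
          (Cfsg.Agent.Helper12.ClassPres.plusForm_vmap i m) g₀)
        ∈ Cfsg.Inn (Cfsg.POmega F ⇑(plusForm m F)) ↔ ¬ (Odd m ∧ Fintype.card F₀ % 4 = 1)) := by
  classical
  have h2₀ : (2 : F₀) ≠ 0 := by
    intro h
    apply h2
    have := congrArg i h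
    rwa [map_ofNat, map_zero] at this
  have hc₀ : ringChar F₀ ≠ 2 := ringChar_ne_two_of_ne h2₀
  have hodd₀ : Fintype.card F₀ % 2 = 1 := FiniteField.odd_card_of_char_ne_two hc₀
  obtain ⟨ν₀, hν₀⟩ := FiniteField.exists_nonsquare hc₀
  have hν0 : ν₀ ≠ 0 := by
    rintro rfl
    exact hν₀ ⟨0, by simp⟩
  obtain ⟨lam, hlam⟩ := isSquare_map_of_card_sq i h2 hcard ν₀
  have hlam0 : lam ≠ 0 := by
    rintro rfl
    have h0 : i ν₀ = 0 := by rw [hlam, mul_zero]
    apply hν0
    apply i.injective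
    rw [h0, map_zero]
  have hlam2 : lam ^ 2 = i ν₀ := by rw [hlam, pow_two]
  refine ⟨deltaGO m (Units.mk0 ν₀ hν0), dHom_deltaGO ht₀ _, ?_, ?_⟩
  · rw [multHom_deltaGO, Units.val_mk0]
    exact hν₀
  · rw [goIncl_deltaGO i m (Units.mk0 ν₀ hν0) (Units.mk0 lam hlam0)
        (by rw [Units.val_mk0, Units.val_mk0]; exact hlam.symm),
      map_mul, MonoidHom.mem_ker.1 (mem_ker_of_mem_scalars ⇑(plusForm m F) _
        (scalarGO_mem_scalars (plusForm m F) _)), one_mul]
    have hQ := nondegenerate_plusForm (F := F) m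
    have hcardι : Fintype.card (Fin m ⊕ Fin m) = 2 * m := by
      rw [Fintype.card_sum, Fintype.card_fin]
      omega
    have hn : 7 ≤ Fintype.card (Fin m ⊕ Fin m) := by
      rw [hcardι]
      omega
    obtain ⟨hoddF, h4F⟩ := Cfsg.Agent.Helper12.GF.card_mod_four_of_sq h2 hcard
    have hneg : negOne (plusForm m F) ∈ Cfsg.Omega F ⇑(plusForm m F) := by
      apply (negOne_mem_iff (plusForm m F)).2
      apply (exists_neg_one_mem_Omega_plus_iff (F := F) rfl hoddF m).2
      rw [Nat.pow_mod, h4F]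
      simp
    refine (conjAut_toGO_mem_Inn_iff (plusForm m F) hQ hn hneg _).trans ?_
    have h3 := plusEmbed_mem_Omega_iff (F := F) (m := m) (by omega) (Or.inr (by omega))
      (Matrix.GeneralLinearGroup.scalar (Fin m) (Units.mk0 lam hlam0))
    refine h3.trans ?_
    have hdet : ((Matrix.GeneralLinearGroup.scalar (Fin m) (Units.mk0 lam hlam0) : GL (Fin m) F) :
        Matrix (Fin m) (Fin m) F).det = lam ^ m := by
      rw [Matrix.GeneralLinearGroup.coe_scalar, Units.val_mk0]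
      show (Matrix.diagonal (fun _ : Fin m => lam)).det = lam ^ m
      rw [Matrix.det_diagonal, Finset.prod_const, Finset.card_univ, Fintype.card_fin]
    rw [hdet]
    have hsq := isSquare_sqrt_iff h2 i hcard hν₀ hlam2
    by_cases hl : IsSquare lam
    · have h43 := hsq.1 hl
      constructor
      · rintro - ⟨-, h41⟩
        omega
      · intro _
        exact hl.pow m
    · have h41 : Fintype.card F₀ % 4 = 1 := by
        have : Fintype.card F₀ % 4 ≠ 3 := fun h => hl (hsq.2 h)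
        omega
      rw [isSquare_nonsquare_pow_iff hl m]
      constructor
      · rintro he ⟨ho, -⟩
        exact (Nat.not_even_iff_odd.2 ho) he
      · intro h
        by_contra he
        exact h ⟨Nat.not_even_iff_odd.1 he, h41⟩

end Cfsg.Agent.Helper38.PlusField
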