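import Mathlib
import Cfsg.Agent.Helper38.PlusFieldA

/-!
Helper38 (for helper12, S2715): field automorphisms of prime order of `PΩ⁺_{2m}(q)`.
Part B: reduction to the standard field automorphism `phi1 σ`, the embedding of the fixed field,
and the case of characteristic two.
-/

set_option autoImplicit false
set_option linter.unusedSectionVars false

namespace Cfsg.Agent.Helper38.PlusField

open Matrix Cfsg Cfsg.Agent.Helper44 Cfsg.Agent.Helper37.OddF

variable {F : Type*} [Field F]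

/-- the plus form is compatible with a field automorphism -/
theorem plusForm_sigma (m : ℕ) (σ : F ≃+* F) (v : Fin m ⊕ Fin m → F) :
    plusForm m F (vmap (σ : F →+* F) v) = σ (plusForm m F v) :=
  Cfsg.Agent.Helper12.ClassPres.plusForm_vmap (σ : F →+* F) m v

theorem card_idx_plus (m : ℕ) : Fintype.card (Fin m ⊕ Fin m) = 2 * m := by
  rw [Fintype.card_sum, Fintype.card_fin]
  omega

theorem plusForm_single_ne_zero {K : Type*} [Field K] {m : ℕ} (hm : 1 ≤ m) :
    plusForm m K (Pi.single (Sum.inl ⟨0, hm⟩) 1 + Pi.single (Sum.inr ⟨0, hm⟩) 1) ≠ 0 := by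
  classical
  show Cfsg.quadFormPlus m K _ ≠ 0
  unfold Cfsg.quadFormPlus
  rw [Finset.sum_eq_single (⟨0, hm⟩ : Fin m)]
  · simp
  · intro b _ hb
    have h1 : (Sum.inl b : Fin m ⊕ Fin m) ≠ Sum.inl ⟨0, hm⟩ := fun h => hb (Sum.inl.inj h)
    simp [Pi.single_apply, h1]
  · intro h
    exact absurd (Finset.mem_univ _) h

section fin

variable [Fintype F]

/-- an abstract field of the right order embeds as the fixed field of `σ` -/
theorem exists_embedding_r {p f : ℕ} [Fact p.Prime] (hF : Fintype.card F = p ^ f)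
    (σ : F ≃+* F) {r : ℕ} (hσr : orderOf σ = r) (F₀ : Type*) [Field F₀] [Fintype F₀]
    (hF₀ : Fintype.card F₀ = p ^ (f / r)) :
    r ∣ f ∧ ∃ i : F₀ →+* F, (∀ a : F, σ a = a ↔ a ∈ i.range) ∧
      Fintype.card F = Fintype.card F₀ ^ r := by
  classical
  have hft : Fintype (Cfsg.Agent.Helper14.AutPSL.fixF σ) := Fintype.ofFinite _
  obtain ⟨hdvd, hcard⟩ := Cfsg.Agent.Helper14.AutPSL.card_fixF σ hF
  rw [hσr] at hdvd hcard
  obtain ⟨e⟩ : Nonempty (F₀ ≃+* Cfsg.Agent.Helper14.AutPSL.fixF σ) :=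
    ⟨FiniteField.ringEquivOfCardEq (by rw [hcard, hF₀])⟩
  refine ⟨hdvd, (Cfsg.Agent.Helper14.AutPSL.fixF σ).subtype.comp
    (e : F₀ →+* Cfsg.Agent.Helper14.AutPSL.fixF σ), ?_, ?_⟩
  · intro c
    rw [← Cfsg.Agent.Helper14.AutPSL.mem_fixF]
    constructor
    · intro hc
      exact ⟨e.symm ⟨c, hc⟩, by simp⟩
    · rintro ⟨d, rfl⟩
      exact (e d).2
  · rw [hF, hF₀, ← pow_mul, Nat.div_mul_cancel hdvd]

/-- unpacking a field automorphism of `PΩ⁺`: under the normality of `Inndiag` it is, for the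
centraliser in `Inndiag` and for the class count, a standard field automorphism `phi1 σ` -/
theorem reduce_to_phi1 {m : ℕ} (hm : 4 ≤ m) (hnorm : (Cfsg.inndiagPOmegaPlus m F).Normal)
    (x : MulAut (Cfsg.POmega F (Cfsg.quadFormPlus m F)))
    (hx : Cfsg.IsFieldAutClassPOmega (Cfsg.quadFormPlus m F) x) :
    ∃ σ : F ≃+* F, orderOf σ = orderOf x ∧
      Nonempty (↥(Cfsg.inndiagPOmegaPlus m F ⊓ Subgroup.centralizer {x}) ≃*
        ↥(Cfsg.inndiagPOmegaPlus m F ⊓
          Subgroup.centralizer {phi1 (plusForm m F) σ (plusForm_sigma m σ)})) ∧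
      Cfsg.splitClassCount (Cfsg.inndiagPOmegaPlus m F)
          (Cfsg.Inn (Cfsg.POmega F (Cfsg.quadFormPlus m F))) x
        = Cfsg.splitClassCount (Cfsg.inndiagPOmegaPlus m F)
          (Cfsg.Inn (Cfsg.POmega F (Cfsg.quadFormPlus m F)))
          (phi1 (plusForm m F) σ (plusForm_sigma m σ)) := by
  obtain ⟨α, φ, σ, -, hφ, hconj⟩ := hx
  have hφ' : φ = phi1 (plusForm m F) σ (plusForm_sigma m σ) :=
    eq_phi1_of_isFieldAut (plusForm m F) σ (plusForm_sigma m σ) φ hφ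
  have hnd := nondegenerate_plusForm (F := F) m
  have hn : 7 ≤ Fintype.card (Fin m ⊕ Fin m) := by
    rw [card_idx_plus]
    omega
  have hH : ∀ k ∈ Cfsg.inndiagPOmegaPlus m F, α * k * α⁻¹ ∈ Cfsg.inndiagPOmegaPlus m F :=
    fun k hk => hnorm.conj_mem k hk α
  have hH' : ∀ k ∈ Cfsg.inndiagPOmegaPlus m F, α⁻¹ * k * α ∈ Cfsg.inndiagPOmegaPlus m F := by
    intro k hk
    have := hnorm.conj_mem k hk α⁻¹
    rwa [inv_inv] at this
  have hInn : (Cfsg.Inn (Cfsg.POmega F (Cfsg.quadFormPlus m F))).Normal :=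
    Cfsg.Agent.Helper12.GammaO.Inn_normal _
  have hK : ∀ k ∈ Cfsg.Inn (Cfsg.POmega F (Cfsg.quadFormPlus m F)),
      α * k * α⁻¹ ∈ Cfsg.Inn (Cfsg.POmega F (Cfsg.quadFormPlus m F)) :=
    fun k hk => hInn.conj_mem k hk α
  have hK' : ∀ k ∈ Cfsg.Inn (Cfsg.POmega F (Cfsg.quadFormPlus m F)),
      α⁻¹ * k * α ∈ Cfsg.Inn (Cfsg.POmega F (Cfsg.quadFormPlus m F)) := by
    intro k hk
    have := hInn.conj_mem k hk α⁻¹
    rwa [inv_inv] at this
  refine ⟨σ, ?_, ?_, ?_⟩
  · rw [← orderOf_phi1 (plusForm m F) σ (plusForm_sigma m σ) hnd hn, ← hφ', ← hconj]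
    exact (MulEquiv.orderOf_eq (MulAut.conj α) x)
  · have e := Cfsg.Agent.Helper37.Lang.centralizer_conj_equiv (Cfsg.inndiagPOmegaPlus m F) α hH hH' x
    rw [hconj, hφ'] at e
    exact e
  · rw [← hφ', ← hconj]
    exact (Cfsg.Agent.Helper37.Lang.splitClassCount_conj _ _ α hH hH' hK hK' x).symm

end fin

end Cfsg.Agent.Helper38.PlusField
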