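import Mathlib
import Cfsg.Agent.Helper38.PlusFieldB

/-!
Helper38 (for helper12, S2715): field automorphisms of prime order of `PΩ⁺_{2m}(q)`.
Part C: the centraliser and the class count of the standard field automorphism `phi1 σ`.
-/

set_option autoImplicit false
set_option linter.unusedSectionVars false
set_option maxHeartbeats 1000000

namespace Cfsg.Agent.Helper38.PlusField

open Matrix Cfsg Cfsg.Agent.Helper44 Cfsg.Agent.Helper37.OddF

variable {F : Type*} [Field F] [Fintype F]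

/-! ### characteristic two -/

theorem main_phi1_two [CharP F 2] {m : ℕ} (hm : 4 ≤ m) (σ : F ≃+* F)
    {F₀ : Type*} [Field F₀] [Fintype F₀] (i : F₀ →+* F)
    (hi : ∀ a : F, σ a = a ↔ a ∈ i.range) :
    Nonempty (↥(Cfsg.inndiagPOmegaPlus m F ⊓
        Subgroup.centralizer {phi1 (plusForm m F) σ (plusForm_sigma m σ)})
      ≃* ↥(Cfsg.inndiagPOmegaPlus m F₀)) ∧
    Cfsg.splitClassCount (Cfsg.inndiagPOmegaPlus m F)
      (Cfsg.Inn (Cfsg.POmega F (Cfsg.quadFormPlus m F)))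
      (phi1 (plusForm m F) σ (plusForm_sigma m σ)) = 1 := by
  classical
  have : CharP F₀ 2 := RingHom.charP i i.injective 2
  have hQi : ∀ v, plusForm m F (vmap i v) = i (plusForm m F₀ v) :=
    Cfsg.Agent.Helper12.ClassPres.plusForm_vmap i m
  have hnd := nondegenerate_plusForm (F := F) m
  have hnd₀ := nondegenerate_plusForm (F := F₀) m
  have hn : 7 ≤ Fintype.card (Fin m ⊕ Fin m) := by
    rw [card_idx_plus]
    omega
  have ht₀ := plusForm_single_ne_zero (K := F₀) (m := m) (by omega)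
  have hH : Cfsg.inndiagPOmegaPlus m F = Cfsg.Inn (Cfsg.POmega F (Cfsg.quadFormPlus m F)) :=
    Cfsg.Agent.Helper12.ClassPres.inndiagPOmegaPlus_eq_Inn_two (by omega)
  have hH₀ : Cfsg.inndiagPOmegaPlus m F₀
      = Cfsg.Inn (Cfsg.POmega F₀ (Cfsg.quadFormPlus m F₀)) :=
    Cfsg.Agent.Helper12.ClassPres.inndiagPOmegaPlus_eq_Inn_two (by omega)
  constructor
  · have hsc : ∀ c : Fˣ, scalarGO (plusForm m F) c
        ∈ (Cfsg.Inn (Cfsg.POmega F ⇑(plusForm m F))).comap (conjAut ⇑(plusForm m F)) := by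
      intro c
      have hk : scalarGO (plusForm m F) c ∈ (conjAut ⇑(plusForm m F)).ker :=
        mem_ker_of_mem_scalars ⇑(plusForm m F) _ (scalarGO_mem_scalars _ c)
      rw [Subgroup.mem_comap, MonoidHom.mem_ker.1 hk]
      exact Subgroup.one_mem _
    have hG₀ : ∀ g₀ : ↥(Cfsg.Geo.quadSimilarityGroup (F := F₀) ⇑(plusForm m F₀)),
        g₀ ∈ (Cfsg.Inn (Cfsg.POmega F₀ ⇑(plusForm m F₀))).comap (conjAut ⇑(plusForm m F₀)) ↔
          goIncl i (plusForm m F₀) (plusForm m F) hQi g₀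
            ∈ (Cfsg.Inn (Cfsg.POmega F ⇑(plusForm m F))).comap (conjAut ⇑(plusForm m F)) := by
      intro g₀
      rw [Subgroup.mem_comap, Subgroup.mem_comap]
      exact (conjAut_goIncl_mem_Inn_iff_two i (plusForm m F₀) (plusForm m F) hQi
        hnd hnd₀ hn g₀).symm
    obtain ⟨e2⟩ := nonempty_centralizer_equiv_G i (plusForm m F₀) (plusForm m F) hQi σ
      (plusForm_sigma m σ) hi _ _ hsc hG₀ ht₀ hnd hnd₀ hn
    have hmc : ((Cfsg.Inn (Cfsg.POmega F ⇑(plusForm m F))).comap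
        (conjAut ⇑(plusForm m F))).map (conjAut ⇑(plusForm m F))
        = Cfsg.Inn (Cfsg.POmega F ⇑(plusForm m F)) := by
      rw [Subgroup.map_comap_eq, inf_eq_right, Inn_eq_map]
      exact Subgroup.map_le_range _ _
    have hmc₀ : ((Cfsg.Inn (Cfsg.POmega F₀ ⇑(plusForm m F₀))).comap
        (conjAut ⇑(plusForm m F₀))).map (conjAut ⇑(plusForm m F₀))
        = Cfsg.Inn (Cfsg.POmega F₀ ⇑(plusForm m F₀)) := by
      rw [Subgroup.map_comap_eq, inf_eq_right, Inn_eq_map]
      exact Subgroup.map_le_range _ _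
    rw [hmc, hmc₀] at e2
    exact ⟨((MulEquiv.subgroupCongr (congrArg (· ⊓ Subgroup.centralizer
      {phi1 (plusForm m F) σ (plusForm_sigma m σ)}) hH)).trans e2).trans
      (MulEquiv.subgroupCongr hH₀.symm)⟩
  · rw [hH]
    exact splitClassCount_self _ _

/-! ### odd characteristic -/

section oddq

variable (h2 : (2 : F) ≠ 0) {m : ℕ} (hm : 4 ≤ m) (σ : F ≃+* F)
  {F₀ : Type*} [Field F₀] [Fintype F₀] (i : F₀ →+* F)
  (hi : ∀ a : F, σ a = a ↔ a ∈ i.range)

include h2 hm hi in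
/-- the centraliser, `q` odd -/
theorem centralizer_phi1_odd :
    Nonempty (↥(Cfsg.inndiagPOmegaPlus m F ⊓
        Subgroup.centralizer {phi1 (plusForm m F) σ (plusForm_sigma m σ)})
      ≃* ↥(Cfsg.inndiagPOmegaPlus m F₀)) := by
  classical
  have h2₀ : (2 : F₀) ≠ 0 := by
    intro h
    apply h2
    have := congrArg i h
    rwa [map_ofNat, map_zero] at this
  have hQi : ∀ v, plusForm m F (vmap i v) = i (plusForm m F₀ v) :=
    Cfsg.Agent.Helper12.ClassPres.plusForm_vmap i m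
  have hnd := nondegenerate_plusForm (F := F) m
  have hnd₀ := nondegenerate_plusForm (F := F₀) m
  have hk := card_idx_plus m
  have hn : 7 ≤ Fintype.card (Fin m ⊕ Fin m) := by
    rw [hk]
    omega
  have ht₀ := plusForm_single_ne_zero (K := F₀) (m := m) (by omega)
  have ht := Q_vmap_ne_zero i (plusForm m F₀) (plusForm m F) hQi ht₀
  have hH : Cfsg.inndiagPOmegaPlus m F
      = ((dHom (plusForm m F) ht m).ker).map (conjAut ⇑(plusForm m F)) := inndiag_eq_map h2 ht
  have hH₀ : Cfsg.inndiagPOmegaPlus m F₀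
      = ((dHom (plusForm m F₀) ht₀ m).ker).map (conjAut ⇑(plusForm m F₀)) :=
    inndiag_eq_map h2₀ ht₀
  have hsc : ∀ c : Fˣ, scalarGO (plusForm m F) c ∈ (dHom (plusForm m F) ht m).ker := by
    intro c
    rw [MonoidHom.mem_ker]
    exact dHom_scalarGO (plusForm m F) ht m hk c
  have hG₀ : ∀ g₀ : ↥(Cfsg.Geo.quadSimilarityGroup (F := F₀) ⇑(plusForm m F₀)),
      g₀ ∈ (dHom (plusForm m F₀) ht₀ m).ker ↔
        goIncl i (plusForm m F₀) (plusForm m F) hQi g₀ ∈ (dHom (plusForm m F) ht m).ker := by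
    intro g₀
    rw [MonoidHom.mem_ker, MonoidHom.mem_ker]
    have h3 : dHom (plusForm m F) ht m (goIncl i (plusForm m F₀) (plusForm m F) hQi g₀)
        = Units.map (i : F₀ →* F) (dHom (plusForm m F₀) ht₀ m g₀) :=
      dHom_goIncl i (plusForm m F₀) (plusForm m F) hQi ht₀ m g₀
    rw [h3]
    constructor
    · intro h
      rw [h, map_one]
    · intro h
      apply Units.map_injective (f := (i : F₀ →* F)) i.injective
      rw [h, map_one]
  obtain ⟨e2⟩ := nonempty_centralizer_equiv_G i (plusForm m F₀) (plusForm m F) hQi σ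
    (plusForm_sigma m σ) hi _ _ hsc hG₀ ht₀ hnd hnd₀ hn
  exact ⟨((MulEquiv.subgroupCongr (congrArg (· ⊓ Subgroup.centralizer
    {phi1 (plusForm m F) σ (plusForm_sigma m σ)}) hH)).trans e2).trans
    (MulEquiv.subgroupCongr hH₀.symm)⟩

include h2 hm hi in
/-- the class count, `q` odd and `r` odd -/
theorem count_phi1_odd_odd {r : ℕ} (hrodd : Odd r)
    (hcardF : Fintype.card F = Fintype.card F₀ ^ r) :
    Cfsg.splitClassCount (Cfsg.inndiagPOmegaPlus m F)
      (Cfsg.Inn (Cfsg.POmega F (Cfsg.quadFormPlus m F)))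
      (phi1 (plusForm m F) σ (plusForm_sigma m σ)) = 1 := by
  classical
  have h2₀ : (2 : F₀) ≠ 0 := by
    intro h
    apply h2
    have := congrArg i h
    rwa [map_ofNat, map_zero] at this
  have hQi : ∀ v, plusForm m F (vmap i v) = i (plusForm m F₀ v) :=
    Cfsg.Agent.Helper12.ClassPres.plusForm_vmap i m
  have hnd := nondegenerate_plusForm (F := F) m
  have hnd₀ := nondegenerate_plusForm (F := F₀) m
  have hk := card_idx_plus m
  have hn : 7 ≤ Fintype.card (Fin m ⊕ Fin m) := by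
    rw [hk]
    omega
  have hfr : Module.finrank F (Fin m ⊕ Fin m → F) = Fintype.card (Fin m ⊕ Fin m) :=
    Module.finrank_fintype_fun_eq_card F
  have hfr₀ : Module.finrank F₀ (Fin m ⊕ Fin m → F₀) = Fintype.card (Fin m ⊕ Fin m) :=
    Module.finrank_fintype_fun_eq_card F₀
  have ht₀ := plusForm_single_ne_zero (K := F₀) (m := m) (by omega)
  have ht := Q_vmap_ne_zero i (plusForm m F₀) (plusForm m F) hQi ht₀
  have hH : Cfsg.inndiagPOmegaPlus m F
      = ((dHom (plusForm m F) ht m).ker).map (conjAut ⇑(plusForm m F)) := inndiag_eq_map h2 ht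
  have hsc : ∀ c : Fˣ, scalarGO (plusForm m F) c ∈ (dHom (plusForm m F) ht m).ker := by
    intro c
    rw [MonoidHom.mem_ker]
    exact dHom_scalarGO (plusForm m F) ht m hk c
  have hG₀ : ∀ g₀ : ↥(Cfsg.Geo.quadSimilarityGroup (F := F₀) ⇑(plusForm m F₀)),
      g₀ ∈ (dHom (plusForm m F₀) ht₀ m).ker ↔
        goIncl i (plusForm m F₀) (plusForm m F) hQi g₀ ∈ (dHom (plusForm m F) ht m).ker := by
    intro g₀
    rw [MonoidHom.mem_ker, MonoidHom.mem_ker]
    have h3 : dHom (plusForm m F) ht m (goIncl i (plusForm m F₀) (plusForm m F) hQi g₀)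
        = Units.map (i : F₀ →* F) (dHom (plusForm m F₀) ht₀ m g₀) :=
      dHom_goIncl i (plusForm m F₀) (plusForm m F) hQi ht₀ m g₀
    rw [h3]
    constructor
    · intro h
      rw [h, map_one]
    · intro h
      apply Units.map_injective (f := (i : F₀ →* F)) i.injective
      rw [h, map_one]
  have hInn : Cfsg.Inn (Cfsg.POmega F ⇑(plusForm m F))
      ≤ ((dHom (plusForm m F) ht m).ker).map (conjAut ⇑(plusForm m F)) := by
    rw [Inn_eq_map]
    exact Subgroup.map_mono (OmegaGL_subgroupOf_le_ker_dHom (plusForm m F) ht m)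
  rw [hH]
  show Cfsg.splitClassCount _ (Cfsg.Inn (Cfsg.POmega F ⇑(plusForm m F))) _ = 1
  rw [splitClassCount_eq_index i (plusForm m F₀) (plusForm m F) hQi σ (plusForm_sigma m σ) hi
      _ _ hsc hG₀ ht₀ hnd hn hInn]
  apply index_eq_one_of_forall
  obtain ⟨ν₀, hν₀⟩ := FiniteField.exists_nonsquare (ringChar_ne_two_of_ne h2₀)
  have hν0 : ν₀ ≠ 0 := by
    rintro rfl
    exact hν₀ ⟨0, by simp⟩
  have hδm : ¬ IsSquare ((multHom ⇑(plusForm m F₀) ht₀
      (deltaGO m (Units.mk0 ν₀ hν0)) : F₀ˣ) : F₀) := by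
    rw [multHom_deltaGO, Units.val_mk0]
    exact hν₀
  have hns : ∀ c : F₀, ¬ IsSquare c → ¬ IsSquare (i c) :=
    fun c hc => not_isSquare_map_of_odd i h2 hrodd hcardF hc
  intro g
  obtain ⟨g₀, hg₀⟩ := exists_gIncl_mul_mem_Inn i (plusForm m F₀) (plusForm m F) hQi h2 hnd hnd₀
    hns ht₀ m hk (by rw [hfr]; omega) (by rw [hfr₀]; omega)
    ⟨deltaGO m (Units.mk0 ν₀ hν0), MonoidHom.mem_ker.2 (dHom_deltaGO ht₀ _)⟩ hδm g
  exact ⟨g₀, hg₀⟩

include h2 hm hi in
/-- the class count, `q` odd and `r = 2` -/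
theorem count_phi1_odd_two (hcardF : Fintype.card F = Fintype.card F₀ ^ 2) :
    (¬ (Odd m ∧ Fintype.card F₀ % 4 = 1) →
      Cfsg.splitClassCount (Cfsg.inndiagPOmegaPlus m F)
        (Cfsg.Inn (Cfsg.POmega F (Cfsg.quadFormPlus m F)))
        (phi1 (plusForm m F) σ (plusForm_sigma m σ)) = 4) ∧
    ((Odd m ∧ Fintype.card F₀ % 4 = 1) →
      Cfsg.splitClassCount (Cfsg.inndiagPOmegaPlus m F)
        (Cfsg.Inn (Cfsg.POmega F (Cfsg.quadFormPlus m F)))
        (phi1 (plusForm m F) σ (plusForm_sigma m σ)) = 2) := by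
  classical
  have hQi : ∀ v, plusForm m F (vmap i v) = i (plusForm m F₀ v) :=
    Cfsg.Agent.Helper12.ClassPres.plusForm_vmap i m
  have hnd := nondegenerate_plusForm (F := F) m
  have hnd₀ := nondegenerate_plusForm (F := F₀) m
  have hk := card_idx_plus m
  have hn : 7 ≤ Fintype.card (Fin m ⊕ Fin m) := by
    rw [hk]
    omega
  have ht₀ := plusForm_single_ne_zero (K := F₀) (m := m) (by omega)
  have ht := Q_vmap_ne_zero i (plusForm m F₀) (plusForm m F) hQi ht₀
  have hH : Cfsg.inndiagPOmegaPlus m F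
      = ((dHom (plusForm m F) ht m).ker).map (conjAut ⇑(plusForm m F)) := inndiag_eq_map h2 ht
  obtain ⟨hodd, h4⟩ := Cfsg.Agent.Helper12.GF.card_mod_four_of_sq h2 hcardF
  have hrel : (Cfsg.Inn (Cfsg.POmega F ⇑(plusForm m F))).relIndex
      (((dHom (plusForm m F) ht m).ker).map (conjAut ⇑(plusForm m F))) = 4 := by
    rw [← hH]
    exact Cfsg.Agent.Helper12.GF.relIndex_Inn_plus hodd h4 hm
  obtain ⟨g₀, hg₀d, hg₀m, hg₀P⟩ := exists_nonsquare_sim_plus h2 i hcardF hm ht₀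
  have hcnt := Cfsg.Agent.Helper12.GF.count_phi1_gen h2 i (plusForm m F₀) (plusForm m F) hQi σ
    (plusForm_sigma m σ) hi (isSquare_map_of_card_sq i h2 hcardF) hnd hnd₀ m hk hn ht₀ hrel g₀
    hg₀d hg₀m _ hg₀P
  rw [hH]
  exact ⟨hcnt.1, fun h => hcnt.2 (fun h' => h' h)⟩

end oddq

end Cfsg.Agent.Helper38.PlusField
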