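import Mathlib
import Cfsg.Agent.Helper38.PlusFieldC

/-!
Helper38 (for helper12, S2715): field automorphisms of prime order of `PΩ⁺_{2m}(q)`, `m ≥ 4`:
the statement of S2715 under the assumption that `Inndiag(PΩ⁺_{2m}(q))` is normal in the full
automorphism group.
-/

set_option autoImplicit false
set_option linter.unusedSectionVars false
set_option linter.unusedVariables false
set_option maxHeartbeats 1000000

namespace Cfsg.Agent.Helper38.PlusField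

open Matrix Cfsg Cfsg.Agent.Helper44 Cfsg.Agent.Helper37.OddF

/-- **field automorphisms of prime order of `PΩ⁺_{2m}(q)`** (S2715 modulo the normality of
`Inndiag` in `Aut`) -/
theorem main_plus_field {F : Type*} [Field F] [Fintype F] {p f : ℕ} [Fact p.Prime]
    (hF : Fintype.card F = p ^ f) (hf : 1 ≤ f) {m : ℕ} (hm : 4 ≤ m)
    (hnorm : (Cfsg.inndiagPOmegaPlus m F).Normal)
    (x : MulAut (Cfsg.POmega F (Cfsg.quadFormPlus m F)))
    (hx : Cfsg.IsFieldAutClassPOmega (Cfsg.quadFormPlus m F) x) {r : ℕ} (hr : r.Prime)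
    (hxr : orderOf x = r) (F₀ : Type*) [Field F₀] [Fintype F₀]
    (hF₀ : Fintype.card F₀ = p ^ (f / r)) :
    r ∣ f ∧ Nonempty (↥(Cfsg.inndiagPOmegaPlus m F ⊓ Subgroup.centralizer {x}) ≃* ↥(Cfsg.inndiagPOmegaPlus m F₀)) ∧ ((Odd r ∨ p = 2) → Cfsg.splitClassCount (Cfsg.inndiagPOmegaPlus m F) (Cfsg.Inn (Cfsg.POmega F (Cfsg.quadFormPlus m F))) x = 1) ∧ ((r = 2 ∧ p ≠ 2 ∧ Odd m ∧ p ^ (f / 2) % 4 = 1) → Cfsg.splitClassCount (Cfsg.inndiagPOmegaPlus m F) (Cfsg.Inn (Cfsg.POmega F (Cfsg.quadFormPlus m F))) x = 2) ∧ ((r = 2 ∧ p ≠ 2 ∧ ¬ (Odd m ∧ p ^ (f / 2) % 4 = 1)) → Cfsg.splitClassCount (Cfsg.inndiagPOmegaPlus m F) (Cfsg.Inn (Cfsg.POmega F (Cfsg.quadFormPlus m F))) x = 4) := by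
  classical
  obtain ⟨σ, hσx, ⟨e0⟩, hcount⟩ := reduce_to_phi1 hm hnorm x hx
  have hσr : orderOf σ = r := by rw [hσx, hxr]
  obtain ⟨hdvd, i, hi, hcardF⟩ := exists_embedding_r hF σ hσr F₀ hF₀
  rw [hcount]
  by_cases hp2 : p = 2
  · subst hp2
    have : CharP F 2 := charP_of_card_eq_prime_pow hF
    obtain ⟨⟨e1⟩, hc⟩ := main_phi1_two hm σ i hi
    refine ⟨hdvd, ⟨e0.trans e1⟩, fun _ => hc, ?_, ?_⟩
    · rintro ⟨-, h, -⟩
      exact absurd rfl h
    · rintro ⟨-, h, -⟩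
      exact absurd rfl h
  · have hpodd : Odd p := (Fact.out : p.Prime).odd_of_ne_two hp2
    have h2 : (2 : F) ≠ 0 := two_ne_zero_of_odd_card hF hpodd.pow
    obtain ⟨e1⟩ := centralizer_phi1_odd h2 hm σ i hi
    refine ⟨hdvd, ⟨e0.trans e1⟩, ?_, ?_, ?_⟩
    · rintro (hro | h)
      · exact count_phi1_odd_odd h2 hm σ i hi hro hcardF
      · exact absurd h hp2
    · rintro ⟨hr2, -, ho, h4⟩
      subst hr2
      exact (count_phi1_odd_two h2 hm σ i hi hcardF).2 ⟨ho, by rw [hF₀]; exact h4⟩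
    · rintro ⟨hr2, -, hn⟩
      subst hr2
      exact (count_phi1_odd_two h2 hm σ i hi hcardF).1
        (fun h => hn ⟨h.1, by rw [← hF₀]; exact h.2⟩)

end Cfsg.Agent.Helper38.PlusField
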