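import Mathlib
import Cfsg.Agent.Helper9.PsuA.Defs
import Cfsg.Agent.Helper43.PsuM.RDefs
import Cfsg.Agent.Helper96.StLift.Basic
import Cfsg.Agent.Helper84.RU3.Defs
import Cfsg.Agent.Helper86.RU3TR
import Cfsg.Agent.Helper13.U3O_HC
import Cfsg.Agent.Helper53.U3O_FAC

/-!
# S2089 block A-p (helper9's farm), leaf (C2) `not_dvd_index`
-/

set_option autoImplicit false
set_option linter.unusedSectionVars false
set_option linter.unusedVariables false

namespace Cfsg.Agent.Helper38.PsuA

open scoped commutatorElement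
open Cfsg.Agent.Helper46.U3O Cfsg.Agent.Helper84.RU3 Cfsg.Agent.Helper9.PsuA Cfsg.Agent.Helper96.StLift

universe u

section concrete

variable {K : Type*} [Field K] [Fintype K] {q : ℕ} (hK : Fintype.card K = q ^ 2) (bar : K →+* K)
  (hbar : ∀ x, bar x = x ^ q) [BarInv K bar]

include hK hbar in
/-- (C2) `U T` has index prime to `p`. -/
theorem not_dvd_index (p : ℕ) [Fact p.Prime] [CharP K p] (d : Datum bar ↥(SUJ bar)) :
    ¬ p ∣ (d.u.range ⊔ d.t.range).index := by
  classical
  have hp : p.Prime := Fact.out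
  -- `q = p ^ n`
  obtain ⟨n, hn, hqn⟩ : ∃ n, 1 ≤ n ∧ q = p ^ n := by
    obtain ⟨k, -, hk⟩ := FiniteField.card K p
    have hdvd : q ∣ p ^ (k : ℕ) := by
      rw [← hk, hK]
      exact dvd_pow_self q two_ne_zero
    obtain ⟨n, -, hqn⟩ := (Nat.dvd_prime_pow hp).1 hdvd
    refine ⟨n, ?_, hqn⟩
    rcases Nat.eq_zero_or_pos n with h0 | h0
    · exfalso
      rw [h0, pow_zero] at hqn
      rw [hqn, one_pow] at hK
      have := Fintype.one_lt_card (α := K)
      omega
    · exact h0
  subst hqn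
  obtain ⟨φ, -⟩ := Cfsg.Agent.Helper86.RU3.exists_transfer hK bar hbar
  have hcard : Nat.card (SUJ bar) = Nat.card (Cfsg.SU 3 K (p ^ n)) := Nat.card_congr φ.toEquiv
  have hfac := Cfsg.Agent.Helper53.U3O.factorization_SU3 (F := K) p n hp hn hK
  rw [← hcard] at hfac
  have hU : Nat.card d.u.range = (p ^ n) ^ 3 := by
    rw [← Cfsg.Agent.Helper13.U3O.card_heisO (p ^ n) hK bar hbar]
    exact (Nat.card_congr (Equiv.ofInjective d.u d.u_inj)).symm
  intro hdvd
  have h1 : p ∣ d.u.range.index := dvd_trans hdvd (Subgroup.index_dvd_of_le le_sup_left)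
  have h2 := Subgroup.card_mul_index d.u.range
  rw [hU] at h2
  have hne : Nat.card (SUJ bar) ≠ 0 := by
    intro h0
    rw [h0] at hfac
    simp at hfac
    omega
  have h3 : p ^ (3 * n + 1) ∣ Nat.card (SUJ bar) := by
    rw [← h2, pow_succ, ← pow_mul, mul_comm n 3]
    exact mul_dvd_mul_left _ h1
  have h4 := (hp.pow_dvd_iff_le_factorization hne).1 h3
  omega

end concrete

end Cfsg.Agent.Helper38.PsuA
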