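import Mathlib
import Cfsg.Agent.Helper9.PsuA.Defs
import Cfsg.Agent.Helper43.PsuM.RDefs
import Cfsg.Agent.Helper96.StLift.Basic
import Cfsg.Agent.Helper84.RU3.Defs
import Cfsg.Agent.Helper86.RU3TR
import Cfsg.Agent.Helper13.U3O_HC
import Cfsg.Agent.Helper53.U3O_FAC

/-!
# S2089 block A-p (helper9's farm), leaf (F2) `exists_heis_a`
-/

set_option autoImplicit false
set_option linter.unusedSectionVars false
set_option linter.unusedVariables false

namespace Cfsg.Agent.Helper38.PsuA

open scoped commutatorElement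
open Cfsg.Agent.Helper46.U3O Cfsg.Agent.Helper84.RU3 Cfsg.Agent.Helper9.PsuA Cfsg.Agent.Helper96.StLift

universe u

section field

variable {K : Type*} [Field K] [Fintype K] {q : ℕ} (hK : Fintype.card K = q ^ 2) (bar : K →+* K)
  (hbar : ∀ x, bar x = x ^ q) [BarInv K bar]

include hK hbar

/-- (F2) every `a` is the first coordinate of an element of `HeisO bar`. -/
theorem exists_heis_a (a : K) : ∃ x : HeisO bar, x.a = a := by
  classical
  have hfix : (-(a * bar a)) ^ q = -(a * bar a) := by
    have h1 : (-(a * bar a)) ^ q = bar (-(a * bar a)) := (hbar _).symm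
    rw [h1, map_neg, map_mul, HeisO.bb (bar := bar), mul_comm]
  have hfib : Nat.card {b : K // b ^ q * 1 + b * 1 ^ q = -(a * bar a)} = q :=
    Cfsg.Agent.Helper13.card_trace_fiber hK (one_ne_zero (α := K)) hfix
  have hq0 : q ≠ 0 := by
    rintro rfl
    have h0 : Fintype.card K = 0 := by rw [hK]; norm_num
    exact Fintype.card_ne_zero h0
  have hne : Nonempty {b : K // b ^ q * 1 + b * 1 ^ q = -(a * bar a)} := by
    by_contra hcon
    rw [not_nonempty_iff] at hcon
    rw [Nat.card_of_isEmpty] at hfib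
    exact hq0 hfib.symm
  obtain ⟨b, hb⟩ := hne
  refine ⟨⟨a, b, ?_⟩, rfl⟩
  rw [hbar b]
  linear_combination hb

end field

end Cfsg.Agent.Helper38.PsuA
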