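import Cfsg.Agent.Helper58.PsuIo.OdDefs
import Cfsg.Agent.Helper58.PsuIo.AbsDefs
import Cfsg.Agent.Helper5.SuBN.Defs
import Cfsg.Agent.Helper5.PsuM_AISO

/-!
# S2089 block I-odd (helper58's farm), piece (OISO): `SUo m σ ≃* UG (2 * m + 1) σ`

Reindex along `(Fin m ⊕ Fin m) ⊕ Unit ≃ Fin (2 * m + 1)`, `e_i ↦ i`, `w ↦ m`, `f_i ↦ 2 m - i`: the form `Jo` becomes the
antidiagonal form `hermJ σ`.  Same method as `Cfsg.Agent.Helper5.PsuM_AISO`.
-/

set_option autoImplicit false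

namespace Cfsg.Agent.Helper38.PsuIo

open Matrix
open scoped commutatorElement
open Cfsg.Agent.Helper43.PsuM Cfsg.Agent.Helper58.PsuIo.Od

universe u

variable {F : Type*} [Field F] {m : ℕ} {σ : F →+* F}

/-- the reindexing `e_i ↦ i`, `f_i ↦ 2m - i`, `w ↦ m` (as a function) -/
def OISO_fwd (m : ℕ) : Idx m → Fin (2 * m + 1)
  | Sum.inl (Sum.inl i) => ⟨i.val, by have := i.2; omega⟩
  | Sum.inl (Sum.inr i) => ⟨2 * m - i.val, by have := i.2; omega⟩
  | Sum.inr _ => ⟨m, by omega⟩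

/-- the inverse function -/
def OISO_bwd (m : ℕ) (k : Fin (2 * m + 1)) : Idx m :=
  if h : k.val < m then Sum.inl (Sum.inl ⟨k.val, h⟩)
  else if h2 : k.val = m then Sum.inr ()
  else Sum.inl (Sum.inr ⟨2 * m - k.val, by have := k.2; omega⟩)

theorem OISO_bwd_fwd (a : Idx m) : OISO_bwd m (OISO_fwd m a) = a := by
  rcases a with (i | i) | ⟨⟩
  · have h : (OISO_fwd m (Sum.inl (Sum.inl i))).val < m := i.2
    unfold OISO_bwd
    rw [dif_pos h]
    rfl
  · have hv : (OISO_fwd m (Sum.inl (Sum.inr i))).val = 2 * m - i.val := rfl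
    have h : ¬ (OISO_fwd m (Sum.inl (Sum.inr i))).val < m := by
      rw [hv]; have := i.2; omega
    have h2 : ¬ (OISO_fwd m (Sum.inl (Sum.inr i))).val = m := by
      rw [hv]; have := i.2; omega
    unfold OISO_bwd
    rw [dif_neg h, dif_neg h2]
    congr 2
    apply Fin.ext
    simp only [hv]
    have := i.2
    omega
  · have hv : (OISO_fwd m (Sum.inr ())).val = m := rfl
    have h : ¬ (OISO_fwd m (Sum.inr ())).val < m := by rw [hv]; omega
    unfold OISO_bwd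
    rw [dif_neg h, dif_pos hv]

theorem OISO_fwd_bwd (k : Fin (2 * m + 1)) : OISO_fwd m (OISO_bwd m k) = k := by
  unfold OISO_bwd
  by_cases h : k.val < m
  · rw [dif_pos h]
    apply Fin.ext
    rfl
  · rw [dif_neg h]
    by_cases h2 : k.val = m
    · rw [dif_pos h2]
      apply Fin.ext
      exact h2.symm
    · rw [dif_neg h2]
      apply Fin.ext
      change 2 * m - (2 * m - k.val) = k.val
      have := k.2
      omega

/-- the reindexing equivalence -/
def OISO_e (m : ℕ) : Idx m ≃ Fin (2 * m + 1) where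
  toFun := OISO_fwd m
  invFun := OISO_bwd m
  left_inv := OISO_bwd_fwd
  right_inv := OISO_fwd_bwd

/-- the involution of the index type: `e_i ↔ f_i`, `w ↦ w` -/
def OISO_sw (m : ℕ) : Idx m ≃ Idx m :=
  Equiv.sumCongr (Equiv.sumComm (Fin m) (Fin m)) (Equiv.refl Unit)

theorem OISO_sw_sw (a : Idx m) : OISO_sw m (OISO_sw m a) = a := by
  rcases a with (i | i) | ⟨⟩ <;> rfl

theorem OISO_e_sw (a : Idx m) : OISO_e m (OISO_sw m a) = Fin.rev (OISO_e m a) := by
  rcases a with (i | i) | ⟨⟩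
  · apply Fin.ext
    rw [Fin.val_rev]
    change 2 * m - i.val = 2 * m + 1 - (i.val + 1)
    omega
  · apply Fin.ext
    rw [Fin.val_rev]
    change i.val = 2 * m + 1 - (2 * m - i.val + 1)
    have := i.2
    omega
  · apply Fin.ext
    rw [Fin.val_rev]
    change m = 2 * m + 1 - (m + 1)
    omega

theorem OISO_Jo_apply (a b : Idx m) : Jo m F a b = if a = OISO_sw m b then 1 else 0 := by
  rcases a with (i | i) | ⟨⟩ <;> rcases b with (j | j) | ⟨⟩ <;>
    simp [Jo, Ev.Hm, Matrix.fromBlocks, Matrix.one_apply, OISO_sw]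

/-- the entries of the unitarity condition of `SUo` -/
theorem OISO_isUo_iff (M : Matrix (Idx m) (Idx m) F) :
    IsUo σ M ↔ ∀ a b : Idx m, ∑ i, M i a * σ (M (OISO_sw m i) b) = if a = OISO_sw m b then 1 else 0 := by
  have key : ∀ a b : Idx m, (Mᵀ * Jo m F * M.map σ) a b = ∑ i, M i a * σ (M (OISO_sw m i) b) := by
    intro a b
    rw [Matrix.mul_apply]
    rw [← Equiv.sum_comp (OISO_sw m)]
    apply Finset.sum_congr rfl
    intro i _
    have h1 : (Mᵀ * Jo m F) a (OISO_sw m i) = M i a := by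
      rw [Matrix.mul_apply, Finset.sum_eq_single i]
      · rw [OISO_Jo_apply, OISO_sw_sw, if_pos rfl, mul_one, Matrix.transpose_apply]
      · intro j _ hj
        rw [OISO_Jo_apply, OISO_sw_sw, if_neg hj, mul_zero]
      · intro h; exact absurd (Finset.mem_univ _) h
    rw [h1]
    rfl
  unfold IsUo
  constructor
  · intro h a b
    rw [← key, h, OISO_Jo_apply]
  · intro h
    ext a b
    rw [key, h, OISO_Jo_apply]

theorem OISO_mem_iff (g : SpecialLinearGroup (Idx m) F) :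
    g ∈ SUo m σ ↔
      Cfsg.Agent.Helper5.PsuM.AISO_sl (OISO_e m) g ∈ Cfsg.Agent.Helper5.SuBN.SUJ (2 * m + 1) σ := by
  have hU : g ∈ SUo m σ ↔ IsUo σ g.1 := Iff.rfl
  rw [hU, OISO_isUo_iff]
  have hJ : Cfsg.Agent.Helper5.PsuM.AISO_sl (OISO_e m) g ∈ Cfsg.Agent.Helper5.SuBN.SUJ (2 * m + 1) σ ↔
      Cfsg.Agent.Helper5.SuBN.IsUJ σ (Cfsg.Agent.Helper5.PsuM.AISO_sl (OISO_e m) g).1 := by
    constructor
    · intro h
      exact Cfsg.Agent.Helper5.SuBN.isUJ_mat (σ := σ) ⟨_, h⟩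
    · intro h
      obtain ⟨g', hg'⟩ := Cfsg.Agent.Helper5.SuBN.exists_of_isUJ h
      have : g'.1 = Cfsg.Agent.Helper5.PsuM.AISO_sl (OISO_e m) g := Subtype.ext hg'
      rw [← this]
      exact g'.2
  rw [hJ]
  unfold Cfsg.Agent.Helper5.SuBN.IsUJ
  have hsum : ∀ a b : Idx m,
      ∑ i, (Cfsg.Agent.Helper5.PsuM.AISO_sl (OISO_e m) g).1 i (OISO_e m a) *
          σ ((Cfsg.Agent.Helper5.PsuM.AISO_sl (OISO_e m) g).1 (Fin.rev i) (OISO_e m b)) =
        ∑ i, g.1 i a * σ (g.1 (OISO_sw m i) b) := by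
    intro a b
    rw [← Equiv.sum_comp (OISO_e m)]
    apply Finset.sum_congr rfl
    intro i _
    rw [← OISO_e_sw, Cfsg.Agent.Helper5.PsuM.AISO_sl_apply, Cfsg.Agent.Helper5.PsuM.AISO_sl_apply]
  constructor
  · intro h
    refine ⟨(Cfsg.Agent.Helper5.PsuM.AISO_sl (OISO_e m) g).2, fun a' b' => ?_⟩
    obtain ⟨a, rfl⟩ := (OISO_e m).surjective a'
    obtain ⟨b, rfl⟩ := (OISO_e m).surjective b'
    rw [hsum, h a b, ← OISO_e_sw]
    by_cases hab : a = OISO_sw m b
    · rw [if_pos hab, if_pos (by rw [hab])]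
    · rw [if_neg hab, if_neg (fun h' => hab ((OISO_e m).injective h'))]
  · rintro ⟨-, h⟩ a b
    rw [← hsum, h, ← OISO_e_sw]
    by_cases hab : a = OISO_sw m b
    · rw [if_pos hab, if_pos (by rw [hab])]
    · rw [if_neg hab, if_neg (fun h' => hab ((OISO_e m).injective h'))]

/-- (OISO) reindex along `(Fin m ⊕ Fin m) ⊕ Unit ≃ Fin (2 * m + 1)`, `e_i ↦ i`, `w ↦ m`, `f_i ↦ 2 m - i` (`= Fin.rev` of the
image of `e_i`): `Jo` becomes the antidiagonal form `hermJ σ`.  Same method as `Cfsg.Agent.Helper5.PsuM_AISO`. -/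
theorem nonempty_mulEquiv_UG (hσ : ∀ x, σ (σ x) = x) :
    Nonempty (SUo m σ ≃* Cfsg.Agent.Helper5.SuBN.UG (2 * m + 1) σ) := by
  have hmap : (SUo m σ).map (Cfsg.Agent.Helper5.PsuM.AISO_sl (OISO_e m)).toMonoidHom =
      Cfsg.Agent.Helper5.SuBN.SUJ (2 * m + 1) σ := by
    ext g
    constructor
    · rintro ⟨x, hx, rfl⟩
      exact (OISO_mem_iff x).1 hx
    · intro hg
      refine ⟨(Cfsg.Agent.Helper5.PsuM.AISO_sl (OISO_e m)).symm g, ?_, ?_⟩
      · apply (OISO_mem_iff _).2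
        rw [MulEquiv.apply_symm_apply]
        exact hg
      · exact MulEquiv.apply_symm_apply _ g
  exact ⟨((Cfsg.Agent.Helper5.PsuM.AISO_sl (OISO_e m)).subgroupMap (SUo m σ)).trans
    (MulEquiv.subgroupCongr hmap)⟩

end Cfsg.Agent.Helper38.PsuIo
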