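import Cfsg.Agent.Helper58.PsuIo.OdDefs
import Cfsg.Agent.Helper58.PsuIo.AbsDefs
import Cfsg.Agent.Helper5.SuBN.Defs
import Cfsg.Agent.Helper38.PsuIo_OISO
import Cfsg.Agent.Helper35.SuBNZETA
import Cfsg.Agent.Helper35.SuBNLAM
import Cfsg.Agent.Helper55.SuBNTR1
import Cfsg.Agent.Helper55.SuBNTR2
import Cfsg.Agent.S0278

/-!
# S2089 block I-odd (helper58's farm), piece (OIDX2): the index of the Borel subgroup of `SUo m σ` is prime to `p`
(same proof as helper61's (EIDX2) for the even model)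
-/

set_option autoImplicit false

namespace Cfsg.Agent.Helper38.PsuIo

open Matrix
open scoped commutatorElement
open Cfsg.Agent.Helper43.PsuM Cfsg.Agent.Helper58.PsuIo.Od

universe u

variable {F : Type*} [Field F] {m : ℕ} {σ : F →+* F}

section finite

variable {K : Type u} [Field K] [Fintype K] {q : ℕ} {σ : K →+* K}

/-- the `q`-power map of the field with `q ^ 2` elements is an involution -/
theorem OIDX2_sigma_sigma (hK : Fintype.card K = q ^ 2) (hσq : ∀ x, σ x = x ^ q) (x : K) :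
    σ (σ x) = x := by
  rw [hσq, hσq, ← pow_mul, ← sq, ← hK, FiniteField.pow_card]

/-- the order of `SUo m σ` -/
theorem OIDX2_card (hK : Fintype.card K = q ^ 2) (hσq : ∀ x, σ x = x ^ q) :
    (q + 1) * Nat.card (SUo m σ) = q ^ (m * (2 * m + 1)) *
      ∏ i ∈ Finset.range (2 * m + 1), (if Even i then q ^ (i + 1) + 1 else q ^ (i + 1) - 1) := by
  have hσ : ∀ x, σ (σ x) = x := OIDX2_sigma_sigma hK hσq
  obtain ⟨ζ, hζ⟩ := Cfsg.Agent.Helper35.SuBNZETA.exists_zeta q hK
  obtain ⟨l, hl⟩ := Cfsg.Agent.Helper35.SuBNLAM.exists_lambda q hK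
  rw [← hσq] at hζ hl
  obtain ⟨C, hC⟩ := Cfsg.Agent.Helper55.SuBNTR1.exists_basis_change (σ := σ) ζ l hζ hl (2 * m + 1)
  obtain ⟨e2⟩ := Cfsg.Agent.Helper55.SuBNTR2.nonempty_mulEquiv_SU q hσq C hC
  obtain ⟨e1⟩ := nonempty_mulEquiv_UG (m := m) hσ
  have hcard : Nat.card (SUo m σ) = Nat.card (Cfsg.SU (2 * m + 1) K q) :=
    Nat.card_congr (e1.trans e2).toEquiv
  have h278 := Cfsg.Agent.S0278.result hK (2 * m + 1) (by omega)
  have hexp : (2 * m + 1) * (2 * m + 1 - 1) / 2 = m * (2 * m + 1) := by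
    have h1 : (2 * m + 1) * (2 * m + 1 - 1) = 2 * (m * (2 * m + 1)) := by
      have h2 : 2 * m + 1 - 1 = 2 * m := by omega
      rw [h2]
      ring
    rw [h1, Nat.mul_div_cancel_left _ (by norm_num : 0 < 2)]
  rw [hexp] at h278
  rw [hcard]
  exact h278

/-- (OIDX2) -/
theorem not_dvd_index (hK : Fintype.card K = q ^ 2) (hσq : ∀ x, σ x = x ^ q) (p : ℕ)
    [Fact p.Prime] [CharP K p] (hm : 1 ≤ m)
    (hU : q ^ (m * (2 * m + 1)) ∣ Nat.card (Usub m σ)) :
    ¬ p ∣ (Usub m σ ⊔ Tsub m σ).index := by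
  have hp : p.Prime := Fact.out
  intro hdvd
  have hcardG := OIDX2_card (m := m) (σ := σ) hK hσq
  -- `p ∣ q`
  have hpq : p ∣ q := by
    obtain ⟨n, -, hn⟩ := FiniteField.card K p
    have h1 : p ∣ q ^ 2 := by
      rw [← hK, hn]
      exact dvd_pow_self p n.pos.ne'
    exact hp.dvd_of_dvd_pow h1
  have hq0 : 0 < q := by
    rcases Nat.eq_zero_or_pos q with h | h
    · exfalso
      have h0 : Fintype.card K = 0 := by rw [hK, h]; norm_num
      exact Fintype.card_ne_zero h0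
    · exact h
  set B : Subgroup (SUo m σ) := Usub m σ ⊔ Tsub m σ with hB
  set N : ℕ := m * (2 * m + 1) with hN
  have h1 : Nat.card (Usub m σ) ∣ Nat.card B := Subgroup.card_dvd_of_le le_sup_left
  have h2 : q ^ N ∣ Nat.card B := hU.trans h1
  have h3 : p * q ^ N ∣ Nat.card (SUo m σ) := by
    rw [← Subgroup.index_mul_card B]
    exact mul_dvd_mul hdvd h2
  have h4 : q ^ N * ((q + 1) * p) ∣ q ^ N *
      ∏ i ∈ Finset.range (2 * m + 1), (if Even i then q ^ (i + 1) + 1 else q ^ (i + 1) - 1) := by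
    rw [← hcardG]
    have : q ^ N * ((q + 1) * p) = (q + 1) * (p * q ^ N) := by ring
    rw [this]
    exact mul_dvd_mul_left _ h3
  have h5 : (q + 1) * p ∣
      ∏ i ∈ Finset.range (2 * m + 1), (if Even i then q ^ (i + 1) + 1 else q ^ (i + 1) - 1) :=
    Nat.dvd_of_mul_dvd_mul_left (pow_pos hq0 N) h4
  have h6 : p ∣
      ∏ i ∈ Finset.range (2 * m + 1), (if Even i then q ^ (i + 1) + 1 else q ^ (i + 1) - 1) :=
    (dvd_mul_left p (q + 1)).trans h5
  obtain ⟨i, -, hi⟩ := (Prime.dvd_finsetProd_iff hp.prime _).mp h6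
  have hqi : p ∣ q ^ (i + 1) := dvd_pow hpq (Nat.succ_ne_zero i)
  have hone : p ∣ 1 := by
    by_cases hev : Even i
    · rw [if_pos hev] at hi
      exact (Nat.dvd_add_right hqi).mp hi
    · rw [if_neg hev] at hi
      have hpos : 1 ≤ q ^ (i + 1) := Nat.one_le_pow _ _ hq0
      have : q ^ (i + 1) = (q ^ (i + 1) - 1) + 1 := by omega
      rw [this] at hqi
      exact (Nat.dvd_add_right hi).mp hqi
  exact hp.one_lt.ne' (Nat.dvd_one.mp hone)

end finite

end Cfsg.Agent.Helper38.PsuIo
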