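import Mathlib

/-!
# (INV3) of WANTED #5541 (helper6, small Ree torus normalisers)

An abelian group of order `4·o`, `o` odd, in which every element of order dividing `4` has order
dividing `2`, has exactly three involutions.
-/

set_option autoImplicit false

namespace Cfsg.Agent.Helper38.ReeInv3

theorem exists_three_involutions {G : Type*} [Group G] (T : Subgroup G) [Finite T]
    (hTc : ∀ x ∈ T, ∀ y ∈ T, x * y = y * x) (o : ℕ) (ho : Odd o) (hcard : Nat.card ↥T = 4 * o)
    (h2 : ∀ x ∈ T, x ^ 4 = 1 → x * x = 1) :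
    ∃ S : Finset G, S.card = 3 ∧ ∀ y : G, y ∈ S ↔ (y ∈ T ∧ y ≠ 1 ∧ y * y = 1) := by
  classical
  -- the subgroup of elements of `T` of order dividing 2
  let W : Subgroup G :=
    { carrier := {y | y ∈ T ∧ y * y = 1}
      one_mem' := ⟨T.one_mem, by simp⟩
      mul_mem' := by
        rintro a b ⟨haT, ha⟩ ⟨hbT, hb⟩
        refine ⟨T.mul_mem haT hbT, ?_⟩
        have hc := hTc a haT b hbT
        calc a * b * (a * b) = a * (b * a) * b := by group
          _ = a * (a * b) * b := by rw [hc]
          _ = (a * a) * (b * b) := by group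
          _ = 1 := by rw [ha, hb, one_mul]
      inv_mem' := by
        rintro a ⟨haT, ha⟩
        refine ⟨T.inv_mem haT, ?_⟩
        have : a⁻¹ = a := by
          rw [inv_eq_iff_mul_eq_one]; exact ha
        rw [this]; exact ha }
  have hWT : W ≤ T := fun y hy => hy.1
  have hmemW : ∀ y : G, y ∈ W ↔ (y ∈ T ∧ y * y = 1) := fun y => Iff.rfl
  have : Finite W := by
    have : Finite (T : Set G) := ‹Finite T›
    exact Finite.Set.subset (T : Set G) hWT
  -- `W` is a 2-group
  have hp : IsPGroup 2 W := by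
    intro g
    refine ⟨1, ?_⟩
    have hg := g.2.2
    apply Subtype.ext
    simp only [pow_one, Subgroup.coe_pow, Subgroup.coe_one]
    rw [pow_two]; exact hg
  have : Fact (Nat.Prime 2) := ⟨Nat.prime_two⟩
  obtain ⟨n, hn⟩ := IsPGroup.exists_card_eq hp
  have hdvd : Nat.card W ∣ Nat.card T := Subgroup.card_dvd_of_le hWT
  have hle4 : Nat.card W ≤ 4 := by
    rw [hn, hcard] at hdvd
    have hcop : Nat.Coprime (2 ^ n) o := Nat.Coprime.pow_left n (Nat.coprime_two_left.mpr ho)
    have h4 : 2 ^ n ∣ 4 := hcop.dvd_of_dvd_mul_right hdvd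
    rw [hn]
    exact Nat.le_of_dvd (by norm_num) h4
  -- a subgroup of order 4 of `T`
  have h4T : 2 ^ 2 ∣ Nat.card T := by
    rw [hcard]; exact Dvd.intro o (by norm_num)
  obtain ⟨K, hK⟩ := Sylow.exists_subgroup_card_pow_prime 2 h4T
  have hKW : K.map T.subtype ≤ W := by
    rintro _ ⟨x, hx, rfl⟩
    have hx4 : (⟨x, hx⟩ : K) ^ 4 = 1 := by
      have := pow_card_eq_one' (G := K) (x := ⟨x, hx⟩)
      rw [hK] at this
      simpa using this
    have hx4' : (x : G) ^ 4 = 1 := by
      have := congrArg (fun k : K => ((k : T) : G)) hx4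
      simpa using this
    exact ⟨x.2, h2 x x.2 hx4'⟩
  have hge4 : 4 ≤ Nat.card W := by
    have h1 : Nat.card (K.map T.subtype) = 4 := by
      rw [Subgroup.card_map_of_injective T.subtype_injective, hK]; norm_num
    rw [← h1]
    exact Subgroup.card_le_of_le hKW
  have hW4 : Nat.card W = 4 := le_antisymm hle4 hge4
  -- the three involutions
  have : Fintype W := Fintype.ofFinite W
  refine ⟨((W : Set G).toFinite.toFinset).erase 1, ?_, ?_⟩
  · rw [Finset.card_erase_of_mem (by simp)]
    have : (W : Set G).toFinite.toFinset.card = Nat.card W := by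
      rw [← Set.ncard_eq_toFinset_card (W : Set G)]
      rfl
    rw [this, hW4]
  · intro y
    rw [Finset.mem_erase, Set.Finite.mem_toFinset]
    constructor
    · rintro ⟨hy1, hyW⟩
      exact ⟨hyW.1, hy1, hyW.2⟩
    · rintro ⟨hyT, hy1, hyy⟩
      exact ⟨hy1, hyT, hyy⟩

end Cfsg.Agent.Helper38.ReeInv3
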