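import Mathlib

/-!
# (K1) of WANTED #5796 (helper3, S3805): a vector of integers of norm 3 has exactly three entries `±1`
-/

set_option autoImplicit false
open Finset

namespace Cfsg.Agent.Helper38.S3S3

variable {ι : Type*} [Fintype ι] [DecidableEq ι]

/-- (K1) a vector of integers of norm 3 has exactly three entries `±1`. -/
theorem shape_three (f : ι → ℤ) (hf : ∑ i, f i ^ 2 = 3) :
    ∃ i j k : ι, i ≠ j ∧ i ≠ k ∧ j ≠ k ∧ (f i = 1 ∨ f i = -1) ∧ (f j = 1 ∨ f j = -1) ∧
      (f k = 1 ∨ f k = -1) ∧ ∀ l, l ≠ i → l ≠ j → l ≠ k → f l = 0 := by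
  have hle : ∀ i, f i ^ 2 ≤ 3 := by
    intro i
    rw [← hf]
    exact Finset.single_le_sum (f := fun i => f i ^ 2) (fun j _ => sq_nonneg (f j)) (Finset.mem_univ i)
  have hval : ∀ i, f i = 0 ∨ f i = 1 ∨ f i = -1 := by
    intro i
    have h := hle i
    have h1 : f i ≤ 1 := by nlinarith
    have h2 : -1 ≤ f i := by nlinarith
    omega
  have hsq : ∀ i, f i ^ 2 = if f i ≠ 0 then 1 else 0 := by
    intro i
    rcases hval i with h | h | h <;> simp [h]
  have hcard : (Finset.univ.filter (fun i => f i ≠ 0)).card = 3 := by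
    have h1 : ∑ i, f i ^ 2 = ((Finset.univ.filter (fun i => f i ≠ 0)).card : ℤ) := by
      rw [Finset.sum_congr rfl (fun i _ => hsq i)]
      rw [Finset.sum_ite, Finset.sum_const_zero, add_zero, Finset.sum_const]
      simp
    rw [hf] at h1
    exact_mod_cast h1.symm
  obtain ⟨x, y, z, hxy, hxz, hyz, hS⟩ := Finset.card_eq_three.mp hcard
  have hmem : ∀ l, f l ≠ 0 ↔ l = x ∨ l = y ∨ l = z := by
    intro l
    have : l ∈ Finset.univ.filter (fun i => f i ≠ 0) ↔ l ∈ ({x, y, z} : Finset ι) := by rw [hS]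
    simpa using this
  have hpm : ∀ l, f l ≠ 0 → (f l = 1 ∨ f l = -1) := by
    intro l hl
    rcases hval l with h | h | h
    · exact absurd h hl
    · exact Or.inl h
    · exact Or.inr h
  refine ⟨x, y, z, hxy, hxz, hyz, hpm x ((hmem x).mpr (Or.inl rfl)),
    hpm y ((hmem y).mpr (Or.inr (Or.inl rfl))), hpm z ((hmem z).mpr (Or.inr (Or.inr rfl))), ?_⟩
  intro l h1 h2 h3
  by_contra hne
  rcases (hmem l).mp hne with h | h | h
  · exact h1 h
  · exact h2 h
  · exact h3 h

end Cfsg.Agent.Helper38.S3S3
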