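import Mathlib
import Cfsg.Agent.Helper5.ProjLine

set_option autoImplicit false

namespace Cfsg.Agent.Helper38

open Matrix

/-- orbit-stabilizer for conjugacy classes, `Nat.card` form -/
theorem class_mul_cent {G : Type*} [Group G] [Finite G] (g : G) :
    Nat.card (ConjClasses.mk g).carrier * Nat.card (Subgroup.centralizer ({g} : Set G)) = Nat.card G := by
  rw [Subgroup.nat_card_centralizer_nat_card_stabilizer, ← ConjAct.orbit_eq_carrier_conjClasses,
    Nat.card_coe_set_eq, ← MulAction.index_stabilizer, mul_comm, Subgroup.card_mul_index]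
  rfl

section
variable {F : Type*} [Field F]

omit [Field F] in
theorem mat2_eq_iff {a b c d a' b' c' d' : F} :
    !![a, b; c, d] = !![a', b'; c', d'] ↔ a = a' ∧ b = b' ∧ c = c' ∧ d = d' := by
  constructor
  · intro h
    exact ⟨by simpa using congrFun (congrFun h 0) 0, by simpa using congrFun (congrFun h 0) 1,
      by simpa using congrFun (congrFun h 1) 0, by simpa using congrFun (congrFun h 1) 1⟩
  · rintro ⟨rfl, rfl, rfl, rfl⟩; rfl

/-- upper unitriangular element of `SL₂` -/
def upper (b : F) : SpecialLinearGroup (Fin 2) F := ⟨!![1, b; 0, 1], by simp [det_fin_two]⟩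

@[simp] theorem upper_val (b : F) : (upper b : Matrix (Fin 2) (Fin 2) F) = !![1, b; 0, 1] := rfl

theorem sl_ext {g h : SpecialLinearGroup (Fin 2) F}
    (h00 : (g : Matrix (Fin 2) (Fin 2) F) 0 0 = (h : Matrix (Fin 2) (Fin 2) F) 0 0)
    (h01 : (g : Matrix (Fin 2) (Fin 2) F) 0 1 = (h : Matrix (Fin 2) (Fin 2) F) 0 1)
    (h10 : (g : Matrix (Fin 2) (Fin 2) F) 1 0 = (h : Matrix (Fin 2) (Fin 2) F) 1 0)
    (h11 : (g : Matrix (Fin 2) (Fin 2) F) 1 1 = (h : Matrix (Fin 2) (Fin 2) F) 1 1) : g = h := by
  apply Subtype.ext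
  ext i j
  fin_cases i <;> fin_cases j <;> assumption

theorem sl_ext' {g h : SpecialLinearGroup (Fin 2) F}
    (e : (g : Matrix (Fin 2) (Fin 2) F) = (h : Matrix (Fin 2) (Fin 2) F)) : g = h :=
  Subtype.ext e

theorem sl_det (g : SpecialLinearGroup (Fin 2) F) :
    (g : Matrix (Fin 2) (Fin 2) F) 0 0 * (g : Matrix (Fin 2) (Fin 2) F) 1 1
      - (g : Matrix (Fin 2) (Fin 2) F) 0 1 * (g : Matrix (Fin 2) (Fin 2) F) 1 0 = 1 := by
  have := g.2
  rwa [det_fin_two] at this

theorem upper_zero : upper (0 : F) = 1 := by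
  apply sl_ext <;> simp

theorem upper_mul (b c : F) : upper b * upper c = upper (b + c) := by
  apply sl_ext'
  rw [Matrix.SpecialLinearGroup.coe_mul, upper_val, upper_val, upper_val, Matrix.mul_fin_two,
    mat2_eq_iff]
  refine ⟨by ring, by ring, by ring, by ring⟩

theorem upper_pow (b : F) (n : ℕ) : upper b ^ n = upper (n * b) := by
  induction n with
  | zero => simp [upper_zero]
  | succ k ih => rw [pow_succ, ih, upper_mul]; congr 1; push_cast; ring

theorem upper_injective : Function.Injective (upper : F → SpecialLinearGroup (Fin 2) F) := by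
  intro b c h
  have := congrArg (fun g : SpecialLinearGroup (Fin 2) F => (g : Matrix (Fin 2) (Fin 2) F) 0 1) h
  simpa using this

theorem upper_ne_one {b : F} (hb : b ≠ 0) : upper b ≠ 1 := by
  rw [← upper_zero]; exact fun h => hb (upper_injective h)

theorem orderOf_upper (p : ℕ) [Fact p.Prime] [CharP F p] {b : F} (hb : b ≠ 0) :
    orderOf (upper b) = p := by
  apply orderOf_eq_prime
  · rw [upper_pow, CharP.cast_eq_zero, zero_mul, upper_zero]
  · exact upper_ne_one hb

/-- semiconjugation criterion for conjugacy in `SL₂` -/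
theorem isConj_of_mul_eq {a b c : SpecialLinearGroup (Fin 2) F}
    (h : (c : Matrix (Fin 2) (Fin 2) F) * (a : Matrix (Fin 2) (Fin 2) F)
      = (b : Matrix (Fin 2) (Fin 2) F) * (c : Matrix (Fin 2) (Fin 2) F)) : IsConj a b := by
  rw [isConj_iff]
  refine ⟨c, ?_⟩
  rw [mul_inv_eq_iff_eq_mul]
  apply sl_ext'
  rw [Matrix.SpecialLinearGroup.coe_mul, Matrix.SpecialLinearGroup.coe_mul]
  exact h

theorem conj_calc (a b c d : F) (hc0 : c ≠ 0) (hd' : d = 2 - a) (hbc : b * c = -(a - 1) ^ 2) :
    !![-(a - 1) / c, 1; -1, 0] * !![1, -c; 0, 1] = !![a, b; c, d] * !![-(a - 1) / c, 1; -1, 0] := by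
  rw [Matrix.mul_fin_two, Matrix.mul_fin_two]
  have e1 : -(a - 1) / c * 1 + 1 * 0 = a * (-(a - 1) / c) + b * -1 := by
    field_simp
    linear_combination (1 : F) * hbc
  have e2 : -(a - 1) / c * -c + 1 * 1 = a * 1 + b * 0 := by
    field_simp
    ring
  have e3 : (-1 : F) * 1 + 0 * 0 = c * (-(a - 1) / c) + d * -1 := by
    rw [hd']; field_simp; ring
  have e4 : (-1 : F) * -c + 0 * 1 = c * 1 + d * 0 := by ring
  rw [e1, e2, e3, e4]

/-- elements with trace `2` other than `1` are conjugate to a nontrivial upper unitriangular one -/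
theorem exists_conj_upper (g : SpecialLinearGroup (Fin 2) F)
    (htr : (g : Matrix (Fin 2) (Fin 2) F) 0 0 + (g : Matrix (Fin 2) (Fin 2) F) 1 1 = 2)
    (hne : g ≠ 1) : ∃ b : F, b ≠ 0 ∧ IsConj (upper b) g := by
  have hdet := sl_det g
  have hg := Matrix.eta_fin_two (g : Matrix (Fin 2) (Fin 2) F)
  generalize (g : Matrix (Fin 2) (Fin 2) F) 0 0 = a at *
  generalize (g : Matrix (Fin 2) (Fin 2) F) 0 1 = b at *
  generalize (g : Matrix (Fin 2) (Fin 2) F) 1 0 = c at *
  generalize (g : Matrix (Fin 2) (Fin 2) F) 1 1 = d at *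
  have hd' : d = 2 - a := by rw [← htr]; ring
  by_cases hc0 : c = 0
  · have ha1 : (a - 1) ^ 2 = 0 := by
      have : a * d = 1 := by rw [hc0, mul_zero, sub_zero] at hdet; exact hdet
      rw [hd'] at this
      linear_combination (-1 : F) * this
    have ha1' : a = 1 := sub_eq_zero.1 (pow_eq_zero_iff two_ne_zero |>.1 ha1)
    have hd1 : d = 1 := by rw [hd', ha1']; ring
    have hgu : g = upper b := by
      apply sl_ext'
      rw [hg, upper_val, ha1', hd1, hc0]
    refine ⟨b, ?_, ?_⟩
    · intro hb0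
      apply hne
      rw [hgu, hb0, upper_zero]
    · rw [← hgu]
  · refine ⟨-c, neg_ne_zero.2 hc0, ?_⟩
    have hbc : b * c = -(a - 1) ^ 2 := by
      rw [hd'] at hdet
      linear_combination (-1 : F) * hdet
    let P : SpecialLinearGroup (Fin 2) F := ⟨!![-(a - 1) / c, 1; -1, 0], by simp [det_fin_two]⟩
    apply isConj_of_mul_eq (c := P)
    rw [hg]
    exact conj_calc a b c d hc0 hd' hbc

/-- when two nontrivial upper unitriangular elements are conjugate -/
theorem isConj_upper_iff {b b' : F} (hb : b ≠ 0) (hb' : b' ≠ 0) :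
    IsConj (upper b) (upper b') ↔ IsSquare (b * b') := by
  constructor
  · intro h
    obtain ⟨P, hP⟩ := isConj_iff.1 h
    rw [mul_inv_eq_iff_eq_mul] at hP
    have hm : ((P * upper b : SpecialLinearGroup (Fin 2) F) : Matrix (Fin 2) (Fin 2) F)
        = ((upper b' * P : SpecialLinearGroup (Fin 2) F) : Matrix (Fin 2) (Fin 2) F) := by rw [hP]
    rw [Matrix.SpecialLinearGroup.coe_mul, Matrix.SpecialLinearGroup.coe_mul, upper_val, upper_val] at hm
    have hdet := sl_det P
    rw [Matrix.eta_fin_two (P : Matrix (Fin 2) (Fin 2) F)] at hm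
    generalize (P : Matrix (Fin 2) (Fin 2) F) 0 0 = x at *
    generalize (P : Matrix (Fin 2) (Fin 2) F) 0 1 = y at *
    generalize (P : Matrix (Fin 2) (Fin 2) F) 1 0 = z at *
    generalize (P : Matrix (Fin 2) (Fin 2) F) 1 1 = w at *
    rw [Matrix.mul_fin_two, Matrix.mul_fin_two, mat2_eq_iff] at hm
    obtain ⟨e00, e01, -, -⟩ := hm
    have hz : z = 0 := by
      have : b' * z = 0 := by linear_combination (-1 : F) * e00
      rcases mul_eq_zero.1 this with h | h
      · exact absurd h hb'
      · exact h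
    rw [hz, mul_zero, sub_zero] at hdet
    refine ⟨x * b, ?_⟩
    have h1 : x * b = b' * w := by linear_combination e01
    have h2 : b' = x * x * b := by
      calc b' = b' * (x * w) := by rw [hdet, mul_one]
        _ = x * (b' * w) := by ring
        _ = _ := by rw [← h1]; ring
    rw [h2]; ring
  · rintro ⟨s, hs⟩
    have hs0 : s ≠ 0 := by
      intro h; rw [h, mul_zero] at hs
      exact (mul_ne_zero hb hb') hs
    let P : SpecialLinearGroup (Fin 2) F := ⟨!![s / b, 0; 0, b / s], by
      rw [det_fin_two_of]; field_simp; ring⟩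
    apply isConj_of_mul_eq (c := P)
    show (!![s / b, 0; 0, b / s] : Matrix (Fin 2) (Fin 2) F) * !![1, b; 0, 1]
      = !![1, b'; 0, 1] * !![s / b, 0; 0, b / s]
    rw [Matrix.mul_fin_two, Matrix.mul_fin_two, mat2_eq_iff]
    refine ⟨by ring, ?_, by ring, by ring⟩
    field_simp
    linear_combination (-1 : F) * hs

/-- membership in the centralizer of `upper b` -/
theorem mem_centralizer_upper {b : F} (hb : b ≠ 0) (h : SpecialLinearGroup (Fin 2) F) :
    h ∈ Subgroup.centralizer ({upper b} : Set (SpecialLinearGroup (Fin 2) F)) ↔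
      (h : Matrix (Fin 2) (Fin 2) F) 1 0 = 0 ∧
        (h : Matrix (Fin 2) (Fin 2) F) 0 0 = (h : Matrix (Fin 2) (Fin 2) F) 1 1 := by
  rw [Subgroup.mem_centralizer_singleton_iff]
  have key : h * upper b = upper b * h ↔
      (h : Matrix (Fin 2) (Fin 2) F) * !![1, b; 0, 1] = !![1, b; 0, 1] * (h : Matrix (Fin 2) (Fin 2) F) := by
    constructor
    · intro e
      have hm : ((h * upper b : SpecialLinearGroup (Fin 2) F) : Matrix (Fin 2) (Fin 2) F)
          = ((upper b * h : SpecialLinearGroup (Fin 2) F) : Matrix (Fin 2) (Fin 2) F) := by rw [e]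
      rw [Matrix.SpecialLinearGroup.coe_mul, Matrix.SpecialLinearGroup.coe_mul, upper_val] at hm
      exact hm
    · intro e
      apply sl_ext'
      rw [Matrix.SpecialLinearGroup.coe_mul, Matrix.SpecialLinearGroup.coe_mul, upper_val]
      exact e
  rw [key, Matrix.eta_fin_two (h : Matrix (Fin 2) (Fin 2) F)]
  generalize (h : Matrix (Fin 2) (Fin 2) F) 0 0 = x
  generalize (h : Matrix (Fin 2) (Fin 2) F) 0 1 = y
  generalize (h : Matrix (Fin 2) (Fin 2) F) 1 0 = z
  generalize (h : Matrix (Fin 2) (Fin 2) F) 1 1 = w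
  rw [Matrix.mul_fin_two, Matrix.mul_fin_two, mat2_eq_iff]
  simp only [Matrix.of_apply, Matrix.cons_val', Matrix.cons_val_zero, Matrix.cons_val_one,
    Matrix.cons_val_fin_one]
  constructor
  · rintro ⟨e00, e01, -, -⟩
    have hz : z = 0 := by
      have : b * z = 0 := by linear_combination (-1 : F) * e00
      rcases mul_eq_zero.1 this with h | h
      · exact absurd h hb
      · exact h
    refine ⟨hz, ?_⟩
    have : (x - w) * b = 0 := by linear_combination e01
    rcases mul_eq_zero.1 this with h | h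
    · exact sub_eq_zero.1 h
    · exact absurd h hb
  · rintro ⟨hz, hx⟩
    subst hz hx
    refine ⟨by ring, by ring, by ring, by ring⟩

/-- the element `[[x, t], [0, x]]` with `x * x = 1` -/
def centElt (x : {x : F // x * x = 1}) (t : F) : SpecialLinearGroup (Fin 2) F :=
  ⟨!![x.1, t; 0, x.1], by simp [det_fin_two, x.2]⟩

theorem centElt_val (x : {x : F // x * x = 1}) (t : F) :
    (centElt x t : Matrix (Fin 2) (Fin 2) F) = !![x.1, t; 0, x.1] := rfl

theorem card_centralizer_upper [Fintype F] {b : F} (hb : b ≠ 0) :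
    Nat.card (Subgroup.centralizer ({upper b} : Set (SpecialLinearGroup (Fin 2) F))) =
      Nat.card {x : F // x * x = 1} * Fintype.card F := by
  have hinj : Function.Injective (fun p : {x : F // x * x = 1} × F => centElt p.1 p.2) := by
    rintro ⟨x, t⟩ ⟨y, s⟩ h
    have h' : (centElt x t : Matrix (Fin 2) (Fin 2) F) = (centElt y s : Matrix (Fin 2) (Fin 2) F) := by
      rw [show centElt x t = centElt y s from h]
    rw [centElt_val, centElt_val, mat2_eq_iff] at h'
    exact Prod.ext (Subtype.ext h'.1) h'.2.1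
  have hmem : ∀ h : SpecialLinearGroup (Fin 2) F,
      h ∈ Subgroup.centralizer ({upper b} : Set (SpecialLinearGroup (Fin 2) F)) ↔
        h ∈ Set.range (fun p : {x : F // x * x = 1} × F => centElt p.1 p.2) := by
    intro h
    rw [mem_centralizer_upper hb]
    constructor
    · rintro ⟨hz, hx⟩
      have hdet := sl_det h
      rw [hz, mul_zero, sub_zero, ← hx] at hdet
      refine ⟨(⟨(h : Matrix (Fin 2) (Fin 2) F) 0 0, hdet⟩, (h : Matrix (Fin 2) (Fin 2) F) 0 1), ?_⟩
      apply sl_ext'
      rw [centElt_val]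
      conv_rhs => rw [Matrix.eta_fin_two (h : Matrix (Fin 2) (Fin 2) F)]
      rw [mat2_eq_iff]
      exact ⟨rfl, rfl, hz.symm, hx⟩
    · rintro ⟨p, rfl⟩
      rw [centElt_val]
      simp
  rw [Nat.card_congr (Equiv.subtypeEquivRight hmem),
    Nat.card_congr (Equiv.ofInjective _ hinj).symm, Nat.card_prod, Nat.card_eq_fintype_card (α := F)]

theorem card_sq_eq_one_of_two_eq_zero (h2 : (2 : F) = 0) : Nat.card {x : F // x * x = 1} = 1 := by
  have : Unique {x : F // x * x = 1} :=
    { default := ⟨1, by simp⟩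
      uniq := by
        rintro ⟨x, hx⟩
        apply Subtype.ext
        have : (x - 1) ^ 2 = 0 := by linear_combination hx - (x - 1) * h2
        exact sub_eq_zero.1 (pow_eq_zero_iff two_ne_zero |>.1 this) }
  exact Nat.card_unique

theorem card_sq_eq_one_of_two_ne_zero (h2 : (2 : F) ≠ 0) : Nat.card {x : F // x * x = 1} = 2 := by
  classical
  have hne : (1 : F) ≠ -1 := by
    intro h
    apply h2
    linear_combination h
  have : {x : F // x * x = 1} ≃ Bool :=
    { toFun := fun x => decide (x.1 = 1)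
      invFun := fun b => if b then ⟨1, by simp⟩ else ⟨-1, by simp⟩
      left_inv := by
        rintro ⟨x, hx⟩
        have : (x - 1) * (x + 1) = 0 := by linear_combination hx
        rcases mul_eq_zero.1 this with h | h
        · have hx1 : x = 1 := sub_eq_zero.1 h
          simp [hx1]
        · have hx1 : x = -1 := eq_neg_of_add_eq_zero_left h
          have : ¬ ((-1 : F) = 1) := fun h => hne h.symm
          simp [hx1, this]
      right_inv := by
        intro b
        cases b
        · have : ¬ ((-1 : F) = 1) := fun h => hne h.symm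
          simp [this]
        · simp }
  rw [Nat.card_congr this]; simp

/-- an element of `SL₂` killed by the characteristic exponent has trace `2` -/
theorem trace_eq_two_of_pow_char (p : ℕ) [Fact p.Prime] [CharP F p]
    (g : SpecialLinearGroup (Fin 2) F) (hg : g ^ p = 1) :
    (g : Matrix (Fin 2) (Fin 2) F) 0 0 + (g : Matrix (Fin 2) (Fin 2) F) 1 1 = 2 := by
  have : CharP (Matrix (Fin 2) (Fin 2) F) p := Matrix.charP p
  have hgp : (g : Matrix (Fin 2) (Fin 2) F) ^ p = 1 := by
    have h : ((g ^ p : SpecialLinearGroup (Fin 2) F) : Matrix (Fin 2) (Fin 2) F)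
        = ((1 : SpecialLinearGroup (Fin 2) F) : Matrix (Fin 2) (Fin 2) F) := by rw [hg]
    rwa [Matrix.SpecialLinearGroup.coe_pow, Matrix.SpecialLinearGroup.coe_one] at h
  have hN : ((g : Matrix (Fin 2) (Fin 2) F) - 1) ^ p = 0 := by
    rw [sub_pow_char_of_commute p (Commute.one_right _), hgp, one_pow, sub_self]
  have hnil : IsNilpotent ((g : Matrix (Fin 2) (Fin 2) F) - 1) := ⟨p, hN⟩
  have htr := (Matrix.isNilpotent_trace_of_isNilpotent hnil).eq_zero
  rw [Matrix.trace_fin_two] at htr
  simp only [Matrix.sub_apply, Matrix.one_apply_eq] at htr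
  linear_combination htr

end

end Cfsg.Agent.Helper38
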