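import Mathlib
import Cfsg.Agent.Helper38.SLnTrans
import Cfsg.Agent.Helper38.GL2Irr

/-!
# `SLₙ(F)`, `n ≥ 3`, `F` finite: counting, and the sum of the induced characters
-/

set_option autoImplicit false

namespace Cfsg.Agent.Helper38

open Matrix Cfsg
open scoped ComplexConjugate LinearAlgebra.Projectivization

section sln
variable {F : Type*} [Field F] [Fintype F] [DecidableEq F] {m : ℕ}

omit [Fintype F] [DecidableEq F] in
/-- the fibres of `x ↦ x • e₀` over the non-zero vectors all have the size of the stabiliser -/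
theorem card_fiber {v : Fin (m + 3) → F} (hv : v ≠ 0) :
    Nat.card {x : SpecialLinearGroup (Fin (m + 3)) F // x • e0 F m = v}
      = Nat.card (MulAction.stabilizer (SpecialLinearGroup (Fin (m + 3)) F) (e0 F m)) := by
  obtain ⟨x₀, hx₀⟩ := exists_smul_e0_eq hv
  symm
  apply Nat.card_congr
  refine
    { toFun := fun s => ⟨x₀ * s.1, by rw [mul_smul, MulAction.mem_stabilizer_iff.1 s.2, hx₀]⟩
      invFun := fun x => ⟨x₀⁻¹ * x.1, by
        rw [MulAction.mem_stabilizer_iff, mul_smul, x.2, ← hx₀, inv_smul_smul]⟩
      left_inv := fun s => by simp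
      right_inv := fun x => by simp }

omit [DecidableEq F] in
theorem card_ptStab :
    Nat.card (ptStab F m) = (Fintype.card F - 1) *
      Nat.card (MulAction.stabilizer (SpecialLinearGroup (Fin (m + 3)) F) (e0 F m)) := by
  classical
  let f : ptStab F m → Fˣ := fun b => Units.mk0 (b.1.1 0 0) (apply_zero_zero_ne_zero b.2)
  rw [← Nat.card_congr (Equiv.sigmaFiberEquiv f), Nat.card_sigma]
  have : ∀ c : Fˣ, Nat.card {b : ptStab F m // f b = c}
      = Nat.card (MulAction.stabilizer (SpecialLinearGroup (Fin (m + 3)) F) (e0 F m)) := by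
    intro c
    have hc : ((c : F) • e0 F m) ≠ 0 := smul_ne_zero c.ne_zero e0_ne_zero
    rw [← card_fiber hc]
    apply Nat.card_congr
    refine
      { toFun := fun b => ⟨b.1.1, by
          have h := smul_e0_of_mem b.1.2
          have hb : f b.1 = c := b.2
          have : b.1.1.1 0 0 = (c : F) := congrArg Units.val hb
          rw [h, this]⟩
        invFun := fun x => ⟨⟨x.1, (mem_ptStab_iff _).2 ⟨c, x.2⟩⟩, by
          apply Units.ext
          exact apply_zero_zero_of_smul x.2⟩
        left_inv := fun b => rfl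
        right_inv := fun x => rfl }
  rw [Finset.sum_congr rfl (fun c _ => this c), Finset.sum_const, Finset.card_univ,
    Fintype.card_units, smul_eq_mul]

/-- the sum over all `α` of the extended linear characters -/
theorem sum_extend_thetaP [Fintype (MulChar F ℂ)] (y : SpecialLinearGroup (Fin (m + 3)) F) :
    ∑ α : MulChar F ℂ, extendByZero (ptStab F m) (fun b => thetaP α b) y
      = if y • e0 F m = e0 F m then ((Fintype.card F : ℂ) - 1) else 0 := by
  by_cases hy : y ∈ ptStab F m
  · have h1 : ∀ α : MulChar F ℂ, extendByZero (ptStab F m) (fun b => thetaP α b) y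
        = α ((Units.mk0 (y.1 0 0) (apply_zero_zero_ne_zero hy) : Fˣ) : F) := by
      intro α
      rw [Helper15.extendByZero_of_mem _ _ hy]
      rfl
    rw [Finset.sum_congr rfl (fun α _ => h1 α), sum_mulChar_apply]
    have hiff : (Units.mk0 (y.1 0 0) (apply_zero_zero_ne_zero hy) = 1) ↔ y • e0 F m = e0 F m := by
      constructor
      · intro h
        have h' : y.1 0 0 = 1 := by
          have := congrArg Units.val h
          simpa using this
        rw [smul_e0_of_mem hy, h', one_smul]
      · intro h
        apply Units.ext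
        have : y • e0 F m = (1 : F) • e0 F m := by rw [one_smul]; exact h
        exact apply_zero_zero_of_smul this
    by_cases h : y • e0 F m = e0 F m
    · rw [if_pos h, if_pos (hiff.2 h)]
    · rw [if_neg h, if_neg (fun h' => h (hiff.1 h'))]
  · have h1 : ∀ α : MulChar F ℂ, extendByZero (ptStab F m) (fun b => thetaP α b) y = 0 :=
      fun α => Helper15.extendByZero_of_not_mem _ _ hy
    rw [Finset.sum_congr rfl (fun α _ => h1 α), Finset.sum_const_zero, if_neg]
    intro h
    apply hy
    exact (mem_ptStab_iff y).2 ⟨1, by rw [one_smul]; exact h⟩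

omit [Fintype F] [DecidableEq F] in
theorem conj_smul_e0_iff (g x : SpecialLinearGroup (Fin (m + 3)) F) :
    (x⁻¹ * g * x) • e0 F m = e0 F m ↔ g • (x • e0 F m) = x • e0 F m := by
  rw [mul_smul, mul_smul, inv_smul_eq_iff]

/-- the number of `x` with `g (x e₀) = x e₀` -/
theorem card_filter_fix (g : SpecialLinearGroup (Fin (m + 3)) F) :
    (Finset.univ.filter (fun x : SpecialLinearGroup (Fin (m + 3)) F =>
      g • (x • e0 F m) = x • e0 F m)).card
      = Nat.card (MulAction.stabilizer (SpecialLinearGroup (Fin (m + 3)) F) (e0 F m)) *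
        (Finset.univ.filter (fun v : Fin (m + 3) → F => v ≠ 0 ∧ g • v = v)).card := by
  classical
  rw [Finset.card_eq_sum_card_fiberwise (f := fun x : SpecialLinearGroup (Fin (m + 3)) F =>
      x • e0 F m)
    (t := Finset.univ.filter (fun v : Fin (m + 3) → F => v ≠ 0 ∧ g • v = v))]
  · rw [mul_comm, ← smul_eq_mul, ← Finset.sum_const]
    apply Finset.sum_congr rfl
    intro v hv
    rw [Finset.mem_filter] at hv
    rw [← card_fiber hv.2.1, Nat.card_eq_fintype_card, Fintype.card_subtype]
    congr 1
    ext x
    simp only [Finset.mem_filter, Finset.mem_univ, true_and]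
    constructor
    · rintro ⟨_, h2⟩; exact h2
    · intro h
      refine ⟨?_, h⟩
      rw [h]; exact hv.2.2
  · intro x hx
    rw [Finset.mem_coe, Finset.mem_filter] at hx
    rw [Finset.mem_coe, Finset.mem_filter]
    exact ⟨Finset.mem_univ _, smul_ne_zero_of_ne_zero x e0_ne_zero, hx.2⟩

/-- the sum of all the induced characters is the permutation character on the non-zero
vectors -/
theorem sum_indFun_thetaP [Fintype (MulChar F ℂ)] (g : SpecialLinearGroup (Fin (m + 3)) F) :
    ∑ α : MulChar F ℂ, indFun (ptStab F m) (fun b => thetaP α b) g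
      = (Nat.card {v : Fin (m + 3) → F // v ≠ 0 ∧ (g : Matrix (Fin (m + 3)) (Fin (m + 3)) F).mulVec v = v} : ℂ) := by
  classical
  simp only [Helper15.indFun_apply]
  rw [← Finset.mul_sum, Finset.sum_comm]
  simp only [sum_extend_thetaP, conj_smul_e0_iff]
  rw [← Finset.sum_filter, Finset.sum_const, card_filter_fix, card_ptStab, nsmul_eq_mul]
  have hS : (Nat.card (MulAction.stabilizer (SpecialLinearGroup (Fin (m + 3)) F) (e0 F m)) : ℂ)
      ≠ 0 := by
    have : Nat.card (MulAction.stabilizer (SpecialLinearGroup (Fin (m + 3)) F) (e0 F m)) ≠ 0 :=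
      Nat.card_pos.ne'
    exact_mod_cast this
  obtain ⟨hq, hq1⟩ := card_F_cast_ne (F := F)
  have hB : Nat.card {v : Fin (m + 3) → F // v ≠ 0 ∧ (g : Matrix (Fin (m + 3)) (Fin (m + 3)) F).mulVec v = v}
      = (Finset.univ.filter (fun v : Fin (m + 3) → F => v ≠ 0 ∧ g • v = v)).card := by
    rw [Nat.card_eq_fintype_card, Fintype.card_subtype]
    rfl
  rw [hB]
  push_cast
  rw [Nat.cast_sub Fintype.card_pos, Nat.cast_one]
  field_simp

end sln

end Cfsg.Agent.Helper38
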