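import Mathlib
import Cfsg.Agent.Helper38.SLnCount
import Cfsg.Agent.S0157
import Cfsg.Agent.Helper15.ConjChar

/-!
# `SLₙ(F)`, `n ≥ 3`: the irreducible constituents of the permutation character on vectors
-/

set_option autoImplicit false

namespace Cfsg.Agent.Helper38

open Matrix Cfsg
open scoped ComplexConjugate LinearAlgebra.Projectivization

section sln
variable {F : Type*} [Field F] [Fintype F] [DecidableEq F] {m : ℕ}

/-- the induced characters -/
noncomputable def PsiN (m : ℕ) (α : MulChar F ℂ) : SpecialLinearGroup (Fin (m + 3)) F → ℂ :=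
  indFun (ptStab F m) (fun b => thetaP α b)

theorem isCharacter_PsiN (α : MulChar F ℂ) :
    IsCharacter (SpecialLinearGroup (Fin (m + 3)) F) (PsiN m α) :=
  Helper15.isCharacter_indFun _ (isCharacter_of_monoidHomC _)

omit [Fintype F] [DecidableEq F] in
theorem sep_thetaP (α β : MulChar F ℂ) (h : ¬(α = 1 ∧ β = 1))
    (x : SpecialLinearGroup (Fin (m + 3)) F) (hx : x ∉ ptStab F m) :
    ∃ b₀ : ptStab F m, ∃ hb : x⁻¹ * (b₀ : SpecialLinearGroup (Fin (m + 3)) F) * x ∈ ptStab F m,
      thetaP α b₀ ≠ thetaP β ⟨x⁻¹ * (b₀ : SpecialLinearGroup (Fin (m + 3)) F) * x, hb⟩ := by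
  by_cases hα : α = 1
  · have hβ : β ≠ 1 := fun hβ => h ⟨hα, hβ⟩
    obtain ⟨c, hc⟩ := MulChar.ne_one_iff.1 hβ
    obtain ⟨b₀, h1, h2⟩ := exists_sep (1 : F) (c : F) one_ne_zero c.ne_zero hx
    have hb₀ : b₀ ∈ ptStab F m := (mem_ptStab_iff _).2 ⟨1, h1⟩
    have hb : x⁻¹ * b₀ * x ∈ ptStab F m := (mem_ptStab_iff _).2 ⟨c, h2⟩
    refine ⟨⟨b₀, hb₀⟩, hb, ?_⟩
    rw [thetaP_of_smul α h1 hb₀, thetaP_of_smul β h2 hb, map_one]
    exact fun h' => hc h'.symm
  · obtain ⟨c, hc⟩ := MulChar.ne_one_iff.1 hα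
    obtain ⟨b₀, h1, h2⟩ := exists_sep (c : F) (1 : F) c.ne_zero one_ne_zero hx
    have hb₀ : b₀ ∈ ptStab F m := (mem_ptStab_iff _).2 ⟨c, h1⟩
    have hb : x⁻¹ * b₀ * x ∈ ptStab F m := (mem_ptStab_iff _).2 ⟨1, h2⟩
    refine ⟨⟨b₀, hb₀⟩, hb, ?_⟩
    rw [thetaP_of_smul α h1 hb₀, thetaP_of_smul β h2 hb, map_one]
    exact hc

theorem sum_thetaP_mul_conj (α β : MulChar F ℂ) [Fintype (ptStab F m)] :
    ∑ b : ptStab F m, thetaP α b * conj (thetaP β b)
      = if α = β then (Nat.card (ptStab F m) : ℂ) else 0 := by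
  split_ifs with h
  · subst h
    rw [Finset.sum_congr rfl (fun b _ => monoidHomC_mul_conj (thetaP α) b), Finset.sum_const,
      Finset.card_univ, nsmul_eq_mul, mul_one, Nat.card_eq_fintype_card]
  · have hex : ∃ c : Fˣ, α c ≠ β c := by
      by_contra hcon
      push Not at hcon
      exact h (MulChar.ext hcon)
    obtain ⟨c, hc⟩ := hex
    set b₁ : ptStab F m := ⟨dg3 (c : F) 1 c.ne_zero one_ne_zero, dg3_mem _ _ _ _⟩ with hb₁
    have hθα : thetaP α b₁ = α c := thetaP_of_smul α (dg3_smul_e0 _ _ _ _) _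
    have hθβ : thetaP β b₁ = β c := thetaP_of_smul β (dg3_smul_e0 _ _ _ _) _
    set f : ptStab F m → ℂ := fun b => thetaP α b * conj (thetaP β b) with hf
    have hshift : ∀ b, f (b₁ * b) = (α c * conj (β c)) * f b := by
      intro b
      simp only [hf, map_mul, hθα, hθβ]
      ring
    have hsum : ∑ b, f b = (α c * conj (β c)) * ∑ b, f b := by
      rw [Finset.mul_sum, ← Fintype.sum_equiv (Equiv.mulLeft b₁) (fun b => f (b₁ * b)) f
        (fun b => rfl)]
      exact Finset.sum_congr rfl (fun b _ => hshift b)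
    have hl : α c * conj (β c) ≠ 1 := by
      intro h1
      apply hc
      have hn : β c * conj (β c) = 1 := by rw [← hθβ]; exact monoidHomC_mul_conj (thetaP β) b₁
      have := congrArg (fun z => z * β c) h1
      simp only [one_mul] at this
      rw [mul_assoc, mul_comm (conj _) _, hn, mul_one] at this
      exact this
    have : (1 - α c * conj (β c)) * ∑ b, f b = 0 := by
      rw [sub_mul, one_mul, ← hsum, sub_self]
    rcases mul_eq_zero.1 this with h' | h'
    · exact absurd (sub_eq_zero.1 h').symm hl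
    · exact h'

theorem classInner_PsiN (α β : MulChar F ℂ) (h : ¬(α = 1 ∧ β = 1)) :
    classInner (PsiN m α) (PsiN m β) = if α = β then 1 else 0 := by
  classical
  let _ : Fintype (ptStab F m) := Fintype.ofFinite _
  unfold PsiN
  rw [classInner_indFun_of_sep _ _ _ (sep_thetaP α β h), sum_thetaP_mul_conj]
  have hcard : (Nat.card (ptStab F m) : ℂ) ≠ 0 := by
    have : Nat.card (ptStab F m) ≠ 0 := Nat.card_pos.ne'
    exact_mod_cast this
  split_ifs with h'
  · field_simp
  · simp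

theorem isIrr_PsiN (α : MulChar F ℂ) (hα : α ≠ 1) :
    IsIrrCharacter (SpecialLinearGroup (Fin (m + 3)) F) (PsiN m α) := by
  apply Helper15.isIrrCharacter_of_inner_self_eq_one (isCharacter_PsiN α)
  rw [classInner_PsiN α α (fun h => hα h.1), if_pos rfl]

theorem PsiN_apply_one (α : MulChar F ℂ) :
    PsiN m α 1 = ((ptStab F m).index : ℂ) := by
  unfold PsiN
  rw [Helper15.indFun_apply_one, map_one, mul_one]

/-- the number of fixed points on projective space, minus one -/
noncomputable def chi0N (F : Type*) [Field F] [Fintype F] [DecidableEq F] (m : ℕ) :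
    SpecialLinearGroup (Fin (m + 3)) F → ℂ :=
  fun g => (Nat.card (MulAction.fixedBy (ℙ F (Fin (m + 3) → F)) g) : ℂ) - 1

theorem isIrr_chi0N : IsIrrCharacter (SpecialLinearGroup (Fin (m + 3)) F) (chi0N F m) := by
  have htr : MulAction.IsPretransitive (SpecialLinearGroup (Fin (m + 3)) F)
      (ℙ F (Fin (m + 3) → F)) := MulAction.isPretransitive_of_is_two_pretransitive
  have hcard : 2 ≤ Nat.card (ℙ F (Fin (m + 3) → F)) := by
    have : Nontrivial (ℙ F (Fin (m + 3) → F)) := ⟨⟨pt0 F m, pt1 F m, pt0_ne_pt1⟩⟩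
    exact Finite.one_lt_card
  exact (Cfsg.Agent.S0157.result (ℙ F (Fin (m + 3) → F)) hcard).2 inferInstance

theorem PsiN_one_eq (g : SpecialLinearGroup (Fin (m + 3)) F) :
    PsiN m (1 : MulChar F ℂ) g = chi0N F m g + 1 := by
  have htr : MulAction.IsPretransitive (SpecialLinearGroup (Fin (m + 3)) F)
      (ℙ F (Fin (m + 3) → F)) := MulAction.isPretransitive_of_is_two_pretransitive
  unfold PsiN chi0N
  have h1 : (fun b : ptStab F m => thetaP (1 : MulChar F ℂ) b) = fun _ => 1 := by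
    funext b; exact thetaP_one b
  rw [h1, Helper15.indFun_one_eq, sub_add_cancel]
  congr 1
  unfold ptStab
  rw [← Helper15.card_fixed_in_orbit]
  apply Nat.card_congr
  apply Equiv.subtypeEquivRight
  intro x
  rw [MulAction.mem_fixedBy, MulAction.orbit_eq_univ]
  simp

end sln

end Cfsg.Agent.Helper38
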