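/-
helper38 (for helper85, WANTED #4425 (SAT), S5287): the fusion system over `S` obtained by adding all injective maps between
subgroups of the `S`-conjugates of `E` to the inner fusion system is saturated, under the hypotheses of the WANTED post.
-/
import Cfsg.Agent.Helper85.SS.AddAut
import Cfsg.Agent.S5110
import Cfsg.Agent.Helper87.FusionAlperin
import Cfsg.Agent.Helper88.FusionCentric

set_option autoImplicit false
set_option linter.unusedSectionVars false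
set_option linter.unusedVariables false

namespace Cfsg.Agent.Helper38.SSSat

open Cfsg Cfsg.FusionSystem Cfsg.Agent.Helper87 Cfsg.Agent.Helper85.AddAut

variable {Ω : Type*} [Group Ω]

/-! ### conjugate subgroups -/

/-- `g P g⁻¹` -/
def cj (g : Ω) (P : Subgroup Ω) : Subgroup Ω := P.map (MulAut.conj g).toMonoidHom

theorem mem_cj (g : Ω) (P : Subgroup Ω) (y : Ω) : y ∈ cj g P ↔ g⁻¹ * y * g ∈ P := by
  constructor
  · rintro ⟨x, hx, rfl⟩
    have : g⁻¹ * ((MulAut.conj g).toMonoidHom x) * g = x := by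
      show g⁻¹ * (g * x * g⁻¹) * g = x
      group
    rw [this]
    exact hx
  · intro h
    refine ⟨g⁻¹ * y * g, h, ?_⟩
    show g * (g⁻¹ * y * g) * g⁻¹ = y
    group

theorem conj_mem_cj (g : Ω) (P : Subgroup Ω) {x : Ω} (hx : x ∈ P) : g * x * g⁻¹ ∈ cj g P := by
  rw [mem_cj]
  have : g⁻¹ * (g * x * g⁻¹) * g = x := by group
  rw [this]
  exact hx

/-- the isomorphism `P ≃ g P g⁻¹` -/
noncomputable def cjEquiv (g : Ω) (P : Subgroup Ω) : P ≃* cj g P :=
  P.equivMapOfInjective _ (MulAut.conj g).injective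

theorem cjEquiv_coe (g : Ω) (P : Subgroup Ω) (x : P) : ((cjEquiv g P x : cj g P) : Ω) = g * x * g⁻¹ := rfl

theorem cjEquiv_symm_coe (g : Ω) (P : Subgroup Ω) (y : cj g P) :
    (((cjEquiv g P).symm y : P) : Ω) = g⁻¹ * y * g := by
  obtain ⟨x, rfl⟩ := (cjEquiv g P).surjective y
  rw [MulEquiv.symm_apply_apply, cjEquiv_coe]
  group

theorem card_cj (g : Ω) (P : Subgroup Ω) : Nat.card (cj g P) = Nat.card P :=
  (Nat.card_congr (cjEquiv g P).toEquiv).symm

theorem cj_le {S : Subgroup Ω} {g : Ω} (hg : g ∈ S) {P : Subgroup Ω} (hP : P ≤ S) : cj g P ≤ S := by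
  intro y hy
  rw [mem_cj] at hy
  have h1 : g * (g⁻¹ * y * g) * g⁻¹ ∈ S := S.mul_mem (S.mul_mem hg (hP hy)) (S.inv_mem hg)
  have e : g * (g⁻¹ * y * g) * g⁻¹ = y := by group
  rwa [e] at h1

theorem cj_one (P : Subgroup Ω) : cj 1 P = P := by
  ext y
  rw [mem_cj]
  simp

theorem le_cj_iff (g : Ω) (P E : Subgroup Ω) : P ≤ cj g E ↔ ∀ x : P, g⁻¹ * (x : Ω) * g ∈ E := by
  constructor
  · intro h x
    exact (mem_cj g E x).mp (h x.2)
  · intro h x hx
    exact (mem_cj g E x).mpr (h ⟨x, hx⟩)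

/-! ### the maps of `addAutSystem` -/

section maps

variable {S E : Subgroup Ω} (hES : E ≤ S)

theorem isConjBy_of_not_le {P : Subgroup Ω} {φ : P →* Ω} (hφ : φ ∈ (addAutSystem S E hES).Hom P)
    (hP : ∀ g ∈ S, ¬ P ≤ cj g E) : IsConjBy S φ := by
  rcases hφ.2 with h | ⟨-, ⟨g, hg, hsub⟩, -⟩
  · exact h
  · exact absurd ((le_cj_iff g P E).mpr hsub) (hP g hg)

theorem isConjBy_of_range_not_le {P : Subgroup Ω} {φ : P →* Ω} (hφ : φ ∈ (addAutSystem S E hES).Hom P)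
    (hP : ∀ g ∈ S, ¬ φ.range ≤ cj g E) : IsConjBy S φ := by
  rcases hφ.2 with h | ⟨-, -, ⟨g, hg, hsub⟩⟩
  · exact h
  · refine absurd ?_ (hP g hg)
    rintro _ ⟨x, rfl⟩
    exact (mem_cj g E _).mpr (hsub x)

theorem card_range_eq {P : Subgroup Ω} {φ : P →* Ω} (hφ : Function.Injective φ) :
    Nat.card φ.range = Nat.card P :=
  (Nat.card_congr (MonoidHom.ofInjective hφ).toEquiv).symm

theorem range_eq_cj [Finite S] {g : Ω} (hg : g ∈ S) {φ : cj g E →* Ω}
    (hφ : φ ∈ (addAutSystem S E hES).Hom (cj g E)) : ∃ h ∈ S, φ.range = cj h E := by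
  rcases hφ.2 with ⟨k, hk, hφk⟩ | ⟨hinj, -, ⟨h, hh, hsub⟩⟩
  · refine ⟨k * g, S.mul_mem hk hg, ?_⟩
    ext y
    rw [mem_cj]
    constructor
    · rintro ⟨x, rfl⟩
      rw [hφk]
      have h1 := (mem_cj g E x).mp x.2
      have e : (k * g)⁻¹ * (k * (x : Ω) * k⁻¹) * (k * g) = g⁻¹ * (x : Ω) * g := by group
      rw [e]
      exact h1
    · intro hy
      have hx : k⁻¹ * y * k ∈ cj g E := by
        rw [mem_cj]
        have e : g⁻¹ * (k⁻¹ * y * k) * g = (k * g)⁻¹ * y * (k * g) := by group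
        rw [e]
        exact hy
      refine ⟨⟨k⁻¹ * y * k, hx⟩, ?_⟩
      rw [hφk]
      show k * (k⁻¹ * y * k) * k⁻¹ = y
      group
  · refine ⟨h, hh, ?_⟩
    have hle : φ.range ≤ cj h E := by
      rintro _ ⟨x, rfl⟩
      exact (mem_cj h E _).mpr (hsub x)
    have : Finite (cj h E) := Finite.of_injective (Subgroup.inclusion (cj_le hh hES))
      (Subgroup.inclusion_injective _)
    apply Subgroup.eq_of_le_of_card_ge hle
    rw [card_range_eq hinj, card_cj, card_cj]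

theorem source_eq_cj [Finite S] {P : Subgroup Ω} {φ : P →* Ω}
    (hφ : φ ∈ (addAutSystem S E hES).Hom P) {h : Ω} (hh : h ∈ S) (hr : φ.range = cj h E) :
    ∃ g ∈ S, P = cj g E := by
  rcases hφ.2 with ⟨k, hk, hφk⟩ | ⟨hinj, ⟨a, ha, hsub⟩, -⟩
  · refine ⟨k⁻¹ * h, S.mul_mem (S.inv_mem hk) hh, ?_⟩
    ext x
    rw [mem_cj]
    constructor
    · intro hx
      have h1 : φ ⟨x, hx⟩ ∈ cj h E := by
        rw [← hr]
        exact ⟨_, rfl⟩
      rw [hφk, mem_cj] at h1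
      have e : (k⁻¹ * h)⁻¹ * x * (k⁻¹ * h) = h⁻¹ * (k * x * k⁻¹) * h := by group
      rw [e]
      exact h1
    · intro hx
      have h1 : k * x * k⁻¹ ∈ cj h E := by
        rw [mem_cj]
        have e : h⁻¹ * (k * x * k⁻¹) * h = (k⁻¹ * h)⁻¹ * x * (k⁻¹ * h) := by group
        rw [e]
        exact hx
      rw [← hr] at h1
      obtain ⟨x', hx'⟩ := h1
      rw [hφk] at hx'
      have : (x' : Ω) = x := mul_left_cancel (mul_right_cancel hx')
      rw [← this]
      exact x'.2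
  · refine ⟨a, ha, ?_⟩
    have hle : P ≤ cj a E := (le_cj_iff a P E).mpr hsub
    have : Finite (cj a E) := Finite.of_injective (Subgroup.inclusion (cj_le ha hES))
      (Subgroup.inclusion_injective _)
    apply Subgroup.eq_of_le_of_card_ge hle
    rw [card_cj, ← card_range_eq hinj, hr, card_cj]

end maps

/-! ### centric subgroups -/

section centric

variable {S E : Subgroup Ω} (hES : E ≤ S)

theorem centralizerIn_cj_le {h : Ω} (hh : h ∈ S) (hcen : centralizerIn S E ≤ E) :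
    centralizerIn S (cj h E) ≤ cj h E := by
  intro y hy
  rw [mem_cj]
  apply hcen
  refine ⟨S.mul_mem (S.mul_mem (S.inv_mem hh) hy.1) hh, ?_⟩
  show h⁻¹ * y * h ∈ Subgroup.centralizer (E : Set Ω)
  rw [Subgroup.mem_centralizer_iff]
  intro w hw
  have h1 := (Subgroup.mem_centralizer_iff.mp hy.2) (h * w * h⁻¹) (conj_mem_cj h E hw)
  have e1 : w * (h⁻¹ * y * h) = h⁻¹ * (h * w * h⁻¹ * y) * h := by group
  have e2 : h⁻¹ * y * h * w = h⁻¹ * (y * (h * w * h⁻¹)) * h := by group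
  rw [e1, e2, h1]

theorem isCentric_cj [Finite S] (hcen : centralizerIn S E ≤ E) {g : Ω} (hg : g ∈ S) :
    (addAutSystem S E hES).IsCentric (cj g E) := by
  refine ⟨cj_le hg hES, fun Q hQ => ?_⟩
  obtain ⟨φ, hφ, rfl⟩ := hQ
  obtain ⟨h, hh, hr⟩ := range_eq_cj hES hg hφ
  rw [hr]
  exact centralizerIn_cj_le hh hcen

theorem isCentric_top [Finite S] : (addAutSystem S E hES).IsCentric S := by
  refine ⟨le_rfl, fun Q hQ => ?_⟩
  obtain ⟨φ, hφ, rfl⟩ := hQ
  have hle : φ.range ≤ S := by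
    rintro _ ⟨x, rfl⟩
    exact ((addAutSystem S E hES).le_of_mem hφ).2 x
  have heq : φ.range = S := by
    apply Subgroup.eq_of_le_of_card_ge hle
    rw [card_range_eq ((addAutSystem S E hES).injective_of_mem hφ)]
  rw [heq]
  exact inf_le_left

theorem not_isCentric_of_lt {g : Ω} (hg : g ∈ S) {P : Subgroup Ω} (hP : P ≤ cj g E) (hne : P ≠ cj g E)
    (hmin : ∀ P : Subgroup Ω, P < E → ∃ φ : P →* Ω, Function.Injective φ ∧ (∀ x : P, φ x ∈ E) ∧
      ¬ centralizerIn S φ.range ≤ φ.range) :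
    ¬ (addAutSystem S E hES).IsCentric P := by
  intro hc
  -- `P₀ = g⁻¹ P g < E`
  have hP₀E : cj g⁻¹ P ≤ E := by
    intro y hy
    rw [mem_cj, inv_inv] at hy
    have h1 := (mem_cj g E _).mp (hP hy)
    have e : g⁻¹ * (g * y * g⁻¹) * g = y := by group
    rwa [e] at h1
  have hP₀ne : cj g⁻¹ P ≠ E := by
    intro h
    apply hne
    apply le_antisymm hP
    intro x hx
    have h1 : g⁻¹ * x * g ∈ cj g⁻¹ P := by
      rw [h]
      exact (mem_cj g E x).mp hx
    rw [mem_cj, inv_inv] at h1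
    have e : g * (g⁻¹ * x * g) * g⁻¹ = x := by group
    rwa [e] at h1
  obtain ⟨φ₀, hinj, hval, hnot⟩ := hmin (cj g⁻¹ P) (lt_of_le_of_ne hP₀E hP₀ne)
  set φ : P →* Ω := φ₀.comp (cjEquiv g⁻¹ P).toMonoidHom with hφdef
  have hφmem : φ ∈ (addAutSystem S E hES).Hom P := by
    refine ⟨hP.trans (cj_le hg hES), Or.inr ⟨?_, ⟨g, hg, (le_cj_iff g P E).mp hP⟩, 1, S.one_mem, fun x => ?_⟩⟩
    · exact hinj.comp (cjEquiv g⁻¹ P).injective
    · rw [inv_one, one_mul, mul_one]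
      exact hval _
  have hrange : φ.range = φ₀.range := by
    ext y
    constructor
    · rintro ⟨x, rfl⟩
      exact ⟨_, rfl⟩
    · rintro ⟨v, rfl⟩
      exact ⟨(cjEquiv g⁻¹ P).symm v, by rw [hφdef]; simp⟩
  have := hc.2 φ.range ⟨φ, hφmem, rfl⟩
  rw [hrange] at this
  exact hnot this

end centric

/-! ### fully automized and receptive subgroups -/

section sat

variable {S E : Subgroup Ω} (hES : E ≤ S)

theorem isFullyAutomized_of_not_le [Finite S] {p : ℕ} [Fact p.Prime] (hS : IsPGroup p S) {P : Subgroup Ω}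
    (hPS : P ≤ S) (hP : ∀ g ∈ S, ¬ P ≤ cj g E) : (addAutSystem S E hES).IsFullyAutomized p P := by
  refine ⟨hPS, ?_⟩
  have heq : (addAutSystem S E hES).autGroup P = autInducedBy S P := by
    apply le_antisymm
    · intro α hα
      rw [mem_autGroup_iff _ hPS] at hα
      obtain ⟨g, hg, hgx⟩ := isConjBy_of_not_le hES hα hP
      rw [mem_autInducedBy_iff]
      exact ⟨g, hg, fun x => hgx x⟩
    · exact Cfsg.Agent.Helper84.autInducedBy_le_autGroup _ hPS
  have hpg : IsPGroup p ((addAutSystem S E hES).autGroup P) := by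
    rw [heq]
    exact isPGroup_autInducedBy hS P
  have htop : (autInducedBy S P).subgroupOf ((addAutSystem S E hES).autGroup P) = ⊤ := by
    rw [← heq]
    exact Subgroup.subgroupOf_self _
  refine ⟨⟨⊤, ?_, ?_⟩, htop.symm⟩
  · intro x
    obtain ⟨k, hk⟩ := hpg x.1
    exact ⟨k, Subtype.ext hk⟩
  · intro Q _ hle
    exact top_le_iff.mp hle

theorem isReceptive_of_not_le {P : Subgroup Ω} (hPS : P ≤ S) (hP : ∀ g ∈ S, ¬ P ≤ cj g E) :
    (addAutSystem S E hES).IsReceptive P := by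
  refine ⟨hPS, fun P' φ hφ hr => ?_⟩
  have h1 : IsConjBy S φ := isConjBy_of_range_not_le hES hφ (by rw [hr]; exact hP)
  obtain ⟨g, hg, hgx⟩ := h1
  have hle : extender S P' φ ≤ S := fun y hy => ((mem_extender_iff S P' φ y).mp hy).1
  refine ⟨conjHom (extender S P' φ) g, (addAutSystem S E hES).conj_mem hle hg, fun x hx hN => ?_⟩
  rw [hgx]
  rfl

theorem isFullyAutomized_E {p : ℕ} [Fact p.Prime]
    (hsyl : ∃ R : Sylow p (MulAut E), (R : Subgroup (MulAut E)) = autInducedBy S E) :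
    (addAutSystem S E hES).IsFullyAutomized p E := by
  obtain ⟨R, hR⟩ := hsyl
  have hle : (R : Subgroup (MulAut E)) ≤ (addAutSystem S E hES).autGroup E := by
    rw [hR]
    exact Cfsg.Agent.Helper84.autInducedBy_le_autGroup _ hES
  refine ⟨hES, R.subtype hle, ?_⟩
  rw [Sylow.coe_subtype, hR]

theorem isReceptive_E [Finite S]
    (hTI : ∀ γ : MulAut E, (∃ x ∈ S, ∃ hx : x ∈ Subgroup.normalizer (E : Set Ω), x ∉ E ∧
      γ * conjAut E x hx * γ⁻¹ ∈ autInducedBy S E) → γ ∈ autInducedBy S E) :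
    (addAutSystem S E hES).IsReceptive E := by
  refine ⟨hES, fun P' φ hφ hr => ?_⟩
  obtain ⟨g, hg, hP'⟩ := source_eq_cj hES hφ S.one_mem (by rw [hr, cj_one])
  subst hP'
  set φ' : MulAut E := (cjEquiv g E).trans (isoOfRange (addAutSystem S E hES) hφ hr) with hφ'
  have hφ'coe : ∀ v : E, ((φ' v : E) : Ω) = φ (cjEquiv g E v) := fun v => rfl
  have hext_le : extender S (cj g E) φ ≤ S := fun y hy => ((mem_extender_iff S (cj g E) φ y).mp hy).1
  by_cases hall : extender S (cj g E) φ ≤ cj g E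
  · exact ⟨φ.comp (Subgroup.inclusion hall), restrict_mem _ hφ hall, fun x hP hN => rfl⟩
  · obtain ⟨y, hy, hynot⟩ := SetLike.not_le_iff_exists.mp hall
    obtain ⟨hyS, hyN, h, hh, hyh⟩ := (mem_extender_iff S (cj g E) φ y).mp hy
    have hxS : g⁻¹ * y * g ∈ S := S.mul_mem (S.mul_mem (S.inv_mem hg) hyS) hg
    have hxN : g⁻¹ * y * g ∈ Subgroup.normalizer (E : Set Ω) := by
      rw [Subgroup.mem_normalizer_iff]
      intro w
      have h1 := (Subgroup.mem_normalizer_iff.mp hyN) (g * w * g⁻¹)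
      rw [mem_cj, mem_cj] at h1
      have e1 : g⁻¹ * (g * w * g⁻¹) * g = w := by group
      have e2 : g⁻¹ * (y * (g * w * g⁻¹) * y⁻¹) * g = g⁻¹ * y * g * w * (g⁻¹ * y * g)⁻¹ := by group
      rw [e1, e2] at h1
      exact h1
    have hxE : g⁻¹ * y * g ∉ E := fun hx => hynot ((mem_cj g E y).mpr hx)
    have hconj : φ' * conjAut E (g⁻¹ * y * g) hxN * φ'⁻¹ ∈ autInducedBy S E := by
      rw [mem_autInducedBy_iff]
      refine ⟨h, hh, fun w => ?_⟩
      have hw : φ' (φ'⁻¹ w) = w := by rw [MulAut.apply_inv_self]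
      show ((φ' (conjAut E (g⁻¹ * y * g) hxN (φ'⁻¹ w)) : E) : Ω) = h * w * h⁻¹
      rw [hφ'coe]
      have hmem : y * ((cjEquiv g E (φ'⁻¹ w) : cj g E) : Ω) * y⁻¹ ∈ cj g E :=
        (Subgroup.mem_normalizer_iff.mp hyN _).mp (cjEquiv g E (φ'⁻¹ w)).2
      have e : cjEquiv g E (conjAut E (g⁻¹ * y * g) hxN (φ'⁻¹ w))
          = ⟨y * ((cjEquiv g E (φ'⁻¹ w) : cj g E) : Ω) * y⁻¹, hmem⟩ := by
        apply Subtype.ext
        rw [cjEquiv_coe, conjAut_apply]
        show g * (g⁻¹ * y * g * ((φ'⁻¹ w : E) : Ω) * (g⁻¹ * y * g)⁻¹) * g⁻¹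
          = y * (g * ((φ'⁻¹ w : E) : Ω) * g⁻¹) * y⁻¹
        group
      rw [e, hyh _ hmem, ← hφ'coe, hw]
    have hφ'S := hTI φ' ⟨g⁻¹ * y * g, hxS, hxN, hxE, hconj⟩
    obtain ⟨w, hw, hwx⟩ := (mem_autInducedBy_iff S E φ').mp hφ'S
    refine ⟨conjHom (extender S (cj g E) φ) (w * g⁻¹),
      (addAutSystem S E hES).conj_mem hext_le (S.mul_mem hw (S.inv_mem hg)), fun z hP hN => ?_⟩
    have hz : (⟨z, hP⟩ : cj g E) = cjEquiv g E ((cjEquiv g E).symm ⟨z, hP⟩) :=
      (MulEquiv.apply_symm_apply _ _).symm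
    rw [hz, ← hφ'coe, hwx, cjEquiv_symm_coe]
    show (w * g⁻¹) * z * (w * g⁻¹)⁻¹ = w * (g⁻¹ * z * g) * w⁻¹
    group

theorem le_of_centric [Finite S] (hcen : centralizerIn S E ≤ E)
    (hhom : ∀ (P : Subgroup Ω) (hPE : P ≤ E) (φ : P →* Ω), Function.Injective φ → (∀ x : P, φ x ∈ E) →
      ∃ γ : MulAut E, ∀ x : P, ((γ ⟨x, hPE x.2⟩ : E) : Ω) = φ x)
    (E' : FusionSystem S)
    (h : ∀ P : Subgroup Ω, (addAutSystem S E hES).IsCentric P → (addAutSystem S E hES).Hom P ⊆ E'.Hom P) :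
    addAutSystem S E hES ≤ E' := by
  intro P φ hφ
  have hPS : P ≤ S := hφ.1
  rcases hφ.2 with ⟨g, hg, hφg⟩ | ⟨hinj, ⟨a, ha, hsub⟩, ⟨b, hb, hsub'⟩⟩
  · have h1 : conjHom S g ∈ E'.Hom S :=
      h S (isCentric_top hES) ((addAutSystem S E hES).conj_mem le_rfl hg)
    exact mem_of_eq E' (restrict_mem E' h1 hPS) (fun x => hφg x)
  · have hPa : P ≤ cj a E := (le_cj_iff a P E).mpr hsub
    have hP₀E : cj a⁻¹ P ≤ E := by
      intro y hy
      rw [mem_cj, inv_inv] at hy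
      have h1 := hsub ⟨_, hy⟩
      have e : a⁻¹ * (a * y * a⁻¹) * a = y := by group
      rwa [e] at h1
    let φ₀ : cj a⁻¹ P →* Ω :=
      (MulAut.conj b⁻¹).toMonoidHom.comp (φ.comp (cjEquiv a⁻¹ P).symm.toMonoidHom)
    have hφ₀ : ∀ v, φ₀ v = b⁻¹ * φ ((cjEquiv a⁻¹ P).symm v) * b := by
      intro v
      show b⁻¹ * φ ((cjEquiv a⁻¹ P).symm v) * b⁻¹⁻¹ = _
      rw [inv_inv]
    have hinj₀ : Function.Injective φ₀ :=
      (MulAut.conj b⁻¹).injective.comp (hinj.comp (cjEquiv a⁻¹ P).symm.injective)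
    have hval₀ : ∀ v, φ₀ v ∈ E := fun v => by rw [hφ₀]; exact hsub' _
    obtain ⟨γ, hγ⟩ := hhom (cj a⁻¹ P) hP₀E φ₀ hinj₀ hval₀
    let Φ : cj a E →* Ω :=
      (MulAut.conj b).toMonoidHom.comp (E.subtype.comp (γ.toMonoidHom.comp (cjEquiv a E).symm.toMonoidHom))
    have hΦ : ∀ y, Φ y = b * ((γ ((cjEquiv a E).symm y) : E) : Ω) * b⁻¹ := fun y => rfl
    have hΦmem : Φ ∈ (addAutSystem S E hES).Hom (cj a E) := by
      refine ⟨cj_le ha hES, Or.inr ⟨?_, ⟨a, ha, (le_cj_iff a _ E).mp le_rfl⟩, b, hb, fun y => ?_⟩⟩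
      · exact (MulAut.conj b).injective.comp
          (Subtype.val_injective.comp (γ.injective.comp (cjEquiv a E).symm.injective))
      · rw [hΦ]
        have e : b⁻¹ * (b * ((γ ((cjEquiv a E).symm y) : E) : Ω) * b⁻¹) * b
            = ((γ ((cjEquiv a E).symm y) : E) : Ω) := by group
        rw [e]
        exact (γ _).2
    have h1 : Φ ∈ E'.Hom (cj a E) := h _ (isCentric_cj hES hcen ha) hΦmem
    refine mem_of_eq E' (restrict_mem E' h1 hPa) (fun x => ?_)
    show φ x = Φ (Subgroup.inclusion hPa x)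
    rw [hΦ]
    have e : (cjEquiv a E).symm (Subgroup.inclusion hPa x)
        = ⟨((cjEquiv a⁻¹ P x : cj a⁻¹ P) : Ω), hP₀E (cjEquiv a⁻¹ P x).2⟩ := by
      apply Subtype.ext
      rw [cjEquiv_symm_coe]
      show a⁻¹ * (x : Ω) * a = a⁻¹ * (x : Ω) * a⁻¹⁻¹
      rw [inv_inv]
    rw [e, hγ (cjEquiv a⁻¹ P x), hφ₀, MulEquiv.symm_apply_apply]
    group

end sat

/-! ### the main statement -/

theorem addAutSystem_isSaturated {S E : Subgroup Ω} [Finite S] {p : ℕ} [Fact p.Prime] (hS : IsPGroup p S) (hES : E ≤ S)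
    (hhom : ∀ (P : Subgroup Ω) (hPE : P ≤ E) (φ : P →* Ω), Function.Injective φ → (∀ x : P, φ x ∈ E) →
      ∃ γ : MulAut E, ∀ x : P, ((γ ⟨x, hPE x.2⟩ : E) : Ω) = φ x)
    (hcen : centralizerIn S E ≤ E)
    (hsyl : ∃ R : Sylow p (MulAut E), (R : Subgroup (MulAut E)) = autInducedBy S E)
    (hTI : ∀ γ : MulAut E, (∃ x ∈ S, ∃ hx : x ∈ Subgroup.normalizer (E : Set Ω), x ∉ E ∧
      γ * conjAut E x hx * γ⁻¹ ∈ autInducedBy S E) → γ ∈ autInducedBy S E)
    (hmin : ∀ P : Subgroup Ω, P < E → ∃ φ : P →* Ω, Function.Injective φ ∧ (∀ x : P, φ x ∈ E) ∧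
      ¬ centralizerIn S φ.range ≤ φ.range) :
    (addAutSystem S E hES).IsSaturated p := by
  apply Cfsg.Agent.S5110.result p hS (addAutSystem S E hES) {P | (addAutSystem S E hES).IsCentric P}
  · intro P hP
    exact hP.1
  · intro P hP Q hQ
    exact Cfsg.Agent.Helper88.FS.isCentric_of_isConj _ hP hQ
  · intro P hP
    by_cases hex : ∃ g ∈ S, P ≤ cj g E
    · obtain ⟨g, hg, hPg⟩ := hex
      have hPeq : P = cj g E := by
        by_contra hne
        exact not_isCentric_of_lt hES hg hPg hne hmin hP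
      subst hPeq
      refine ⟨E, ?_, isFullyAutomized_E hES hsyl, isReceptive_E hES hTI⟩
      refine ⟨conjHom (cj g E) g⁻¹, (addAutSystem S E hES).conj_mem (cj_le hg hES) (S.inv_mem hg), ?_⟩
      ext y
      constructor
      · rintro ⟨x, rfl⟩
        show g⁻¹ * (x : Ω) * g⁻¹⁻¹ ∈ E
        rw [inv_inv]
        exact (mem_cj g E x).mp x.2
      · intro hy
        refine ⟨⟨g * y * g⁻¹, conj_mem_cj g E hy⟩, ?_⟩
        show g⁻¹ * (g * y * g⁻¹) * g⁻¹⁻¹ = y
        group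
    · push Not at hex
      exact ⟨P, isConj_refl _ hP.1, isFullyAutomized_of_not_le hES hS hP.1 hex,
        isReceptive_of_not_le hES hP.1 hex⟩
  · intro E' h
    exact le_of_centric hES hcen hhom E' (fun P hP => h P hP)
  · intro P hPc hPn
    exact absurd hPc hPn

end Cfsg.Agent.Helper38.SSSat
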