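import Mathlib
import Cfsg.Agent.Helper6.SUaut1

/-!
# (P1) for S3162 (helper6, WANTED #8751): normal 2-subgroups of `Aut S` act trivially on `S / Z(S)`.
-/

set_option autoImplicit false
set_option linter.unusedSectionVars false
set_option linter.unusedVariables false

namespace Cfsg.Agent.Helper38.SUaut

open Cfsg.Agent.Helper19.SU3 Cfsg.Agent.Helper6.SUaut

variable {F : Type*} [Field F] [Fintype F] {bar : F →+* F} [BarField F bar]

/-- `ν ^ (2 ^ k) = 1`, `ν ≠ 0`, `card F - 1` odd ⇒ `ν = 1`. -/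
theorem eq_one_of_two_pow (hodd : Odd (Fintype.card F - 1)) (ν : F) (hν : ν ≠ 0) (k : ℕ)
    (h : ν ^ (2 ^ k) = 1) : ν = 1 := by
  have h2 : ν ^ (Fintype.card F - 1) = 1 := FiniteField.pow_card_sub_one_eq_one ν hν
  have hcop : Nat.Coprime (2 ^ k) (Fintype.card F - 1) :=
    Nat.Coprime.pow_left k ((Nat.coprime_two_left).2 hodd)
  have hd := Nat.dvd_gcd (orderOf_dvd_of_pow_eq_one h) (orderOf_dvd_of_pow_eq_one h2)
  rw [Nat.Coprime] at hcop
  rw [hcop, Nat.dvd_one] at hd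
  exact orderOf_eq_one_iff.1 hd

section
variable (hω : ∃ ω : F, bar ω ≠ ω) (hTr : ∀ c : F, bar c = c → ∃ b, b + bar b = c)
include hω hTr

theorem ind_pow_of_mul (c : MulAut (Heis bar)) (ν : F) (hc : ∀ b, ind c b = ν * b) (n : ℕ) :
    ∀ b, ind (c ^ n) b = ν ^ n * b := by
  induction n with
  | zero => intro b; rw [pow_zero, pow_zero, one_mul, ind_one hω hTr]
  | succ n ih =>
    intro b
    rw [pow_succ, ind_mul hω hTr, hc, ih, pow_succ]
    ring

theorem ind_semi_refl (μ : Fˣ) (hr : ∀ x : F, (RingEquiv.refl F) (bar x) = bar ((RingEquiv.refl F) x))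
    (a : F) :
    ind (semi (bar := bar) μ (RingEquiv.refl F) hr) a = (μ : F) * a := by
  obtain ⟨x, hx⟩ := Heis.exists_a (bar := bar) hTr a
  rw [← hx, ← ind_apply hω hTr, semi_apply_a, RingEquiv.refl_apply]

end

/-- (P1) -/
theorem P1 (hω : ∃ ω : F, bar ω ≠ ω) (hTr : ∀ c : F, bar c = c → ∃ b, b + bar b = c)
    {q : ℕ} (hbar : ∀ x, bar x = x ^ q) (hodd : Odd (Fintype.card F - 1))
    (hcore : ∀ ψ : MulAut (Heis bar), ∃ (l : F) (σ : F ≃+* F), l ≠ 0 ∧ ∀ a, ind ψ a = l * σ a)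
    (N : Subgroup (MulAut (Heis bar))) (hN : N.Normal) (h2 : IsPGroup 2 N) :
    N ≤ (indHom hω hTr).ker := by
  intro ψ hψ
  obtain ⟨l, σ, hl, hψa⟩ := hcore ψ
  -- Step 1: `σ` fixes every unit
  have hσ : ∀ μ : Fˣ, σ (μ : F) = (μ : F) := by
    intro μ
    have hr : ∀ x : F, (RingEquiv.refl F) (bar x) = bar ((RingEquiv.refl F) x) := fun x => by
      rw [RingEquiv.refl_apply, RingEquiv.refl_apply]
    obtain ⟨s, hs⟩ : ∃ s : MulAut (Heis bar), s = semi (bar := bar) μ (RingEquiv.refl F) hr :=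
      ⟨_, rfl⟩
    have hsa : ∀ a, ind s a = (μ : F) * a := by
      intro a; rw [hs]; exact ind_semi_refl hω hTr μ hr a
    obtain ⟨c, hc⟩ : ∃ c : MulAut (Heis bar), c = ψ * s * ψ⁻¹ * s⁻¹ := ⟨_, rfl⟩
    have hcN : c ∈ N := by
      have h1 : s * ψ⁻¹ * s⁻¹ ∈ N := hN.conj_mem _ (N.inv_mem hψ) s
      have : c = ψ * (s * ψ⁻¹ * s⁻¹) := by rw [hc]; group
      rw [this]
      exact N.mul_mem hψ h1
    have hrel : c * (s * ψ) = ψ * s := by rw [hc]; group
    obtain ⟨ν, hν⟩ : ∃ ν : F, ν = σ (μ : F) / (μ : F) := ⟨_, rfl⟩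
    have hμ0 : (μ : F) ≠ 0 := μ.ne_zero
    have hσμ0 : σ (μ : F) ≠ 0 := by
      intro h
      exact hμ0 ((map_eq_zero_iff σ σ.injective).1 h)
    have hν0 : ν ≠ 0 := by rw [hν]; exact div_ne_zero hσμ0 hμ0
    have hcb : ∀ b, ind c b = ν * b := by
      intro b
      -- pick `a` with `μ * (l * σ a) = b`
      obtain ⟨a, ha⟩ : ∃ a : F, a = σ.symm (b / ((μ : F) * l)) := ⟨_, rfl⟩
      have hab : (μ : F) * (l * σ a) = b := by
        rw [ha, RingEquiv.apply_symm_apply]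
        field_simp
      have h1 : ind (c * (s * ψ)) a = ind (ψ * s) a := by rw [hrel]
      rw [ind_mul hω hTr, ind_mul hω hTr, ind_mul hω hTr, hψa, hsa, hsa, hψa, hab, map_mul] at h1
      rw [h1, hν, ← hab]
      field_simp
    obtain ⟨k, hk⟩ := h2 ⟨c, hcN⟩
    have hk' : c ^ (2 ^ k) = 1 := by
      have := congrArg Subtype.val hk
      simpa using this
    have hpow := ind_pow_of_mul hω hTr c ν hcb (2 ^ k) 1
    rw [hk', ind_one hω hTr, mul_one] at hpow
    have hν1 : ν = 1 := eq_one_of_two_pow hodd ν hν0 k hpow.symm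
    rw [hν, div_eq_one_iff_eq hμ0] at hν1
    exact hν1
  have hσid : ∀ a : F, σ a = a := by
    intro a
    by_cases ha : a = 0
    · rw [ha, map_zero]
    · exact hσ (Units.mk0 a ha)
  -- Step 2: `l = 1`
  have hψl : ∀ a, ind ψ a = l * a := fun a => by rw [hψa, hσid]
  obtain ⟨k, hk⟩ := h2 ⟨ψ, hψ⟩
  have hk' : ψ ^ (2 ^ k) = 1 := by
    have := congrArg Subtype.val hk
    simpa using this
  have hpow := ind_pow_of_mul hω hTr ψ l hψl (2 ^ k) 1
  rw [hk', ind_one hω hTr, mul_one] at hpow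
  have hl1 : l = 1 := eq_one_of_two_pow hodd l hl k hpow.symm
  rw [mem_ker_indHom hω hTr]
  intro x
  rw [ind_apply hω hTr, hψl, hl1, one_mul]

end Cfsg.Agent.Helper38.SUaut
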