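import Mathlib
import Cfsg.Agent.Helper6.SUaut1

/-!
# (R1) for S3162 (helper6, WANTED #8751): the pair `(A, B)` induced by an automorphism.
-/

set_option autoImplicit false
set_option linter.unusedSectionVars false

namespace Cfsg.Agent.Helper38.SUaut

open Cfsg.Agent.Helper19.SU3 Cfsg.Agent.Helper6.SUaut

variable {F : Type*} [Field F] [Fintype F] {bar : F →+* F} [BarField F bar]

theorem zc_add (c c' : F) (hc : bar c = c) (hc' : bar c' = c') (hcc : bar (c + c') = c + c') :
    Heis.zc (bar := bar) (c + c') hcc = Heis.zc c hc * Heis.zc c' hc' := by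
  ext
  · simp [Heis.zc]
  · simp [Heis.zc]

theorem sq_eq_zc (x : Heis bar) :
    x * x = Heis.zc (nm bar x.a) (Heis.norm_fixed x.a) := by
  ext
  · rw [Heis.sq_a]; rfl
  · rw [Heis.sq_b]; rfl

/-- (R1) squares: `x * x = (0, N(x.a))`, so `ψ` on the centre gives `B`. -/
theorem R1 (hω : ∃ ω : F, bar ω ≠ ω) (hTr : ∀ c : F, bar c = c → ∃ b, b + bar b = c)
    (ψ : MulAut (Heis bar)) :
    ∃ B : F → F, (∀ c c' : F, bar c = c → bar c' = c' → B (c + c') = B c + B c') ∧
      ∀ a : F, nm bar (ind ψ a) = B (nm bar a) := by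
  classical
  refine ⟨fun c => if h : bar c = c then (ψ (Heis.zc c h)).b else 0, ?_, ?_⟩
  · intro c c' hc hc'
    have hcc : bar (c + c') = c + c' := by rw [map_add, hc, hc']
    simp only [dif_pos hc, dif_pos hc', dif_pos hcc]
    rw [zc_add c c' hc hc' hcc, map_mul, Heis.mul_b]
    have h0 : (ψ (Heis.zc c hc)).a = 0 := by
      rw [ind_apply hω hTr]
      exact ind_zero hω hTr ψ
    rw [h0, zero_mul, add_zero]
  · intro a
    obtain ⟨x, hx⟩ := Heis.exists_a (bar := bar) hTr a
    have hfix : bar (nm bar a) = nm bar a := Heis.norm_fixed a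
    simp only [dif_pos hfix]
    have h1 : ψ (x * x) = ψ (Heis.zc (nm bar a) hfix) := by
      rw [sq_eq_zc x]
      congr 1
      subst hx
      rfl
    have h2 := congrArg Heis.b h1
    rw [map_mul, Heis.sq_b, ind_apply hω hTr, hx] at h2
    exact h2

end Cfsg.Agent.Helper38.SUaut
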