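import Mathlib
import Cfsg.Agent.Helper6.SUaut1

/-!
# (R3) for S3162 (helper6, WANTED #8751): the number of semilinear maps `a ↦ l * σ a`.
-/

set_option autoImplicit false
set_option linter.unusedSectionVars false

namespace Cfsg.Agent.Helper38.SUaut

open Cfsg.Agent.Helper19.SU3 Cfsg.Agent.Helper6.SUaut

variable {F : Type*} [Field F] [Fintype F] {bar : F →+* F} [BarField F bar]

/-- (R3) -/
theorem R3 : Nat.card {f : F → F // ∃ (l : F) (σ : F ≃+* F), l ≠ 0 ∧ ∀ a, f a = l * σ a} =
    (Fintype.card F - 1) * Nat.card (F ≃+* F) := by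
  classical
  let g : (Fˣ × (F ≃+* F)) →
      {f : F → F // ∃ (l : F) (σ : F ≃+* F), l ≠ 0 ∧ ∀ a, f a = l * σ a} :=
    fun p => ⟨fun a => (p.1 : F) * p.2 a, (p.1 : F), p.2, p.1.ne_zero, fun _ => rfl⟩
  have hg : Function.Bijective g := by
    constructor
    · rintro ⟨l, σ⟩ ⟨l', σ'⟩ h
      have h1 : ∀ a : F, (l : F) * σ a = (l' : F) * σ' a := by
        intro a
        have := congrArg (fun f => f.1 a) h
        simpa [g] using this
      have hl : (l : F) = (l' : F) := by
        have := h1 1
        simpa using this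
      have hl' : l = l' := Units.ext hl
      subst hl'
      have hσ : σ = σ' := by
        ext a
        exact mul_left_cancel₀ l.ne_zero (h1 a)
      rw [hσ]
    · rintro ⟨f, l, σ, hl, hf⟩
      refine ⟨(Units.mk0 l hl, σ), ?_⟩
      apply Subtype.ext
      funext a
      simp [g, hf a]
  rw [← Nat.card_congr (Equiv.ofBijective g hg), Nat.card_prod, Nat.card_eq_fintype_card,
    Fintype.card_units]

end Cfsg.Agent.Helper38.SUaut
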