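import Mathlib
import Cfsg.Agent.Helper38.FourierIdem

/-!
# `Sp₂ₙ(F)`: an abelian unipotent subgroup and elements normalising it
-/

set_option autoImplicit false

namespace Cfsg.Agent.Helper38

open Matrix

section sp
variable {F : Type*} [Field F] {m : ℕ}

/-- the first basis vector of `F^(m+2)` -/
def f0 (F : Type*) [Field F] (m : ℕ) : Fin (m + 2) → F := Pi.single 0 1

theorem dot_f0 (r : Fin (m + 2) → F) : r ⬝ᵥ f0 F m = r 0 := by
  unfold f0
  rw [dotProduct_single, mul_one]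

theorem f0_dot (r : Fin (m + 2) → F) : f0 F m ⬝ᵥ r = r 0 := by
  rw [dotProduct_comm, dot_f0]

/-- the symmetric matrix `e₀ vᵀ + v e₀ᵀ` -/
def Ssym (v : Fin (m + 2) → F) : Matrix (Fin (m + 2)) (Fin (m + 2)) F :=
  vecMulVec (f0 F m) v + vecMulVec v (f0 F m)

theorem Ssym_transpose (v : Fin (m + 2) → F) : (Ssym v)ᵀ = Ssym v := by
  ext i j
  simp only [Ssym, transpose_apply, Matrix.add_apply, vecMulVec_apply]
  ring

theorem Ssym_add (v w : Fin (m + 2) → F) : Ssym (v + w) = Ssym v + Ssym w := by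
  ext i j
  simp only [Ssym, Matrix.add_apply, vecMulVec_apply, Pi.add_apply]
  ring

theorem Ssym_zero : Ssym (0 : Fin (m + 2) → F) = 0 := by
  ext i j
  simp [Ssym, vecMulVec_apply]

/-- the unipotent element with upper right block `Ssym v` -/
def uSp (v : Fin (m + 2) → F) : symplecticGroup (Fin (m + 2)) F :=
  ⟨fromBlocks 1 (Ssym v) 0 1, by
    rw [SymplecticGroup.fromBlocks_mem_iff]
    simp [Ssym_transpose]⟩

theorem uSp_coe (v : Fin (m + 2) → F) :
    (uSp v : Matrix (Fin (m + 2) ⊕ Fin (m + 2)) (Fin (m + 2) ⊕ Fin (m + 2)) F)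
      = fromBlocks 1 (Ssym v) 0 1 := rfl

theorem uSp_zero : uSp (0 : Fin (m + 2) → F) = 1 := by
  apply Subtype.ext
  rw [uSp_coe, Ssym_zero]
  simp

theorem uSp_add (v w : Fin (m + 2) → F) : uSp (v + w) = uSp v * uSp w := by
  apply Subtype.ext
  rw [Submonoid.coe_mul, uSp_coe, uSp_coe, uSp_coe, fromBlocks_multiply, Ssym_add]
  simp [add_comm]

/-- the Levi element with diagonal blocks `g`, `g'ᵀ` where `g' = g⁻¹` -/
def lSp (g g' : Matrix (Fin (m + 2)) (Fin (m + 2)) F) (h : g' * g = 1) :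
    symplecticGroup (Fin (m + 2)) F :=
  ⟨fromBlocks g 0 0 g'ᵀ, by
    rw [SymplecticGroup.fromBlocks_mem_iff]
    refine ⟨by simp, by simp, ?_⟩
    rw [transpose_zero, zero_mul, sub_zero, ← transpose_mul, h, transpose_one]⟩

theorem lSp_coe (g g' : Matrix (Fin (m + 2)) (Fin (m + 2)) F) (h : g' * g = 1) :
    (lSp g g' h : Matrix (Fin (m + 2) ⊕ Fin (m + 2)) (Fin (m + 2) ⊕ Fin (m + 2)) F)
      = fromBlocks g 0 0 g'ᵀ := rfl

theorem lSp_mul_uSp (g g' : Matrix (Fin (m + 2)) (Fin (m + 2)) F) (h : g' * g = 1) (t t' : F)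
    (ht : t' * t = 1) (hg : g *ᵥ f0 F m = t • f0 F m) (hg' : g' *ᵥ f0 F m = t' • f0 F m)
    (v : Fin (m + 2) → F) :
    lSp g g' h * uSp v = uSp (t • (g *ᵥ v)) * lSp g g' h := by
  apply Subtype.ext
  rw [Submonoid.coe_mul, Submonoid.coe_mul, uSp_coe, uSp_coe, lSp_coe, fromBlocks_multiply,
    fromBlocks_multiply]
  simp only [mul_one, mul_zero, add_zero, zero_mul, zero_add, one_mul]
  congr 1
  unfold Ssym
  rw [Matrix.mul_add, Matrix.add_mul, mul_vecMulVec, mul_vecMulVec, vecMulVec_mul, vecMulVec_mul,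
    vecMul_transpose, vecMul_transpose, hg, hg', mulVec_smul, mulVec_mulVec, h, one_mulVec]
  ext i j
  simp only [Matrix.add_apply, vecMulVec_apply, Pi.smul_apply, smul_eq_mul]
  have : t' * (t * (g *ᵥ v) i * f0 F m j) = (g *ᵥ v) i * f0 F m j := by
    rw [← mul_assoc, ← mul_assoc, ht, one_mul]
  linear_combination -this

end sp

end Cfsg.Agent.Helper38
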