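import Mathlib
import Cfsg.Agent.Helper38.SpUnip

/-!
# Cross-characteristic representations of `Sp₂ₙ(F)`, `F` of odd order
-/

set_option autoImplicit false

namespace Cfsg.Agent.Helper38

open Matrix

section sp
variable {F : Type*} [Field F] [Fintype F] [DecidableEq F] {m : ℕ} {K' : Type*} [Field K'] {d : ℕ}

omit [Fintype F] [DecidableEq F] in
/-- the linear bijection `v ↦ t • g v` -/
def scaleEquiv (g g' : Matrix (Fin (m + 2)) (Fin (m + 2)) F) (h : g' * g = 1) (t t' : F)
    (ht : t' * t = 1) : (Fin (m + 2) → F) ≃ (Fin (m + 2) → F) where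
  toFun v := t • (g *ᵥ v)
  invFun v := t' • (g' *ᵥ v)
  left_inv v := by
    simp only
    rw [mulVec_smul, mulVec_mulVec, h, one_mulVec, smul_smul, ht, one_smul]
  right_inv v := by
    have h' : g * g' = 1 := mul_eq_one_comm.1 h
    have ht' : t * t' = 1 := by rw [mul_comm]; exact ht
    simp only
    rw [mulVec_smul, mulVec_mulVec, h', one_mulVec, smul_smul, ht', one_smul]

omit [DecidableEq F] in
/-- transport of non-vanishing of the Fourier idempotents along a Levi element -/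
theorem fIdem_ne_zero_of (ψ : AddChar F K')
    (τ : symplecticGroup (Fin (m + 2)) F →* Matrix (Fin d) (Fin d) K')
    (g g' : Matrix (Fin (m + 2)) (Fin (m + 2)) F) (h : g' * g = 1) (t t' : F)
    (ht : t' * t = 1) (hg : g *ᵥ f0 F m = t • f0 F m) (hg' : g' *ᵥ f0 F m = t' • f0 F m)
    (b' : Fin (m + 2) → F)
    (hne : fIdem ψ (fun v => τ (uSp v)) (t • (gᵀ *ᵥ b')) ≠ 0) :
    fIdem ψ (fun v => τ (uSp v)) b' ≠ 0 := by
  intro hzero
  apply hne
  set L := lSp g g' h with hL
  have key : τ L * fIdem ψ (fun v => τ (uSp v)) (t • (gᵀ *ᵥ b'))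
      = fIdem ψ (fun v => τ (uSp v)) b' * τ L := by
    unfold fIdem
    rw [Matrix.mul_smul, Matrix.smul_mul, Finset.mul_sum, Finset.sum_mul]
    congr 1
    rw [← Fintype.sum_equiv (scaleEquiv g g' h t t' ht)
      (fun v => τ L * (chiV ψ v (t • (gᵀ *ᵥ b')) • τ (uSp v)))
      (fun w => (chiV ψ w b' • τ (uSp w)) * τ L)]
    intro v
    rw [Matrix.mul_smul, Matrix.smul_mul, ← map_mul, ← map_mul, hL,
      lSp_mul_uSp g g' h t t' ht hg hg' v]
    congr 1
    unfold chiV scaleEquiv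
    simp only [Equiv.coe_fn_mk]
    congr 2
    rw [dotProduct_smul, smul_dotProduct, dotProduct_mulVec, vecMul_transpose]
  rw [hzero, zero_mul] at key
  have h2 : τ L⁻¹ * (τ L * fIdem ψ (fun v => τ (uSp v)) (t • (gᵀ *ᵥ b'))) = 0 := by
    rw [key, mul_zero]
  rw [← mul_assoc, ← map_mul, inv_mul_cancel, map_one, one_mul] at h2
  exact h2

omit [Fintype F] [DecidableEq F] in
theorem vecMulVec_f0_sq (r : Fin (m + 2) → F) (hr : r 0 = 0) :
    vecMulVec (f0 F m) r * vecMulVec (f0 F m) r = 0 := by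
  rw [vecMulVec_mul_vecMulVec, dot_f0, hr, zero_smul]
  ext i j
  simp [vecMulVec_apply]

omit [Fintype F] [DecidableEq F] in
theorem gX_inv (r : Fin (m + 2) → F) (hr : r 0 = 0) :
    (1 - vecMulVec (f0 F m) r) * (1 + vecMulVec (f0 F m) r) = 1 := by
  have : (1 - vecMulVec (f0 F m) r) * (1 + vecMulVec (f0 F m) r)
      = 1 - vecMulVec (f0 F m) r * vecMulVec (f0 F m) r := by noncomm_ring
  rw [this, vecMulVec_f0_sq r hr, sub_zero]

omit [Fintype F] [DecidableEq F] in
theorem vecMulVec_f0_mulVec_f0 (r : Fin (m + 2) → F) (hr : r 0 = 0) :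
    vecMulVec (f0 F m) r *ᵥ f0 F m = 0 := by
  rw [vecMulVec_mulVec, dot_f0, hr, MulOpposite.op_zero, zero_smul]

omit [DecidableEq F] in
/-- transport along the unipotent Levi elements `1 + e₀ rᵀ` -/
theorem fIdem_ne_zero_X (ψ : AddChar F K')
    (τ : symplecticGroup (Fin (m + 2)) F →* Matrix (Fin d) (Fin d) K')
    (r : Fin (m + 2) → F) (hr : r 0 = 0) (b' : Fin (m + 2) → F)
    (hne : fIdem ψ (fun v => τ (uSp v)) (b' + b' 0 • r) ≠ 0) :
    fIdem ψ (fun v => τ (uSp v)) b' ≠ 0 := by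
  apply fIdem_ne_zero_of ψ τ (1 + vecMulVec (f0 F m) r) (1 - vecMulVec (f0 F m) r)
    (gX_inv r hr) 1 1 (one_mul 1)
  · rw [Matrix.add_mulVec, one_mulVec, vecMulVec_f0_mulVec_f0 r hr, add_zero, one_smul]
  · rw [Matrix.sub_mulVec, one_mulVec, vecMulVec_f0_mulVec_f0 r hr, sub_zero, one_smul]
  · rw [one_smul]
    convert hne using 2
    rw [transpose_add, transpose_one, Matrix.add_mulVec, one_mulVec]
    congr 1
    ext i
    rw [mulVec, dotProduct]
    simp only [transpose_apply, vecMulVec_apply, Pi.smul_apply, smul_eq_mul]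
    have : ∑ j, f0 F m j * r i * b' j = r i * (f0 F m ⬝ᵥ b') := by
      rw [dotProduct, Finset.mul_sum]
      apply Finset.sum_congr rfl
      intro j _
      ring
    rw [this, f0_dot]
    ring

/-- the diagonal matrix `diag(t, 1, …, 1)` -/
def dgH (m : ℕ) (t : F) : Matrix (Fin (m + 2)) (Fin (m + 2)) F :=
  diagonal (fun i => if i = 0 then t else 1)

omit [Fintype F] [DecidableEq F] in
theorem dgH_mul (t t' : F) (ht : t' * t = 1) : dgH m t' * dgH m t = 1 := by
  unfold dgH
  rw [diagonal_mul_diagonal, ← diagonal_one]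
  congr 1
  funext i
  split_ifs
  · exact ht
  · exact one_mul 1

omit [Fintype F] [DecidableEq F] in
theorem dgH_mulVec (t : F) (v : Fin (m + 2) → F) :
    dgH m t *ᵥ v = fun i => (if i = 0 then t else 1) * v i := by
  unfold dgH
  funext i
  rw [mulVec_diagonal]

omit [Fintype F] [DecidableEq F] in
theorem dgH_mulVec_f0 (t : F) : dgH m t *ᵥ f0 F m = t • f0 F m := by
  rw [dgH_mulVec]
  funext i
  unfold f0
  by_cases hi : i = 0
  · subst hi; simp
  · simp [hi]

/-- transport along the diagonal Levi elements `diag(t, 1, …, 1)` -/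
theorem fIdem_ne_zero_H (ψ : AddChar F K')
    (τ : symplecticGroup (Fin (m + 2)) F →* Matrix (Fin d) (Fin d) K')
    (t : F) (ht : t ≠ 0) (b' : Fin (m + 2) → F)
    (hne : fIdem ψ (fun v => τ (uSp v)) (fun i => t * ((if i = 0 then t else 1) * b' i)) ≠ 0) :
    fIdem ψ (fun v => τ (uSp v)) b' ≠ 0 := by
  apply fIdem_ne_zero_of ψ τ (dgH m t) (dgH m t⁻¹) (dgH_mul t t⁻¹ (inv_mul_cancel₀ ht)) t t⁻¹
    (inv_mul_cancel₀ ht) (dgH_mulVec_f0 t) (dgH_mulVec_f0 t⁻¹)
  convert hne using 2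
  unfold dgH
  rw [diagonal_transpose]
  funext i
  rw [Pi.smul_apply, mulVec_diagonal, smul_eq_mul]

/-- the non-vanishing spreads over a whole orbit -/
theorem fIdem_orbit (ψ : AddChar F K')
    (τ : symplecticGroup (Fin (m + 2)) F →* Matrix (Fin d) (Fin d) K')
    (b : Fin (m + 2) → F) (hb0 : b 0 ≠ 0) (hne : fIdem ψ (fun v => τ (uSp v)) b ≠ 0)
    (s : F) (hs : s ≠ 0) (b'' : Fin (m + 2) → F) (hb'' : b'' 0 = s ^ 2 * b 0) :
    fIdem ψ (fun v => τ (uSp v)) b'' ≠ 0 := by
  -- first the diagonal element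
  set b1 : Fin (m + 2) → F := fun i => if i = 0 then s ^ 2 * b 0 else s * b i with hb1
  have h1 : fIdem ψ (fun v => τ (uSp v)) b1 ≠ 0 := by
    apply fIdem_ne_zero_H ψ τ s⁻¹ (inv_ne_zero hs) b1
    convert hne using 2
    funext i
    rw [hb1]
    by_cases hi : i = 0
    · subst hi
      simp only [if_true]
      field_simp
    · simp only [if_neg hi]
      field_simp
  -- then the unipotent element
  have hb''0 : b'' 0 ≠ 0 := by
    rw [hb'']
    exact mul_ne_zero (pow_ne_zero 2 hs) hb0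
  set r : Fin (m + 2) → F := fun i => (b1 i - b'' i) / b'' 0 with hr
  have hr0 : r 0 = 0 := by
    rw [hr, hb1]
    simp only [if_true]
    rw [hb'', sub_self, zero_div]
  apply fIdem_ne_zero_X ψ τ r hr0 b''
  convert h1 using 2
  funext i
  rw [Pi.add_apply, Pi.smul_apply, smul_eq_mul, hr]
  simp only
  field_simp
  ring

end sp

end Cfsg.Agent.Helper38
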