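import Mathlib
import Cfsg.Agent.Helper38.SpCross

/-!
# The Landazuri–Seitz bound for `Sp₂ₙ(F)`, `F` of odd order
-/

set_option autoImplicit false

namespace Cfsg.Agent.Helper38

open Matrix

section sp
variable {F : Type*} [Field F] [Fintype F] [DecidableEq F] {m : ℕ} {K' : Type*} [Field K'] {d : ℕ}

/-- there are `(q - 1) / 2` elements of the form `s² ζ` with `s ≠ 0` -/
theorem card_sq_orbit (hF : ringChar F ≠ 2) (ζ : F) (hζ : ζ ≠ 0) :
    (Finset.univ.filter (fun x : F => ∃ s : F, s ≠ 0 ∧ x = s ^ 2 * ζ)).card * 2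
      = Fintype.card F - 1 := by
  have h2 : (2 : F) ≠ 0 := Ring.two_ne_zero hF
  have hN : (Finset.univ.filter (fun s : F => s ≠ 0)).card = Fintype.card F - 1 := by
    rw [Finset.filter_ne' Finset.univ (0 : F), Finset.card_erase_of_mem (Finset.mem_univ _),
      Finset.card_univ]
  have hmaps : ∀ s ∈ (Finset.univ.filter (fun s : F => s ≠ 0) : Finset F),
      s ^ 2 * ζ ∈ (Finset.univ.filter (fun x : F => ∃ s : F, s ≠ 0 ∧ x = s ^ 2 * ζ) : Finset F) := by
    intro s hs
    rw [Finset.mem_filter] at hs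
    rw [Finset.mem_filter]
    exact ⟨Finset.mem_univ _, s, hs.2, rfl⟩
  have key : (Finset.univ.filter (fun s : F => s ≠ 0)).card
      = ∑ _x ∈ Finset.univ.filter (fun x : F => ∃ s : F, s ≠ 0 ∧ x = s ^ 2 * ζ), 2 := by
    rw [Finset.card_eq_sum_card_fiberwise (f := fun s : F => s ^ 2 * ζ)
      (t := Finset.univ.filter (fun x : F => ∃ s : F, s ≠ 0 ∧ x = s ^ 2 * ζ)) hmaps]
    apply Finset.sum_congr rfl
    intro x hx
    rw [Finset.mem_filter] at hx
    obtain ⟨s₀, hs₀, rfl⟩ := hx.2
    have : (Finset.univ.filter (fun s : F => s ≠ 0)).filter (fun s => s ^ 2 * ζ = s₀ ^ 2 * ζ)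
        = {s₀, -s₀} := by
      ext s
      simp only [Finset.mem_filter, Finset.mem_univ, true_and, Finset.mem_insert,
        Finset.mem_singleton]
      constructor
      · rintro ⟨_, h⟩
        have := mul_right_cancel₀ hζ h
        exact sq_eq_sq_iff_eq_or_eq_neg.1 this
      · rintro (rfl | rfl)
        · exact ⟨hs₀, rfl⟩
        · exact ⟨neg_ne_zero.2 hs₀, by rw [neg_sq]⟩
    rw [this, Finset.card_pair]
    intro h
    have : (2 : F) * s₀ = 0 := by linear_combination h
    rcases mul_eq_zero.1 this with h' | h'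
    · exact h2 h'
    · exact hs₀ h'
  rw [Finset.sum_const, smul_eq_mul] at key
  rw [← hN, key]

omit [Field F] [DecidableEq F] in
/-- the number of vectors whose first coordinate satisfies `p` -/
theorem card_filter_first (p : F → Prop) [DecidablePred p] :
    (Finset.univ.filter (fun b : Fin (m + 2) → F => p (b 0))).card
      = (Finset.univ.filter p).card * Fintype.card F ^ (m + 1) := by
  have e : {b : Fin (m + 2) → F // p (b 0)} ≃ {x : F // p x} × (Fin (m + 1) → F) :=
    { toFun := fun b => (⟨b.1 0, b.2⟩, Fin.tail b.1)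
      invFun := fun xa => ⟨Fin.cons xa.1.1 xa.2, by rw [Fin.cons_zero]; exact xa.1.2⟩
      left_inv := fun b => by
        apply Subtype.ext
        exact Fin.cons_self_tail b.1
      right_inv := fun xa => by
        apply Prod.ext
        · apply Subtype.ext; simp
        · simp }
  rw [← Fintype.card_subtype, Fintype.card_congr e, Fintype.card_prod, Fintype.card_subtype,
    Fintype.card_fun, Fintype.card_fin]

/-- the degree bound -/
theorem sp_crosschar_bound (hF : ringChar F ≠ 2) (ψ : AddChar F K') (hψ : ψ ≠ 1)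
    (hR : (Fintype.card (Fin (m + 2) → F) : K') ≠ 0)
    (τ : symplecticGroup (Fin (m + 2)) F →* Matrix (Fin d) (Fin d) K')
    (hτ : τ (uSp (f0 F m)) ≠ 1) :
    Fintype.card F ^ (m + 1) * (Fintype.card F - 1) / 2 ≤ d := by
  classical
  have hTadd : ∀ v w : Fin (m + 2) → F, τ (uSp (v + w)) = τ (uSp v) * τ (uSp w) := by
    intro v w
    rw [uSp_add, map_mul]
  have hT0 : τ (uSp (0 : Fin (m + 2) → F)) = 1 := by rw [uSp_zero, map_one]
  by_cases hall : ∀ b : Fin (m + 2) → F, b 0 ≠ 0 → fIdem ψ (fun v => τ (uSp v)) b = 0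
  · exfalso
    apply hτ
    have h1 := sum_fIdem ψ hψ hR (fun v => τ (uSp v)) hT0
    have h2 : τ (uSp (f0 F m)) * ∑ b : Fin (m + 2) → F, fIdem ψ (fun v => τ (uSp v)) b
        = ∑ b : Fin (m + 2) → F, fIdem ψ (fun v => τ (uSp v)) b := by
      rw [Finset.mul_sum]
      apply Finset.sum_congr rfl
      intro b _
      have := T_mul_fIdem ψ (fun v => τ (uSp v)) hTadd (f0 F m) b
      rw [this]
      by_cases hb : b 0 = 0
      · rw [f0_dot, hb, AddChar.map_zero_eq_one, one_smul]
      · rw [hall b hb, smul_zero]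
    rw [h1, mul_one] at h2
    exact h2
  · push Not at hall
    obtain ⟨b, hb0, hne⟩ := hall
    set O : Finset (Fin (m + 2) → F) :=
      Finset.univ.filter (fun b'' : Fin (m + 2) → F => ∃ s : F, s ≠ 0 ∧ b'' 0 = s ^ 2 * b 0)
      with hO
    have hOne : ∀ b'' ∈ O, fIdem ψ (fun v => τ (uSp v)) b'' ≠ 0 := by
      intro b'' hb''
      rw [hO, Finset.mem_filter] at hb''
      obtain ⟨s, hs, hb''⟩ := hb''.2
      exact fIdem_orbit ψ τ b hb0 hne s hs b'' hb''
    have hle := card_le_of_fIdem_ne_zero ψ hψ hR (fun v => τ (uSp v)) hTadd O hOne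
    have hcardO : O.card = (Finset.univ.filter
        (fun x : F => ∃ s : F, s ≠ 0 ∧ x = s ^ 2 * b 0)).card * Fintype.card F ^ (m + 1) := by
      rw [hO]
      exact card_filter_first (fun x : F => ∃ s : F, s ≠ 0 ∧ x = s ^ 2 * b 0)
    have hsq := card_sq_orbit hF (b 0) hb0
    rw [hcardO] at hle
    have : Fintype.card F ^ (m + 1) * (Fintype.card F - 1) / 2
        = (Finset.univ.filter (fun x : F => ∃ s : F, s ≠ 0 ∧ x = s ^ 2 * b 0)).card *
          Fintype.card F ^ (m + 1) := by
      rw [← hsq]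
      rw [show Fintype.card F ^ (m + 1) *
          ((Finset.univ.filter (fun x : F => ∃ s : F, s ≠ 0 ∧ x = s ^ 2 * b 0)).card * 2)
          = ((Finset.univ.filter (fun x : F => ∃ s : F, s ≠ 0 ∧ x = s ^ 2 * b 0)).card *
            Fintype.card F ^ (m + 1)) * 2 by ring]
      exact Nat.mul_div_cancel _ (by norm_num)
    rw [this]
    exact hle

end sp

end Cfsg.Agent.Helper38
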