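import Mathlib
import Cfsg.Agent.Helper40.StCLiftDefs

/-!
# (ASM) of board #7552 (helper40 / helper96, S2092 part II): the lifted family satisfies the
Steinberg relations of type `C`

`Zc_spRel_of` is the assembly with the other pieces of #7552 as explicit hypotheses (exactly the
statements of `tools/helper40_s2092/Skel.lean.txt`).
-/

set_option autoImplicit false

namespace Cfsg.Agent.Helper38.StCASM

open scoped commutatorElement
open Cfsg.Agent.Helper96.StN Cfsg.Agent.Helper96.StC Cfsg.Agent.Helper96.StLift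
  Cfsg.Agent.Helper40.StCLift

universe u v v' w

variable {K : Type u} [Field K] {D : Type v} [Group D] {E : Type v'} [Group E] {π : E →* D}
  {ι : Type w} [DecidableEq ι] {X : ι ⊕ ι → ι ⊕ ι → K → D}

theorem Zc_short (hπ : Function.Surjective π) (h3 : ∀ p q : ι ⊕ ι, ∃ k, AbsNe k p ∧ AbsNe k q)
    {p q : ι ⊕ ι} (h : q ≠ bar p) (t : K) : Zc hπ X h3 p q t = Zs hπ X h3 p q t := by
  unfold Zc
  rw [if_neg h]

theorem Zc_long (hπ : Function.Surjective π) (h3 : ∀ p q : ι ⊕ ι, ∃ k, AbsNe k p ∧ AbsNe k q)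
    (p : ι ⊕ ι) (t : K) : Zc hπ X h3 p (bar p) t = Zl hπ X h3 p t := by
  unfold Zc
  rw [if_pos rfl]

/-- the assembly, with the pieces (SH3), (SH4), (LG5), (LG6) of #7552 as hypotheses -/
theorem Zc_spRel_of (hπ : Function.Surjective π) (hc : π.ker ≤ Subgroup.center E)
    (hCL : CLC hπ X) (h3 : ∀ p q : ι ⊕ ι, ∃ k, AbsNe k p ∧ AbsNe k q)
    (symbol_eq_Zs : ∀ {p k s : ι ⊕ ι}, AbsNe p k → AbsNe p s → AbsNe k s → ∀ a b : K,
      lc hπ (X p k a) (X k s b) = Zs hπ X h3 p s (a * b))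
    (map_Zs : ∀ {p s : ι ⊕ ι}, AbsNe p s → ∀ t : K, π (Zs hπ X h3 p s t) = X p s t)
    (Zs_add : ∀ {p s : ι ⊕ ι}, AbsNe p s → ∀ t u : K,
      Zs hπ X h3 p s (t + u) = Zs hπ X h3 p s t * Zs hπ X h3 p s u)
    (Zs_sym : ∀ {p s : ι ⊕ ι}, AbsNe p s → ∀ t : K,
      Zs hπ X h3 p s t = Zs hπ X h3 (bar s) (bar p) (-(eps K p s * t)))
    (Ll_eq_Zl : ∀ {p q : ι ⊕ ι}, AbsNe p q → ∀ t u : K,
      Ll hπ X h3 p q t u = Zl hπ X h3 (bar q) (eps K p q * t * u ^ 2))
    (map_Zl : ∀ (r : ι ⊕ ι) (w : K), π (Zl hπ X h3 r w) = X r (bar r) w)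
    (Zl_add : ∀ (r : ι ⊕ ι) (w w' : K),
      Zl hπ X h3 r (w + w') = Zl hπ X h3 r w * Zl hπ X h3 r w')
    (r5_lift : ∀ {p q : ι ⊕ ι}, AbsNe p q → ∀ t u : K,
      lc hπ (X p q t) (X q (bar p) u) = Zl hπ X h3 p (2 * t * u)) :
    SpRel (Zc hπ X h3) := by
  have map_Zc : ∀ {p q : ι ⊕ ι}, p ≠ q → ∀ t : K, π (Zc hπ X h3 p q t) = X p q t := by
    intro p q hpq t
    by_cases h : q = bar p
    · subst h
      rw [Zc_long, map_Zl]
    · rw [Zc_short hπ h3 h, map_Zs (absNe_iff.mpr ⟨hpq, h⟩)]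
  refine ⟨?_, ?_, ?_, ?_, ?_, ?_⟩
  · -- sym
    intro p q hpq hq t
    have hA : AbsNe p q := absNe_iff.mpr ⟨hpq, hq⟩
    have h' : bar p ≠ bar (bar q) := by
      rw [bar_bar]
      exact fun e => hq e.symm
    rw [Zc_short hπ h3 hq, Zc_short hπ h3 h']
    exact Zs_sym hA t
  · -- add
    intro p q hpq t u
    by_cases h : q = bar p
    · subst h
      rw [Zc_long, Zc_long, Zc_long]
      exact Zl_add p t u
    · rw [Zc_short hπ h3 h, Zc_short hπ h3 h, Zc_short hπ h3 h]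
      exact Zs_add (absNe_iff.mpr ⟨hpq, h⟩) t u
  · -- comm
    intro p q r s hpq hrs h1 h2 h3' h4 t u
    exact (commute_of_lc_eq_one hπ hc (hCL p q r s hpq hrs h1 h2 h3' h4 t u)
      (map_Zc hpq t) (map_Zc hrs u)).eq
  · -- mul
    intro p q s hpq hqs hps hpbq hqbs hpbs t u
    have hApq : AbsNe p q := ⟨hpq, hpbq⟩
    have hAqs : AbsNe q s := ⟨hqs, hqbs⟩
    have hAps : AbsNe p s := ⟨hps, hpbs⟩
    rw [← commutatorElement_def, lc_eq' hπ hc (map_Zc hpq t) (map_Zc hqs u),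
      Zc_short hπ h3 hAps.ne_bar']
    exact symbol_eq_Zs hApq hAps hAqs t u
  · -- r5
    intro p q hpq hpbq t u
    have hApq : AbsNe p q := ⟨hpq, hpbq⟩
    have hqbp : q ≠ bar p := hApq.ne_bar'
    rw [← commutatorElement_def, lc_eq' hπ hc (map_Zc hpq t) (map_Zc hqbp u), Zc_long]
    exact r5_lift hApq t u
  · -- r6
    intro p q hpq hpbq t u
    have hApq : AbsNe p q := ⟨hpq, hpbq⟩
    have hqbp : q ≠ bar p := hApq.ne_bar'
    have h1 : p ≠ bar p := (bar_ne p).symm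
    have h2 : bar p ≠ q := fun e => hqbp e.symm
    have h3' : q ≠ bar (bar p) := by
      rw [bar_bar]
      exact hpq.symm
    have hbq : Zc hπ X h3 (bar q) q (eps K p q * t * u ^ 2) =
        Zl hπ X h3 (bar q) (eps K p q * t * u ^ 2) := by
      have := Zc_long (X := X) hπ h3 (bar q) (eps K p q * t * u ^ 2)
      rwa [bar_bar] at this
    rw [← commutatorElement_def, lc_eq' hπ hc (map_Zc h1 t) (map_Zc h2 u),
      Zc_short hπ h3 hqbp, hbq, ← Ll_eq_Zl hApq t u]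
    unfold Ll
    rw [mul_inv_cancel_left]

end Cfsg.Agent.Helper38.StCASM
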