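import Mathlib
import Cfsg.Agent.Helper40.StCLiftDefs
import Cfsg.Agent.Helper38.StCASM
import Cfsg.Agent.Helper14.StCSH35
import Cfsg.Agent.Helper59.StCSH4
import Cfsg.Agent.Helper59.StCLG6
import Cfsg.Agent.Helper33.StCLG5
import Cfsg.Agent.Helper33.StCLG1b
import Cfsg.Agent.Helper67.StCLG2
import Cfsg.Agent.Helper67.StCLG3

/-!
# (ASM) of board #7552 (helper40 / helper96, S2092 part II), final form

`Zc_spRel`: the lifted family `Zc hπ X h3` satisfies the Steinberg relations of type `C`; exact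
statement of `tools/helper40_s2092/Skel.lean.txt`, assembled from the landed pieces (SH3) helper14,
(SH4), (LG6) helper59, (LG1), (LG5) helper33, (LG2)-(LG4) helper67.  Also the exact statements of
`Zs_sym`, `Ll_eq_Zl`, `r5_lift` (from the `_of` forms of their authors).
-/

set_option autoImplicit false

namespace Cfsg.Agent.Helper38.StCASMFinal

open scoped commutatorElement
open Cfsg.Agent.Helper96.StN Cfsg.Agent.Helper96.StC Cfsg.Agent.Helper96.StLift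
  Cfsg.Agent.Helper40.StCLift

universe u v v' w

variable {K : Type u} [Field K] {D : Type v} [Group D] {E : Type v'} [Group E] {π : E →* D}
  {ι : Type w} [DecidableEq ι] {X : ι ⊕ ι → ι ⊕ ι → K → D}

/-- (SH4) `Zs_sym`, exact skeleton statement -/
theorem Zs_sym (hπ : Function.Surjective π) (hc : π.ker ≤ Subgroup.center E)
    (hX : SpRel X) (hCL : CLC hπ X) (h3 : ∀ p q : ι ⊕ ι, ∃ k, AbsNe k p ∧ AbsNe k q)
    {p s : ι ⊕ ι} (hps : AbsNe p s) (t : K) :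
    Zs hπ X h3 p s t = Zs hπ X h3 (bar s) (bar p) (-(eps K p s * t)) :=
  Cfsg.Agent.Helper59.StCSH4.Zs_sym_of hπ hc hX hCL h3
    (fun hpk hps hks a b =>
      Cfsg.Agent.Helper14.StCSH35.symbol_eq_Zs hπ hc hX hCL h3 hpk hps hks a b) hps t

/-- (LG5) `Ll_eq_Zl`, exact skeleton statement -/
theorem Ll_eq_Zl (hπ : Function.Surjective π) (hc : π.ker ≤ Subgroup.center E)
    (hX : SpRel X) (hM : MonoData X (reflPerm (ι := ι)) (cw (K := K))) (hCL : CLC hπ X)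
    (h3 : ∀ p q : ι ⊕ ι, ∃ k, AbsNe k p ∧ AbsNe k q) {p q : ι ⊕ ι} (hpq : AbsNe p q) (t u : K) :
    Ll hπ X h3 p q t u = Zl hπ X h3 (bar q) (eps K p q * t * u ^ 2) :=
  Cfsg.Agent.Helper33.StCLG5.Ll_eq_Zl_of hπ hc hX h3
    (fun hpq t _ hu => Cfsg.Agent.Helper67.StCLG2.Ll_torus hπ hc hX hM hCL h3 hpq t hu)
    (fun hpq t => Cfsg.Agent.Helper67.StCLG3.Ll_bar hπ hc hX hM hCL h3 hpq t)
    (fun hpq hp'q hpp' t => Cfsg.Agent.Helper67.StCLG3.Ll_move hπ hc hX hM hCL h3 hpq hp'q hpp' t)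
    hpq t u

/-- (LG6) `r5_lift`, exact skeleton statement -/
theorem r5_lift (hπ : Function.Surjective π) (hc : π.ker ≤ Subgroup.center E)
    (hX : SpRel X) (hM : MonoData X (reflPerm (ι := ι)) (cw (K := K))) (hCL : CLC hπ X)
    (h3 : ∀ p q : ι ⊕ ι, ∃ k, AbsNe k p ∧ AbsNe k q) {p q : ι ⊕ ι} (hpq : AbsNe p q) (t u : K) :
    lc hπ (X p q t) (X q (bar p) u) = Zl hπ X h3 p (2 * t * u) :=
  Cfsg.Agent.Helper59.StCLG6.r5_lift_of hπ hc hX hCL h3
    (fun hps t => Cfsg.Agent.Helper14.StCSH35.map_Zs hπ hX h3 hps t)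
    (fun hps t u => Cfsg.Agent.Helper59.StCSH4.Zs_add hπ hc hX hCL h3 hps t u)
    (fun hpq t u => Ll_eq_Zl hπ hc hX hM hCL h3 hpq t u)
    (fun r w => Cfsg.Agent.Helper33.StCLG5.map_Zl hπ hX h3 r w)
    (fun r w w' => Cfsg.Agent.Helper33.StCLG1b.Zl_add hπ hc hX hCL h3 r w w')
    hpq t u

/-- **(ASM)**: the lifted family satisfies the Steinberg relations of type `C`; exact skeleton
statement. -/
theorem Zc_spRel (hπ : Function.Surjective π) (hc : π.ker ≤ Subgroup.center E)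
    (hX : SpRel X) (hM : MonoData X (reflPerm (ι := ι)) (cw (K := K))) (hCL : CLC hπ X)
    (h3 : ∀ p q : ι ⊕ ι, ∃ k, AbsNe k p ∧ AbsNe k q) : SpRel (Zc hπ X h3) :=
  Cfsg.Agent.Helper38.StCASM.Zc_spRel_of hπ hc hCL h3
    (fun hpk hps hks a b =>
      Cfsg.Agent.Helper14.StCSH35.symbol_eq_Zs hπ hc hX hCL h3 hpk hps hks a b)
    (fun hps t => Cfsg.Agent.Helper14.StCSH35.map_Zs hπ hX h3 hps t)
    (fun hps t u => Cfsg.Agent.Helper59.StCSH4.Zs_add hπ hc hX hCL h3 hps t u)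
    (fun hps t => Zs_sym hπ hc hX hCL h3 hps t)
    (fun hpq t u => Ll_eq_Zl hπ hc hX hM hCL h3 hpq t u)
    (fun r w => Cfsg.Agent.Helper33.StCLG5.map_Zl hπ hX h3 r w)
    (fun r w w' => Cfsg.Agent.Helper33.StCLG1b.Zl_add hπ hc hX hCL h3 r w w')
    (fun hpq t u => r5_lift hπ hc hX hM hCL h3 hpq t u)

end Cfsg.Agent.Helper38.StCASMFinal
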