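import Cfsg.Agent.Helper38.SubF3Back

/-!
# Characteristic 2: elements with scalar square are conjugate into the subfield group
-/

set_option autoImplicit false

namespace Cfsg.Agent.Helper38.SubF

open Matrix Cfsg Cfsg.Geo Cfsg.Agent.Helper38.Chain

variable {F : Type*} [Field F] {n : ℕ}

/-- In characteristic 2 every `x ∈ SL_n(F)` with `x ^ 2` scalar is `SL_n(F)`-conjugate into the
subfield group `GL_n(F₀) · Z`. -/
theorem exists_conj_mem_two [Fintype F] [CharP F 2] (hn : 0 < n) (F₀ : Subfield F)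
    (x : Matrix.SpecialLinearGroup (Fin n) F) (z : F)
    (hz : ((x ^ 2 : Matrix.SpecialLinearGroup (Fin n) F) : Matrix (Fin n) (Fin n) F)
      = z • (1 : Matrix (Fin n) (Fin n) F)) :
    ∃ P : Matrix.SpecialLinearGroup (Fin n) F, P⁻¹ * x * P ∈ subH n F₀ := by
  classical
  have : Nonempty (Fin n) := ⟨⟨0, hn⟩⟩
  have hsqrt : ∀ y : F, ∃ w : F, w ^ 2 = y := by
    have inj : Function.Injective (fun w : F => w ^ 2) := by
      intro a b h
      have h3 : (a - b) ^ 2 = 0 := by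
        rw [sub_pow_char, show a ^ 2 = b ^ 2 from h, sub_self]
      exact sub_eq_zero.mp ((pow_eq_zero_iff (two_ne_zero)).mp h3)
    exact Finite.surjective_of_injective inj
  have hz0 : z ≠ 0 := by
    rintro rfl
    have h1 := (x ^ 2 : Matrix.SpecialLinearGroup (Fin n) F).det_coe
    rw [hz, zero_smul, Matrix.det_zero] at h1
    exact zero_ne_one h1
  obtain ⟨lam, hlam2⟩ := hsqrt z
  have hlam : lam ≠ 0 := by
    rintro rfl
    apply hz0
    rw [← hlam2]
    norm_num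
  obtain ⟨N, hNdef⟩ : ∃ N : Matrix (Fin n) (Fin n) F, N = lam⁻¹ • x.val - 1 := ⟨_, rfl⟩
  have hx2 : x.val ^ 2 = z • (1 : Matrix (Fin n) (Fin n) F) := by
    rw [← hz, Matrix.SpecialLinearGroup.coe_pow]
  have hN : N ^ 2 = 0 := by
    rw [hNdef, sub_pow_char_of_commute 2 (Commute.one_right _), one_pow, _root_.smul_pow, hx2,
      smul_smul, ← hlam2, inv_pow, inv_mul_cancel₀ (pow_ne_zero 2 hlam), one_smul, sub_self]
  have hx : x.val = lam • (1 + N) := by
    rw [hNdef, add_sub_cancel, smul_smul, mul_inv_cancel₀ hlam, one_smul]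
  obtain ⟨l, hpos, hle, hsum, P₁, h01, hscale⟩ := exists_adapted_GL N 2 hN
  have hd1 : P₁.val.det ≠ 0 := by
    have := (Matrix.GeneralLinearGroup.det P₁).ne_zero
    simpa using this
  by_cases h1 : 1 ∈ l
  · obtain ⟨Q, hQ01, hQdet⟩ := hscale 1 h1 (Units.mk0 (P₁.val.det)⁻¹ (inv_ne_zero hd1))
    refine conj_mem_of_rational F₀ x lam hlam N hx Q (fun i j => is01_mem F₀ hQ01 i j) ?_
    rw [hQdet, Units.val_mk0, pow_one, inv_mul_cancel₀ hd1]
  -- all parts are `2`
  have hall : ∀ a ∈ l, a = 2 := by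
    intro a ha
    have h1' := hpos a ha
    have h2' := hle a ha
    have : a ≠ 1 := fun h => h1 (h ▸ ha)
    omega
  have hl0 : l ≠ [] := by
    rintro rfl
    simp at hsum
    omega
  have h2 : 2 ∈ l := by
    obtain ⟨a, ha⟩ := List.exists_mem_of_ne_nil l hl0
    rw [← hall a ha]
    exact ha
  obtain ⟨μ, hμ⟩ := hsqrt (P₁.val.det)⁻¹
  have hμ0 : μ ≠ 0 := by
    rintro rfl
    have : (P₁.val.det)⁻¹ = 0 := by rw [← hμ]; norm_num
    exact inv_ne_zero hd1 this
  obtain ⟨Q, hQ01, hQdet⟩ := hscale 2 h2 (Units.mk0 μ hμ0)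
  refine conj_mem_of_rational F₀ x lam hlam N hx Q (fun i j => is01_mem F₀ hQ01 i j) ?_
  rw [hQdet, Units.val_mk0, hμ, inv_mul_cancel₀ hd1]

end Cfsg.Agent.Helper38.SubF
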