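import Mathlib

/-!
# `F^× = F₀^× (F^×)²` for a subfield of odd index (odd characteristic 3)
-/

set_option autoImplicit false

namespace Cfsg.Agent.Helper38.SubF

variable {F : Type*} [Field F]

theorem odd_geom_sum_iff (a : ℕ) (ha : Odd a) (k : ℕ) :
    Odd (∑ i ∈ Finset.range k, a ^ i) ↔ Odd k := by
  induction k with
  | zero => simp
  | succ k ih =>
    rw [Finset.sum_range_succ, Nat.odd_add, ih, Nat.odd_add_one]
    have : ¬ Even (a ^ k) := by
      rw [Nat.not_even_iff_odd]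
      exact ha.pow
    simp [this]

theorem sq_decomp [Fintype F] [CharP F 3] (F₀ : Subfield F) (q₀ k : ℕ) (hF₀ : Nat.card F₀ = q₀)
    (hq : Fintype.card F = q₀ ^ k) (hk : Odd k) (hq₀ : Odd q₀) :
    ∀ t : F, t ≠ 0 → ∃ a : F, a ∈ F₀ ∧ a ≠ 0 ∧ ∃ μ : F, μ ≠ 0 ∧ t = a * μ ^ 2 := by
  classical
  have : Fintype F₀ := Fintype.ofFinite _
  have hcard₀ : Fintype.card F₀ = q₀ := by rw [← Nat.card_eq_fintype_card, hF₀]
  have hchar : ringChar F ≠ 2 := by
    rw [ringChar.eq F 3]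
    norm_num
  have hchar₀ : ringChar F₀ ≠ 2 := by
    rw [ringChar.eq F₀ 3]
    norm_num
  obtain ⟨a₀, ha₀⟩ := FiniteField.exists_nonsquare hchar₀ (F := F₀)
  have ha₀0 : a₀ ≠ 0 := by
    rintro rfl
    exact ha₀ ⟨0, by simp⟩
  obtain ⟨r, hr⟩ := hq₀
  have hr2 : q₀ / 2 = r := by omega
  have h1 : a₀ ^ r = -1 := by
    have hd := FiniteField.pow_dichotomy hchar₀ ha₀0
    rw [hcard₀, hr2] at hd
    rcases hd with h | h
    · exfalso
      apply ha₀
      rw [FiniteField.isSquare_iff hchar₀ ha₀0, hcard₀, hr2]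
      exact h
    · exact h
  have h1F : (a₀ : F) ^ r = -1 := by
    have := congrArg (fun y : F₀ => (y : F)) h1
    simpa using this
  obtain ⟨e, he⟩ : ∃ e, e = ∑ i ∈ Finset.range k, q₀ ^ i := ⟨_, rfl⟩
  have hqe : q₀ ^ k = e * (2 * r) + 1 := by
    have := geom_sum_mul_add (2 * r) k
    rw [← hr, ← he] at this
    exact this.symm
  have hq2 : Fintype.card F / 2 = r * e := by
    rw [hq, hqe]
    have : e * (2 * r) + 1 = 2 * (r * e) + 1 := by ring
    rw [this]
    omega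
  have he_odd : Odd e := by
    rw [he]
    exact (odd_geom_sum_iff q₀ ⟨r, hr⟩ k).mpr hk
  have ha₀F : (a₀ : F) ^ (Fintype.card F / 2) = -1 := by
    rw [hq2, pow_mul, h1F, he_odd.neg_one_pow]
  have ha₀F0 : (a₀ : F) ≠ 0 := by
    intro h
    apply ha₀0
    exact Subtype.ext h
  intro t ht
  by_cases hsq : IsSquare t
  · obtain ⟨μ, hμ⟩ := hsq
    have hμ0 : μ ≠ 0 := by
      rintro rfl
      apply ht
      rw [hμ, mul_zero]
    exact ⟨1, F₀.one_mem, one_ne_zero, μ, hμ0, by rw [one_mul, hμ, pow_two]⟩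
  · have ht2 : t ^ (Fintype.card F / 2) = -1 := by
      rcases FiniteField.pow_dichotomy hchar ht with h | h
      · exfalso
        apply hsq
        rw [FiniteField.isSquare_iff hchar ht]
        exact h
      · exact h
    have hdiv : IsSquare (t / (a₀ : F)) := by
      rw [FiniteField.isSquare_iff hchar (div_ne_zero ht ha₀F0), div_pow, ht2, ha₀F]
      norm_num
    obtain ⟨μ, hμ⟩ := hdiv
    have hμ0 : μ ≠ 0 := by
      rintro rfl
      rw [mul_zero] at hμ
      exact (div_ne_zero ht ha₀F0) hμ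
    refine ⟨(a₀ : F), a₀.2, ha₀F0, μ, hμ0, ?_⟩
    rw [pow_two, ← hμ, mul_div_cancel₀ _ ha₀F0]

end Cfsg.Agent.Helper38.SubF
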