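import Cfsg.Agent.Helper38.SubFieldMem
import Cfsg.Agent.Helper38.ChainBasis

/-!
# Characteristic 3: elements with scalar cube are conjugate into the subfield group

If `x ∈ SL_n(F)` (char 3, `F` finite) has `x ^ 3` scalar then `x = λ (1 + N)` with `N ^ 3 = 0`, and a
Jordan chain basis of `N` (suitably rescaled to have determinant one) conjugates `x` into
`GL_n(F₀) · Z`, provided `n` is odd or `F^× = F₀^× (F^×)^2`.
-/

set_option autoImplicit false

namespace Cfsg.Agent.Helper38.SubF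

open Matrix Cfsg Cfsg.Geo Cfsg.Agent.Helper38.Chain

variable {F : Type*} [Field F] {n : ℕ}

local notation "SLn" => Matrix.SpecialLinearGroup (Fin n) F

/-- the subgroup `H` of the statement -/
abbrev subH (n : ℕ) (F₀ : Subfield F) : Subgroup (Matrix.SpecialLinearGroup (Fin n) F) :=
  (Cfsg.Geo.subfieldSubgroup F₀ (1 : GL (Fin n) F)).comap
    (Matrix.SpecialLinearGroup.toGL : Matrix.SpecialLinearGroup (Fin n) F →* GL (Fin n) F)

/-- a determinant-one change of basis making `N` rational conjugates `λ (1 + N)` into `H` -/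
theorem conj_mem_of_rational (F₀ : Subfield F) (x : SLn) (lam : F) (hlam : lam ≠ 0)
    (N : Matrix (Fin n) (Fin n) F) (hx : x.val = lam • (1 + N)) (Q : GL (Fin n) F)
    (hQ : ∀ i j, ((Q⁻¹ : GL (Fin n) F).val * N * Q.val) i j ∈ F₀)
    (hdet : (Q.val : Matrix (Fin n) (Fin n) F).det = 1) :
    ∃ P : SLn, P⁻¹ * x * P ∈ subH n F₀ := by
  obtain ⟨P, hPval⟩ : ∃ P : SLn, P.val = Q.val := ⟨⟨Q.val, hdet⟩, rfl⟩
  refine ⟨P, ?_⟩
  have hP : Matrix.SpecialLinearGroup.toGL P = Q := Units.ext hPval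
  rw [Subgroup.mem_comap, map_mul, map_mul, map_inv, hP]
  apply mem_of_entries F₀ _ lam hlam
  intro i j
  have h1 : ((Q⁻¹ * Matrix.SpecialLinearGroup.toGL x * Q : GL (Fin n) F) :
      Matrix (Fin n) (Fin n) F) = lam • (1 + (Q⁻¹ : GL (Fin n) F).val * N * Q.val) := by
    rw [Units.val_mul, Units.val_mul, Matrix.SpecialLinearGroup.coe_GL_coe_matrix]
    change (Q⁻¹ : GL (Fin n) F).val * x.val * Q.val = _
    rw [hx, Matrix.mul_smul, Matrix.smul_mul, Matrix.mul_add, Matrix.add_mul, Matrix.mul_one,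
      ← Units.val_mul, inv_mul_cancel, Units.val_one]
  rw [h1, Matrix.smul_apply, smul_eq_mul, mul_div_cancel_left₀ _ hlam, Matrix.add_apply]
  refine F₀.add_mem ?_ (hQ i j)
  rw [Matrix.one_apply]
  split_ifs
  · exact F₀.one_mem
  · exact F₀.zero_mem

/-- a diagonal element with one entry `a` and the others `1` -/
noncomputable def diagGL (hn : 0 < n) (a : Fˣ) : GL (Fin n) F :=
  ⟨Matrix.diagonal (fun i : Fin n => if i = ⟨0, hn⟩ then (a : F) else 1),
    Matrix.diagonal (fun i : Fin n => if i = ⟨0, hn⟩ then ((a⁻¹ : Fˣ) : F) else 1), by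
      rw [Matrix.diagonal_mul_diagonal, ← Matrix.diagonal_one]
      congr 1
      funext i
      split_ifs
      · exact a.mul_inv
      · exact mul_one 1, by
      rw [Matrix.diagonal_mul_diagonal, ← Matrix.diagonal_one]
      congr 1
      funext i
      split_ifs
      · exact a.inv_mul
      · exact mul_one 1⟩

theorem det_diagGL (hn : 0 < n) (a : Fˣ) : (diagGL hn a).val.det = (a : F) := by
  show (Matrix.diagonal (fun i : Fin n => if i = ⟨0, hn⟩ then (a : F) else 1)).det = a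
  rw [Matrix.det_diagonal, Finset.prod_ite_eq' Finset.univ (⟨0, hn⟩ : Fin n)]
  simp

theorem conj_diagGL_mem (hn : 0 < n) (F₀ : Subfield F) (a : Fˣ) (ha : (a : F) ∈ F₀)
    (J : Matrix (Fin n) (Fin n) F) (hJ : ∀ i j, J i j ∈ F₀) (i j : Fin n) :
    (((diagGL hn a)⁻¹ : GL (Fin n) F).val * J * (diagGL hn a).val) i j ∈ F₀ := by
  have h1 : ((diagGL hn a)⁻¹ : GL (Fin n) F).val
      = Matrix.diagonal (fun i : Fin n => if i = ⟨0, hn⟩ then ((a⁻¹ : Fˣ) : F) else 1) := rfl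
  have h2 : (diagGL hn a).val
      = Matrix.diagonal (fun i : Fin n => if i = ⟨0, hn⟩ then (a : F) else 1) := rfl
  rw [h1, h2, Matrix.mul_diagonal, Matrix.diagonal_mul]
  have hainv : ((a⁻¹ : Fˣ) : F) ∈ F₀ := by
    rw [Units.val_inv_eq_inv_val]
    exact F₀.inv_mem ha
  refine F₀.mul_mem (F₀.mul_mem ?_ (hJ i j)) ?_
  · split_ifs
    · exact hainv
    · exact F₀.one_mem
  · split_ifs
    · exact ha
    · exact F₀.one_mem

theorem is01_mem (F₀ : Subfield F) {J : Matrix (Fin n) (Fin n) F} (hJ : Is01 J) (i j : Fin n) :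
    J i j ∈ F₀ := by
  rcases hJ i j with h | h
  · rw [h]; exact F₀.zero_mem
  · rw [h]; exact F₀.one_mem

/-- **Backward direction.** -/
theorem exists_conj_mem [Fintype F] [CharP F 3] (hn : 0 < n) (F₀ : Subfield F)
    (hcond : Odd n ∨ ∀ t : F, t ≠ 0 → ∃ a : F, a ∈ F₀ ∧ a ≠ 0 ∧ ∃ μ : F, μ ≠ 0 ∧ t = a * μ ^ 2)
    (x : SLn) (z : F)
    (hz : ((x ^ 3 : SLn) : Matrix (Fin n) (Fin n) F) = z • (1 : Matrix (Fin n) (Fin n) F)) :
    ∃ P : SLn, P⁻¹ * x * P ∈ subH n F₀ := by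
  classical
  have : Nonempty (Fin n) := ⟨⟨0, hn⟩⟩
  have hcube : ∀ y : F, ∃ w : F, w ^ 3 = y := by
    have inj : Function.Injective (fun w : F => w ^ 3) := by
      intro a b h
      have h3 : (a - b) ^ 3 = 0 := by
        rw [sub_pow_char, show a ^ 3 = b ^ 3 from h, sub_self]
      exact sub_eq_zero.mp ((pow_eq_zero_iff (three_ne_zero)).mp h3)
    exact Finite.surjective_of_injective inj
  have hz0 : z ≠ 0 := by
    rintro rfl
    have h1 := (x ^ 3 : SLn).det_coe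
    rw [hz, zero_smul, Matrix.det_zero] at h1
    exact zero_ne_one h1
  obtain ⟨lam, hlam3⟩ := hcube z
  have hlam : lam ≠ 0 := by
    rintro rfl
    apply hz0
    rw [← hlam3]
    norm_num
  obtain ⟨N, hNdef⟩ : ∃ N : Matrix (Fin n) (Fin n) F, N = lam⁻¹ • x.val - 1 := ⟨_, rfl⟩
  have hx3 : x.val ^ 3 = z • (1 : Matrix (Fin n) (Fin n) F) := by
    rw [← hz, Matrix.SpecialLinearGroup.coe_pow]
  have hN : N ^ 3 = 0 := by
    rw [hNdef, sub_pow_char_of_commute 3 (Commute.one_right _), one_pow, _root_.smul_pow, hx3,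
      smul_smul, ← hlam3, inv_pow, inv_mul_cancel₀ (pow_ne_zero 3 hlam), one_smul, sub_self]
  have hx : x.val = lam • (1 + N) := by
    rw [hNdef, add_sub_cancel, smul_smul, mul_inv_cancel₀ hlam, one_smul]
  obtain ⟨l, hpos, hle, hsum, P₁, h01, hscale⟩ := exists_adapted_GL N 3 hN
  have hd1 : P₁.val.det ≠ 0 := by
    have := (Matrix.GeneralLinearGroup.det P₁).ne_zero
    simpa using this
  by_cases h3 : 3 ∈ l
  · obtain ⟨μ, hμ⟩ := hcube (P₁.val.det)⁻¹
    have hμ0 : μ ≠ 0 := by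
      rintro rfl
      have : (P₁.val.det)⁻¹ = 0 := by rw [← hμ]; norm_num
      exact inv_ne_zero hd1 this
    obtain ⟨Q, hQ01, hQdet⟩ := hscale 3 h3 (Units.mk0 μ hμ0)
    refine conj_mem_of_rational F₀ x lam hlam N hx Q (fun i j => is01_mem F₀ hQ01 i j) ?_
    rw [hQdet, Units.val_mk0, hμ, inv_mul_cancel₀ hd1]
  by_cases h1 : 1 ∈ l
  · obtain ⟨Q, hQ01, hQdet⟩ := hscale 1 h1 (Units.mk0 (P₁.val.det)⁻¹ (inv_ne_zero hd1))
    refine conj_mem_of_rational F₀ x lam hlam N hx Q (fun i j => is01_mem F₀ hQ01 i j) ?_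
    rw [hQdet, Units.val_mk0, pow_one, inv_mul_cancel₀ hd1]
  -- all parts are `2`
  have hall : ∀ a ∈ l, a = 2 := by
    intro a ha
    have h1' := hpos a ha
    have h2' := hle a ha
    have : a ≠ 3 := fun h => h3 (h ▸ ha)
    have : a ≠ 1 := fun h => h1 (h ▸ ha)
    omega
  have hsum2 : n = l.length * 2 := by
    rw [← hsum, List.sum_eq_card_nsmul l 2 hall, smul_eq_mul]
  have hl0 : l ≠ [] := by
    rintro rfl
    simp at hsum2
    omega
  have h2 : 2 ∈ l := by
    obtain ⟨a, ha⟩ := List.exists_mem_of_ne_nil l hl0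
    rw [← hall a ha]
    exact ha
  have hsq : ∀ t : F, t ≠ 0 → ∃ a : F, a ∈ F₀ ∧ a ≠ 0 ∧ ∃ μ : F, μ ≠ 0 ∧ t = a * μ ^ 2 := by
    rcases hcond with hodd | h
    · exfalso
      rw [hsum2] at hodd
      exact (Nat.not_even_iff_odd.mpr hodd) (even_two.mul_left _)
    · exact h
  obtain ⟨a, haF, ha0, μ, hμ0, hta⟩ := hsq (P₁.val.det)⁻¹ (inv_ne_zero hd1)
  obtain ⟨Q, hQ01, hQdet⟩ := hscale 2 h2 (Units.mk0 μ hμ0)
  refine conj_mem_of_rational F₀ x lam hlam N hx (Q * diagGL hn (Units.mk0 a ha0)) ?_ ?_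
  · intro i j
    have : ((Q * diagGL hn (Units.mk0 a ha0))⁻¹ : GL (Fin n) F).val * N
        * (Q * diagGL hn (Units.mk0 a ha0)).val
        = ((diagGL hn (Units.mk0 a ha0))⁻¹ : GL (Fin n) F).val
          * ((Q⁻¹ : GL (Fin n) F).val * N * Q.val) * (diagGL hn (Units.mk0 a ha0)).val := by
      rw [_root_.mul_inv_rev, Units.val_mul, Units.val_mul]
      simp only [Matrix.mul_assoc]
    rw [this]
    exact conj_diagGL_mem hn F₀ _ haF _ (fun i j => is01_mem F₀ hQ01 i j) i j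
  · rw [Units.val_mul, Matrix.det_mul, det_diagGL, hQdet, Units.val_mk0, Units.val_mk0]
    have : P₁.val.det * (a * μ ^ 2) = 1 := by
      rw [← hta, mul_inv_cancel₀ hd1]
    linear_combination this

end Cfsg.Agent.Helper38.SubF
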