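import Cfsg.Agent.Helper38.SubF3Fwd
import Cfsg.Agent.Helper38.SubF3Back

/-!
# The element of order 3 of `SL_{2m}(q₀²)` not conjugate into the subfield group
-/

set_option autoImplicit false
set_option linter.unusedSectionVars false

namespace Cfsg.Agent.Helper38.SubF

open Matrix Cfsg Cfsg.Geo

variable {F : Type*} [Field F] {m : ℕ}

/-- diagonal matrix with one entry `δ` -/
def dlt (hm : 0 < m) (δ : F) : Matrix (Fin m) (Fin m) F :=
  Matrix.diagonal (fun i : Fin m => if i = ⟨0, hm⟩ then δ else 1)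

theorem det_dlt (hm : 0 < m) (δ : F) : (dlt hm δ).det = δ := by
  rw [dlt, Matrix.det_diagonal, Finset.prod_ite_eq' Finset.univ (⟨0, hm⟩ : Fin m)]
  simp

theorem dlt_mul_dlt (hm : 0 < m) (δ : F) (hδ : δ ≠ 0) : dlt hm δ * dlt hm δ⁻¹ = 1 := by
  rw [dlt, dlt, Matrix.diagonal_mul_diagonal, ← Matrix.diagonal_one]
  congr 1
  funext i
  split_ifs
  · exact mul_inv_cancel₀ hδ
  · exact mul_one 1

/-- the block matrices -/
def Xm (hm : 0 < m) (δ : F) : Matrix (Fin m ⊕ Fin m) (Fin m ⊕ Fin m) F :=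
  Matrix.fromBlocks 1 (dlt hm δ) 0 1

def D0 (hm : 0 < m) (δ : F) : Matrix (Fin m ⊕ Fin m) (Fin m ⊕ Fin m) F :=
  Matrix.fromBlocks (dlt hm δ) 0 0 1

theorem det_Xm (hm : 0 < m) (δ : F) : (Xm hm δ).det = 1 := by
  rw [Xm, Matrix.det_fromBlocks_zero₂₁, Matrix.det_one, one_mul]

theorem det_D0 (hm : 0 < m) (δ : F) : (D0 hm δ).det = δ := by
  rw [D0, Matrix.det_fromBlocks_zero₂₁, Matrix.det_one, mul_one, det_dlt]

theorem D0_mul_D0 (hm : 0 < m) (δ : F) (hδ : δ ≠ 0) : D0 hm δ * D0 hm δ⁻¹ = 1 := by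
  rw [D0, D0, Matrix.fromBlocks_multiply, ← Matrix.fromBlocks_one]
  simp [dlt_mul_dlt hm δ hδ]

theorem Xm_mul_D0 (hm : 0 < m) (δ : F) : Xm hm δ * D0 hm δ = D0 hm δ * B0 F m := by
  rw [Xm, D0, B0, Matrix.fromBlocks_multiply, Matrix.fromBlocks_multiply]
  simp

theorem Xm_sub_one_sq (hm : 0 < m) (δ : F) : (Xm hm δ - 1) * (Xm hm δ - 1) = 0 := by
  have : Xm hm δ - 1 = Matrix.fromBlocks 0 (dlt hm δ) 0 0 := by
    rw [Xm]
    ext i j
    rcases i with i | i <;> rcases j with j | j <;> simp [Matrix.one_apply]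
  rw [this, Matrix.fromBlocks_multiply]
  simp

theorem Xm_pow_three [CharP F 3] (hm : 0 < m) (δ : F) : Xm hm δ ^ 3 = 1 := by
  have h3 : (3 : F) = 0 := by
    have := CharP.cast_eq_zero F 3
    exact_mod_cast this
  have h2 : Xm hm δ * Xm hm δ = Matrix.fromBlocks 1 (dlt hm δ + dlt hm δ) 0 1 := by
    rw [Xm, Matrix.fromBlocks_multiply]
    simp
  rw [pow_succ, pow_two, h2, Xm, Matrix.fromBlocks_multiply, ← Matrix.fromBlocks_one]
  congr 1
  · simp
  · simp only [Matrix.one_mul, Matrix.mul_one]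
    have : dlt hm δ + (dlt hm δ + dlt hm δ) = (3 : F) • dlt hm δ := by
      rw [show (3 : F) = 1 + 1 + 1 by norm_num, add_smul, add_smul, one_smul]
      abel
    rw [this, h3, zero_smul]
  · simp
  · simp

theorem Xm_ne_smul (hm : 0 < m) (δ : F) (hδ : δ ≠ 0) (z : F) :
    Xm hm δ ≠ z • (1 : Matrix (Fin m ⊕ Fin m) (Fin m ⊕ Fin m) F) := by
  intro h
  have h1 := congrFun (congrFun h (Sum.inl ⟨0, hm⟩)) (Sum.inr ⟨0, hm⟩)
  rw [Xm, Matrix.fromBlocks_apply₁₂, Matrix.smul_apply, Matrix.one_apply_ne (by simp), smul_zero,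
    dlt, Matrix.diagonal_apply_eq, if_pos rfl] at h1
  exact hδ h1

/-- transport of matrices from `Fin m ⊕ Fin m` to `Fin (m + m)` -/
noncomputable abbrev Tr (F : Type*) [Field F] (m : ℕ) :
    Matrix (Fin m ⊕ Fin m) (Fin m ⊕ Fin m) F ≃ₐ[F] Matrix (Fin (m + m)) (Fin (m + m)) F :=
  Matrix.reindexAlgEquiv F F finSumFinEquiv

theorem mapMatrix_Tr_symm (σ : F →+* F) (M : Matrix (Fin (m + m)) (Fin (m + m)) F) :
    σ.mapMatrix ((Tr F m).symm M) = (Tr F m).symm (σ.mapMatrix M) := rfl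

/-- **Forward direction.** -/
theorem not_conj_mem [Fintype F] [CharP F 3] (hm : 0 < m) (F₀ : Subfield F) (f : ℕ)
    (hF₀ : Nat.card F₀ = 3 ^ f) (hq : Fintype.card F = (3 ^ f) ^ 2) :
    ∃ x : Matrix.SpecialLinearGroup (Fin (m + m)) F,
      ((x ^ 3 : Matrix.SpecialLinearGroup (Fin (m + m)) F) : Matrix (Fin (m + m)) (Fin (m + m)) F)
        = (1 : F) • (1 : Matrix (Fin (m + m)) (Fin (m + m)) F) ∧
      (∀ z : F, (x : Matrix (Fin (m + m)) (Fin (m + m)) F)
        ≠ z • (1 : Matrix (Fin (m + m)) (Fin (m + m)) F)) ∧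
      ∀ P : Matrix.SpecialLinearGroup (Fin (m + m)) F, P⁻¹ * x * P ∉ subH (m + m) F₀ := by
  classical
  have hchar : ringChar F ≠ 2 := by
    rw [ringChar.eq F 3]
    norm_num
  obtain ⟨δ, hδsq⟩ := FiniteField.exists_nonsquare hchar (F := F)
  have hδ0 : δ ≠ 0 := by
    rintro rfl
    exact hδsq ⟨0, by simp⟩
  have hdetx : (Tr F m (Xm hm δ)).det = 1 := by
    rw [Matrix.det_reindexAlgEquiv, det_Xm]
  obtain ⟨x, hxval⟩ : ∃ x : Matrix.SpecialLinearGroup (Fin (m + m)) F,
      x.val = Tr F m (Xm hm δ) := ⟨⟨_, hdetx⟩, rfl⟩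
  refine ⟨x, ?_, ?_, ?_⟩
  · rw [Matrix.SpecialLinearGroup.coe_pow, one_smul]
    change x.val ^ 3 = 1
    rw [hxval, ← map_pow, Xm_pow_three, map_one]
  · intro z hz
    change x.val = _ at hz
    rw [hxval] at hz
    apply Xm_ne_smul hm δ hδ0 z
    have := congrArg (Tr F m).symm hz
    rw [AlgEquiv.symm_apply_apply, map_smul, map_one] at this
    exact this
  · intro P hP
    rw [Subgroup.mem_comap] at hP
    obtain ⟨c, hc0, hent⟩ := entries_of_mem F₀ _ hP
    obtain ⟨Pi', hPi'⟩ : ∃ Pi' : Matrix (Fin (m + m)) (Fin (m + m)) F, Pi' = (P⁻¹).val := ⟨_, rfl⟩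
    have hPP : Pi' * P.val = 1 := by
      rw [hPi']
      have := congrArg Subtype.val (inv_mul_cancel P)
      rw [Matrix.SpecialLinearGroup.coe_mul] at this
      exact this
    have hPP' : P.val * Pi' = 1 := by
      rw [hPi']
      have := congrArg Subtype.val (mul_inv_cancel P)
      rw [Matrix.SpecialLinearGroup.coe_mul] at this
      exact this
    have hdetPi : Pi'.det = 1 := by
      rw [hPi']
      exact (P⁻¹).det_coe
    obtain ⟨y, hy⟩ : ∃ y, y = Pi' * x.val * P.val := ⟨_, rfl⟩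
    have hyval : ((Matrix.SpecialLinearGroup.toGL (P⁻¹ * x * P) : GL (Fin (m + m)) F) :
        Matrix (Fin (m + m)) (Fin (m + m)) F) = y := by
      rw [Matrix.SpecialLinearGroup.coe_GL_coe_matrix, hy, hPi']
      rfl
    rw [hyval] at hent
    -- `y` is fixed by the Frobenius
    have hyu : (y - 1) * (y - 1) = 0 := by
      have h1 : y - 1 = Pi' * (x.val - 1) * P.val := by
        rw [hy, Matrix.mul_sub, Matrix.sub_mul, Matrix.mul_one, hPP]
      have h2 : (x.val - 1) * (x.val - 1) = 0 := by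
        rw [hxval, ← map_one (Tr F m), ← map_sub, ← map_mul, Xm_sub_one_sq, map_zero]
      calc (y - 1) * (y - 1) = Pi' * (x.val - 1) * (P.val * Pi') * (x.val - 1) * P.val := by
            rw [h1]; simp only [Matrix.mul_assoc]
        _ = Pi' * ((x.val - 1) * (x.val - 1)) * P.val := by
            rw [hPP', Matrix.mul_one]; simp only [Matrix.mul_assoc]
        _ = 0 := by rw [h2, Matrix.mul_zero, Matrix.zero_mul]
    have hxy : x.val = P.val * y * Pi' := by
      rw [hy]
      calc x.val = (P.val * Pi') * x.val * (P.val * Pi') := by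
            rw [hPP', Matrix.one_mul, Matrix.mul_one]
        _ = P.val * (Pi' * x.val * P.val) * Pi' := by simp only [Matrix.mul_assoc]
    have hy1 : y ≠ 1 := by
      intro h
      rw [h, Matrix.mul_one, hPP'] at hxy
      have h2 : Tr F m (Xm hm δ) = (1 : F) • (1 : Matrix (Fin (m + m)) (Fin (m + m)) F) := by
        rw [← hxval, hxy, one_smul]
      apply Xm_ne_smul hm δ hδ0 1
      have := congrArg (Tr F m).symm h2
      rw [AlgEquiv.symm_apply_apply, map_smul, map_one] at this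
      exact this
    have hσy : (sig F f).mapMatrix y = y := by
      apply scalar_fixed (sig F f) c hc0 (c⁻¹ • y) y
      · ext i j
        rw [RingHom.mapMatrix_apply, Matrix.map_apply]
        have : (c⁻¹ • y) i j = y i j / c := by
          rw [Matrix.smul_apply, smul_eq_mul, div_eq_inv_mul]
        rw [this]
        exact sig_of_mem f hq F₀ hF₀ (hent i j)
      · rw [smul_smul, mul_inv_cancel₀ hc0, one_smul]
      · exact hyu
      · exact hy1
    -- move to block index type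
    obtain ⟨g, hg⟩ : ∃ g, g = (Tr F m).symm Pi' * D0 hm δ := ⟨_, rfl⟩
    obtain ⟨g', hg'⟩ : ∃ g', g' = D0 hm δ⁻¹ * (Tr F m).symm P.val := ⟨_, rfl⟩
    have hδinv : D0 hm δ⁻¹ * D0 hm δ = 1 := by
      have := D0_mul_D0 hm δ⁻¹ (inv_ne_zero hδ0)
      rw [inv_inv] at this
      exact this
    have hgg' : g * g' = 1 := by
      rw [hg, hg']
      calc (Tr F m).symm Pi' * D0 hm δ * (D0 hm δ⁻¹ * (Tr F m).symm P.val)
          = (Tr F m).symm Pi' * (D0 hm δ * D0 hm δ⁻¹) * (Tr F m).symm P.val := by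
            simp only [Matrix.mul_assoc]
        _ = 1 := by
            rw [D0_mul_D0 hm δ hδ0, Matrix.mul_one, ← map_mul, hPP, map_one]
    have hg'g : g' * g = 1 := by
      rw [hg, hg']
      calc D0 hm δ⁻¹ * (Tr F m).symm P.val * ((Tr F m).symm Pi' * D0 hm δ)
          = D0 hm δ⁻¹ * ((Tr F m).symm P.val * (Tr F m).symm Pi') * D0 hm δ := by
            simp only [Matrix.mul_assoc]
        _ = 1 := by
            rw [← map_mul, hPP', map_one, Matrix.mul_one, hδinv]
    have hYg : (Tr F m).symm y * g = g * B0 F m := by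
      rw [hg]
      have h1 : y * Pi' = Pi' * x.val := by
        rw [hy]
        calc Pi' * x.val * P.val * Pi' = Pi' * x.val * (P.val * Pi') := by
              simp only [Matrix.mul_assoc]
          _ = Pi' * x.val := by rw [hPP', Matrix.mul_one]
      calc (Tr F m).symm y * ((Tr F m).symm Pi' * D0 hm δ)
          = (Tr F m).symm (y * Pi') * D0 hm δ := by rw [map_mul, Matrix.mul_assoc]
        _ = (Tr F m).symm Pi' * (Xm hm δ * D0 hm δ) := by
            rw [h1, map_mul, hxval, AlgEquiv.symm_apply_apply, Matrix.mul_assoc]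
        _ = (Tr F m).symm Pi' * D0 hm δ * B0 F m := by rw [Xm_mul_D0, Matrix.mul_assoc]
    have hσY : (sig F f).mapMatrix ((Tr F m).symm y) = (Tr F m).symm y := by
      rw [mapMatrix_Tr_symm, hσy]
    obtain ⟨t, ht1, ht2⟩ := core (sig F f) (sig_sig f hq) _ g g' hgg' hg'g hYg hσY
    have hdetg : g.det = δ := by
      rw [hg, Matrix.det_mul, det_D0]
      have : ((Tr F m).symm Pi').det = Pi'.det := by
        rw [Matrix.symm_reindexAlgEquiv, Matrix.det_reindexAlgEquiv]
      rw [this, hdetPi, one_mul]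
    rw [hdetg] at ht2
    obtain ⟨w, hw0, hwt⟩ := hilbert90_inv (sig F f) (exists_sig_ne f hq) (sig_sig f hq) t ht1
    have hσw0 : sig F f w ≠ 0 := by
      intro h
      apply hw0
      have := sig_sig f hq w
      rw [h, map_zero] at this
      exact this.symm
    have hfix : sig F f (δ * w ^ 2) = δ * w ^ 2 := by
      rw [map_mul, map_pow, ht2, ← hwt]
      field_simp
    have hsq := isSquare_of_sig_fixed f hq (mul_ne_zero hδ0 (pow_ne_zero 2 hw0)) hfix
    obtain ⟨v, hv⟩ := hsq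
    apply hδsq
    refine ⟨v / w, ?_⟩
    field_simp
    rw [hv]
    ring

end Cfsg.Agent.Helper38.SubF
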