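import Cfsg.Agent.Helper38.SubFieldMem

/-!
# Characteristic 3, `n = 2m`, `q = q₀²`: a unipotent element not conjugate into the subfield group

`x = [[1, Δ], [0, 1]]` with `det Δ` a non-square is not `SL`-conjugate into `GL_n(F₀) · Z`:
a Frobenius (Lang-type) argument on the centraliser of `[[1, 1], [0, 1]]`.
-/

set_option autoImplicit false
set_option linter.unusedSectionVars false

namespace Cfsg.Agent.Helper38.SubF

open Matrix Cfsg Cfsg.Geo

variable {F : Type*} [Field F]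

/-- Hilbert 90 for an involution of a field -/
theorem hilbert90_inv (σ : F →+* F) (hσ : ∃ ω, σ ω ≠ ω)
    (hσ2 : ∀ a, σ (σ a) = a) (δ : F) (hδ : δ * σ δ = 1) : ∃ z : F, z ≠ 0 ∧ z * (σ z)⁻¹ = δ := by
  by_cases h1 : 1 + δ = 0
  · have hδ' : δ = -1 := by linear_combination h1
    by_cases h2 : (2 : F) = 0
    · refine ⟨1, one_ne_zero, ?_⟩
      rw [map_one, inv_one, mul_one, hδ']
      linear_combination h2
    · obtain ⟨ω, hω⟩ := hσ
      have hne : ω - σ ω ≠ 0 := sub_ne_zero.2 (Ne.symm hω)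
      refine ⟨ω - σ ω, hne, ?_⟩
      have h3 : σ (ω - σ ω) = -(ω - σ ω) := by rw [map_sub, hσ2]; ring
      rw [h3, hδ', inv_neg, mul_neg, mul_inv_cancel₀ hne]
  · refine ⟨1 + δ, h1, ?_⟩
    have hδ0 : δ ≠ 0 := by
      rintro rfl
      simp at hδ
    have hσδ : σ δ = δ⁻¹ := eq_inv_of_mul_eq_one_right hδ
    have h2 : σ (1 + δ) = (1 + δ) * δ⁻¹ := by
      rw [map_add, map_one, hσδ, add_mul, one_mul, mul_inv_cancel₀ hδ0, add_comm]
    rw [h2, mul_inv, inv_inv, ← mul_assoc, mul_inv_cancel₀ h1, one_mul]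

section core

variable {m : ℕ}

/-- the standard unipotent element with all Jordan blocks of size two -/
def B0 (F : Type*) [Field F] (m : ℕ) : Matrix (Fin m ⊕ Fin m) (Fin m ⊕ Fin m) F :=
  Matrix.fromBlocks 1 1 0 1

theorem map_B0 (σ : F →+* F) : σ.mapMatrix (B0 F m) = B0 F m := by
  rw [RingHom.mapMatrix_apply, B0, Matrix.fromBlocks_map, Matrix.map_one _ (map_zero σ) (map_one σ),
    Matrix.map_zero _ (map_zero σ)]

/-- **Lang-type lemma.**  If `Y = g B₀ g⁻¹` is fixed by the involution `σ`, then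
`σ (det g) = t² det g` with `t σ(t) = 1`. -/
theorem core (σ : F →+* F) (hσ2 : ∀ a, σ (σ a) = a)
    (Y g g' : Matrix (Fin m ⊕ Fin m) (Fin m ⊕ Fin m) F) (hg : g * g' = 1) (hg' : g' * g = 1)
    (hY : Y * g = g * B0 F m) (hσY : σ.mapMatrix Y = Y) :
    ∃ t : F, t * σ t = 1 ∧ σ g.det = t ^ 2 * g.det := by
  obtain ⟨sg, hsg⟩ : ∃ sg, sg = σ.mapMatrix g := ⟨_, rfl⟩
  obtain ⟨sg', hsg'⟩ : ∃ sg', sg' = σ.mapMatrix g' := ⟨_, rfl⟩
  have hss : sg * sg' = 1 := by rw [hsg, hsg', ← map_mul, hg, map_one]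
  have hσsg : σ.mapMatrix sg = g := by
    rw [hsg]
    ext i j
    simp [RingHom.mapMatrix_apply, hσ2]
  have hσsg' : σ.mapMatrix sg' = g' := by
    rw [hsg']
    ext i j
    simp [RingHom.mapMatrix_apply, hσ2]
  have h1 : Y * sg = sg * B0 F m := by
    have := congrArg σ.mapMatrix hY
    rw [map_mul, map_mul, hσY, map_B0, ← hsg] at this
    exact this
  have h2 : g' * Y = B0 F m * g' := by
    calc g' * Y = g' * Y * (g * g') := by rw [hg, Matrix.mul_one]
      _ = g' * (Y * g) * g' := by simp only [Matrix.mul_assoc]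
      _ = g' * (g * B0 F m) * g' := by rw [hY]
      _ = (g' * g) * B0 F m * g' := by simp only [Matrix.mul_assoc]
      _ = B0 F m * g' := by rw [hg', Matrix.one_mul]
  obtain ⟨c, hc⟩ : ∃ c, c = g' * sg := ⟨_, rfl⟩
  have hcB : c * B0 F m = B0 F m * c := by
    rw [hc, Matrix.mul_assoc, ← h1, ← Matrix.mul_assoc, h2, Matrix.mul_assoc]
  have hcσ : c * σ.mapMatrix c = 1 := by
    rw [hc, map_mul, hσsg, ← hsg']
    calc g' * sg * (sg' * g) = g' * (sg * sg') * g := by simp only [Matrix.mul_assoc]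
      _ = 1 := by rw [hss, Matrix.mul_one, hg']
  -- block decomposition of `c`
  obtain ⟨A, B, C, D, hABCD⟩ : ∃ A B C D, c = Matrix.fromBlocks A B C D :=
    ⟨_, _, _, _, (Matrix.fromBlocks_toBlocks c).symm⟩
  have hblocks := hcB
  rw [hABCD, B0, Matrix.fromBlocks_multiply, Matrix.fromBlocks_multiply,
    Matrix.fromBlocks_inj] at hblocks
  simp only [Matrix.mul_one, Matrix.mul_zero, Matrix.one_mul, Matrix.zero_mul, add_zero,
    zero_add] at hblocks
  obtain ⟨e1, e2, e3, e4⟩ := hblocks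
  have hC : C = 0 := by
    have : A + 0 = A + C := by rw [add_zero]; exact e1
    exact (add_left_cancel this).symm
  have hD : D = A := by
    have : B + A = B + D := by rw [add_comm B A]; exact e2
    exact (add_left_cancel this).symm
  rw [hC, hD] at hABCD
  have hdetc : c.det = A.det * A.det := by
    rw [hABCD, Matrix.det_fromBlocks_zero₂₁]
  have hAσ : A * σ.mapMatrix A = 1 := by
    have h3 := hcσ
    rw [hABCD, RingHom.mapMatrix_apply, Matrix.fromBlocks_map, Matrix.fromBlocks_multiply,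
      ← Matrix.fromBlocks_one, Matrix.fromBlocks_inj] at h3
    have h4 := h3.1
    rw [Matrix.map_zero _ (map_zero σ), Matrix.mul_zero, add_zero] at h4
    rw [RingHom.mapMatrix_apply]
    exact h4
  refine ⟨A.det, ?_, ?_⟩
  · rw [RingHom.map_det, ← Matrix.det_mul, hAσ, Matrix.det_one]
  · have h5 : c.det = g'.det * σ g.det := by
      rw [hc, Matrix.det_mul, hsg, ← RingHom.map_det]
    have h6 : g.det * g'.det = 1 := by rw [← Matrix.det_mul, hg, Matrix.det_one]
    calc σ g.det = (g.det * g'.det) * σ g.det := by rw [h6, one_mul]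
      _ = g.det * c.det := by rw [h5]; ring
      _ = A.det ^ 2 * g.det := by rw [hdetc]; ring

end core

section scalar

variable {κ : Type*} [Fintype κ] [DecidableEq κ]

/-- a unipotent element `c • A` with `A` fixed by `σ` is itself fixed by `σ` -/
theorem scalar_fixed (σ : F →+* F) (c : F) (hc : c ≠ 0) (A y : Matrix κ κ F)
    (hA : σ.mapMatrix A = A) (hy : y = c • A) (hu : (y - 1) * (y - 1) = 0) (hne : y ≠ 1) :
    σ.mapMatrix y = y := by
  obtain ⟨ρ, hρ⟩ : ∃ ρ, ρ = σ c / c := ⟨_, rfl⟩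
  have hσy : σ.mapMatrix y = ρ • y := by
    rw [hy, smul_smul, hρ, div_mul_cancel₀ _ hc]
    ext i j
    have := congrFun (congrFun hA i) j
    simp only [RingHom.mapMatrix_apply, Matrix.map_apply, Matrix.smul_apply, smul_eq_mul,
      map_mul] at this ⊢
    rw [this]
  obtain ⟨M, hM⟩ : ∃ M, M = y - 1 := ⟨_, rfl⟩
  have hM0 : M ≠ 0 := by
    rw [hM]
    exact sub_ne_zero.mpr hne
  have hMM : M * M = 0 := by rw [hM]; exact hu
  obtain ⟨K, hK⟩ : ∃ K, K = σ.mapMatrix M := ⟨_, rfl⟩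
  have hKK : K * K = 0 := by rw [hK, ← map_mul, hMM, map_zero]
  have hK' : K = ρ • M + (ρ - 1) • (1 : Matrix κ κ F) := by
    rw [hK, hM, map_sub, map_one, hσy, smul_sub, sub_smul, one_smul]
    abel
  have hMK : M * K = (ρ - 1) • M := by
    rw [hK', Matrix.mul_add, Matrix.mul_smul, Matrix.mul_smul, hMM, smul_zero, zero_add,
      Matrix.mul_one]
  have h0 : ((ρ - 1) * (ρ - 1)) • M = 0 := by
    calc ((ρ - 1) * (ρ - 1)) • M = (ρ - 1) • ((ρ - 1) • M) := by rw [smul_smul]
      _ = (ρ - 1) • (M * K) := by rw [hMK]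
      _ = ((ρ - 1) • M) * K := by rw [Matrix.smul_mul]
      _ = M * K * K := by rw [hMK]
      _ = M * (K * K) := by rw [Matrix.mul_assoc]
      _ = 0 := by rw [hKK, Matrix.mul_zero]
  have hρ1 : ρ = 1 := by
    rcases smul_eq_zero.mp h0 with h | h
    · have : ρ - 1 = 0 := by
        rcases mul_eq_zero.mp h with h' | h' <;> exact h'
      exact sub_eq_zero.mp this
    · exact absurd h hM0
  rw [hσy, hρ1, one_smul]

end scalar

section frob

variable [Fintype F] [CharP F 3]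

/-- the `3 ^ f`-power map as a ring homomorphism -/
def sig (F : Type*) [Field F] [CharP F 3] (f : ℕ) : F →+* F where
  toFun y := y ^ 3 ^ f
  map_one' := one_pow _
  map_mul' a b := mul_pow a b _
  map_zero' := zero_pow (pow_ne_zero _ (by norm_num))
  map_add' a b := add_pow_char_pow a b 3 f

theorem sig_apply (f : ℕ) (y : F) : sig F f y = y ^ 3 ^ f := rfl

variable (f : ℕ) (hq : Fintype.card F = (3 ^ f) ^ 2)
include hq

theorem sig_sig (a : F) : sig F f (sig F f a) = a := by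
  rw [sig_apply, sig_apply, ← pow_mul, ← pow_two, ← hq, FiniteField.pow_card]

theorem f_pos : 0 < f := by
  rcases Nat.eq_zero_or_pos f with h | h
  · exfalso
    rw [h] at hq
    have := Fintype.one_lt_card (α := F)
    rw [hq] at this
    norm_num at this
  · exact h

theorem sig_of_mem (F₀ : Subfield F) (hF₀ : Nat.card F₀ = 3 ^ f) {a : F} (ha : a ∈ F₀) :
    sig F f a = a := by
  classical
  have : Fintype F₀ := Fintype.ofFinite _
  have h1 : (⟨a, ha⟩ : F₀) ^ Fintype.card F₀ = ⟨a, ha⟩ := FiniteField.pow_card _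
  rw [← Nat.card_eq_fintype_card, hF₀] at h1
  have h2 := congrArg (fun y : F₀ => (y : F)) h1
  rw [sig_apply]
  simpa using h2

theorem exists_sig_ne : ∃ ω : F, sig F f ω ≠ ω := by
  classical
  by_contra hcon
  push Not at hcon
  obtain ⟨ζ, hζ⟩ := IsCyclic.exists_generator (α := Fˣ)
  have hord : orderOf ζ = (3 ^ f) ^ 2 - 1 := by
    rw [orderOf_eq_card_of_forall_mem_zpowers hζ, Nat.card_eq_fintype_card, Fintype.card_units, hq]
  have h1 : (ζ : F) ^ 3 ^ f = ζ := hcon ζ
  have hpos : 1 ≤ 3 ^ f := Nat.one_le_pow _ _ (by norm_num)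
  have h2 : ζ ^ (3 ^ f - 1) = 1 := by
    apply Units.ext
    have h3 : (ζ : F) ^ (3 ^ f - 1) * ζ = 1 * ζ := by
      rw [← pow_succ, Nat.sub_add_cancel hpos, h1, one_mul]
    have := mul_right_cancel₀ ζ.ne_zero h3
    simpa using this
  have h3 := orderOf_dvd_of_pow_eq_one h2
  rw [hord] at h3
  have hf := f_pos f hq
  have h4 : 3 ≤ 3 ^ f := by
    calc 3 = 3 ^ 1 := by norm_num
      _ ≤ 3 ^ f := Nat.pow_le_pow_right (by norm_num) hf
  have h5 : (3 ^ f) ^ 2 - 1 ≤ 3 ^ f - 1 := Nat.le_of_dvd (by omega) h3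
  have h6 : 3 ^ f * 3 ≤ (3 ^ f) ^ 2 := by
    rw [pow_two]
    exact Nat.mul_le_mul_left _ h4
  omega

theorem isSquare_of_sig_fixed {u : F} (hu0 : u ≠ 0) (hu : sig F f u = u) : IsSquare u := by
  have hchar : ringChar F ≠ 2 := by
    rw [ringChar.eq F 3]
    norm_num
  rw [FiniteField.isSquare_iff hchar hu0, hq]
  have hpos : 1 ≤ 3 ^ f := Nat.one_le_pow _ _ (by norm_num)
  have h1 : u ^ (3 ^ f - 1) = 1 := by
    have h3 : u ^ (3 ^ f - 1) * u = 1 * u := by
      rw [← pow_succ, Nat.sub_add_cancel hpos, one_mul]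
      exact hu
    exact mul_right_cancel₀ hu0 h3
  obtain ⟨r, hr⟩ : ∃ r, 3 ^ f = 2 * r + 1 := by
    have : Odd (3 ^ f) := Odd.pow (by decide)
    obtain ⟨r, hr⟩ := this
    exact ⟨r, hr⟩
  have h2 : (3 ^ f) ^ 2 / 2 = (3 ^ f - 1) * (r + 1) := by
    rw [hr]
    have : (2 * r + 1) ^ 2 = 2 * (2 * r * (r + 1)) + 1 := by ring
    rw [this]
    have : (2 * (2 * r * (r + 1)) + 1) / 2 = 2 * r * (r + 1) := by omega
    rw [this]
    simp
  rw [h2, pow_mul, h1, one_pow]

end frob

end Cfsg.Agent.Helper38.SubF
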