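import Mathlib
import Cfsg.Agent.Helper71.QuotImage
import Cfsg.Agent.Helper31.WardW34

/-!
Helper38 (for helper21, S3797): piece (W9) — coprime action on `Y` with `Y / V` abelian:
`[Y, A] ∩ C_Y(A) ≤ V`.
-/

set_option autoImplicit false

namespace Cfsg.Agent.Helper38.TH

open Subgroup Cfsg.Agent.Helper71.QI
open scoped commutatorElement

/-- (W9) coprime action on `Y` with `Y/V` abelian: `[Y, A] ∩ C_Y(A) ≤ V`. -/
theorem commutator_inf_centralizer_le {G : Type*} [Group G] [Finite G] (Y V A : Subgroup G)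
    (hVY : V ≤ Y) (hYV : ⁅Y, Y⁆ ≤ V) (hAY : A ≤ normalizer (Y : Set G))
    (hAV : A ≤ normalizer (V : Set G))
    (hcop : (Nat.card A).Coprime (Nat.card Y)) :
    ⁅Y, A⁆ ⊓ centralizer (A : Set G) ≤ V := by
  -- `Y` normalizes `V`
  have hYN : Y ≤ normalizer (V : Set G) := by
    intro y hy
    rw [mem_normalizer_iff]
    intro v
    constructor
    · intro hv
      have h1 : y * v * y⁻¹ * v⁻¹ ∈ V := hYV (commutator_mem_commutator hy (hVY hv))
      have h2 : y * v * y⁻¹ = (y * v * y⁻¹ * v⁻¹) * v := by group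
      rw [h2]
      exact V.mul_mem h1 hv
    · intro hv
      have hw : y * v * y⁻¹ ∈ Y := Y.mul_mem (Y.mul_mem hy (by
        have : v = y⁻¹ * (y * v * y⁻¹) * y := by group
        rw [this]
        exact Y.mul_mem (Y.mul_mem (Y.inv_mem hy) (hVY hv)) hy)) (Y.inv_mem hy)
      have h1 : y⁻¹ * (y * v * y⁻¹) * y⁻¹⁻¹ * (y * v * y⁻¹)⁻¹ ∈ V :=
        hYV (commutator_mem_commutator (Y.inv_mem hy) hw)
      have h2 : v = (y⁻¹ * (y * v * y⁻¹) * y⁻¹⁻¹ * (y * v * y⁻¹)⁻¹) * (y * v * y⁻¹) := by group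
      rw [h2]
      exact V.mul_mem h1 hv
  -- `[Y, A] ≤ Y`
  have hcomY : ⁅Y, A⁆ ≤ Y := by
    rw [commutator_le]
    intro y hy a ha
    have h1 : a * y⁻¹ * a⁻¹ ∈ Y := (mem_normalizer_iff.1 (hAY ha) y⁻¹).1 (Y.inv_mem hy)
    have h2 : ⁅y, a⁆ = y * (a * y⁻¹ * a⁻¹) := by
      rw [commutatorElement_def]
      group
    rw [h2]
    exact Y.mul_mem hy h1
  -- the images in `N(V) / V`
  have hab : ∀ u ∈ img V Y, ∀ v ∈ img V Y, u * v = v * u := by
    intro u hu v hv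
    obtain ⟨s, hs, hsY, rfl⟩ := mem_img.1 hu
    obtain ⟨s', hs', hs'Y, rfl⟩ := mem_img.1 hv
    rw [← map_mul, ← map_mul, proj_eq_proj_iff]
    show (s * s')⁻¹ * (s' * s) ∈ V
    have h1 : s'⁻¹ * s⁻¹ * s'⁻¹⁻¹ * s⁻¹⁻¹ ∈ V :=
      hYV (commutator_mem_commutator (Y.inv_mem hs'Y) (Y.inv_mem hsY))
    have h2 : (s * s')⁻¹ * (s' * s) = s'⁻¹ * s⁻¹ * s'⁻¹⁻¹ * s⁻¹⁻¹ := by group
    rw [h2]
    exact h1
  have hnorm : img V A ≤ normalizer ((img V Y : Subgroup (Quo V)) : Set (Quo V)) :=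
    img_le_normalizer hAY
  have hcardY : Nat.card (img V Y) ∣ Nat.card Y :=
    Subgroup.card_dvd_of_surjective (imgHom V hYN) (imgHom_surjective V hYN)
  have hcardA : Nat.card (img V A) ∣ Nat.card A :=
    Subgroup.card_dvd_of_surjective (imgHom V hAV) (imgHom_surjective V hAV)
  have hcop' : (Nat.card (img V Y)).Coprime (Nat.card (img V A)) :=
    (hcop.coprime_dvd_left hcardA).symm.coprime_dvd_left hcardY
  have hsplit := (Cfsg.Agent.Helper31.Ward.abelian_coprime_split (img V Y) (img V A) hab hnorm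
    hcop').2
  -- the image of `[Y, A]` lies in `[img Y, img A]`
  have hcomimg : ∀ g, ∀ hg : g ∈ normalizer (V : Set G), g ∈ ⁅Y, A⁆ →
      proj V ⟨g, hg⟩ ∈ ⁅img V Y, img V A⁆ := by
    have hle : ⁅Y, A⁆ ≤ ((⁅img V Y, img V A⁆).comap (proj V)).map
        (normalizer (V : Set G)).subtype := by
      rw [commutator_le]
      intro y hy a ha
      refine ⟨⁅(⟨y, hYN hy⟩ : ↥(normalizer (V : Set G))), ⟨a, hAV ha⟩⁆, ?_, rfl⟩
      rw [SetLike.mem_coe, mem_comap, map_commutatorElement]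
      exact commutator_mem_commutator (mem_img.2 ⟨y, hYN hy, hy, rfl⟩)
        (mem_img.2 ⟨a, hAV ha, ha, rfl⟩)
    intro g hg hgc
    obtain ⟨g', hg', hgg'⟩ := hle hgc
    have : g' = ⟨g, hg⟩ := Subtype.ext hgg'
    rw [← this]
    exact hg'
  intro y hy
  obtain ⟨hyc, hyA⟩ := mem_inf.1 hy
  have hyY : y ∈ Y := hcomY hyc
  have hyN : y ∈ normalizer (V : Set G) := hYN hyY
  have h1 : proj V ⟨y, hyN⟩ ∈ (img V Y ⊓ centralizer ((img V A : Subgroup (Quo V)) : Set (Quo V)))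
      ⊓ ⁅img V Y, img V A⁆ := by
    refine mem_inf.2 ⟨mem_inf.2 ⟨mem_img.2 ⟨y, hyN, hyY, rfl⟩, ?_⟩, hcomimg y hyN hyc⟩
    rw [mem_centralizer_iff]
    intro u hu
    obtain ⟨a, ha, haA, rfl⟩ := mem_img.1 hu
    rw [← map_mul, ← map_mul]
    congr 1
    apply Subtype.ext
    show a * y = y * a
    exact (mem_centralizer_iff.1 hyA) a haA
  rw [hsplit, mem_bot, proj_eq_one_iff] at h1
  exact h1

end Cfsg.Agent.Helper38.TH
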