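import Mathlib

/-!
# Arithmetic of geometric sums and a 2-adic criterion
-/

set_option autoImplicit false

namespace Cfsg.Agent.Helper38

/-- `Σ_{i<n} q^i ≡ n (mod q - 1)` -/
theorem geomSum_modEq (q n : ℕ) (hq : 1 ≤ q) :
    (∑ i ∈ Finset.range n, q ^ i) ≡ n [MOD q - 1] := by
  have h1 : q ≡ 1 [MOD q - 1] := by
    apply Nat.ModEq.symm
    rw [Nat.modEq_iff_dvd' hq]
  induction n with
  | zero => simp [Nat.ModEq]
  | succ n ih =>
    rw [Finset.sum_range_succ]
    have h2 : q ^ n ≡ 1 [MOD q - 1] := by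
      have := Nat.ModEq.pow n h1
      rwa [one_pow] at this
    exact Nat.ModEq.add ih h2

theorem geomSum_mul_sub_one (q n : ℕ) (hq : 1 ≤ q) :
    (∑ i ∈ Finset.range n, q ^ i) * (q - 1) = q ^ n - 1 := by
  have h1 : 1 ≤ q ^ n := Nat.one_le_pow n q hq
  zify [hq, h1]
  exact geom_sum_mul (q : ℤ) n

theorem geomSum_double (q m : ℕ) :
    (∑ i ∈ Finset.range (2 * m), q ^ i) = (q ^ m + 1) * ∑ i ∈ Finset.range m, q ^ i := by
  rw [two_mul, Finset.sum_range_add, add_mul, one_mul, Finset.mul_sum, add_comm]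
  congr 1
  apply Finset.sum_congr rfl
  intro i _
  rw [pow_add]

/-- the 2-adic criterion -/
theorem gcd_dvd_half_iff (q m : ℕ) (hq : 3 ≤ q) (hm : 1 ≤ m) :
    Nat.gcd (2 * m) (q - 1) ∣ m ↔ padicValNat 2 (q - 1) < padicValNat 2 (2 * m) := by
  have hm0 : m ≠ 0 := by omega
  have hq0 : q - 1 ≠ 0 := by omega
  have hv : padicValNat 2 (2 * m) = padicValNat 2 m + 1 := by
    rw [padicValNat.mul (by norm_num) hm0, padicValNat_self, add_comm]
  rw [hv]
  constructor
  · intro h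
    by_contra hcon
    push Not at hcon
    have h1 : 2 ^ (padicValNat 2 m + 1) ∣ q - 1 :=
      (padicValNat_dvd_iff_le hq0).2 hcon
    have h2 : 2 ^ (padicValNat 2 m + 1) ∣ 2 * m := by
      rw [pow_succ, mul_comm]
      exact Nat.mul_dvd_mul_left 2 pow_padicValNat_dvd
    have h3 : 2 ^ (padicValNat 2 m + 1) ∣ m := (Nat.dvd_gcd h2 h1).trans h
    exact pow_succ_padicValNat_not_dvd hm0 h3
  · intro h
    rw [Nat.dvd_iff_prime_pow_dvd_dvd]
    intro p k hp hpk
    have h1 : p ^ k ∣ 2 * m := hpk.trans (Nat.gcd_dvd_left _ _)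
    have h2 : p ^ k ∣ q - 1 := hpk.trans (Nat.gcd_dvd_right _ _)
    by_cases hp2 : p = 2
    · subst hp2
      have h3 : k ≤ padicValNat 2 (q - 1) := (padicValNat_dvd_iff_le hq0).1 h2
      exact (padicValNat_dvd_iff_le hm0).2 (by omega)
    · have hcop : Nat.Coprime (p ^ k) 2 := by
        apply Nat.Coprime.pow_left
        exact (Nat.coprime_primes hp Nat.prime_two).2 hp2
      exact hcop.dvd_of_dvd_mul_left h1

end Cfsg.Agent.Helper38
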