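import Mathlib
import Cfsg.Agent.Helper99.UNdDefs
import Cfsg.Agent.Helper43.GUPrimeE

/-!
# (PS) of board #7815 (helper99, S5954): splitting off a `utilde`-invariant factor of degree `m`

Also the shared facts on the `utilde`-invariant factors `G = P` / `G = P * utilde P` of `X ^ r - 1`
(used by (PB) as well).
-/

set_option autoImplicit false

namespace Cfsg.Agent.Helper38.UNdPS

open Matrix Polynomial
open Cfsg.Agent.Helper99.UNd
open Cfsg.Agent.Helper43.GUPrime (utilde)
open Cfsg.Agent.Helper43.GUPrime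

/-! ### arithmetic -/

theorem pred_mod {m c : ℕ} (hc : 0 < c) (h : 1 ≤ m % c) : (m - 1) % c = m % c - 1 := by
  have h1 := Nat.div_add_mod m c
  have hlt : m % c < c := Nat.mod_lt _ hc
  have e : m - 1 = (m % c - 1) + c * (m / c) := by omega
  rw [e, Nat.add_mul_mod_self_left, Nat.mod_eq_of_lt (by omega)]

theorem cOf_pos {i : ℕ} (hi : 0 < i) : 0 < cOf i := by
  unfold cOf
  split_ifs <;> omega

/-! ### peeling off an invariant factor -/

variable {F : Type*} [Field F]

theorem peel (bar : F →+* F) {G f : F[X]} (hG : G.Monic) (hGu : utilde bar G = G)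
    (hf : f.Monic) (hfu : utilde bar f = f) (hGf : G ∣ f) :
    ∃ f' : F[X], f = G * f' ∧ f'.Monic ∧ utilde bar f' = f' ∧
      G.natDegree + f'.natDegree = f.natDegree := by
  obtain ⟨f', rfl⟩ := hGf
  have hf' : f'.Monic := hG.of_mul_monic_left hf
  refine ⟨f', rfl, hf', ?_, (hG.natDegree_mul hf').symm⟩
  rw [utilde_mul, hGu] at hfu
  exact mul_left_cancel₀ hG.ne_zero hfu

/-- the abstract induction: if every invariant polynomial of positive degree (in a class closed
under divisors) has an invariant factor of degree `1` or `c`, then all splittings compatible with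
the residues modulo `c` exist -/
theorem usplit_of_step (bar : F →+* F) (c : ℕ) (hc : 0 < c) (Good : F[X] → Prop)
    (hdvd : ∀ f g : F[X], Good f → g ∣ f → Good g)
    (hstep : ∀ f : F[X], f.Monic → utilde bar f = f → Good f → f.natDegree ≠ 0 →
      ∃ G : F[X], G.Monic ∧ utilde bar G = G ∧ G ∣ f ∧ (G.natDegree = 1 ∨ G.natDegree = c)) :
    ∀ (n : ℕ) (f : F[X]), f.Monic → f.natDegree = n → utilde bar f = f → Good f →
      ∀ m : ℕ, m ≤ n → m % c ≤ n % c → USplit bar m f := by
  intro n
  induction n using Nat.strong_induction_on with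
  | _ n ih =>
    intro f hfm hfd hfu hgood m hmn hmod
    rcases Nat.eq_or_lt_of_le hmn with rfl | hlt
    · exact ⟨f, 1, hfm, monic_one, hfd, hfu, utilde_one bar, (mul_one f).symm⟩
    have hn0 : f.natDegree ≠ 0 := by omega
    obtain ⟨G, hGm, hGu, hGf, hGd⟩ := hstep f hfm hfu hgood hn0
    obtain ⟨f', rfl, hf'm, hf'u, hdeg⟩ := peel bar hGm hGu hfm hfu hGf
    have hgood' : Good f' := hdvd _ _ hgood (dvd_mul_left f' G)
    rcases hGd with hG1 | hGc
    · -- a factor of degree one
      have hn' : f'.natDegree = n - 1 := by omega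
      by_cases hm0 : m % c = 0
      · obtain ⟨f₁, f₂, h1, h2, h3, h4, h5, h6⟩ :=
          ih (n - 1) (by omega) f' hf'm hn' hf'u hgood' m (by omega) (by omega)
        refine ⟨f₁, G * f₂, h1, hGm.mul h2, h3, h4, ?_, ?_⟩
        · rw [utilde_mul, hGu, h5]
        · rw [h6]; ring
      · have hm1 : 1 ≤ m % c := Nat.one_le_iff_ne_zero.mpr hm0
        have hn1 : 1 ≤ n % c := le_trans hm1 hmod
        have hm : 1 ≤ m := by
          rcases Nat.eq_zero_or_pos m with rfl | h
          · simp at hm0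
          · exact h
        obtain ⟨f₁, f₂, h1, h2, h3, h4, h5, h6⟩ :=
          ih (n - 1) (by omega) f' hf'm hn' hf'u hgood' (m - 1) (by omega)
            (by rw [pred_mod hc hm1, pred_mod hc hn1]; omega)
        refine ⟨G * f₁, f₂, hGm.mul h1, h2, ?_, ?_, h5, ?_⟩
        · rw [hGm.natDegree_mul h1, hG1, h3]; omega
        · rw [utilde_mul, hGu, h4]
        · rw [h6]; ring
    · -- a factor of degree `c`
      have hcn : c ≤ n := by omega
      have hn' : f'.natDegree = n - c := by omega
      have hnmod : (n - c) % c = n % c := (Nat.mod_eq_sub_mod hcn).symm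
      by_cases hcm : c ≤ m
      · have hmmod : (m - c) % c = m % c := (Nat.mod_eq_sub_mod hcm).symm
        obtain ⟨f₁, f₂, h1, h2, h3, h4, h5, h6⟩ :=
          ih (n - c) (by omega) f' hf'm hn' hf'u hgood' (m - c) (by omega)
            (by rw [hmmod, hnmod]; exact hmod)
        refine ⟨G * f₁, f₂, hGm.mul h1, h2, ?_, ?_, h5, ?_⟩
        · rw [hGm.natDegree_mul h1, hGc, h3]; omega
        · rw [utilde_mul, hGu, h4]
        · rw [h6]; ring
      · have hmc : m % c = m := Nat.mod_eq_of_lt (by omega)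
        have hle : m ≤ n - c := by
          have h1 : (n - c) % c ≤ n - c := Nat.mod_le _ _
          rw [hnmod] at h1
          omega
        obtain ⟨f₁, f₂, h1, h2, h3, h4, h5, h6⟩ :=
          ih (n - c) (by omega) f' hf'm hn' hf'u hgood' m hle (by rw [hnmod]; exact hmod)
        refine ⟨f₁, G * f₂, h1, hGm.mul h2, h3, h4, ?_, ?_⟩
        · rw [utilde_mul, hGu, h5]
        · rw [h6]; ring


/-! ### the irreducible factors of `X ^ r - 1` and their `utilde`-invariant products -/

section factors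

variable [Fintype F]

/-- all the facts on a monic irreducible factor `P ≠ X - 1` of `X ^ r - 1` -/
theorem factor_props (p : ℕ) [Fact p.Prime] [CharP F p] {q : ℕ}
    (hF : Fintype.card F = q ^ 2) (bar : F →+* F) (hbar : ∀ x, bar x = x ^ q) (r : ℕ)
    (hr : r.Prime) (hr2 : r ≠ 2) (hrp : r ≠ p) (i : ℕ) (hi : i = orderOf (q : ZMod r))
    (P : F[X]) (hPm : P.Monic) (hPi : Irreducible P) (hPd : P ∣ (X ^ r - 1 : F[X]))
    (hP1 : P ≠ X - 1) :
    P.coeff 0 ≠ 0 ∧ P.natDegree = (if Odd i then i else i / 2) ∧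
      (utilde bar P).Monic ∧ Irreducible (utilde bar P) ∧
      utilde bar P ∣ (X ^ r - 1 : F[X]) ∧ utilde bar P ≠ X - 1 ∧
      utilde bar (utilde bar P) = P ∧ (utilde bar P).natDegree = P.natDegree ∧
      (i % 4 = 2 → utilde bar P = P) ∧ (i % 4 ≠ 2 → utilde bar P ≠ P) := by
  classical
  have hp : p.Prime := Fact.out
  have : Fact r.Prime := ⟨hr⟩
  have hbar2 : ∀ x, bar (bar x) = x := by
    intro x
    rw [hbar, hbar, ← pow_mul, ← sq, ← hF, FiniteField.pow_card]
  obtain ⟨m, hq⟩ := exists_pow_eq p hF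
  obtain ⟨k, -, hcard⟩ := FiniteField.card F p
  have hKp : Fintype.card F = p ^ (k : ℕ) := hcard
  have hn : p.Coprime r := (Nat.coprime_primes hp hr).mpr hrp.symm
  have hb' := orderOf_sq_eq (q := q) (r := r) hi (b := if Odd i then i else i / 2) rfl
  have hord : orderOf (ZMod.unitOfCoprime (p ^ (k : ℕ)) (hn.pow_left k)) =
      (if Odd i then i else i / 2) := by
    rw [hb', ← orderOf_units, ZMod.coe_unitOfCoprime, ← hKp, hF]
  have hP0 : P.coeff 0 ≠ 0 := Cfsg.Agent.Helper43.SpPrime.coeff_zero_ne_of_dvd_X_pow_sub_one hr.pos hPd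
  have hLm : (X - 1 : F[X]).Monic := by
    have := monic_X_sub_C (1 : F)
    rwa [map_one] at this
  have hLi : Irreducible (X - 1 : F[X]) := by
    have := irreducible_X_sub_C (1 : F)
    rwa [map_one] at this
  have hPΦ : P ∣ cyclotomic r F := by
    have hXr : (X ^ r - 1 : F[X]) = cyclotomic r F * (X - 1) :=
      (cyclotomic_prime_mul_X_sub_one F r).symm
    rw [hXr] at hPd
    rcases hPi.prime.dvd_or_dvd hPd with h | h
    · exact h
    · exact absurd (eq_of_monic_of_associated hPm hLm (hPi.associated_of_dvd hLi h)) hP1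
  have hdeg : P.natDegree = (if Odd i then i else i / 2) := by
    rw [← hord]
    exact Polynomial.natDegree_of_dvd_cyclotomic_of_irreducible hKp hn hPΦ hPi
  obtain ⟨hsm, hs0, hsd, hss⟩ := utilde_props bar hbar2 P hPm hP0
  have hsi : Irreducible (utilde bar P) := utilde_irreducible bar hbar2 P hPm hPi hP0
  have hsdvd : utilde bar P ∣ (X ^ r - 1 : F[X]) := by
    have := utilde_dvd bar hPd
    rwa [utilde_X_pow_sub_one bar hr.pos] at this
  have hs1 : utilde bar P ≠ X - 1 := by
    intro h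
    apply hP1
    rw [← hss, h, utilde_X_sub_one]
  refine ⟨hP0, hdeg, hsm, hsi, hsdvd, hs1, hss, hsd, ?_, ?_⟩
  · intro hi4
    have hpred : Cfsg.Agent.Helper43.SS.PrimePred P.natDegree r P := by
      refine ⟨hPm, rfl, ?_, ?_⟩
      · intro P' hP'm hP'i hP'd
        exact hP'd.trans hPd
      · intro h
        have hd1 : P.natDegree = 1 := by
          have h2 : (X - 1 : F[X]) ∣ P := by
            rw [h]
            exact dvd_pow_self _ (by
              intro h0
              rw [h0, pow_zero] at h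
              exact hPi.not_isUnit (by rw [h]; exact isUnit_one))
          have hassoc := hLi.associated_of_dvd hPi h2
          have := eq_of_monic_of_associated hLm hPm hassoc
          rw [← this]
          have := natDegree_X_sub_C (1 : F)
          rwa [map_one] at this
        rw [hd1, pow_one] at h
        exact hP1 h
    have := (guPrimePred_iff_of_mod_four p hF bar hbar P.natDegree r i hr hrp hi hi4 P).mpr hpred
    exact this.2.2.1
  · intro hi4
    exact utilde_ne_of_mod_four p hq bar hbar hr hr2 hrp hi hi4 P hPm hPi hPd hP1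
      (by rw [hdeg, hb'])

/-- the `utilde`-invariant polynomial `G = P` or `G = P * utilde P` of degree `cOf i` -/
theorem exists_G (p : ℕ) [Fact p.Prime] [CharP F p] {q : ℕ}
    (hF : Fintype.card F = q ^ 2) (bar : F →+* F) (hbar : ∀ x, bar x = x ^ q) (r : ℕ)
    (hr : r.Prime) (hr2 : r ≠ 2) (hrp : r ≠ p) (i : ℕ) (hi : i = orderOf (q : ZMod r))
    (P : F[X]) (hPm : P.Monic) (hPi : Irreducible P) (hPd : P ∣ (X ^ r - 1 : F[X]))
    (hP1 : P ≠ X - 1) :
    ∃ G : F[X], G.Monic ∧ utilde bar G = G ∧ G.natDegree = cOf i ∧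
      (∀ f : F[X], utilde bar f = f → P ∣ f → G ∣ f) ∧
      ((i % 4 = 2 ∧ G = P) ∨ (i % 4 ≠ 2 ∧ G = P * utilde bar P ∧ utilde bar P ≠ P)) := by
  obtain ⟨hP0, hdeg, hsm, hsi, hsdvd, hs1, hss, hsd, h42, hn42⟩ :=
    factor_props p hF bar hbar r hr hr2 hrp i hi P hPm hPi hPd hP1
  by_cases hi4 : i % 4 = 2
  · refine ⟨P, hPm, h42 hi4, ?_, fun f _ h => h, Or.inl ⟨hi4, rfl⟩⟩
    rw [hdeg]
    unfold cOf
    have hnodd : ¬ Odd i := by
      rw [Nat.not_odd_iff_even, Nat.even_iff]; omega
    rw [if_neg hnodd, if_neg (by omega), if_pos hi4]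
  · have hne := hn42 hi4
    refine ⟨P * utilde bar P, hPm.mul hsm, ?_, ?_, ?_, Or.inr ⟨hi4, rfl, hne⟩⟩
    · rw [utilde_mul, hss, mul_comm]
    · rw [hPm.natDegree_mul hsm, hsd, hdeg]
      unfold cOf
      by_cases hodd : Odd i
      · rw [if_pos hodd]
        have : i % 2 = 1 := Nat.odd_iff.mp hodd
        rw [if_neg (by omega), if_neg hi4]
        omega
      · rw [if_neg hodd]
        have : i % 2 = 0 := Nat.even_iff.mp (Nat.not_odd_iff_even.mp hodd)
        rw [if_pos (by omega)]
        omega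
    · intro f hfu hPf
      have h2 : utilde bar P ∣ f := by
        have := utilde_dvd bar hPf
        rwa [hfu] at this
      have hcop : IsCoprime P (utilde bar P) := by
        apply (Irreducible.coprime_iff_not_dvd hPi).mpr
        intro hd
        exact hne (eq_of_monic_of_associated hsm hPm (hPi.associated_of_dvd hsi hd).symm)
      exact hcop.mul_dvd hPf h2

end factors


section main

variable [Fintype F]

theorem orderOf_pos_of_card (p : ℕ) [Fact p.Prime] [CharP F p] {q : ℕ}
    (hF : Fintype.card F = q ^ 2) (r : ℕ) (hr : r.Prime) (hrp : r ≠ p) :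
    0 < orderOf (q : ZMod r) := by
  have hp : p.Prime := Fact.out
  have : Fact r.Prime := ⟨hr⟩
  obtain ⟨m, hq⟩ := exists_pow_eq p hF
  have hcop : Nat.Coprime q r := by
    rw [hq]
    exact Nat.Coprime.pow_left m ((Nat.coprime_primes hp hr).mpr hrp.symm)
  have h1 : orderOf (ZMod.unitOfCoprime q hcop) = orderOf (q : ZMod r) := by
    rw [← orderOf_units, ZMod.coe_unitOfCoprime]
  rw [← h1]
  exact orderOf_pos _

/-- **(PS)** splitting off a `utilde`-invariant factor of degree `m` -/
theorem usplit_of_mod_le (p : ℕ) [Fact p.Prime] [CharP F p] {q : ℕ}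
    (hF : Fintype.card F = q ^ 2) (bar : F →+* F) (hbar : ∀ x, bar x = x ^ q) (r : ℕ)
    (hr : r.Prime) (hr2 : r ≠ 2) (hrp : r ≠ p) (i : ℕ) (hi : i = orderOf (q : ZMod r))
    (n : ℕ) (f : F[X]) (hfm : f.Monic) (hfd : f.natDegree = n) (hfu : utilde bar f = f)
    (hfac : ∀ P : F[X], P.Monic → Irreducible P → P ∣ f → P ∣ (X ^ r - 1 : F[X]))
    (m : ℕ) (hmn : m ≤ n) (hmod : m % cOf i ≤ n % cOf i) : USplit bar m f := by
  have hipos : 0 < i := by
    rw [hi]
    exact orderOf_pos_of_card p hF r hr hrp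
  refine usplit_of_step bar (cOf i) (cOf_pos hipos)
    (fun f => ∀ P : F[X], P.Monic → Irreducible P → P ∣ f → P ∣ (X ^ r - 1 : F[X]))
    (fun f g hf hgf P hPm hPi hPg => hf P hPm hPi (hPg.trans hgf)) ?_ n f hfm hfd hfu hfac m hmn
    hmod
  intro f hfm hfu hgood hdeg
  have hu : ¬ IsUnit f := by
    intro hu
    apply hdeg
    rw [hfm.isUnit_iff.mp hu, natDegree_one]
  obtain ⟨P, hPm, hPi, hPf⟩ := exists_monic_irreducible_factor f hu
  by_cases hP1 : P = X - 1
  · refine ⟨P, hPm, ?_, hPf, Or.inl ?_⟩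
    · rw [hP1, utilde_X_sub_one]
    · rw [hP1]
      have := natDegree_X_sub_C (1 : F)
      rwa [map_one] at this
  · obtain ⟨G, hGm, hGu, hGd, hGf, -⟩ :=
      exists_G p hF bar hbar r hr hr2 hrp i hi P hPm hPi (hgood P hPm hPi hPf) hP1
    exact ⟨G, hGm, hGu, hGf f hfu hPf, Or.inr hGd⟩

end main

end Cfsg.Agent.Helper38.UNdPS
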