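import Mathlib
import Cfsg.Agent.Helper99.UNdDefs
import Cfsg.Agent.Helper38.UNdPS

/-!
# (PB) of board #7815 (helper99, S5954): the bad polynomial

`f = (X - 1) ^ (n % c) * G ^ (n / c)`, `c = cOf i`, `G = P` or `P * utilde P` for an irreducible factor
`P` of the `r`-th cyclotomic polynomial: the `utilde`-invariant monic divisors of `f` have degree
`≡ a (mod c)` with `a ≤ n % c`.
-/

set_option autoImplicit false

namespace Cfsg.Agent.Helper38.UNdPB

open Matrix Polynomial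
open Cfsg.Agent.Helper99.UNd
open Cfsg.Agent.Helper43.GUPrime (utilde)
open Cfsg.Agent.Helper43.GUPrime
open Cfsg.Agent.Helper38.UNdPS

variable {F : Type*} [Field F]

/-- a monic divisor of a power of a monic irreducible polynomial is a power of it -/
theorem eq_pow_of_dvd_pow {P h : F[X]} (hPm : P.Monic) (hPi : Irreducible P) (hh : h.Monic)
    {e : ℕ} (hd : h ∣ P ^ e) : ∃ j ≤ e, h = P ^ j := by
  obtain ⟨j, hj, hassoc⟩ := (dvd_prime_pow hPi.prime e).mp hd
  exact ⟨j, hj, eq_of_monic_of_associated hh (hPm.pow j) hassoc⟩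

theorem pow_le_of_dvd {P Q : F[X]} (hPi : Irreducible P) (hcop : IsCoprime P Q)
    {a b c : ℕ} (hd : P ^ a ∣ P ^ b * Q ^ c) : a ≤ b := by
  have h1 : IsCoprime (P ^ a) (Q ^ c) := hcop.pow
  have h2 : P ^ a ∣ P ^ b := h1.dvd_of_dvd_mul_right hd
  exact (pow_dvd_pow_iff hPi.ne_zero hPi.not_isUnit).mp h2

/-- the degree of a `utilde`-invariant monic divisor of `(P * Q) ^ e`, `Q = utilde P ≠ P` -/
theorem natDegree_of_dvd_two (bar : F →+* F) {P Q h : F[X]} (hPm : P.Monic)
    (hPi : Irreducible P) (hQm : Q.Monic) (hQi : Irreducible Q) (hPQ : utilde bar P = Q)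
    (hQP : utilde bar Q = P) (hne : Q ≠ P) (hh : h.Monic) (hhu : utilde bar h = h) {e : ℕ}
    (hd : h ∣ (P * Q) ^ e) : ∃ j, h.natDegree = j * (P * Q).natDegree := by
  have hcop : IsCoprime P Q := by
    apply (Irreducible.coprime_iff_not_dvd hPi).mpr
    intro hdv
    exact hne (eq_of_monic_of_associated hQm hPm (hPi.associated_of_dvd hQi hdv).symm)
  rw [mul_pow] at hd
  obtain ⟨d₁, d₂, hd1, hd2, rfl⟩ := exists_dvd_and_dvd_of_dvd_mul hd
  obtain ⟨j1, -, h1⟩ := (dvd_prime_pow hPi.prime e).mp hd1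
  obtain ⟨j2, -, h2⟩ := (dvd_prime_pow hQi.prime e).mp hd2
  have hassoc : Associated (d₁ * d₂) (P ^ j1 * Q ^ j2) := h1.mul_mul h2
  have heq : d₁ * d₂ = P ^ j1 * Q ^ j2 :=
    eq_of_monic_of_associated hh ((hPm.pow j1).mul (hQm.pow j2)) hassoc
  rw [heq] at hhu ⊢
  rw [utilde_mul, utilde_pow, utilde_pow, hPQ, hQP] at hhu
  -- hhu : Q ^ j1 * P ^ j2 = P ^ j1 * Q ^ j2
  have hle1 : j1 ≤ j2 := by
    apply pow_le_of_dvd hPi hcop (c := j1)
    rw [mul_comm (P ^ j2), hhu]
    exact dvd_mul_right _ _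
  have hle2 : j2 ≤ j1 := by
    apply pow_le_of_dvd hQi hcop.symm (c := j2)
    rw [hhu]
    exact dvd_mul_left _ _
  have hj : j1 = j2 := le_antisymm hle1 hle2
  refine ⟨j1, ?_⟩
  rw [← hj, ← mul_pow, (hPm.mul hQm).natDegree_pow]


section main

variable [Fintype F]

/-- **(PB)** the bad polynomial -/
theorem exists_bad_poly (p : ℕ) [Fact p.Prime] [CharP F p] {q : ℕ}
    (hF : Fintype.card F = q ^ 2) (bar : F →+* F) (hbar : ∀ x, bar x = x ^ q) (r : ℕ)
    (hr : r.Prime) (hr2 : r ≠ 2) (hrp : r ≠ p) (i : ℕ) (hi : i = orderOf (q : ZMod r))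
    (hi2 : i ≠ 2) (n : ℕ) (hcn : cOf i ≤ n) :
    ∃ f : F[X], f.Monic ∧ f.natDegree = n ∧ utilde bar f = f ∧
      (∀ P : F[X], P.Monic → Irreducible P → P ∣ f → P ∣ (X ^ r - 1 : F[X])) ∧
      (∀ a : F, f ≠ (X - C a) ^ n) ∧
      ∀ m : ℕ, USplit bar m f → m % cOf i ≤ n % cOf i := by
  classical
  have hp : p.Prime := Fact.out
  have : Fact r.Prime := ⟨hr⟩
  have hipos : 0 < i := by
    rw [hi]
    exact orderOf_pos_of_card p hF r hr hrp
  have hcpos : 0 < cOf i := cOf_pos hipos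
  have hrF : (r : F) ≠ 0 := by
    intro h0
    rw [CharP.cast_eq_zero_iff F p r] at h0
    exact hrp ((Nat.prime_dvd_prime_iff_eq hp hr).mp h0).symm
  -- the linear factor
  set L : F[X] := X - 1 with hL
  have hLC : L = X - C 1 := by rw [hL, map_one]
  have hLm : L.Monic := by rw [hLC]; exact monic_X_sub_C 1
  have hLi : Irreducible L := by rw [hLC]; exact irreducible_X_sub_C 1
  have hLd : L.natDegree = 1 := by rw [hLC]; exact natDegree_X_sub_C 1
  have hLu : utilde bar L = L := utilde_X_sub_one bar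
  have hLdvd : L ∣ (X ^ r - 1 : F[X]) := by
    rw [← cyclotomic_prime_mul_X_sub_one F r]
    exact dvd_mul_left _ _
  -- an irreducible factor of the cyclotomic polynomial
  have hΦu : ¬ IsUnit (cyclotomic r F) := by
    intro hu
    have h0 := natDegree_eq_zero_of_isUnit hu
    rw [natDegree_cyclotomic, Nat.totient_prime hr] at h0
    have := hr.two_le
    omega
  obtain ⟨P, hPm, hPi, hPΦ⟩ := exists_monic_irreducible_factor _ hΦu
  have hPd : P ∣ (X ^ r - 1 : F[X]) := by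
    rw [← cyclotomic_prime_mul_X_sub_one F r]
    exact Dvd.dvd.mul_right hPΦ _
  have hP1 : P ≠ X - 1 := by
    intro h
    have h1 : (X - C (1 : F)) ∣ cyclotomic r F := by
      rw [map_one, ← h]
      exact hPΦ
    rw [dvd_iff_isRoot, IsRoot, eval_one_cyclotomic_prime] at h1
    exact hrF h1
  obtain ⟨hP0, hdeg, hsm, hsi, hsdvd, hs1, hss, hsd, h42, hn42⟩ :=
    factor_props p hF bar hbar r hr hr2 hrp i hi P hPm hPi hPd hP1
  obtain ⟨G, hGm, hGu, hGd, hGf, hGshape⟩ :=
    exists_G p hF bar hbar r hr hr2 hrp i hi P hPm hPi hPd hP1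
  have hGdvd : G ∣ (X ^ r - 1 : F[X]) := hGf _ (utilde_X_pow_sub_one bar hr.pos) hPd
  have hPG : P ∣ G := by
    rcases hGshape with ⟨-, rfl⟩ | ⟨-, rfl, -⟩
    · exact dvd_rfl
    · exact dvd_mul_right _ _
  have hLG : ¬ L ∣ G := by
    intro h
    rcases hGshape with ⟨-, rfl⟩ | ⟨-, rfl, -⟩
    · exact hP1 (eq_of_monic_of_associated hLm hPm (hLi.associated_of_dvd hPi h)).symm
    · rcases hLi.prime.dvd_or_dvd h with h' | h'
      · exact hP1 (eq_of_monic_of_associated hLm hPm (hLi.associated_of_dvd hPi h')).symm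
      · exact hs1 (eq_of_monic_of_associated hLm hsm (hLi.associated_of_dvd hsi h')).symm
  have hcopLG : IsCoprime L G := (Irreducible.coprime_iff_not_dvd hLi).mpr hLG
  have he1 : 1 ≤ n / cOf i := Nat.div_pos hcn hcpos
  have hρlt : n % cOf i < cOf i := Nat.mod_lt _ hcpos
  have hne : n % cOf i + cOf i * (n / cOf i) = n := Nat.mod_add_div n (cOf i)
  refine ⟨L ^ (n % cOf i) * G ^ (n / cOf i), (hLm.pow _).mul (hGm.pow _), ?_, ?_, ?_, ?_, ?_⟩
  · rw [(hLm.pow _).natDegree_mul (hGm.pow _), hLm.natDegree_pow, hGm.natDegree_pow, hLd, hGd]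
    conv_rhs => rw [← hne]
    ring
  · rw [utilde_mul, utilde_pow, utilde_pow, hLu, hGu]
  · intro P' hP'm hP'i hP'd
    rcases hP'i.prime.dvd_or_dvd hP'd with h | h
    · exact (hP'i.prime.dvd_of_dvd_pow h).trans hLdvd
    · exact (hP'i.prime.dvd_of_dvd_pow h).trans hGdvd
  · intro a hfa
    have hGpow : G ∣ G ^ (n / cOf i) := dvd_pow_self G (by omega)
    have hPf : P ∣ (X - C a) ^ n := by
      rw [← hfa]
      exact Dvd.dvd.mul_left (hPG.trans hGpow) _
    have hPa : P = X - C a :=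
      eq_of_monic_of_associated hPm (monic_X_sub_C a)
        (hPi.associated_of_dvd (irreducible_X_sub_C a) (hPi.prime.dvd_of_dvd_pow hPf))
    have hd1 : P.natDegree = 1 := by
      rw [hPa]
      exact natDegree_X_sub_C a
    rw [hdeg] at hd1
    have hi1 : i = 1 := by
      by_cases hodd : Odd i
      · rwa [if_pos hodd] at hd1
      · rw [if_neg hodd] at hd1
        have : i % 2 = 0 := Nat.even_iff.mp (Nat.not_odd_iff_even.mp hodd)
        omega
    rcases hGshape with ⟨h4, -⟩ | ⟨h4, hG, hneq⟩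
    · omega
    · have hQf : utilde bar P ∣ (X - C a) ^ n := by
        rw [← hfa]
        apply Dvd.dvd.mul_left
        refine Dvd.dvd.trans ?_ hGpow
        rw [hG]
        exact dvd_mul_left _ _
      have hQa : utilde bar P = X - C a :=
        eq_of_monic_of_associated hsm (monic_X_sub_C a)
          (hsi.associated_of_dvd (irreducible_X_sub_C a) (hsi.prime.dvd_of_dvd_pow hQf))
      exact hneq (by rw [hQa, hPa])
  · rintro m ⟨f₁, f₂, hf1m, hf2m, hf1d, hf1u, hf2u, hff⟩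
    have hf10 : f₁ ≠ 0 := hf1m.ne_zero
    obtain ⟨h, hf1h, hnd⟩ := exists_eq_pow_rootMultiplicity_mul_and_not_dvd f₁ hf10 1
    rw [← hLC] at hf1h hnd
    set a := rootMultiplicity 1 f₁ with ha
    have hhm : h.Monic := (hLm.pow a).of_mul_monic_left (by rw [← hf1h]; exact hf1m)
    have hhu : utilde bar h = h := by
      have h1 := hf1u
      rw [hf1h, utilde_mul, utilde_pow, hLu] at h1
      exact mul_left_cancel₀ (hLm.pow a).ne_zero h1
    have hf1f : f₁ ∣ L ^ (n % cOf i) * G ^ (n / cOf i) := ⟨f₂, hff⟩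
    have haρ : a ≤ n % cOf i := by
      have h1 : L ^ a ∣ L ^ (n % cOf i) * G ^ (n / cOf i) :=
        (Dvd.intro _ hf1h.symm).trans hf1f
      exact pow_le_of_dvd hLi hcopLG h1
    have hcopLh : IsCoprime L h := (Irreducible.coprime_iff_not_dvd hLi).mpr hnd
    have hhG : h ∣ G ^ (n / cOf i) := by
      have h1 : h ∣ L ^ (n % cOf i) * G ^ (n / cOf i) :=
        (Dvd.intro_left _ hf1h.symm).trans hf1f
      exact (hcopLh.symm.pow_right).dvd_of_dvd_mul_left h1
    have hcdeg : ∃ j, h.natDegree = j * cOf i := by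
      rcases hGshape with ⟨-, hG⟩ | ⟨-, hG, hneq⟩
      · rw [hG] at hhG
        obtain ⟨j, -, rfl⟩ := eq_pow_of_dvd_pow hPm hPi hhm hhG
        refine ⟨j, ?_⟩
        rw [hPm.natDegree_pow, ← hGd, hG]
      · rw [hG] at hhG
        obtain ⟨j, hj⟩ := natDegree_of_dvd_two bar hPm hPi hsm hsi rfl hss hneq hhm hhu hhG
        refine ⟨j, ?_⟩
        rw [hj, ← hG, hGd]
    obtain ⟨j, hj⟩ := hcdeg
    have hm : m = a + j * cOf i := by
      rw [← hf1d, hf1h, (hLm.pow a).natDegree_mul hhm, hLm.natDegree_pow, hLd, hj, mul_one]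
    rw [hm, Nat.add_mul_mod_self_right, Nat.mod_eq_of_lt (by omega)]
    exact haρ

end main

end Cfsg.Agent.Helper38.UNdPB
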