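import Mathlib

/-!
# Small field tricks for central extensions (for helper40, S2398, WANTED #3766 (U2))
-/

set_option autoImplicit false

namespace Cfsg.Agent.Helper38.UcTricks

open Polynomial

/-- In a field with more than four elements a nonzero polynomial of degree at most four has a
non-root. -/
theorem exists_not_root {K : Type*} [Field K] (hK : ∃ s : Finset K, 4 < s.card)
    (P : Polynomial K) (hP : P ≠ 0) (hdeg : P.natDegree ≤ 4) : ∃ a : K, P.eval a ≠ 0 := by
  classical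
  by_contra h
  replace h : ∀ a : K, P.eval a = 0 := fun a => by
    by_contra h'
    exact h ⟨a, h'⟩
  obtain ⟨s, hs⟩ := hK
  have hsub : s ⊆ P.roots.toFinset := by
    intro a _
    rw [Multiset.mem_toFinset, Polynomial.mem_roots hP]
    exact h a
  have h1 : s.card ≤ P.roots.toFinset.card := Finset.card_le_card hsub
  have h2 : P.roots.toFinset.card ≤ Multiset.card P.roots := Multiset.toFinset_card_le _
  have h3 : Multiset.card P.roots ≤ P.natDegree := Polynomial.card_roots' P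
  omega

theorem exists_ne_zero_sq_ne_one {K : Type*} [Field K] (hK : ∃ s : Finset K, 4 < s.card) :
    ∃ a : K, a ≠ 0 ∧ a * a ≠ 1 := by
  have hm : (X * (X ^ 2 - C (1 : K)) : Polynomial K).Monic :=
    monic_X.mul (monic_X_pow_sub_C 1 (by norm_num))
  have hdeg : (X * (X ^ 2 - C (1 : K)) : Polynomial K).natDegree ≤ 4 := by
    rw [Polynomial.Monic.natDegree_mul monic_X (monic_X_pow_sub_C 1 (by norm_num)),
      natDegree_X, natDegree_X_pow_sub_C]
    norm_num
  obtain ⟨a, ha⟩ := exists_not_root hK _ hm.ne_zero hdeg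
  simp only [eval_mul, eval_X, eval_sub, eval_pow, eval_C] at ha
  refine ⟨a, ?_, ?_⟩
  · rintro rfl
    exact ha (by simp)
  · intro h
    apply ha
    rw [pow_two, h, sub_self, mul_zero]

theorem exists_pow_ne_one {K : Type*} [Field K] (hK : ∃ s : Finset K, 4 < s.card) (k : ℕ)
    (hk : k ≠ 0) (hk3 : k ≤ 3) : ∃ v : K, v ≠ 0 ∧ v ^ k ≠ 1 := by
  have hm : (X * (X ^ k - C (1 : K)) : Polynomial K).Monic :=
    monic_X.mul (monic_X_pow_sub_C 1 hk)
  have hdeg : (X * (X ^ k - C (1 : K)) : Polynomial K).natDegree ≤ 4 := by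
    rw [Polynomial.Monic.natDegree_mul monic_X (monic_X_pow_sub_C 1 hk),
      natDegree_X, natDegree_X_pow_sub_C]
    omega
  obtain ⟨a, ha⟩ := exists_not_root hK _ hm.ne_zero hdeg
  simp only [eval_mul, eval_X, eval_sub, eval_pow, eval_C] at ha
  refine ⟨a, ?_, ?_⟩
  · rintro rfl
    exact ha (by simp)
  · intro h
    apply ha
    rw [h, sub_self, mul_zero]

theorem exists_zpow_ne_one {K : Type*} [Field K] (hK : ∃ s : Finset K, 4 < s.card) (d : ℤ)
    (hd : d ≠ 0) (hd3 : |d| ≤ 3) : ∃ v : K, v ≠ 0 ∧ v ^ d ≠ 1 := by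
  have hk : d.natAbs ≠ 0 := Int.natAbs_ne_zero.mpr hd
  have hk3 : d.natAbs ≤ 3 := by
    have : (d.natAbs : ℤ) ≤ 3 := by rw [Int.natCast_natAbs]; exact hd3
    exact_mod_cast this
  obtain ⟨v, hv0, hv⟩ := exists_pow_ne_one hK d.natAbs hk hk3
  refine ⟨v, hv0, ?_⟩
  rcases Int.natAbs_eq d with h | h
  · rw [h, zpow_natCast]
    exact hv
  · rw [h, zpow_neg, zpow_natCast, Ne, inv_eq_one]
    exact hv

theorem exists_trick_elt {K : Type*} [Field K] (hK : ∃ s : Finset K, 4 < s.card) :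
    ∃ a : K, a ≠ 0 ∧ a ≠ 1 ∧ a * a - a + 1 ≠ 0 := by
  have h3 : (X ^ 2 - X + 1 : Polynomial K) ≠ 0 := by
    intro h
    have := congrArg (fun p : Polynomial K => p.coeff 2) h
    simp [coeff_X, coeff_one] at this
  have hP : (X * (X - C (1 : K)) * (X ^ 2 - X + 1) : Polynomial K) ≠ 0 :=
    mul_ne_zero (mul_ne_zero X_ne_zero (X_sub_C_ne_zero 1)) h3
  have hdeg : (X * (X - C (1 : K)) * (X ^ 2 - X + 1) : Polynomial K).natDegree ≤ 4 := by
    compute_degree
  obtain ⟨a, ha⟩ := exists_not_root hK _ hP hdeg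
  simp only [eval_mul, eval_X, eval_sub, eval_pow, eval_C, eval_add, eval_one] at ha
  refine ⟨a, ?_, ?_, ?_⟩
  · rintro rfl
    exact ha (by simp)
  · rintro rfl
    exact ha (by simp)
  · intro h
    apply ha
    rw [pow_two, h, mul_zero]

theorem add_trick {K : Type*} [Field K] {E : Type*} [Group E] (f : K → E)
    (hadd : ∀ u u', f (u + u') = f u * f u') (b : K) (hb : b ≠ 1)
    (hinv : ∀ u, f (b * u) = f u) : ∀ u, f u = 1 := by
  have h0 : f 0 = 1 := by
    have := hadd 0 0
    rw [add_zero] at this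
    exact (mul_eq_left.mp this.symm)
  have hneg : ∀ x, f (-x) = (f x)⁻¹ := by
    intro x
    have := hadd x (-x)
    rw [add_neg_cancel, h0] at this
    exact eq_inv_of_mul_eq_one_right this.symm
  have hb1 : b - 1 ≠ 0 := sub_ne_zero.mpr hb
  have h1 : ∀ u, f ((b - 1) * u) = 1 := by
    intro u
    have e : (b - 1) * u = b * u + -u := by ring
    rw [e, hadd, hinv, hneg, mul_inv_cancel]
  intro u
  have e : u = (b - 1) * ((b - 1)⁻¹ * u) := by
    rw [← mul_assoc, mul_inv_cancel₀ hb1, one_mul]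
  rw [e]
  exact h1 _

theorem biadd_trick {K : Type*} [Field K] {E : Type*} [Group E]
    (hK : ∃ s : Finset K, 4 < s.card) (f : K → K → E)
    (hl : ∀ t t' u, f (t + t') u = f t u * f t' u) (hr : ∀ t u u', f t (u + u') = f t u * f t u')
    (hinv : ∀ a t u, a ≠ 0 → f (a * t) (a * u) = f t u) : ∀ t u, f t u = 1 := by
  obtain ⟨a, ha0, ha1, ha⟩ := exists_trick_elt hK
  have hb0 : 1 - a ≠ 0 := sub_ne_zero.mpr (Ne.symm ha1)
  have hscale : ∀ c : K, c ≠ 0 → ∀ t u, f (c * t) u = f t (c⁻¹ * u) := by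
    intro c hc t u
    have := hinv c t (c⁻¹ * u) hc
    rw [← mul_assoc, mul_inv_cancel₀ hc, one_mul] at this
    exact this
  intro t
  apply add_trick (f t) (hr t) (a⁻¹ + (1 - a)⁻¹)
  · intro h
    apply ha
    have h2 : a⁻¹ + (1 - a)⁻¹ = (a * (1 - a))⁻¹ := by
      field_simp
      ring
    rw [h2, inv_eq_one] at h
    have : a * a - a + 1 = 1 - a * (1 - a) := by ring
    rw [this, h, sub_self]
  · intro u
    have e : t = a * t + (1 - a) * t := by ring
    conv_rhs => rw [e]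
    rw [hl, hscale a ha0, hscale (1 - a) hb0, ← hr, ← add_mul]

end Cfsg.Agent.Helper38.UcTricks
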