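import Mathlib
import Cfsg.Agent.Helper38.TorusArith

/-!
# Arithmetic of the half torus of `PSU_{2m}(q)`
-/

set_option autoImplicit false

namespace Cfsg.Agent.Helper38

/-- the alternating geometric sum -/
def altSum (q j : ℕ) : ℤ := ∑ i ∈ Finset.range j, (-(q : ℤ)) ^ i

theorem altSum_mul (q j : ℕ) : ((q : ℤ) + 1) * altSum q j = 1 - (-(q : ℤ)) ^ j := by
  have := geom_sum_mul (-(q : ℤ)) j
  rw [altSum]
  linear_combination -this

theorem altSum_dvd (q j : ℕ) : ((q : ℤ) + 1) ∣ altSum q j - j := by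
  induction j with
  | zero => simp [altSum]
  | succ j ih =>
    have h1 : ((q : ℤ) + 1) ∣ (-(q : ℤ)) ^ j - 1 := by
      have := sub_dvd_pow_sub_pow (-(q : ℤ)) 1 j
      rw [one_pow] at this
      have h2 : -(q : ℤ) - 1 = -((q : ℤ) + 1) := by ring
      rw [h2] at this
      exact (neg_dvd).1 this
    have h3 : altSum q (j + 1) - ((j + 1 : ℕ) : ℤ) =
        (altSum q j - j) + ((-(q : ℤ)) ^ j - 1) := by
      rw [altSum, Finset.sum_range_succ, ← altSum]
      push_cast
      ring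
    rw [h3]
    exact dvd_add ih h1

theorem gcd_eq_of_dvd_add (T n w : ℕ) (h : w ∣ T + n) : Nat.gcd T w = Nat.gcd n w := by
  apply Nat.dvd_antisymm
  · apply Nat.dvd_gcd _ (Nat.gcd_dvd_right _ _)
    exact (Nat.dvd_add_right (Nat.gcd_dvd_left T w)).1 ((Nat.gcd_dvd_right T w).trans h)
  · apply Nat.dvd_gcd _ (Nat.gcd_dvd_right _ _)
    rw [add_comm] at h
    exact (Nat.dvd_add_right (Nat.gcd_dvd_left n w)).1 ((Nat.gcd_dvd_right n w).trans h)

/-- **Arithmetic of the half torus.** -/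
theorem unitary_half_arith (q m : ℕ) (hq : 2 ≤ q) (hm : 1 ≤ m) :
    ∃ T S' : ℕ, T * (q + 1) = q ^ (m + m) - 1 ∧
      T = (if Even m then q ^ m + 1 else q ^ m - 1) * S' ∧ 0 < S' ∧
      Nat.gcd T (q + 1) = Nat.gcd (m + m) (q + 1) ∧
      (Nat.gcd (m + m) (q + 1) ∣ S' ↔ padicValNat 2 (q + 1) < padicValNat 2 (m + m)) := by
  have hw0 : ((q : ℤ) + 1) ≠ 0 := by positivity
  have hqm1 : 1 ≤ q ^ m := Nat.one_le_pow _ _ (by omega)
  have hqm2 : 2 ≤ q ^ m := by
    calc 2 ≤ q := hq
      _ = q ^ 1 := (pow_one q).symm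
      _ ≤ q ^ m := Nat.pow_le_pow_right (by omega) hm
  have hqn1 : 1 ≤ q ^ (m + m) := Nat.one_le_pow _ _ (by omega)
  have hsplit : q ^ (m + m) - 1 = (q ^ m + 1) * (q ^ m - 1) := by
    have : q ^ (m + m) - 1 = (q ^ m) ^ 2 - 1 ^ 2 := by rw [one_pow, ← pow_mul, mul_two]
    rw [this, Nat.sq_sub_sq]
  -- `T`
  have hSn := altSum_mul q (m + m)
  rw [Even.neg_pow ⟨m, rfl⟩] at hSn
  have hdvdT : q + 1 ∣ q ^ (m + m) - 1 := by
    rw [← Int.natCast_dvd_natCast, Nat.cast_sub hqn1]
    push_cast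
    exact ⟨-altSum q (m + m), by linear_combination hSn⟩
  obtain ⟨T, hT⟩ := hdvdT
  have hT' : T * (q + 1) = q ^ (m + m) - 1 := by rw [hT, mul_comm]
  have hTS : (T : ℤ) = -altSum q (m + m) := by
    have h1 : ((q : ℤ) + 1) * (T : ℤ) = ((q : ℤ) + 1) * (-altSum q (m + m)) := by
      have h2 : ((q ^ (m + m) - 1 : ℕ) : ℤ) = (((q + 1) * T : ℕ) : ℤ) := by rw [hT]
      rw [Nat.cast_sub hqn1] at h2
      push_cast at h2
      linear_combination -h2 + hSn
    exact mul_left_cancel₀ hw0 h1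
  have hgcd : Nat.gcd T (q + 1) = Nat.gcd (m + m) (q + 1) := by
    apply gcd_eq_of_dvd_add
    rw [← Int.natCast_dvd_natCast]
    push_cast
    have := altSum_dvd q (m + m)
    push_cast at this
    rw [hTS]
    have h3 : -altSum q (m + m) + ((m : ℤ) + (m : ℤ)) = -(altSum q (m + m) - ((m : ℤ) + (m : ℤ))) := by
      ring
    rw [h3]
    exact (dvd_neg).2 this
  have hdw : Nat.gcd (m + m) (q + 1) ∣ q + 1 := Nat.gcd_dvd_right _ _
  have hcrit : Nat.gcd (m + m) (q + 1) ∣ m ↔ padicValNat 2 (q + 1) < padicValNat 2 (m + m) := by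
    have := gcd_dvd_half_iff (q + 2) m (by omega) hm
    rw [show q + 2 - 1 = q + 1 by omega, two_mul] at this
    exact this
  have hSm := altSum_mul q m
  have hSmd := altSum_dvd q m
  by_cases hme : Even m
  · rw [if_pos hme]
    rw [Even.neg_pow hme] at hSm
    have hdvdS : q + 1 ∣ q ^ m - 1 := by
      rw [← Int.natCast_dvd_natCast, Nat.cast_sub hqm1]
      push_cast
      exact ⟨-altSum q m, by linear_combination hSm⟩
    obtain ⟨S', hS'⟩ := hdvdS
    have hS'Z : (S' : ℤ) = -altSum q m := by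
      have h1 : ((q : ℤ) + 1) * (S' : ℤ) = ((q : ℤ) + 1) * (-altSum q m) := by
        have h2 : ((q ^ m - 1 : ℕ) : ℤ) = (((q + 1) * S' : ℕ) : ℤ) := by rw [hS']
        rw [Nat.cast_sub hqm1] at h2
        push_cast at h2
        linear_combination -h2 + hSm
      exact mul_left_cancel₀ hw0 h1
    refine ⟨T, S', hT', ?_, ?_, hgcd, ?_⟩
    · have h1 : T * (q + 1) = (q ^ m + 1) * S' * (q + 1) := by
        rw [hT', hsplit, hS']; ring
      exact Nat.eq_of_mul_eq_mul_right (by omega) h1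
    · rcases Nat.eq_zero_or_pos S' with h | h
      · rw [h, mul_zero] at hS'; omega
      · exact h
    · rw [← hcrit]
      have h1 : q + 1 ∣ S' + m := by
        rw [← Int.natCast_dvd_natCast]
        push_cast
        rw [hS'Z]
        have h3 : -altSum q m + (m : ℤ) = -(altSum q m - (m : ℤ)) := by ring
        rw [h3]
        exact (dvd_neg).2 hSmd
      have h2 := hdw.trans h1
      constructor
      · intro h; exact (Nat.dvd_add_right h).1 h2
      · intro h
        rw [add_comm S' m] at h2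
        exact (Nat.dvd_add_right h).1 h2
  · rw [if_neg hme]
    have hmo : Odd m := Nat.not_even_iff_odd.1 hme
    rw [Odd.neg_pow hmo] at hSm
    have hdvdS : q + 1 ∣ q ^ m + 1 := by
      rw [← Int.natCast_dvd_natCast]
      push_cast
      exact ⟨altSum q m, by linear_combination -hSm⟩
    obtain ⟨S', hS'⟩ := hdvdS
    have hS'Z : (S' : ℤ) = altSum q m := by
      have h1 : ((q : ℤ) + 1) * (S' : ℤ) = ((q : ℤ) + 1) * (altSum q m) := by
        have h2 : ((q ^ m + 1 : ℕ) : ℤ) = (((q + 1) * S' : ℕ) : ℤ) := by rw [hS']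
        push_cast at h2
        linear_combination -h2 - hSm
      exact mul_left_cancel₀ hw0 h1
    refine ⟨T, S', hT', ?_, ?_, hgcd, ?_⟩
    · have h1 : T * (q + 1) = (q ^ m - 1) * S' * (q + 1) := by
        rw [hT', hsplit]
        calc (q ^ m + 1) * (q ^ m - 1) = (q ^ m - 1) * (q ^ m + 1) := mul_comm _ _
          _ = (q ^ m - 1) * ((q + 1) * S') := by rw [hS']
          _ = (q ^ m - 1) * S' * (q + 1) := by ring
      exact Nat.eq_of_mul_eq_mul_right (by omega) h1
    · rcases Nat.eq_zero_or_pos S' with h | h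
      · rw [h, mul_zero] at hS'; omega
      · exact h
    · rw [← hcrit]
      have h1 : ((Nat.gcd (m + m) (q + 1) : ℕ) : ℤ) ∣ (S' : ℤ) - (m : ℤ) := by
        rw [hS'Z]
        refine dvd_trans ?_ hSmd
        have := Int.natCast_dvd_natCast.2 hdw
        push_cast at this
        exact this
      have h2 := dvd_iff_dvd_of_dvd_sub h1
      rw [Int.natCast_dvd_natCast, Int.natCast_dvd_natCast] at h2
      exact h2

end Cfsg.Agent.Helper38
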