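import Mathlib
import Cfsg.Agent.Helper38.SU3Pow
import Cfsg.Agent.Helper38.TorusField

/-!
# Conjugate reciprocal polynomials and the half torus of `SU_{2m}(q)`

`starPoly bar P = (P.map bar).reverse`.  The characteristic polynomial of a unitary matrix of even
size and determinant one is fixed by `starPoly`.  The main result `unitary_half_torus_dvd` bounds the
order modulo scalars of an element of `SU_{2m}(q)` whose order is divisible by a suitable primitive
prime divisor.
-/

set_option autoImplicit false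

namespace Cfsg.Agent.Helper38

open Polynomial

section star
variable {F : Type*} [Field F] (bar : F →+* F)

/-- the conjugate reciprocal polynomial -/
noncomputable def starPoly (P : F[X]) : F[X] := (P.map bar).reverse

theorem starPoly_mul (P R : F[X]) : starPoly bar (P * R) = starPoly bar P * starPoly bar R := by
  rw [starPoly, Polynomial.map_mul, reverse_mul_of_domain, starPoly, starPoly]

theorem starPoly_dvd {P R : F[X]} (h : P ∣ R) : starPoly bar P ∣ starPoly bar R := by
  obtain ⟨W, rfl⟩ := h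
  exact ⟨starPoly bar W, starPoly_mul bar P W⟩

theorem coeff_zero_map_bar (P : F[X]) : (P.map bar).coeff 0 = bar (P.coeff 0) := by
  rw [coeff_map]

theorem natDegree_starPoly (P : F[X]) (h0 : P.coeff 0 ≠ 0) :
    (starPoly bar P).natDegree = P.natDegree := by
  have h1 : (P.map bar).natTrailingDegree = 0 := by
    rw [natTrailingDegree_eq_zero]
    right
    rw [coeff_map]
    exact (map_ne_zero bar).2 h0
  rw [starPoly, reverse_natDegree, h1, Nat.sub_zero, natDegree_map]

theorem leadingCoeff_starPoly (P : F[X]) (h0 : P.coeff 0 ≠ 0) :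
    (starPoly bar P).leadingCoeff = bar (P.coeff 0) := by
  have h1 : (P.map bar).natTrailingDegree = 0 := by
    rw [natTrailingDegree_eq_zero]
    right
    rw [coeff_map]
    exact (map_ne_zero bar).2 h0
  rw [starPoly, reverse_leadingCoeff, trailingCoeff, h1, coeff_map]

theorem coeff_zero_starPoly (P : F[X]) : (starPoly bar P).coeff 0 = bar P.leadingCoeff := by
  rw [starPoly, coeff_zero_reverse, leadingCoeff_map]

theorem starPoly_X_pow_sub_C (j : ℕ) (μ : F) :
    starPoly bar (X ^ j - C μ) = -(C (bar μ) * X ^ j - 1) := by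
  rw [starPoly, Polynomial.map_sub, Polynomial.map_pow, map_X, map_C, reverse, natDegree_X_pow_sub_C,
    reflect_sub, reflect_monomial, reflect_C, revAt_le le_rfl, Nat.sub_self, pow_zero]
  ring

theorem starPoly_dvd_X_pow_sub_C {P : F[X]} (j : ℕ) (μ : F) (hμ : μ * bar μ = 1)
    (h : P ∣ X ^ j - C μ) : starPoly bar P ∣ X ^ j - C μ := by
  have h1 := starPoly_dvd bar h
  rw [starPoly_X_pow_sub_C] at h1
  have h2 : -(C (bar μ) * X ^ j - 1) = (X ^ j - C μ) * (-C (bar μ)) := by
    have : C μ * C (bar μ) = 1 := by rw [← C_mul, hμ, C_1]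
    linear_combination (-1 : F[X]) * this
  rw [h2] at h1
  have hu : IsUnit (-C (bar μ)) := by
    have hb : bar μ ≠ 0 := right_ne_zero_of_mul_eq_one hμ
    exact (Polynomial.isUnit_C.2 hb.isUnit).neg
  exact (hu.dvd_mul_right).1 h1

end star

section root
variable {F : Type*} [Field F] [Fintype F] (p : ℕ) [hp : Fact p.Prime] [CharP F p] {q k : ℕ}
  (hq : q = p ^ k) (hF : Fintype.card F = q ^ 2) (bar : F →+* F) (hbar : ∀ x, bar x = x ^ q)

include hq hF hbar in
/-- a nonzero root `s` of `starPoly P` gives the root `s ^ (-q)` of `P` -/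
theorem starPoly_root (P : F[X]) {K : Type*} [Field K] [Algebra F K] (s : K) (hs : s ≠ 0)
    (h : aeval s (starPoly bar P) = 0) : aeval ((s ^ q)⁻¹) P = 0 := by
  have : CharP K p := charP_of_injective_algebraMap (algebraMap F K).injective p
  have h1 : eval₂ (algebraMap F K) s ((P.map bar).reverse) = 0 := by
    rw [aeval_def, starPoly] at h
    exact h
  have : Invertible (s⁻¹) := invertibleOfNonzero (inv_ne_zero hs)
  have h2 : eval₂ (algebraMap F K) (s⁻¹) (P.map bar) = 0 := by
    rw [← eval₂_reverse_eq_zero_iff]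
    rw [invOf_eq_inv, inv_inv]
    exact h1
  rw [eval₂_map] at h2
  have h3 := congrArg (iterateFrobenius K p k) h2
  rw [hom_eval₂, map_zero] at h3
  have h4 : (iterateFrobenius K p k).comp ((algebraMap F K).comp bar) = algebraMap F K := by
    ext x
    simp only [RingHom.comp_apply, iterateFrobenius_def, hbar]
    rw [← map_pow, ← hq, ← pow_mul, ← sq, ← hF, FiniteField.pow_card]
  rw [h4, iterateFrobenius_def, ← hq, inv_pow] at h3
  rw [aeval_def]
  exact h3

end root

section charpoly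
variable {F : Type*} [Field F] (bar : F →+* F)

/-- the characteristic polynomial of a unitary matrix of even size and determinant one is
conjugate-reciprocal -/
theorem charpoly_eq_starPoly {n : ℕ} (hn : Even n) (M : Matrix (Fin n) (Fin n) F) (hdet : M.det = 1)
    (hU : M.transpose * M.map bar = 1) : M.charpoly = starPoly bar M.charpoly := by
  have h := charpoly_mul_C_det_of_mul_eq_one (M.map bar) M.transpose hU
  rw [Matrix.charpoly_transpose, Fintype.card_fin] at h
  have hd : (M.map bar).det = 1 := by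
    have := RingHom.map_det bar M
    rw [hdet, map_one] at this
    rw [← RingHom.mapMatrix_apply]
    exact this.symm
  rw [hd, map_one, mul_one, Matrix.charpoly_map, hn.neg_one_pow, one_mul] at h
  exact h

end charpoly

section factor
variable {F : Type*} [Field F] {n : ℕ}

/-- a matrix annihilated by a separable `X ^ M - 1` with `G ^ e ≠ 1` has an irreducible factor of
its minimal polynomial not dividing `X ^ e - 1` -/
theorem exists_irreducible_factor_not_dvd (G : Matrix (Fin n) (Fin n) F) (M : ℕ) (hM : (M : F) ≠ 0)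
    (hGM : G ^ M = 1) (e : ℕ) (hGe : G ^ e ≠ 1) :
    ∃ f : F[X], f.Monic ∧ Irreducible f ∧ f ∣ minpoly F G ∧ ¬ f ∣ X ^ e - 1 := by
  classical
  set μ := minpoly F G with hμ
  have hsep : (X ^ M - C (1 : F)).Separable := separable_X_pow_sub_C 1 hM one_ne_zero
  have hμdvd : μ ∣ X ^ M - C 1 := by
    apply minpoly.dvd
    rw [map_sub, map_pow, aeval_X, aeval_C, map_one, hGM, sub_self]
  have hsq : Squarefree μ := (hsep.of_dvd hμdvd).squarefree
  set g := EuclideanDomain.gcd μ (X ^ e - 1) with hg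
  obtain ⟨h, hh⟩ : g ∣ μ := EuclideanDomain.gcd_dvd_left _ _
  by_cases hu : IsUnit h
  · exfalso
    apply hGe
    have h1 : μ ∣ X ^ e - 1 := by
      rw [hh]
      exact (hu.mul_right_dvd).2 (EuclideanDomain.gcd_dvd_right _ _)
    obtain ⟨w, hw⟩ := h1
    have h2 := congrArg (aeval G) hw
    rw [map_mul, hμ, minpoly.aeval, zero_mul, map_sub, map_pow, aeval_X, map_one, sub_eq_zero] at h2
    exact h2
  · obtain ⟨f, hfm, hfi, hfh⟩ := exists_monic_irreducible_factor h hu
    have hfμ : f ∣ μ := hfh.trans ⟨g, by rw [hh, mul_comm]⟩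
    refine ⟨f, hfm, hfi, hfμ, ?_⟩
    intro hfe
    have hfg : f ∣ g := EuclideanDomain.dvd_gcd hfμ hfe
    have h1 : f * f ∣ μ := by
      rw [hh]
      exact mul_dvd_mul hfg hfh
    exact hfi.not_isUnit (hsq f h1)

end factor

section main
variable {F : Type*} [Field F] [Fintype F]

/-- **The half torus of `SU_{2m}(q)`.**  An element of `SU_{2m}(q)` of order `N` modulo scalars,
where `N` is divisible by a prime `r` with `r ∣ q ^ (2 D) - 1 → m ∣ D` and `r ∤ q ^ (2 i + 1) + 1`,
lies in a torus of order `(q ^ (2 m) - 1) / (q + 1)`. -/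
theorem unitary_half_torus_dvd (p : ℕ) [hp : Fact p.Prime] [CharP F p] {q : ℕ}
    (hF : Fintype.card F = q ^ 2) (bar : F →+* F) (hbar : ∀ x, bar x = x ^ q) {m : ℕ} (hm : 2 ≤ m)
    (G : Matrix (Fin (m + m)) (Fin (m + m)) F) (hdet : G.det = 1)
    (hU : G.transpose * G.map bar = 1) (N : ℕ) (lam : F)
    (hlam : G ^ N = lam • (1 : Matrix (Fin (m + m)) (Fin (m + m)) F))
    (hmin : ∀ j : ℕ, (∃ μ : F, G ^ j = μ • (1 : Matrix (Fin (m + m)) (Fin (m + m)) F)) → N ∣ j)
    (hNp : ¬ p ∣ N) (r : ℕ) (hr : r.Prime) (hrN : r ∣ N) (hrq : ¬ r ∣ q)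
    (hO1 : ∀ D : ℕ, r ∣ q ^ (2 * D) - 1 → m ∣ D) (hO2 : ∀ i : ℕ, ¬ r ∣ q ^ (2 * i + 1) + 1)
    (T : ℕ) (hT : T * (q + 1) = q ^ (m + m) - 1) :
    N ∣ T / Nat.gcd T (q + 1) := by
  classical
  obtain ⟨k, hk, hq⟩ := su3_exists_pow p hF
  have hq2 : 2 ≤ q := by
    rw [hq]
    calc 2 ≤ p := hp.out.two_le
      _ = p ^ 1 := (pow_one p).symm
      _ ≤ p ^ k := Nat.pow_le_pow_right (by have := hp.out.two_le; omega) hk
  have hQ1 : q ^ 2 - 1 = (q + 1) * (q - 1) := by
    obtain ⟨t, rfl⟩ : ∃ t, q = t + 1 := ⟨q - 1, by omega⟩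
    simp only [Nat.add_sub_cancel]
    have : (t + 1) ^ 2 = (t + 1 + 1) * t + 1 := by ring
    rw [this]
    simp
  have hQpos : 0 < q ^ 2 - 1 := by
    rw [hQ1]
    exact Nat.mul_pos (by omega) (by omega)
  have hrQ : ¬ r ∣ q ^ 2 - 1 := by
    intro h
    have h1 := hO1 1 (by rw [mul_one]; exact h)
    have := Nat.le_of_dvd one_pos h1
    omega
  have hNpos : 0 < N := Nat.pos_of_ne_zero (by rintro rfl; exact hNp (dvd_zero p))
  have hne' : Nonempty (Fin (m + m)) := ⟨⟨0, by omega⟩⟩
  have hlam0 : lam ≠ 0 := by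
    rintro rfl
    have := congrArg Matrix.det hlam
    rw [Matrix.det_pow, hdet, one_pow, zero_smul, Matrix.det_zero] at this
    exact one_ne_zero this
  have hlamQ : lam ^ (q ^ 2 - 1) = 1 := by
    rw [← hF]; exact FiniteField.pow_card_sub_one_eq_one lam hlam0
  -- the exponent `e`
  obtain ⟨N', hN'⟩ := hrN
  have hN'pos : 0 < N' := by
    rcases Nat.eq_zero_or_pos N' with h | h
    · rw [h, mul_zero] at hN'; omega
    · exact h
  set e := (q ^ 2 - 1) * N' with he
  have her : e * r = N * (q ^ 2 - 1) := by rw [he, hN']; ring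
  have hGe : G ^ e ≠ 1 := by
    intro h1
    have h2 := hmin e ⟨1, by rw [one_smul]; exact h1⟩
    rw [hN', he] at h2
    exact hrQ ((Nat.mul_dvd_mul_iff_right hN'pos).1 h2)
  have hGM : G ^ (N * (q ^ 2 - 1)) = 1 := by
    rw [pow_mul, hlam, _root_.smul_pow, one_pow, hlamQ, one_smul]
  have hMF : ((N * (q ^ 2 - 1) : ℕ) : F) ≠ 0 := by
    rw [Ne, CharP.cast_eq_zero_iff F p]
    intro h
    rcases (Nat.Prime.dvd_mul hp.out).1 h with h | h
    · exact hNp h
    · have h1 : p ∣ q ^ 2 := by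
        rw [hq]
        exact dvd_pow (dvd_pow_self p (by omega)) two_ne_zero
      have h2 : p ∣ 1 := by
        have := (Nat.dvd_sub h1 h)
        have h3 : q ^ 2 - (q ^ 2 - 1) = 1 := by omega
        rwa [h3] at this
      exact hp.out.one_lt.ne' (Nat.dvd_one.1 h2)
  obtain ⟨f, hfm, hfi, hfμ, hfe⟩ := exists_irreducible_factor_not_dvd G _ hMF hGM e hGe
  have : Fact (Irreducible f) := ⟨hfi⟩
  have hne : f ≠ 0 := hfm.ne_zero
  have hfχ : f ∣ G.charpoly := hfμ.trans (Matrix.minpoly_dvd_charpoly G)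
  set t := AdjoinRoot.root f with htdef
  have htf : ∀ P : F[X], f ∣ P → aeval t P = 0 := by
    rintro P ⟨w, rfl⟩
    rw [map_mul, AdjoinRoot.aeval_eq, AdjoinRoot.mk_self, zero_mul]
  have htN : t ^ N = algebraMap F (AdjoinRoot f) lam := by
    have h1 : minpoly F G ∣ X ^ N - C lam := by
      apply minpoly.dvd
      rw [map_sub, map_pow, aeval_X, aeval_C, hlam, Algebra.algebraMap_eq_smul_one, sub_self]
    have h2 := htf _ (hfμ.trans h1)
    rw [map_sub, map_pow, aeval_X, aeval_C, sub_eq_zero] at h2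
    exact h2
  have ht0 : t ≠ 0 := by
    intro h0
    rw [h0, zero_pow hNpos.ne'] at htN
    exact hlam0 ((map_eq_zero _).1 htN.symm)
  -- the element `β` of order `r`
  set β := t ^ e with hβ
  have hβr : β ^ r = 1 := by
    rw [hβ, ← pow_mul, her, pow_mul, htN, ← map_pow, hlamQ, map_one]
  have hβ1 : β ≠ 1 := by
    intro h
    apply hfe
    have := dvd_X_pow_sub_C_of_root_pow f hfm e 1 (by rw [map_one]; exact h)
    rwa [map_one] at this
  have hord : orderOf β = r := by
    have : Fact r.Prime := ⟨hr⟩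
    exact orderOf_eq_prime hβr hβ1
  have hβdvd : ∀ x : ℕ, β ^ x = 1 → r ∣ x := by
    intro x hx
    rw [← hord]
    exact orderOf_dvd_of_pow_eq_one hx
  -- the degree of `f`
  have hfd : FiniteDimensional F (AdjoinRoot f) := (AdjoinRoot.powerBasis hne).finite
  have hfin : Finite (AdjoinRoot f) := Module.finite_of_finite F
  have hfr : Module.finrank F (AdjoinRoot f) = f.natDegree := by
    rw [(AdjoinRoot.powerBasis hne).finrank, AdjoinRoot.powerBasis_dim]
  have hcard : Nat.card (AdjoinRoot f) = (q ^ 2) ^ f.natDegree := by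
    rw [Module.natCard_eq_pow_finrank (K := F), hfr, Nat.card_eq_fintype_card, hF]
  have hDpos : 0 < f.natDegree := hfi.natDegree_pos
  have hrD : r ∣ q ^ (2 * f.natDegree) - 1 := by
    have hβ0 : β ≠ 0 := pow_ne_zero _ ht0
    have h1 := orderOf_dvd_natCard (Units.mk0 β hβ0)
    rw [Nat.card_units, hcard, ← pow_mul] at h1
    have h2 : orderOf (Units.mk0 β hβ0) = orderOf β := by
      rw [← orderOf_units, Units.val_mk0]
    rwa [h2, hord] at h1
  have hmD : m ∣ f.natDegree := hO1 _ hrD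
  -- `starPoly f` divides the characteristic polynomial
  have hχ : G.charpoly = starPoly bar G.charpoly := charpoly_eq_starPoly bar ⟨m, rfl⟩ G hdet hU
  have hsfχ : starPoly bar f ∣ G.charpoly := by
    rw [hχ]; exact starPoly_dvd bar hfχ
  have hndvd : ¬ f ∣ starPoly bar f := by
    intro hdvd
    have h1 : aeval t (starPoly bar f) = 0 := htf _ hdvd
    have h2 := starPoly_root p hq hF bar hbar f t ht0 h1
    let σ : AdjoinRoot f →ₐ[F] AdjoinRoot f :=
      AdjoinRoot.liftAlgHom f (Algebra.ofId F (AdjoinRoot f)) ((t ^ q)⁻¹) (by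
        have := h2
        rw [aeval_def] at this
        exact this)
    obtain ⟨⟨i, hi⟩, hσ⟩ := (FiniteField.bijective_frobeniusAlgHom_pow F (AdjoinRoot f)).2 σ
    have h3 := DFunLike.congr_fun hσ t
    simp only [AlgHom.coe_pow, FiniteField.coe_frobeniusAlgHom, pow_iterate] at h3
    have h4 : σ t = (t ^ q)⁻¹ := AdjoinRoot.liftAlgHom_root _ _ _ _
    rw [h4, hF] at h3
    have h5 : t ^ ((q ^ 2) ^ i + q) = 1 := by
      rw [pow_add, h3]; exact inv_mul_cancel₀ (pow_ne_zero _ ht0)
    have h6 : β ^ ((q ^ 2) ^ i + q) = 1 := by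
      rw [hβ, ← pow_mul, mul_comm, pow_mul, h5, one_pow]
    have h7 := hβdvd _ h6
    rcases Nat.eq_zero_or_pos i with hi0 | hipos
    · rw [hi0, pow_zero] at h7
      apply hO2 0
      rw [mul_zero, zero_add, pow_one, add_comm]
      exact h7
    · obtain ⟨i', rfl⟩ : ∃ i', i = i' + 1 := ⟨i - 1, by omega⟩
      have h8 : (q ^ 2) ^ (i' + 1) + q = q * (q ^ (2 * i' + 1) + 1) := by ring
      rw [h8] at h7
      rcases (Nat.Prime.dvd_mul hr).1 h7 with h | h
      · exact hrq h
      · exact hO2 i' h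
  have hcop : IsCoprime f (starPoly bar f) := (hfi.coprime_iff_not_dvd).2 hndvd
  have hprod : f * starPoly bar f ∣ G.charpoly := hcop.mul_dvd hfχ hsfχ
  -- the constant coefficient of `f`
  have hnorm := root_pow_norm f hfm
  rw [← htdef, hF] at hnorm
  have hf0 : f.coeff 0 ≠ 0 := by
    intro h0
    rw [h0, mul_zero, map_zero] at hnorm
    have hEpos : 0 < ((q ^ 2) ^ f.natDegree - 1) / (q ^ 2 - 1) := by
      apply Nat.div_pos _ hQpos
      apply Nat.sub_le_sub_right
      calc q ^ 2 = (q ^ 2) ^ 1 := (pow_one _).symm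
        _ ≤ (q ^ 2) ^ f.natDegree := Nat.pow_le_pow_right (by positivity) hDpos
    exact ht0 ((pow_eq_zero_iff hEpos.ne').1 hnorm)
  have hsf0 : starPoly bar f ≠ 0 := by
    intro h0
    have := leadingCoeff_starPoly bar f hf0
    rw [h0, leadingCoeff_zero] at this
    exact (map_ne_zero bar).2 hf0 this.symm
  have hdegs : (starPoly bar f).natDegree = f.natDegree := natDegree_starPoly bar f hf0
  have hχdeg : G.charpoly.natDegree = m + m := by
    rw [Matrix.charpoly_natDegree_eq_dim, Fintype.card_fin]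
  have hχ0 : G.charpoly ≠ 0 := (Matrix.charpoly_monic G).ne_zero
  have hDle : f.natDegree ≤ m := by
    have h1 := natDegree_le_of_dvd hprod hχ0
    rw [natDegree_mul hne hsf0, hdegs, hχdeg] at h1
    omega
  have hDm : f.natDegree = m := le_antisymm hDle (Nat.le_of_dvd hDpos hmD)
  obtain ⟨c, hc⟩ := hprod
  have hc0 : c ≠ 0 := by
    rintro rfl
    rw [mul_zero] at hc
    exact hχ0 hc
  have hcdeg : c.natDegree = 0 := by
    have := congrArg natDegree hc
    rw [natDegree_mul (mul_ne_zero hne hsf0) hc0, natDegree_mul hne hsf0, hdegs, hχdeg, hDm] at this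
    omega
  obtain ⟨c₀, rfl⟩ := natDegree_eq_zero.1 hcdeg
  have hc₀ : c₀ ≠ 0 := by
    rintro rfl
    exact hc0 (map_zero _)
  have hlead : bar (f.coeff 0) * c₀ = 1 := by
    have h1 := congrArg leadingCoeff hc
    rw [(Matrix.charpoly_monic G).leadingCoeff, leadingCoeff_mul, leadingCoeff_mul,
      hfm.leadingCoeff, leadingCoeff_starPoly bar f hf0, leadingCoeff_C, one_mul] at h1
    exact h1.symm
  have hconst : f.coeff 0 * c₀ = 1 := by
    have h1 := congrArg (fun P => P.coeff 0) hc
    simp only [mul_coeff_zero, coeff_C_zero, coeff_zero_starPoly, hfm.leadingCoeff, map_one,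
      mul_one] at h1
    have h2 := Matrix.det_eq_sign_charpoly_coeff G
    rw [hdet, Fintype.card_fin, (Even.neg_one_pow ⟨m, rfl⟩), one_mul] at h2
    rw [← h2] at h1
    exact h1.symm
  have hbarf0 : bar (f.coeff 0) = f.coeff 0 := by
    have h1 : bar (f.coeff 0) * c₀ = f.coeff 0 * c₀ := by rw [hlead, hconst]
    exact mul_right_cancel₀ hc₀ h1
  -- `t ^ T = 1`
  set c' : F := (-1) ^ f.natDegree * f.coeff 0 with hc'
  have hc'0 : c' ≠ 0 := mul_ne_zero (pow_ne_zero _ (neg_ne_zero.2 one_ne_zero)) hf0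
  have hc'q : c' ^ (q - 1) = 1 := by
    have h1 : c' ^ q = c' := by
      rw [← hbar, hc', map_mul, map_pow, map_neg, map_one, hbarf0]
    have h2 : c' ^ (q - 1) * c' = 1 * c' := by
      rw [← pow_succ, Nat.sub_add_cancel (by omega), h1, one_mul]
    exact mul_right_cancel₀ hc'0 h2
  have hEQ : ((q ^ 2) ^ f.natDegree - 1) / (q ^ 2 - 1) * (q ^ 2 - 1) = q ^ (m + m) - 1 := by
    rw [Nat.div_mul_cancel, hDm, ← pow_mul, two_mul]
    exact Nat.sub_one_dvd_pow_sub_one (q ^ 2) f.natDegree
  set E := ((q ^ 2) ^ f.natDegree - 1) / (q ^ 2 - 1) with hE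
  have hTE : T = E * (q - 1) := by
    have h1 : T * (q + 1) = E * (q - 1) * (q + 1) := by
      rw [hT, ← hEQ, hQ1]; ring
    exact Nat.eq_of_mul_eq_mul_right (by omega) h1
  have htT : t ^ T = 1 := by
    rw [hTE, pow_mul, hnorm, ← map_pow, hc'q, map_one]
  -- the scalar
  set g₀ := Nat.gcd T (q + 1) with hg₀
  set j₀ := T / g₀ with hj₀
  have hTj : T ∣ j₀ * (q + 1) := by
    rw [mul_comm]
    exact su3_dvd_mul_div g₀ (q + 1) T (Nat.gcd_dvd_right _ _) (Nat.gcd_dvd_left _ _)
  have htj : t ^ (j₀ * (q + 1)) = 1 := by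
    obtain ⟨w, hw⟩ := hTj
    rw [hw, pow_mul, htT, one_pow]
  have htj' : (t ^ j₀) ^ (Fintype.card F - 1) = 1 := by
    rw [hF, hQ1, ← pow_mul, ← mul_assoc, pow_mul, htj, one_pow]
  obtain ⟨μ, hμ⟩ := exists_algebraMap_eq_of_pow_card_sub_one (F := F) _ htj'
  have hμμ : μ * bar μ = 1 := by
    apply (algebraMap F (AdjoinRoot f)).injective
    rw [hbar, ← pow_succ', map_pow, hμ, ← pow_mul, htj, map_one]
  have hfR : f ∣ X ^ j₀ - C μ := dvd_X_pow_sub_C_of_root_pow f hfm j₀ μ hμ.symm
  have hsfR : starPoly bar f ∣ X ^ j₀ - C μ := starPoly_dvd_X_pow_sub_C bar j₀ μ hμμ hfR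
  obtain ⟨w, hw⟩ := hcop.mul_dvd hfR hsfR
  apply hmin
  refine ⟨μ, pow_eq_smul_of_charpoly_dvd G j₀ μ ⟨C c₀⁻¹ * w, ?_⟩⟩
  rw [hc, hw]
  have : C c₀ * C c₀⁻¹ = (1 : F[X]) := by rw [← C_mul, mul_inv_cancel₀ hc₀, C_1]
  linear_combination (-(f * starPoly bar f * w)) * this

end main

end Cfsg.Agent.Helper38
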